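import Cfsg.Agent.H8.RZD.D

/-! Generated certificates (computation kit). -/

set_option maxRecDepth 100000
set_option maxHeartbeats 0

namespace H8.ZM
open H16 H0.TR H1.Am

theorem tc9e_9_0 : allZ (ent2 T9 E9 (selR RL9 I9) D9 (nat_lit 65535) (nat_lit 56230) (nat_lit 0) (nat_lit 57417) (nat_lit 15) (nat_lit 1048575) (nat_lit 2) (nat_lit 9)) (nat_lit 0) (nat_lit 24576) = true := by decide +kernel
theorem tc9e_9_1 : allZ (ent2 T9 E9 (selR RL9 I9) D9 (nat_lit 65535) (nat_lit 56230) (nat_lit 0) (nat_lit 57417) (nat_lit 15) (nat_lit 1048575) (nat_lit 2) (nat_lit 9)) (nat_lit 24576) (nat_lit 24576) = true := by decide +kernel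
theorem tc9e_9_2 : allZ (ent2 T9 E9 (selR RL9 I9) D9 (nat_lit 65535) (nat_lit 56230) (nat_lit 0) (nat_lit 57417) (nat_lit 15) (nat_lit 1048575) (nat_lit 2) (nat_lit 9)) (nat_lit 49152) (nat_lit 8265) = true := by decide +kernel
theorem tc9e_10_0 : allZ (ent2 T9 E9 (selR RL9 I9) D9 (nat_lit 65535) (nat_lit 56230) (nat_lit 0) (nat_lit 57417) (nat_lit 15) (nat_lit 1048575) (nat_lit 2) (nat_lit 10)) (nat_lit 0) (nat_lit 21696) = true := by decide +kernel
theorem tc9e_10_1 : allZ (ent2 T9 E9 (selR RL9 I9) D9 (nat_lit 65535) (nat_lit 56230) (nat_lit 0) (nat_lit 57417) (nat_lit 15) (nat_lit 1048575) (nat_lit 2) (nat_lit 10)) (nat_lit 21696) (nat_lit 21696) = true := by decide +kernel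
theorem tc9e_10_2 : allZ (ent2 T9 E9 (selR RL9 I9) D9 (nat_lit 65535) (nat_lit 56230) (nat_lit 0) (nat_lit 57417) (nat_lit 15) (nat_lit 1048575) (nat_lit 2) (nat_lit 10)) (nat_lit 43392) (nat_lit 14025) = true := by decide +kernel
theorem tc9e_11_0 : allZ (ent2 T9 E9 (selR RL9 I9) D9 (nat_lit 65535) (nat_lit 56230) (nat_lit 0) (nat_lit 57417) (nat_lit 15) (nat_lit 1048575) (nat_lit 2) (nat_lit 11)) (nat_lit 0) (nat_lit 26496) = true := by decide +kernel
theorem tc9e_11_1 : allZ (ent2 T9 E9 (selR RL9 I9) D9 (nat_lit 65535) (nat_lit 56230) (nat_lit 0) (nat_lit 57417) (nat_lit 15) (nat_lit 1048575) (nat_lit 2) (nat_lit 11)) (nat_lit 26496) (nat_lit 26496) = true := by decide +kernel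
theorem tc9e_11_2 : allZ (ent2 T9 E9 (selR RL9 I9) D9 (nat_lit 65535) (nat_lit 56230) (nat_lit 0) (nat_lit 57417) (nat_lit 15) (nat_lit 1048575) (nat_lit 2) (nat_lit 11)) (nat_lit 52992) (nat_lit 4425) = true := by decide +kernel
theorem tc9e_12_0 : allZ (ent2 T9 E9 (selR RL9 I9) D9 (nat_lit 65535) (nat_lit 56230) (nat_lit 0) (nat_lit 57417) (nat_lit 15) (nat_lit 1048575) (nat_lit 2) (nat_lit 12)) (nat_lit 0) (nat_lit 30912) = true := by decide +kernel
theorem tc9e_12_1 : allZ (ent2 T9 E9 (selR RL9 I9) D9 (nat_lit 65535) (nat_lit 56230) (nat_lit 0) (nat_lit 57417) (nat_lit 15) (nat_lit 1048575) (nat_lit 2) (nat_lit 12)) (nat_lit 30912) (nat_lit 26505) = true := by decide +kernel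
theorem tc9e_13_0 : allZ (ent2 T9 E9 (selR RL9 I9) D9 (nat_lit 65535) (nat_lit 56230) (nat_lit 0) (nat_lit 57417) (nat_lit 15) (nat_lit 1048575) (nat_lit 2) (nat_lit 13)) (nat_lit 0) (nat_lit 26496) = true := by decide +kernel
theorem tc9e_13_1 : allZ (ent2 T9 E9 (selR RL9 I9) D9 (nat_lit 65535) (nat_lit 56230) (nat_lit 0) (nat_lit 57417) (nat_lit 15) (nat_lit 1048575) (nat_lit 2) (nat_lit 13)) (nat_lit 26496) (nat_lit 26496) = true := by decide +kernel
theorem tc9e_13_2 : allZ (ent2 T9 E9 (selR RL9 I9) D9 (nat_lit 65535) (nat_lit 56230) (nat_lit 0) (nat_lit 57417) (nat_lit 15) (nat_lit 1048575) (nat_lit 2) (nat_lit 13)) (nat_lit 52992) (nat_lit 4425) = true := by decide +kernel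

end H8.ZM
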