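import Cfsg.Agent.H8.RZD.D

/-! Generated certificates (computation kit). -/

set_option maxRecDepth 100000
set_option maxHeartbeats 0

namespace H8.ZM
open H16 H0.TR H1.Am

theorem ivRD : ivChk RD (nat_lit 10) = true := by decide +kernel
theorem ivR1 : ivChk R1 (nat_lit 15) = true := by decide +kernel
theorem ivRF : ivChk RF (nat_lit 12) = true := by decide +kernel
theorem ivR2 : ivChk R2 (nat_lit 15) = true := by decide +kernel
theorem tc1e_a : allZ2 (ent2 T1 E1 (selR RL1 I1) D1 (nat_lit 1023) (nat_lit 1024) (nat_lit 1024) (nat_lit 1024) (nat_lit 8) (nat_lit 16383) (nat_lit 0)) (nat_lit 8) (nat_lit 1024) = true := by decide +kernel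
theorem tc1p_0 : allZ (eps2 T1 E1 J1 W1 RL1 (nat_lit 1023) (nat_lit 1024) (nat_lit 1024) (nat_lit 8) (nat_lit 0)) (nat_lit 0) (nat_lit 0) = true := by decide +kernel
theorem tc1r : rulesChk RD c1.Sl RL1 (nat_lit 8) = true := by decide +kernel
theorem tc1n : 0 < c1.M ∧ c1.n0 ≤ c1.M ∧ 0 < c1.K ∧ c1.K ≤ 10 ∧ c1.D 0 = 0 := by decide +kernel
theorem tc1q : c1.M - c1.n = 0 := by decide +kernel
theorem st1 : allL (ltAll 0) c1.Sl = true ∧ 0 < c1.n0 ∧ c1.K = 8 ∧ c1.n0 * 1 = 1024 := by decide +kernel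
theorem tc2e_a : allZ2 (ent2 T2 E2 (selR RL2 I2) D2 (nat_lit 3) (nat_lit 4) (nat_lit 4) (nat_lit 4) (nat_lit 10) (nat_lit 63) (nat_lit 0)) (nat_lit 10) (nat_lit 4) = true := by decide +kernel
theorem tc2p_0 : allZ (eps2 T2 E2 J2 W2 RL2 (nat_lit 3) (nat_lit 4) (nat_lit 4) (nat_lit 10) (nat_lit 0)) (nat_lit 0) (nat_lit 0) = true := by decide +kernel
theorem tc2r : rulesChk RD c2.Sl RL2 (nat_lit 10) = true := by decide +kernel
theorem tc2n : 0 < c2.M ∧ c2.n0 ≤ c2.M ∧ 0 < c2.K ∧ c2.K ≤ 10 ∧ c2.D 0 = 0 := by decide +kernel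
theorem tc2q : c2.M - c2.n = 0 := by decide +kernel
theorem st2 : allL (ltAll 8) c2.Sl = true ∧ 0 < c2.n0 ∧ c2.K = 10 ∧ c2.n0 * 1024 = 4096 := by decide +kernel
theorem tc3e_a : allZ2 (ent2 T3 E3 (selR RL3 I3) D3 (nat_lit 3) (nat_lit 4) (nat_lit 4) (nat_lit 4) (nat_lit 11) (nat_lit 63) (nat_lit 0)) (nat_lit 11) (nat_lit 4) = true := by decide +kernel
theorem tc3p_0 : allZ (eps2 T3 E3 J3 W3 RL3 (nat_lit 3) (nat_lit 4) (nat_lit 4) (nat_lit 11) (nat_lit 0)) (nat_lit 0) (nat_lit 0) = true := by decide +kernel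
theorem tc3r : rulesChk R1 c3.Sl RL3 (nat_lit 11) = true := by decide +kernel
theorem tc3n : 0 < c3.M ∧ c3.n0 ≤ c3.M ∧ 0 < c3.K ∧ c3.K ≤ 15 ∧ c3.D 0 = 0 := by decide +kernel
theorem tc3q : c3.M - c3.n = 0 := by decide +kernel
theorem st3 : allL (ltAll 10) c3.Sl = true ∧ 0 < c3.n0 ∧ c3.K = 11 ∧ c3.n0 * 4096 = 16384 := by decide +kernel
theorem tc4e_a : allZ2 (ent2 T4 E4 (selR RL4 I4) D4 (nat_lit 3) (nat_lit 3) (nat_lit 3) (nat_lit 3) (nat_lit 12) (nat_lit 63) (nat_lit 0)) (nat_lit 12) (nat_lit 3) = true := by decide +kernel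
theorem tc4p_0 : allZ (eps2 T4 E4 J4 W4 RL4 (nat_lit 3) (nat_lit 3) (nat_lit 3) (nat_lit 12) (nat_lit 0)) (nat_lit 0) (nat_lit 0) = true := by decide +kernel
theorem tc4r : rulesChk R1 c4.Sl RL4 (nat_lit 12) = true := by decide +kernel
theorem tc4n : 0 < c4.M ∧ c4.n0 ≤ c4.M ∧ 0 < c4.K ∧ c4.K ≤ 15 ∧ c4.D 0 = 0 := by decide +kernel
theorem tc4q : c4.M - c4.n = 0 := by decide +kernel
theorem st4 : allL (ltAll 11) c4.Sl = true ∧ 0 < c4.n0 ∧ c4.K = 12 ∧ c4.n0 * 16384 = 49152 := by decide +kernel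
theorem tc5e_a : allZ2 (ent2 T5 E5 (selR RL5 I5) D5 (nat_lit 7) (nat_lit 7) (nat_lit 7) (nat_lit 7) (nat_lit 13) (nat_lit 127) (nat_lit 0)) (nat_lit 13) (nat_lit 7) = true := by decide +kernel
theorem tc5p_0 : allZ (eps2 T5 E5 J5 W5 RL5 (nat_lit 7) (nat_lit 7) (nat_lit 7) (nat_lit 13) (nat_lit 0)) (nat_lit 0) (nat_lit 0) = true := by decide +kernel
theorem tc5r : rulesChk R1 c5.Sl RL5 (nat_lit 13) = true := by decide +kernel
theorem tc5n : 0 < c5.M ∧ c5.n0 ≤ c5.M ∧ 0 < c5.K ∧ c5.K ≤ 15 ∧ c5.D 0 = 0 := by decide +kernel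
theorem tc5q : c5.M - c5.n = 0 := by decide +kernel
theorem st5 : allL (ltAll 12) c5.Sl = true ∧ 0 < c5.n0 ∧ c5.K = 13 ∧ c5.n0 * 49152 = 344064 := by decide +kernel
theorem tc6e_a : allZ2 (ent2 T6 E6 (selR RL6 I6) D6 (nat_lit 7) (nat_lit 5) (nat_lit 5) (nat_lit 5) (nat_lit 11) (nat_lit 63) (nat_lit 0)) (nat_lit 11) (nat_lit 5) = true := by decide +kernel
theorem tc6p_0 : allZ (eps2 T6 E6 J6 W6 RL6 (nat_lit 7) (nat_lit 5) (nat_lit 5) (nat_lit 11) (nat_lit 0)) (nat_lit 0) (nat_lit 0) = true := by decide +kernel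
theorem tc6r : rulesChk RF c6.Sl RL6 (nat_lit 11) = true := by decide +kernel
theorem tc6n : 0 < c6.M ∧ c6.n0 ≤ c6.M ∧ 0 < c6.K ∧ c6.K ≤ 12 ∧ c6.D 0 = 0 := by decide +kernel
theorem tc6q : c6.M - c6.n = 0 := by decide +kernel
theorem st6 : allL (ltAll 10) c6.Sl = true ∧ 0 < c6.n0 ∧ c6.K = 11 ∧ c6.n0 * 4096 = 20480 := by decide +kernel
theorem tc7e_0_0 : allZ (ent2 T7 E7 (selR RL7 I7) D7 (nat_lit 2047) (nat_lit 1755) (nat_lit 1755) (nat_lit 1776) (nat_lit 12) (nat_lit 32767) (nat_lit 1) (nat_lit 0)) (nat_lit 0) (nat_lit 1776) = true := by decide +kernel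
theorem tc7e_1_0 : allZ (ent2 T7 E7 (selR RL7 I7) D7 (nat_lit 2047) (nat_lit 1755) (nat_lit 1755) (nat_lit 1776) (nat_lit 12) (nat_lit 32767) (nat_lit 1) (nat_lit 1)) (nat_lit 0) (nat_lit 1776) = true := by decide +kernel
theorem tc7e_2_0 : allZ (ent2 T7 E7 (selR RL7 I7) D7 (nat_lit 2047) (nat_lit 1755) (nat_lit 1755) (nat_lit 1776) (nat_lit 12) (nat_lit 32767) (nat_lit 1) (nat_lit 2)) (nat_lit 0) (nat_lit 1776) = true := by decide +kernel
theorem tc7e_3_0 : allZ (ent2 T7 E7 (selR RL7 I7) D7 (nat_lit 2047) (nat_lit 1755) (nat_lit 1755) (nat_lit 1776) (nat_lit 12) (nat_lit 32767) (nat_lit 1) (nat_lit 3)) (nat_lit 0) (nat_lit 1776) = true := by decide +kernel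
theorem tc7e_4_0 : allZ (ent2 T7 E7 (selR RL7 I7) D7 (nat_lit 2047) (nat_lit 1755) (nat_lit 1755) (nat_lit 1776) (nat_lit 12) (nat_lit 32767) (nat_lit 1) (nat_lit 4)) (nat_lit 0) (nat_lit 1776) = true := by decide +kernel
theorem tc7e_5_0 : allZ (ent2 T7 E7 (selR RL7 I7) D7 (nat_lit 2047) (nat_lit 1755) (nat_lit 1755) (nat_lit 1776) (nat_lit 12) (nat_lit 32767) (nat_lit 1) (nat_lit 5)) (nat_lit 0) (nat_lit 1776) = true := by decide +kernel
theorem tc7e_6_0 : allZ (ent2 T7 E7 (selR RL7 I7) D7 (nat_lit 2047) (nat_lit 1755) (nat_lit 1755) (nat_lit 1776) (nat_lit 12) (nat_lit 32767) (nat_lit 1) (nat_lit 6)) (nat_lit 0) (nat_lit 1776) = true := by decide +kernel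
theorem tc7e_7_0 : allZ (ent2 T7 E7 (selR RL7 I7) D7 (nat_lit 2047) (nat_lit 1755) (nat_lit 1755) (nat_lit 1776) (nat_lit 12) (nat_lit 32767) (nat_lit 1) (nat_lit 7)) (nat_lit 0) (nat_lit 1776) = true := by decide +kernel
theorem tc7e_8_0 : allZ (ent2 T7 E7 (selR RL7 I7) D7 (nat_lit 2047) (nat_lit 1755) (nat_lit 1755) (nat_lit 1776) (nat_lit 12) (nat_lit 32767) (nat_lit 1) (nat_lit 8)) (nat_lit 0) (nat_lit 1776) = true := by decide +kernel
theorem tc7e_9_0 : allZ (ent2 T7 E7 (selR RL7 I7) D7 (nat_lit 2047) (nat_lit 1755) (nat_lit 1755) (nat_lit 1776) (nat_lit 12) (nat_lit 32767) (nat_lit 1) (nat_lit 9)) (nat_lit 0) (nat_lit 1776) = true := by decide +kernel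
theorem tc7e_10_0 : allZ (ent2 T7 E7 (selR RL7 I7) D7 (nat_lit 2047) (nat_lit 1755) (nat_lit 1755) (nat_lit 1776) (nat_lit 12) (nat_lit 32767) (nat_lit 1) (nat_lit 10)) (nat_lit 0) (nat_lit 1776) = true := by decide +kernel
theorem tc7e_11_0 : allZ (ent2 T7 E7 (selR RL7 I7) D7 (nat_lit 2047) (nat_lit 1755) (nat_lit 1755) (nat_lit 1776) (nat_lit 12) (nat_lit 32767) (nat_lit 1) (nat_lit 11)) (nat_lit 0) (nat_lit 1776) = true := by decide +kernel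
theorem tc7p_0 : allZ (eps2 T7 E7 J7 W7 RL7 (nat_lit 2047) (nat_lit 1755) (nat_lit 1776) (nat_lit 12) (nat_lit 1)) (nat_lit 0) (nat_lit 21) = true := by decide +kernel
theorem tc7r : rulesChk RF c7.Sl RL7 (nat_lit 12) = true := by decide +kernel
theorem tc7n : 0 < c7.M ∧ c7.n0 ≤ c7.M ∧ 0 < c7.K ∧ c7.K ≤ 12 ∧ c7.D 0 = 0 := by decide +kernel
theorem tc7q : c7.M - c7.n = 21 := by decide +kernel
theorem st7 : allL (ltAll 11) c7.Sl = true ∧ 0 < c7.n0 ∧ c7.K = 12 ∧ c7.n0 * 20480 = 35942400 := by decide +kernel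
theorem tc8e_0_0 : allZ (ent2 T8 E8 (selR RL8 I8) D8 (nat_lit 8191) (nat_lit 4060) (nat_lit 4060) (nat_lit 4268) (nat_lit 15) (nat_lit 65535) (nat_lit 1) (nat_lit 0)) (nat_lit 0) (nat_lit 4268) = true := by decide +kernel
theorem tc8e_1_0 : allZ (ent2 T8 E8 (selR RL8 I8) D8 (nat_lit 8191) (nat_lit 4060) (nat_lit 4060) (nat_lit 4268) (nat_lit 15) (nat_lit 65535) (nat_lit 1) (nat_lit 1)) (nat_lit 0) (nat_lit 4268) = true := by decide +kernel
theorem tc8e_2_0 : allZ (ent2 T8 E8 (selR RL8 I8) D8 (nat_lit 8191) (nat_lit 4060) (nat_lit 4060) (nat_lit 4268) (nat_lit 15) (nat_lit 65535) (nat_lit 1) (nat_lit 2)) (nat_lit 0) (nat_lit 4268) = true := by decide +kernel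
theorem tc8e_3_0 : allZ (ent2 T8 E8 (selR RL8 I8) D8 (nat_lit 8191) (nat_lit 4060) (nat_lit 4060) (nat_lit 4268) (nat_lit 15) (nat_lit 65535) (nat_lit 1) (nat_lit 3)) (nat_lit 0) (nat_lit 4268) = true := by decide +kernel
theorem tc8e_4_0 : allZ (ent2 T8 E8 (selR RL8 I8) D8 (nat_lit 8191) (nat_lit 4060) (nat_lit 4060) (nat_lit 4268) (nat_lit 15) (nat_lit 65535) (nat_lit 1) (nat_lit 4)) (nat_lit 0) (nat_lit 4268) = true := by decide +kernel
theorem tc8e_5_0 : allZ (ent2 T8 E8 (selR RL8 I8) D8 (nat_lit 8191) (nat_lit 4060) (nat_lit 4060) (nat_lit 4268) (nat_lit 15) (nat_lit 65535) (nat_lit 1) (nat_lit 5)) (nat_lit 0) (nat_lit 4268) = true := by decide +kernel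
theorem tc8e_6_0 : allZ (ent2 T8 E8 (selR RL8 I8) D8 (nat_lit 8191) (nat_lit 4060) (nat_lit 4060) (nat_lit 4268) (nat_lit 15) (nat_lit 65535) (nat_lit 1) (nat_lit 6)) (nat_lit 0) (nat_lit 4268) = true := by decide +kernel
theorem tc8e_7_0 : allZ (ent2 T8 E8 (selR RL8 I8) D8 (nat_lit 8191) (nat_lit 4060) (nat_lit 4060) (nat_lit 4268) (nat_lit 15) (nat_lit 65535) (nat_lit 1) (nat_lit 7)) (nat_lit 0) (nat_lit 4268) = true := by decide +kernel
theorem tc8e_8_0 : allZ (ent2 T8 E8 (selR RL8 I8) D8 (nat_lit 8191) (nat_lit 4060) (nat_lit 4060) (nat_lit 4268) (nat_lit 15) (nat_lit 65535) (nat_lit 1) (nat_lit 8)) (nat_lit 0) (nat_lit 4268) = true := by decide +kernel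
theorem tc8e_9_0 : allZ (ent2 T8 E8 (selR RL8 I8) D8 (nat_lit 8191) (nat_lit 4060) (nat_lit 4060) (nat_lit 4268) (nat_lit 15) (nat_lit 65535) (nat_lit 1) (nat_lit 9)) (nat_lit 0) (nat_lit 4268) = true := by decide +kernel
theorem tc8e_10_0 : allZ (ent2 T8 E8 (selR RL8 I8) D8 (nat_lit 8191) (nat_lit 4060) (nat_lit 4060) (nat_lit 4268) (nat_lit 15) (nat_lit 65535) (nat_lit 1) (nat_lit 10)) (nat_lit 0) (nat_lit 4268) = true := by decide +kernel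
theorem tc8e_11_0 : allZ (ent2 T8 E8 (selR RL8 I8) D8 (nat_lit 8191) (nat_lit 4060) (nat_lit 4060) (nat_lit 4268) (nat_lit 15) (nat_lit 65535) (nat_lit 1) (nat_lit 11)) (nat_lit 0) (nat_lit 4268) = true := by decide +kernel
theorem tc8e_12_0 : allZ (ent2 T8 E8 (selR RL8 I8) D8 (nat_lit 8191) (nat_lit 4060) (nat_lit 4060) (nat_lit 4268) (nat_lit 15) (nat_lit 65535) (nat_lit 1) (nat_lit 12)) (nat_lit 0) (nat_lit 4268) = true := by decide +kernel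
theorem tc8e_13_0 : allZ (ent2 T8 E8 (selR RL8 I8) D8 (nat_lit 8191) (nat_lit 4060) (nat_lit 4060) (nat_lit 4268) (nat_lit 15) (nat_lit 65535) (nat_lit 1) (nat_lit 13)) (nat_lit 0) (nat_lit 4268) = true := by decide +kernel
theorem tc8e_14_0 : allZ (ent2 T8 E8 (selR RL8 I8) D8 (nat_lit 8191) (nat_lit 4060) (nat_lit 4060) (nat_lit 4268) (nat_lit 15) (nat_lit 65535) (nat_lit 1) (nat_lit 14)) (nat_lit 0) (nat_lit 4268) = true := by decide +kernel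
theorem tc8p_0 : allZ (eps2 T8 E8 J8 W8 RL8 (nat_lit 8191) (nat_lit 4060) (nat_lit 4268) (nat_lit 15) (nat_lit 1)) (nat_lit 0) (nat_lit 208) = true := by decide +kernel
theorem tc8r : rulesChk R2 c8.Sl RL8 (nat_lit 15) = true := by decide +kernel
theorem tc8n : 0 < c8.M ∧ c8.n0 ≤ c8.M ∧ 0 < c8.K ∧ c8.K ≤ 15 ∧ c8.D 0 = 0 := by decide +kernel
theorem tc8q : c8.M - c8.n = 208 := by decide +kernel
theorem st8 : (∀ w ∈ c8.Sl, ∃ k < 12, nth [] UF k = w) ∧ 0 < c8.n0 ∧ c8.K = 15 ∧ c8.n0 * 35942400 = 145926144000 := by decide +kernel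
theorem tc9e_0_0 : allZ (ent2 T9 E9 (selR RL9 I9) D9 (nat_lit 65535) (nat_lit 56230) (nat_lit 0) (nat_lit 57417) (nat_lit 15) (nat_lit 1048575) (nat_lit 2) (nat_lit 0)) (nat_lit 0) (nat_lit 22016) = true := by decide +kernel
theorem tc9e_0_1 : allZ (ent2 T9 E9 (selR RL9 I9) D9 (nat_lit 65535) (nat_lit 56230) (nat_lit 0) (nat_lit 57417) (nat_lit 15) (nat_lit 1048575) (nat_lit 2) (nat_lit 0)) (nat_lit 22016) (nat_lit 22016) = true := by decide +kernel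
theorem tc9e_0_2 : allZ (ent2 T9 E9 (selR RL9 I9) D9 (nat_lit 65535) (nat_lit 56230) (nat_lit 0) (nat_lit 57417) (nat_lit 15) (nat_lit 1048575) (nat_lit 2) (nat_lit 0)) (nat_lit 44032) (nat_lit 13385) = true := by decide +kernel

end H8.ZM
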