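import Cfsg.Agent.H8.RZ0
import Cfsg.Agent.H15.M.Ru
import Cfsg.Agent.H8.RZD.R0
import Cfsg.Agent.H8.RZD.R1
import Cfsg.Agent.H8.RZD.R2
import Cfsg.Agent.H8.RZD.R3

/-! Generated certificates (computation kit). -/

set_option maxRecDepth 100000
set_option maxHeartbeats 0

namespace H8.ZM
open H16 H0.TR H1.Am

noncomputable def RD : List (List ℕ) := [[nat_lit 0, nat_lit 1],
  [nat_lit 1, nat_lit 0],
  [nat_lit 2, nat_lit 3],
  [nat_lit 3, nat_lit 2],
  [nat_lit 4, nat_lit 5],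
  [nat_lit 5, nat_lit 4],
  [nat_lit 6, nat_lit 7],
  [nat_lit 7, nat_lit 6],
  [nat_lit 8, nat_lit 9],
  [nat_lit 9, nat_lit 8],
  [nat_lit 0, nat_lit 0, nat_lit 0, nat_lit 0],
  [nat_lit 2, nat_lit 2, nat_lit 2, nat_lit 2],
  [nat_lit 2, nat_lit 6, nat_lit 2, nat_lit 6],
  [nat_lit 4, nat_lit 4, nat_lit 4, nat_lit 4],
  [nat_lit 6, nat_lit 6, nat_lit 6, nat_lit 6],
  [nat_lit 0, nat_lit 0, nat_lit 6, nat_lit 0, nat_lit 0, nat_lit 7],
  [nat_lit 0, nat_lit 2, nat_lit 4, nat_lit 1, nat_lit 2, nat_lit 4],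
  [nat_lit 0, nat_lit 2, nat_lit 7, nat_lit 2, nat_lit 0, nat_lit 6],
  [nat_lit 0, nat_lit 3, nat_lit 6, nat_lit 3, nat_lit 0, nat_lit 7],
  [nat_lit 0, nat_lit 6, nat_lit 6, nat_lit 1, nat_lit 6, nat_lit 6],
  [nat_lit 2, nat_lit 2, nat_lit 4, nat_lit 2, nat_lit 2, nat_lit 5],
  [nat_lit 2, nat_lit 4, nat_lit 2, nat_lit 6, nat_lit 6, nat_lit 4],
  [nat_lit 2, nat_lit 5, nat_lit 2, nat_lit 5, nat_lit 6, nat_lit 6],
  [nat_lit 4, nat_lit 4, nat_lit 6, nat_lit 4, nat_lit 4, nat_lit 7],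
  [nat_lit 0, nat_lit 0, nat_lit 2, nat_lit 0, nat_lit 0, nat_lit 7, nat_lit 2, nat_lit 7],
  [nat_lit 0, nat_lit 0, nat_lit 2, nat_lit 0, nat_lit 3, nat_lit 4, nat_lit 1, nat_lit 5],
  [nat_lit 0, nat_lit 0, nat_lit 2, nat_lit 0, nat_lit 4, nat_lit 2, nat_lit 1, nat_lit 4],
  [nat_lit 0, nat_lit 0, nat_lit 2, nat_lit 0, nat_lit 6, nat_lit 1, nat_lit 6, nat_lit 3],
  [nat_lit 0, nat_lit 0, nat_lit 2, nat_lit 0, nat_lit 7, nat_lit 1, nat_lit 2, nat_lit 6],
  [nat_lit 0, nat_lit 0, nat_lit 2, nat_lit 1, nat_lit 3, nat_lit 4, nat_lit 0, nat_lit 5],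
  [nat_lit 0, nat_lit 0, nat_lit 2, nat_lit 1, nat_lit 4, nat_lit 2, nat_lit 0, nat_lit 4],
  [nat_lit 0, nat_lit 0, nat_lit 2, nat_lit 1, nat_lit 7, nat_lit 0, nat_lit 7, nat_lit 3],
  [nat_lit 0, nat_lit 0, nat_lit 2, nat_lit 2, nat_lit 0, nat_lit 0, nat_lit 3, nat_lit 3],
  [nat_lit 0, nat_lit 0, nat_lit 2, nat_lit 2, nat_lit 1, nat_lit 1, nat_lit 2, nat_lit 2],
  [nat_lit 0, nat_lit 0, nat_lit 2, nat_lit 2, nat_lit 4, nat_lit 6, nat_lit 5, nat_lit 6],
  [nat_lit 0, nat_lit 0, nat_lit 2, nat_lit 2, nat_lit 7, nat_lit 4, nat_lit 7, nat_lit 5],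
  [nat_lit 0, nat_lit 0, nat_lit 2, nat_lit 4, nat_lit 3, nat_lit 7, nat_lit 4, nat_lit 6],
  [nat_lit 0, nat_lit 0, nat_lit 2, nat_lit 4, nat_lit 7, nat_lit 2, nat_lit 4, nat_lit 7],
  [nat_lit 0, nat_lit 0, nat_lit 2, nat_lit 5, nat_lit 0, nat_lit 0, nat_lit 4, nat_lit 3],
  [nat_lit 0, nat_lit 0, nat_lit 2, nat_lit 5, nat_lit 3, nat_lit 6, nat_lit 5, nat_lit 7],
  [nat_lit 0, nat_lit 0, nat_lit 2, nat_lit 5, nat_lit 7, nat_lit 4, nat_lit 7, nat_lit 2],
  [nat_lit 0, nat_lit 0, nat_lit 2, nat_lit 6, nat_lit 0, nat_lit 6, nat_lit 1, nat_lit 3],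
  [nat_lit 0, nat_lit 0, nat_lit 2, nat_lit 6, nat_lit 5, nat_lit 2, nat_lit 6, nat_lit 5],
  [nat_lit 0, nat_lit 0, nat_lit 3, nat_lit 0, nat_lit 0, nat_lit 6, nat_lit 3, nat_lit 6],
  [nat_lit 0, nat_lit 0, nat_lit 3, nat_lit 0, nat_lit 2, nat_lit 5, nat_lit 0, nat_lit 4],
  [nat_lit 0, nat_lit 0, nat_lit 3, nat_lit 0, nat_lit 6, nat_lit 1, nat_lit 6, nat_lit 2],
  [nat_lit 0, nat_lit 0, nat_lit 3, nat_lit 1, nat_lit 2, nat_lit 5, nat_lit 1, nat_lit 4],
  [nat_lit 0, nat_lit 0, nat_lit 3, nat_lit 1, nat_lit 6, nat_lit 0, nat_lit 3, nat_lit 7],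
  [nat_lit 0, nat_lit 0, nat_lit 3, nat_lit 4, nat_lit 0, nat_lit 0, nat_lit 5, nat_lit 2],
  [nat_lit 0, nat_lit 0, nat_lit 3, nat_lit 4, nat_lit 6, nat_lit 5, nat_lit 2, nat_lit 7],
  [nat_lit 0, nat_lit 0, nat_lit 3, nat_lit 5, nat_lit 0, nat_lit 0, nat_lit 4, nat_lit 2],
  [nat_lit 0, nat_lit 0, nat_lit 3, nat_lit 5, nat_lit 6, nat_lit 3, nat_lit 5, nat_lit 6],
  [nat_lit 0, nat_lit 0, nat_lit 3, nat_lit 5, nat_lit 7, nat_lit 3, nat_lit 5, nat_lit 7],
  [nat_lit 0, nat_lit 0, nat_lit 3, nat_lit 6, nat_lit 5, nat_lit 7, nat_lit 2, nat_lit 5],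
  [nat_lit 0, nat_lit 0, nat_lit 3, nat_lit 7, nat_lit 4, nat_lit 3, nat_lit 7, nat_lit 4],
  [nat_lit 0, nat_lit 0, nat_lit 4, nat_lit 0, nat_lit 6, nat_lit 1, nat_lit 6, nat_lit 5],
  [nat_lit 0, nat_lit 0, nat_lit 4, nat_lit 1, nat_lit 7, nat_lit 0, nat_lit 7, nat_lit 5],
  [nat_lit 0, nat_lit 0, nat_lit 4, nat_lit 4, nat_lit 0, nat_lit 0, nat_lit 5, nat_lit 5],
  [nat_lit 0, nat_lit 0, nat_lit 4, nat_lit 6, nat_lit 0, nat_lit 6, nat_lit 1, nat_lit 5],
  [nat_lit 0, nat_lit 0, nat_lit 4, nat_lit 6, nat_lit 3, nat_lit 4, nat_lit 6, nat_lit 3],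
  [nat_lit 0, nat_lit 0, nat_lit 4, nat_lit 7, nat_lit 1, nat_lit 7, nat_lit 0, nat_lit 5],
  [nat_lit 0, nat_lit 0, nat_lit 4, nat_lit 7, nat_lit 2, nat_lit 2, nat_lit 5, nat_lit 7],
  [nat_lit 0, nat_lit 0, nat_lit 5, nat_lit 1, nat_lit 7, nat_lit 0, nat_lit 7, nat_lit 4],
  [nat_lit 0, nat_lit 0, nat_lit 5, nat_lit 2, nat_lit 2, nat_lit 6, nat_lit 4, nat_lit 6],
  [nat_lit 0, nat_lit 0, nat_lit 5, nat_lit 2, nat_lit 6, nat_lit 3, nat_lit 4, nat_lit 7],
  [nat_lit 0, nat_lit 0, nat_lit 5, nat_lit 3, nat_lit 7, nat_lit 5, nat_lit 6, nat_lit 2],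
  [nat_lit 0, nat_lit 0, nat_lit 5, nat_lit 6, nat_lit 0, nat_lit 6, nat_lit 1, nat_lit 4],
  [nat_lit 0, nat_lit 0, nat_lit 5, nat_lit 6, nat_lit 4, nat_lit 6, nat_lit 3, nat_lit 3],
  [nat_lit 0, nat_lit 0, nat_lit 6, nat_lit 3, nat_lit 4, nat_lit 2, nat_lit 7, nat_lit 4],
  [nat_lit 0, nat_lit 0, nat_lit 6, nat_lit 3, nat_lit 5, nat_lit 7, nat_lit 4, nat_lit 2],
  [nat_lit 0, nat_lit 0, nat_lit 6, nat_lit 4, nat_lit 2, nat_lit 7, nat_lit 3, nat_lit 5],
  [nat_lit 0, nat_lit 0, nat_lit 7, nat_lit 4, nat_lit 7, nat_lit 3, nat_lit 3, nat_lit 5],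
  [nat_lit 0, nat_lit 0, nat_lit 7, nat_lit 5, nat_lit 3, nat_lit 7, nat_lit 5, nat_lit 3],
  [nat_lit 0, nat_lit 2, nat_lit 0, nat_lit 2, nat_lit 0, nat_lit 3, nat_lit 0, nat_lit 3],
  [nat_lit 0, nat_lit 2, nat_lit 0, nat_lit 3, nat_lit 1, nat_lit 5, nat_lit 1, nat_lit 4],
  [nat_lit 0, nat_lit 2, nat_lit 0, nat_lit 4, nat_lit 0, nat_lit 5, nat_lit 1, nat_lit 3],
  [nat_lit 0, nat_lit 2, nat_lit 0, nat_lit 5, nat_lit 1, nat_lit 2, nat_lit 1, nat_lit 5],
  [nat_lit 0, nat_lit 2, nat_lit 0, nat_lit 7, nat_lit 0, nat_lit 2, nat_lit 0, nat_lit 7],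
  [nat_lit 0, nat_lit 2, nat_lit 1, nat_lit 2, nat_lit 0, nat_lit 3, nat_lit 1, nat_lit 3],
  [nat_lit 0, nat_lit 2, nat_lit 1, nat_lit 4, nat_lit 0, nat_lit 5, nat_lit 0, nat_lit 3],
  [nat_lit 0, nat_lit 2, nat_lit 1, nat_lit 5, nat_lit 1, nat_lit 2, nat_lit 0, nat_lit 5],
  [nat_lit 0, nat_lit 2, nat_lit 2, nat_lit 0, nat_lit 2, nat_lit 2, nat_lit 6, nat_lit 6],
  [nat_lit 0, nat_lit 2, nat_lit 2, nat_lit 0, nat_lit 3, nat_lit 5, nat_lit 2, nat_lit 5],
  [nat_lit 0, nat_lit 2, nat_lit 2, nat_lit 0, nat_lit 4, nat_lit 2, nat_lit 4, nat_lit 3],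
  [nat_lit 0, nat_lit 2, nat_lit 2, nat_lit 0, nat_lit 6, nat_lit 3, nat_lit 7, nat_lit 2],
  [nat_lit 0, nat_lit 2, nat_lit 2, nat_lit 1, nat_lit 4, nat_lit 6, nat_lit 5, nat_lit 7],
  [nat_lit 0, nat_lit 2, nat_lit 2, nat_lit 5, nat_lit 7, nat_lit 4, nat_lit 1, nat_lit 6],
  [nat_lit 0, nat_lit 2, nat_lit 2, nat_lit 7, nat_lit 7, nat_lit 0, nat_lit 3, nat_lit 3],
  [nat_lit 0, nat_lit 2, nat_lit 4, nat_lit 7, nat_lit 1, nat_lit 5, nat_lit 7, nat_lit 2],
  [nat_lit 0, nat_lit 2, nat_lit 5, nat_lit 0, nat_lit 3, nat_lit 7, nat_lit 5, nat_lit 6],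
  [nat_lit 0, nat_lit 2, nat_lit 5, nat_lit 0, nat_lit 6, nat_lit 4, nat_lit 3, nat_lit 7],
  [nat_lit 0, nat_lit 2, nat_lit 5, nat_lit 1, nat_lit 2, nat_lit 6, nat_lit 6, nat_lit 5],
  [nat_lit 0, nat_lit 2, nat_lit 5, nat_lit 1, nat_lit 4, nat_lit 7, nat_lit 2, nat_lit 7],
  [nat_lit 0, nat_lit 2, nat_lit 5, nat_lit 2, nat_lit 4, nat_lit 1, nat_lit 5, nat_lit 5],
  [nat_lit 0, nat_lit 2, nat_lit 5, nat_lit 3, nat_lit 7, nat_lit 5, nat_lit 1, nat_lit 7],
  [nat_lit 0, nat_lit 2, nat_lit 5, nat_lit 6, nat_lit 0, nat_lit 6, nat_lit 4, nat_lit 3],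
  [nat_lit 0, nat_lit 2, nat_lit 5, nat_lit 6, nat_lit 1, nat_lit 4, nat_lit 7, nat_lit 2],
  [nat_lit 0, nat_lit 2, nat_lit 5, nat_lit 7, nat_lit 0, nat_lit 3, nat_lit 7, nat_lit 5],
  [nat_lit 0, nat_lit 2, nat_lit 6, nat_lit 3, nat_lit 0, nat_lit 4, nat_lit 7, nat_lit 5],
  [nat_lit 0, nat_lit 2, nat_lit 6, nat_lit 3, nat_lit 1, nat_lit 6, nat_lit 2, nat_lit 2],
  [nat_lit 0, nat_lit 2, nat_lit 6, nat_lit 4, nat_lit 1, nat_lit 5, nat_lit 2, nat_lit 7],
  [nat_lit 0, nat_lit 2, nat_lit 6, nat_lit 5, nat_lit 0, nat_lit 6, nat_lit 4, nat_lit 2],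
  [nat_lit 0, nat_lit 2, nat_lit 7, nat_lit 5, nat_lit 0, nat_lit 2, nat_lit 7, nat_lit 5],
  [nat_lit 0, nat_lit 2, nat_lit 7, nat_lit 5, nat_lit 1, nat_lit 4, nat_lit 6, nat_lit 3],
  [nat_lit 0, nat_lit 2, nat_lit 7, nat_lit 5, nat_lit 3, nat_lit 5, nat_lit 0, nat_lit 7],
  [nat_lit 0, nat_lit 3, nat_lit 0, nat_lit 5, nat_lit 1, nat_lit 4, nat_lit 1, nat_lit 2],
  [nat_lit 0, nat_lit 3, nat_lit 3, nat_lit 0, nat_lit 3, nat_lit 3, nat_lit 6, nat_lit 6],
  [nat_lit 0, nat_lit 3, nat_lit 3, nat_lit 0, nat_lit 7, nat_lit 2, nat_lit 6, nat_lit 3],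
  [nat_lit 0, nat_lit 3, nat_lit 4, nat_lit 0, nat_lit 3, nat_lit 4, nat_lit 6, nat_lit 6],
  [nat_lit 0, nat_lit 3, nat_lit 4, nat_lit 0, nat_lit 4, nat_lit 2, nat_lit 4, nat_lit 4],
  [nat_lit 0, nat_lit 3, nat_lit 4, nat_lit 3, nat_lit 4, nat_lit 7, nat_lit 0, nat_lit 6],
  [nat_lit 0, nat_lit 3, nat_lit 4, nat_lit 6, nat_lit 0, nat_lit 5, nat_lit 2, nat_lit 6],
  [nat_lit 0, nat_lit 3, nat_lit 4, nat_lit 6, nat_lit 3, nat_lit 4, nat_lit 1, nat_lit 7],
  [nat_lit 0, nat_lit 3, nat_lit 4, nat_lit 7, nat_lit 3, nat_lit 4, nat_lit 1, nat_lit 6],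
  [nat_lit 0, nat_lit 3, nat_lit 5, nat_lit 0, nat_lit 4, nat_lit 4, nat_lit 3, nat_lit 4],
  [nat_lit 0, nat_lit 3, nat_lit 5, nat_lit 0, nat_lit 7, nat_lit 2, nat_lit 7, nat_lit 5],
  [nat_lit 0, nat_lit 3, nat_lit 5, nat_lit 1, nat_lit 2, nat_lit 7, nat_lit 5, nat_lit 7],
  [nat_lit 0, nat_lit 3, nat_lit 5, nat_lit 6, nat_lit 1, nat_lit 7, nat_lit 4, nat_lit 2],
  [nat_lit 0, nat_lit 3, nat_lit 5, nat_lit 7, nat_lit 0, nat_lit 4, nat_lit 2, nat_lit 6],
  [nat_lit 0, nat_lit 3, nat_lit 6, nat_lit 5, nat_lit 1, nat_lit 3, nat_lit 7, nat_lit 5],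
  [nat_lit 0, nat_lit 3, nat_lit 7, nat_lit 4, nat_lit 0, nat_lit 5, nat_lit 6, nat_lit 2],
  [nat_lit 0, nat_lit 4, nat_lit 2, nat_lit 7, nat_lit 0, nat_lit 4, nat_lit 2, nat_lit 7],
  [nat_lit 0, nat_lit 4, nat_lit 3, nat_lit 0, nat_lit 6, nat_lit 4, nat_lit 3, nat_lit 6],
  [nat_lit 0, nat_lit 4, nat_lit 3, nat_lit 6, nat_lit 0, nat_lit 7, nat_lit 4, nat_lit 3],
  [nat_lit 0, nat_lit 4, nat_lit 4, nat_lit 1, nat_lit 3, nat_lit 5, nat_lit 3, nat_lit 4],
  [nat_lit 0, nat_lit 4, nat_lit 4, nat_lit 1, nat_lit 4, nat_lit 4, nat_lit 7, nat_lit 7],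
  [nat_lit 0, nat_lit 4, nat_lit 4, nat_lit 1, nat_lit 5, nat_lit 3, nat_lit 4, nat_lit 3],
  [nat_lit 0, nat_lit 4, nat_lit 6, nat_lit 2, nat_lit 0, nat_lit 7, nat_lit 2, nat_lit 5],
  [nat_lit 0, nat_lit 4, nat_lit 6, nat_lit 6, nat_lit 5, nat_lit 6, nat_lit 0, nat_lit 7],
  [nat_lit 0, nat_lit 5, nat_lit 7, nat_lit 4, nat_lit 0, nat_lit 7, nat_lit 2, nat_lit 2],
  [nat_lit 0, nat_lit 6, nat_lit 0, nat_lit 7, nat_lit 5, nat_lit 6, nat_lit 6, nat_lit 4],
  [nat_lit 2, nat_lit 4, nat_lit 4, nat_lit 7, nat_lit 2, nat_lit 7, nat_lit 5, nat_lit 5],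
  [nat_lit 0, nat_lit 0, nat_lit 6, nat_lit 4, nat_lit 6, nat_lit 4, nat_lit 3, nat_lit 5, nat_lit 5, nat_lit 3],
  [nat_lit 0, nat_lit 3, nat_lit 8, nat_lit 8, nat_lit 5, nat_lit 6],
  [nat_lit 0, nat_lit 8, nat_lit 1, nat_lit 4, nat_lit 4, nat_lit 9],
  [nat_lit 0, nat_lit 8, nat_lit 1, nat_lit 6, nat_lit 9, nat_lit 6],
  [nat_lit 0, nat_lit 2, nat_lit 4, nat_lit 8, nat_lit 5, nat_lit 2, nat_lit 8],
  [nat_lit 0, nat_lit 2, nat_lit 5, nat_lit 9, nat_lit 3, nat_lit 5, nat_lit 9],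
  [nat_lit 8, nat_lit 3, nat_lit 3, nat_lit 9, nat_lit 5, nat_lit 5, nat_lit 3, nat_lit 3],
  [nat_lit 8, nat_lit 2, nat_lit 6, nat_lit 3, nat_lit 9, nat_lit 4, nat_lit 7, nat_lit 5],
  [nat_lit 8, nat_lit 4, nat_lit 3, nat_lit 9, nat_lit 6, nat_lit 2, nat_lit 0, nat_lit 3, nat_lit 1],
  [nat_lit 8, nat_lit 2, nat_lit 8, nat_lit 4, nat_lit 9, nat_lit 3, nat_lit 9, nat_lit 1, nat_lit 5, nat_lit 1],
  [nat_lit 8, nat_lit 2, nat_lit 8, nat_lit 0, nat_lit 9, nat_lit 3, nat_lit 9, nat_lit 6, nat_lit 5, nat_lit 3, nat_lit 1],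
  [nat_lit 8, nat_lit 8, nat_lit 8, nat_lit 8],
  [nat_lit 0, nat_lit 6, nat_lit 8, nat_lit 7, nat_lit 1, nat_lit 9],
  [nat_lit 4, nat_lit 4, nat_lit 6, nat_lit 9, nat_lit 6, nat_lit 8]]
noncomputable def R1 : List (List ℕ) := [[nat_lit 0, nat_lit 1],
  [nat_lit 1, nat_lit 0],
  [nat_lit 2, nat_lit 3],
  [nat_lit 3, nat_lit 2],
  [nat_lit 4, nat_lit 5],
  [nat_lit 5, nat_lit 4],
  [nat_lit 6, nat_lit 7],
  [nat_lit 7, nat_lit 6],
  [nat_lit 8, nat_lit 9],
  [nat_lit 9, nat_lit 8],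
  [nat_lit 10, nat_lit 10],
  [nat_lit 11, nat_lit 11],
  [nat_lit 12, nat_lit 12],
  [nat_lit 13, nat_lit 13],
  [nat_lit 14, nat_lit 14],
  [nat_lit 0, nat_lit 0, nat_lit 0, nat_lit 0],
  [nat_lit 2, nat_lit 2, nat_lit 2, nat_lit 2],
  [nat_lit 2, nat_lit 6, nat_lit 2, nat_lit 6],
  [nat_lit 4, nat_lit 4, nat_lit 4, nat_lit 4],
  [nat_lit 6, nat_lit 6, nat_lit 6, nat_lit 6],
  [nat_lit 0, nat_lit 0, nat_lit 6, nat_lit 0, nat_lit 0, nat_lit 7],
  [nat_lit 0, nat_lit 2, nat_lit 4, nat_lit 1, nat_lit 2, nat_lit 4],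
  [nat_lit 0, nat_lit 2, nat_lit 7, nat_lit 2, nat_lit 0, nat_lit 6],
  [nat_lit 0, nat_lit 3, nat_lit 6, nat_lit 3, nat_lit 0, nat_lit 7],
  [nat_lit 0, nat_lit 6, nat_lit 6, nat_lit 1, nat_lit 6, nat_lit 6],
  [nat_lit 2, nat_lit 2, nat_lit 4, nat_lit 2, nat_lit 2, nat_lit 5],
  [nat_lit 2, nat_lit 4, nat_lit 2, nat_lit 6, nat_lit 6, nat_lit 4],
  [nat_lit 2, nat_lit 5, nat_lit 2, nat_lit 5, nat_lit 6, nat_lit 6],
  [nat_lit 4, nat_lit 4, nat_lit 6, nat_lit 4, nat_lit 4, nat_lit 7],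
  [nat_lit 0, nat_lit 0, nat_lit 2, nat_lit 0, nat_lit 0, nat_lit 7, nat_lit 2, nat_lit 7],
  [nat_lit 0, nat_lit 0, nat_lit 2, nat_lit 0, nat_lit 3, nat_lit 4, nat_lit 1, nat_lit 5],
  [nat_lit 0, nat_lit 0, nat_lit 2, nat_lit 0, nat_lit 4, nat_lit 2, nat_lit 1, nat_lit 4],
  [nat_lit 0, nat_lit 0, nat_lit 2, nat_lit 0, nat_lit 6, nat_lit 1, nat_lit 6, nat_lit 3],
  [nat_lit 0, nat_lit 0, nat_lit 2, nat_lit 0, nat_lit 7, nat_lit 1, nat_lit 2, nat_lit 6],
  [nat_lit 0, nat_lit 0, nat_lit 2, nat_lit 1, nat_lit 3, nat_lit 4, nat_lit 0, nat_lit 5],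
  [nat_lit 0, nat_lit 0, nat_lit 2, nat_lit 1, nat_lit 4, nat_lit 2, nat_lit 0, nat_lit 4],
  [nat_lit 0, nat_lit 0, nat_lit 2, nat_lit 1, nat_lit 7, nat_lit 0, nat_lit 7, nat_lit 3],
  [nat_lit 0, nat_lit 0, nat_lit 2, nat_lit 2, nat_lit 0, nat_lit 0, nat_lit 3, nat_lit 3],
  [nat_lit 0, nat_lit 0, nat_lit 2, nat_lit 2, nat_lit 1, nat_lit 1, nat_lit 2, nat_lit 2],
  [nat_lit 0, nat_lit 0, nat_lit 2, nat_lit 2, nat_lit 4, nat_lit 6, nat_lit 5, nat_lit 6],
  [nat_lit 0, nat_lit 0, nat_lit 2, nat_lit 2, nat_lit 7, nat_lit 4, nat_lit 7, nat_lit 5],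
  [nat_lit 0, nat_lit 0, nat_lit 2, nat_lit 4, nat_lit 3, nat_lit 7, nat_lit 4, nat_lit 6],
  [nat_lit 0, nat_lit 0, nat_lit 2, nat_lit 4, nat_lit 7, nat_lit 2, nat_lit 4, nat_lit 7],
  [nat_lit 0, nat_lit 0, nat_lit 2, nat_lit 5, nat_lit 0, nat_lit 0, nat_lit 4, nat_lit 3],
  [nat_lit 0, nat_lit 0, nat_lit 2, nat_lit 5, nat_lit 3, nat_lit 6, nat_lit 5, nat_lit 7],
  [nat_lit 0, nat_lit 0, nat_lit 2, nat_lit 5, nat_lit 7, nat_lit 4, nat_lit 7, nat_lit 2],
  [nat_lit 0, nat_lit 0, nat_lit 2, nat_lit 6, nat_lit 0, nat_lit 6, nat_lit 1, nat_lit 3],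
  [nat_lit 0, nat_lit 0, nat_lit 2, nat_lit 6, nat_lit 5, nat_lit 2, nat_lit 6, nat_lit 5],
  [nat_lit 0, nat_lit 0, nat_lit 3, nat_lit 0, nat_lit 0, nat_lit 6, nat_lit 3, nat_lit 6],
  [nat_lit 0, nat_lit 0, nat_lit 3, nat_lit 0, nat_lit 2, nat_lit 5, nat_lit 0, nat_lit 4],
  [nat_lit 0, nat_lit 0, nat_lit 3, nat_lit 0, nat_lit 6, nat_lit 1, nat_lit 6, nat_lit 2],
  [nat_lit 0, nat_lit 0, nat_lit 3, nat_lit 1, nat_lit 2, nat_lit 5, nat_lit 1, nat_lit 4],
  [nat_lit 0, nat_lit 0, nat_lit 3, nat_lit 1, nat_lit 6, nat_lit 0, nat_lit 3, nat_lit 7],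
  [nat_lit 0, nat_lit 0, nat_lit 3, nat_lit 4, nat_lit 0, nat_lit 0, nat_lit 5, nat_lit 2],
  [nat_lit 0, nat_lit 0, nat_lit 3, nat_lit 4, nat_lit 6, nat_lit 5, nat_lit 2, nat_lit 7],
  [nat_lit 0, nat_lit 0, nat_lit 3, nat_lit 5, nat_lit 0, nat_lit 0, nat_lit 4, nat_lit 2],
  [nat_lit 0, nat_lit 0, nat_lit 3, nat_lit 5, nat_lit 6, nat_lit 3, nat_lit 5, nat_lit 6],
  [nat_lit 0, nat_lit 0, nat_lit 3, nat_lit 5, nat_lit 7, nat_lit 3, nat_lit 5, nat_lit 7],
  [nat_lit 0, nat_lit 0, nat_lit 3, nat_lit 6, nat_lit 5, nat_lit 7, nat_lit 2, nat_lit 5],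
  [nat_lit 0, nat_lit 0, nat_lit 3, nat_lit 7, nat_lit 4, nat_lit 3, nat_lit 7, nat_lit 4],
  [nat_lit 0, nat_lit 0, nat_lit 4, nat_lit 0, nat_lit 6, nat_lit 1, nat_lit 6, nat_lit 5],
  [nat_lit 0, nat_lit 0, nat_lit 4, nat_lit 1, nat_lit 7, nat_lit 0, nat_lit 7, nat_lit 5],
  [nat_lit 0, nat_lit 0, nat_lit 4, nat_lit 4, nat_lit 0, nat_lit 0, nat_lit 5, nat_lit 5],
  [nat_lit 0, nat_lit 0, nat_lit 4, nat_lit 6, nat_lit 0, nat_lit 6, nat_lit 1, nat_lit 5],
  [nat_lit 0, nat_lit 0, nat_lit 4, nat_lit 6, nat_lit 3, nat_lit 4, nat_lit 6, nat_lit 3],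
  [nat_lit 0, nat_lit 0, nat_lit 4, nat_lit 7, nat_lit 1, nat_lit 7, nat_lit 0, nat_lit 5],
  [nat_lit 0, nat_lit 0, nat_lit 4, nat_lit 7, nat_lit 2, nat_lit 2, nat_lit 5, nat_lit 7],
  [nat_lit 0, nat_lit 0, nat_lit 5, nat_lit 1, nat_lit 7, nat_lit 0, nat_lit 7, nat_lit 4],
  [nat_lit 0, nat_lit 0, nat_lit 5, nat_lit 2, nat_lit 2, nat_lit 6, nat_lit 4, nat_lit 6],
  [nat_lit 0, nat_lit 0, nat_lit 5, nat_lit 2, nat_lit 6, nat_lit 3, nat_lit 4, nat_lit 7],
  [nat_lit 0, nat_lit 0, nat_lit 5, nat_lit 3, nat_lit 7, nat_lit 5, nat_lit 6, nat_lit 2],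
  [nat_lit 0, nat_lit 0, nat_lit 5, nat_lit 6, nat_lit 0, nat_lit 6, nat_lit 1, nat_lit 4],
  [nat_lit 0, nat_lit 0, nat_lit 5, nat_lit 6, nat_lit 4, nat_lit 6, nat_lit 3, nat_lit 3],
  [nat_lit 0, nat_lit 0, nat_lit 6, nat_lit 3, nat_lit 4, nat_lit 2, nat_lit 7, nat_lit 4],
  [nat_lit 0, nat_lit 0, nat_lit 6, nat_lit 3, nat_lit 5, nat_lit 7, nat_lit 4, nat_lit 2],
  [nat_lit 0, nat_lit 0, nat_lit 6, nat_lit 4, nat_lit 2, nat_lit 7, nat_lit 3, nat_lit 5],
  [nat_lit 0, nat_lit 0, nat_lit 7, nat_lit 4, nat_lit 7, nat_lit 3, nat_lit 3, nat_lit 5],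
  [nat_lit 0, nat_lit 0, nat_lit 7, nat_lit 5, nat_lit 3, nat_lit 7, nat_lit 5, nat_lit 3],
  [nat_lit 0, nat_lit 2, nat_lit 0, nat_lit 2, nat_lit 0, nat_lit 3, nat_lit 0, nat_lit 3],
  [nat_lit 0, nat_lit 2, nat_lit 0, nat_lit 3, nat_lit 1, nat_lit 5, nat_lit 1, nat_lit 4],
  [nat_lit 0, nat_lit 2, nat_lit 0, nat_lit 4, nat_lit 0, nat_lit 5, nat_lit 1, nat_lit 3],
  [nat_lit 0, nat_lit 2, nat_lit 0, nat_lit 5, nat_lit 1, nat_lit 2, nat_lit 1, nat_lit 5],
  [nat_lit 0, nat_lit 2, nat_lit 0, nat_lit 7, nat_lit 0, nat_lit 2, nat_lit 0, nat_lit 7],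
  [nat_lit 0, nat_lit 2, nat_lit 1, nat_lit 2, nat_lit 0, nat_lit 3, nat_lit 1, nat_lit 3],
  [nat_lit 0, nat_lit 2, nat_lit 1, nat_lit 4, nat_lit 0, nat_lit 5, nat_lit 0, nat_lit 3],
  [nat_lit 0, nat_lit 2, nat_lit 1, nat_lit 5, nat_lit 1, nat_lit 2, nat_lit 0, nat_lit 5],
  [nat_lit 0, nat_lit 2, nat_lit 2, nat_lit 0, nat_lit 2, nat_lit 2, nat_lit 6, nat_lit 6],
  [nat_lit 0, nat_lit 2, nat_lit 2, nat_lit 0, nat_lit 3, nat_lit 5, nat_lit 2, nat_lit 5],
  [nat_lit 0, nat_lit 2, nat_lit 2, nat_lit 0, nat_lit 4, nat_lit 2, nat_lit 4, nat_lit 3],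
  [nat_lit 0, nat_lit 2, nat_lit 2, nat_lit 0, nat_lit 6, nat_lit 3, nat_lit 7, nat_lit 2],
  [nat_lit 0, nat_lit 2, nat_lit 2, nat_lit 1, nat_lit 4, nat_lit 6, nat_lit 5, nat_lit 7],
  [nat_lit 0, nat_lit 2, nat_lit 2, nat_lit 5, nat_lit 7, nat_lit 4, nat_lit 1, nat_lit 6],
  [nat_lit 0, nat_lit 2, nat_lit 2, nat_lit 7, nat_lit 7, nat_lit 0, nat_lit 3, nat_lit 3],
  [nat_lit 0, nat_lit 2, nat_lit 4, nat_lit 7, nat_lit 1, nat_lit 5, nat_lit 7, nat_lit 2],
  [nat_lit 0, nat_lit 2, nat_lit 5, nat_lit 0, nat_lit 3, nat_lit 7, nat_lit 5, nat_lit 6],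
  [nat_lit 0, nat_lit 2, nat_lit 5, nat_lit 0, nat_lit 6, nat_lit 4, nat_lit 3, nat_lit 7],
  [nat_lit 0, nat_lit 2, nat_lit 5, nat_lit 1, nat_lit 2, nat_lit 6, nat_lit 6, nat_lit 5],
  [nat_lit 0, nat_lit 2, nat_lit 5, nat_lit 1, nat_lit 4, nat_lit 7, nat_lit 2, nat_lit 7],
  [nat_lit 0, nat_lit 2, nat_lit 5, nat_lit 2, nat_lit 4, nat_lit 1, nat_lit 5, nat_lit 5],
  [nat_lit 0, nat_lit 2, nat_lit 5, nat_lit 3, nat_lit 7, nat_lit 5, nat_lit 1, nat_lit 7],
  [nat_lit 0, nat_lit 2, nat_lit 5, nat_lit 6, nat_lit 0, nat_lit 6, nat_lit 4, nat_lit 3],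
  [nat_lit 0, nat_lit 2, nat_lit 5, nat_lit 6, nat_lit 1, nat_lit 4, nat_lit 7, nat_lit 2],
  [nat_lit 0, nat_lit 2, nat_lit 5, nat_lit 7, nat_lit 0, nat_lit 3, nat_lit 7, nat_lit 5],
  [nat_lit 0, nat_lit 2, nat_lit 6, nat_lit 3, nat_lit 0, nat_lit 4, nat_lit 7, nat_lit 5],
  [nat_lit 0, nat_lit 2, nat_lit 6, nat_lit 3, nat_lit 1, nat_lit 6, nat_lit 2, nat_lit 2],
  [nat_lit 0, nat_lit 2, nat_lit 6, nat_lit 4, nat_lit 1, nat_lit 5, nat_lit 2, nat_lit 7],
  [nat_lit 0, nat_lit 2, nat_lit 6, nat_lit 5, nat_lit 0, nat_lit 6, nat_lit 4, nat_lit 2],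
  [nat_lit 0, nat_lit 2, nat_lit 7, nat_lit 5, nat_lit 0, nat_lit 2, nat_lit 7, nat_lit 5],
  [nat_lit 0, nat_lit 2, nat_lit 7, nat_lit 5, nat_lit 1, nat_lit 4, nat_lit 6, nat_lit 3],
  [nat_lit 0, nat_lit 2, nat_lit 7, nat_lit 5, nat_lit 3, nat_lit 5, nat_lit 0, nat_lit 7],
  [nat_lit 0, nat_lit 3, nat_lit 0, nat_lit 5, nat_lit 1, nat_lit 4, nat_lit 1, nat_lit 2],
  [nat_lit 0, nat_lit 3, nat_lit 3, nat_lit 0, nat_lit 3, nat_lit 3, nat_lit 6, nat_lit 6],
  [nat_lit 0, nat_lit 3, nat_lit 3, nat_lit 0, nat_lit 7, nat_lit 2, nat_lit 6, nat_lit 3],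
  [nat_lit 0, nat_lit 3, nat_lit 4, nat_lit 0, nat_lit 3, nat_lit 4, nat_lit 6, nat_lit 6],
  [nat_lit 0, nat_lit 3, nat_lit 4, nat_lit 0, nat_lit 4, nat_lit 2, nat_lit 4, nat_lit 4],
  [nat_lit 0, nat_lit 3, nat_lit 4, nat_lit 3, nat_lit 4, nat_lit 7, nat_lit 0, nat_lit 6],
  [nat_lit 0, nat_lit 3, nat_lit 4, nat_lit 6, nat_lit 0, nat_lit 5, nat_lit 2, nat_lit 6],
  [nat_lit 0, nat_lit 3, nat_lit 4, nat_lit 6, nat_lit 3, nat_lit 4, nat_lit 1, nat_lit 7],
  [nat_lit 0, nat_lit 3, nat_lit 4, nat_lit 7, nat_lit 3, nat_lit 4, nat_lit 1, nat_lit 6],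
  [nat_lit 0, nat_lit 3, nat_lit 5, nat_lit 0, nat_lit 4, nat_lit 4, nat_lit 3, nat_lit 4],
  [nat_lit 0, nat_lit 3, nat_lit 5, nat_lit 0, nat_lit 7, nat_lit 2, nat_lit 7, nat_lit 5],
  [nat_lit 0, nat_lit 3, nat_lit 5, nat_lit 1, nat_lit 2, nat_lit 7, nat_lit 5, nat_lit 7],
  [nat_lit 0, nat_lit 3, nat_lit 5, nat_lit 6, nat_lit 1, nat_lit 7, nat_lit 4, nat_lit 2],
  [nat_lit 0, nat_lit 3, nat_lit 5, nat_lit 7, nat_lit 0, nat_lit 4, nat_lit 2, nat_lit 6],
  [nat_lit 0, nat_lit 3, nat_lit 6, nat_lit 5, nat_lit 1, nat_lit 3, nat_lit 7, nat_lit 5],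
  [nat_lit 0, nat_lit 3, nat_lit 7, nat_lit 4, nat_lit 0, nat_lit 5, nat_lit 6, nat_lit 2],
  [nat_lit 0, nat_lit 4, nat_lit 2, nat_lit 7, nat_lit 0, nat_lit 4, nat_lit 2, nat_lit 7],
  [nat_lit 0, nat_lit 4, nat_lit 3, nat_lit 0, nat_lit 6, nat_lit 4, nat_lit 3, nat_lit 6],
  [nat_lit 0, nat_lit 4, nat_lit 3, nat_lit 6, nat_lit 0, nat_lit 7, nat_lit 4, nat_lit 3],
  [nat_lit 0, nat_lit 4, nat_lit 4, nat_lit 1, nat_lit 3, nat_lit 5, nat_lit 3, nat_lit 4],
  [nat_lit 0, nat_lit 4, nat_lit 4, nat_lit 1, nat_lit 4, nat_lit 4, nat_lit 7, nat_lit 7],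
  [nat_lit 0, nat_lit 4, nat_lit 4, nat_lit 1, nat_lit 5, nat_lit 3, nat_lit 4, nat_lit 3],
  [nat_lit 0, nat_lit 4, nat_lit 6, nat_lit 2, nat_lit 0, nat_lit 7, nat_lit 2, nat_lit 5],
  [nat_lit 0, nat_lit 4, nat_lit 6, nat_lit 6, nat_lit 5, nat_lit 6, nat_lit 0, nat_lit 7],
  [nat_lit 0, nat_lit 5, nat_lit 7, nat_lit 4, nat_lit 0, nat_lit 7, nat_lit 2, nat_lit 2],
  [nat_lit 0, nat_lit 6, nat_lit 0, nat_lit 7, nat_lit 5, nat_lit 6, nat_lit 6, nat_lit 4],
  [nat_lit 2, nat_lit 4, nat_lit 4, nat_lit 7, nat_lit 2, nat_lit 7, nat_lit 5, nat_lit 5],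
  [nat_lit 0, nat_lit 0, nat_lit 6, nat_lit 4, nat_lit 6, nat_lit 4, nat_lit 3, nat_lit 5, nat_lit 5, nat_lit 3],
  [nat_lit 0, nat_lit 3, nat_lit 8, nat_lit 8, nat_lit 5, nat_lit 6],
  [nat_lit 0, nat_lit 8, nat_lit 1, nat_lit 4, nat_lit 4, nat_lit 9],
  [nat_lit 0, nat_lit 8, nat_lit 1, nat_lit 6, nat_lit 9, nat_lit 6],
  [nat_lit 0, nat_lit 2, nat_lit 4, nat_lit 8, nat_lit 5, nat_lit 2, nat_lit 8],
  [nat_lit 0, nat_lit 2, nat_lit 5, nat_lit 9, nat_lit 3, nat_lit 5, nat_lit 9],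
  [nat_lit 8, nat_lit 3, nat_lit 3, nat_lit 9, nat_lit 5, nat_lit 5, nat_lit 3, nat_lit 3],
  [nat_lit 8, nat_lit 2, nat_lit 6, nat_lit 3, nat_lit 9, nat_lit 4, nat_lit 7, nat_lit 5],
  [nat_lit 8, nat_lit 4, nat_lit 3, nat_lit 9, nat_lit 6, nat_lit 2, nat_lit 0, nat_lit 3, nat_lit 1],
  [nat_lit 8, nat_lit 2, nat_lit 8, nat_lit 4, nat_lit 9, nat_lit 3, nat_lit 9, nat_lit 1, nat_lit 5, nat_lit 1],
  [nat_lit 8, nat_lit 2, nat_lit 8, nat_lit 0, nat_lit 9, nat_lit 3, nat_lit 9, nat_lit 6, nat_lit 5, nat_lit 3, nat_lit 1],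
  [nat_lit 0, nat_lit 6, nat_lit 0, nat_lit 10, nat_lit 6, nat_lit 10],
  [nat_lit 0, nat_lit 2, nat_lit 10, nat_lit 0, nat_lit 10, nat_lit 5, nat_lit 7],
  [nat_lit 10, nat_lit 3, nat_lit 3, nat_lit 10, nat_lit 4, nat_lit 2, nat_lit 5, nat_lit 3],
  [nat_lit 10, nat_lit 4, nat_lit 3, nat_lit 10, nat_lit 6, nat_lit 2, nat_lit 0, nat_lit 3, nat_lit 1],
  [nat_lit 10, nat_lit 5, nat_lit 3, nat_lit 10, nat_lit 6, nat_lit 5, nat_lit 1, nat_lit 5, nat_lit 1],
  [nat_lit 10, nat_lit 2, nat_lit 6, nat_lit 3, nat_lit 10, nat_lit 5, nat_lit 6, nat_lit 5, nat_lit 1, nat_lit 1],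
  [nat_lit 10, nat_lit 2, nat_lit 10, nat_lit 2, nat_lit 10, nat_lit 3, nat_lit 10, nat_lit 4, nat_lit 2, nat_lit 5],
  [nat_lit 10, nat_lit 2, nat_lit 10, nat_lit 0, nat_lit 10, nat_lit 3, nat_lit 10, nat_lit 7, nat_lit 5, nat_lit 3, nat_lit 1],
  [nat_lit 0, nat_lit 8, nat_lit 10, nat_lit 9, nat_lit 4, nat_lit 2, nat_lit 10],
  [nat_lit 10, nat_lit 4, nat_lit 3, nat_lit 10, nat_lit 8, nat_lit 2, nat_lit 5, nat_lit 9],
  [nat_lit 10, nat_lit 2, nat_lit 2, nat_lit 10, nat_lit 4, nat_lit 2, nat_lit 5, nat_lit 3],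
  [nat_lit 10, nat_lit 2, nat_lit 0, nat_lit 3, nat_lit 10, nat_lit 4, nat_lit 1, nat_lit 4, nat_lit 1, nat_lit 1],
  [nat_lit 10, nat_lit 2, nat_lit 8, nat_lit 3, nat_lit 10, nat_lit 1, nat_lit 4, nat_lit 8, nat_lit 4, nat_lit 1],
  [nat_lit 10, nat_lit 2, nat_lit 10, nat_lit 8, nat_lit 10, nat_lit 3, nat_lit 10, nat_lit 4, nat_lit 9, nat_lit 2],
  [nat_lit 11, nat_lit 0, nat_lit 11, nat_lit 2, nat_lit 9, nat_lit 2, nat_lit 10, nat_lit 0],
  [nat_lit 11, nat_lit 2, nat_lit 11, nat_lit 4, nat_lit 2, nat_lit 0, nat_lit 3, nat_lit 1],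
  [nat_lit 11, nat_lit 10, nat_lit 9, nat_lit 11, nat_lit 8, nat_lit 4, nat_lit 8, nat_lit 4, nat_lit 2],
  [nat_lit 11, nat_lit 6, nat_lit 11, nat_lit 10, nat_lit 2, nat_lit 8, nat_lit 10, nat_lit 3, nat_lit 9, nat_lit 1],
  [nat_lit 11, nat_lit 8, nat_lit 11, nat_lit 9, nat_lit 11, nat_lit 5, nat_lit 3, nat_lit 4, nat_lit 10, nat_lit 3],
  [nat_lit 8, nat_lit 8, nat_lit 8, nat_lit 8],
  [nat_lit 0, nat_lit 0, nat_lit 13, nat_lit 4, nat_lit 4, nat_lit 13],
  [nat_lit 0, nat_lit 6, nat_lit 8, nat_lit 7, nat_lit 1, nat_lit 9],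
  [nat_lit 2, nat_lit 4, nat_lit 6, nat_lit 13, nat_lit 4, nat_lit 13],
  [nat_lit 4, nat_lit 4, nat_lit 6, nat_lit 9, nat_lit 6, nat_lit 8],
  [nat_lit 4, nat_lit 7, nat_lit 11, nat_lit 4, nat_lit 7, nat_lit 11],
  [nat_lit 0, nat_lit 13, nat_lit 7, nat_lit 13, nat_lit 8, nat_lit 3, nat_lit 8],
  [nat_lit 0, nat_lit 11, nat_lit 10, nat_lit 4, nat_lit 9, nat_lit 11, nat_lit 3],
  [nat_lit 13, nat_lit 2, nat_lit 13, nat_lit 8, nat_lit 4, nat_lit 8, nat_lit 2, nat_lit 1],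
  [nat_lit 13, nat_lit 10, nat_lit 13, nat_lit 7, nat_lit 11, nat_lit 7, nat_lit 8, nat_lit 11, nat_lit 1],
  [nat_lit 13, nat_lit 0, nat_lit 2, nat_lit 1, nat_lit 13, nat_lit 8, nat_lit 5, nat_lit 2, nat_lit 9],
  [nat_lit 13, nat_lit 0, nat_lit 13, nat_lit 8, nat_lit 13, nat_lit 3, nat_lit 9, nat_lit 6, nat_lit 5],
  [nat_lit 13, nat_lit 0, nat_lit 4, nat_lit 1, nat_lit 13, nat_lit 9, nat_lit 3, nat_lit 9, nat_lit 3, nat_lit 1],
  [nat_lit 13, nat_lit 0, nat_lit 10, nat_lit 1, nat_lit 13, nat_lit 10, nat_lit 2, nat_lit 11, nat_lit 9, nat_lit 2],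
  [nat_lit 13, nat_lit 0, nat_lit 11, nat_lit 1, nat_lit 13, nat_lit 11, nat_lit 10, nat_lit 2, nat_lit 8, nat_lit 6],
  [nat_lit 13, nat_lit 9, nat_lit 4, nat_lit 8, nat_lit 13, nat_lit 8, nat_lit 6, nat_lit 2, nat_lit 8, nat_lit 1],
  [nat_lit 14, nat_lit 13, nat_lit 11, nat_lit 0, nat_lit 9, nat_lit 4, nat_lit 7, nat_lit 1],
  [nat_lit 0, nat_lit 12, nat_lit 7, nat_lit 12, nat_lit 4, nat_lit 2],
  [nat_lit 0, nat_lit 2, nat_lit 12, nat_lit 1, nat_lit 12, nat_lit 5, nat_lit 6],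
  [nat_lit 0, nat_lit 12, nat_lit 2, nat_lit 2, nat_lit 8, nat_lit 8, nat_lit 12],
  [nat_lit 2, nat_lit 4, nat_lit 12, nat_lit 4, nat_lit 7, nat_lit 5, nat_lit 12],
  [nat_lit 12, nat_lit 4, nat_lit 3, nat_lit 12, nat_lit 4, nat_lit 1, nat_lit 2, nat_lit 1],
  [nat_lit 12, nat_lit 8, nat_lit 12, nat_lit 5, nat_lit 9, nat_lit 4, nat_lit 9, nat_lit 1],
  [nat_lit 12, nat_lit 2, nat_lit 0, nat_lit 3, nat_lit 12, nat_lit 2, nat_lit 5, nat_lit 7],
  [nat_lit 12, nat_lit 2, nat_lit 6, nat_lit 3, nat_lit 12, nat_lit 5, nat_lit 1, nat_lit 1, nat_lit 3],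
  [nat_lit 12, nat_lit 2, nat_lit 8, nat_lit 3, nat_lit 12, nat_lit 1, nat_lit 5, nat_lit 8, nat_lit 5, nat_lit 1],
  [nat_lit 12, nat_lit 2, nat_lit 12, nat_lit 3, nat_lit 12, nat_lit 9, nat_lit 1, nat_lit 9, nat_lit 5, nat_lit 1, nat_lit 1],
  [nat_lit 0, nat_lit 12, nat_lit 10, nat_lit 0, nat_lit 12, nat_lit 10],
  [nat_lit 6, nat_lit 12, nat_lit 10, nat_lit 12, nat_lit 6, nat_lit 10],
  [nat_lit 12, nat_lit 11, nat_lit 8, nat_lit 2, nat_lit 9, nat_lit 11, nat_lit 12, nat_lit 9],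
  [nat_lit 12, nat_lit 11, nat_lit 0, nat_lit 11, nat_lit 12, nat_lit 3, nat_lit 8, nat_lit 3, nat_lit 10],
  [nat_lit 12, nat_lit 11, nat_lit 3, nat_lit 11, nat_lit 3, nat_lit 12, nat_lit 5, nat_lit 2, nat_lit 1],
  [nat_lit 12, nat_lit 2, nat_lit 12, nat_lit 3, nat_lit 12, nat_lit 10, nat_lit 5, nat_lit 3, nat_lit 10, nat_lit 3],
  [nat_lit 12, nat_lit 11, nat_lit 5, nat_lit 11, nat_lit 3, nat_lit 12, nat_lit 2, nat_lit 10, nat_lit 4, nat_lit 8],
  [nat_lit 12, nat_lit 11, nat_lit 6, nat_lit 11, nat_lit 12, nat_lit 9, nat_lit 2, nat_lit 7, nat_lit 10, nat_lit 3],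
  [nat_lit 12, nat_lit 11, nat_lit 10, nat_lit 12, nat_lit 11, nat_lit 12, nat_lit 7, nat_lit 10, nat_lit 7, nat_lit 11, nat_lit 10],
  [nat_lit 12, nat_lit 2, nat_lit 11, nat_lit 10, nat_lit 9, nat_lit 11, nat_lit 12, nat_lit 1, nat_lit 1, nat_lit 8, nat_lit 1],
  [nat_lit 12, nat_lit 11, nat_lit 12, nat_lit 2, nat_lit 12, nat_lit 11, nat_lit 12, nat_lit 6, nat_lit 11, nat_lit 1, nat_lit 4],
  [nat_lit 12, nat_lit 11, nat_lit 8, nat_lit 4, nat_lit 9, nat_lit 11, nat_lit 12, nat_lit 6, nat_lit 3, nat_lit 4, nat_lit 9],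
  [nat_lit 12, nat_lit 2, nat_lit 11, nat_lit 9, nat_lit 12, nat_lit 11, nat_lit 12, nat_lit 6, nat_lit 4, nat_lit 10, nat_lit 7, nat_lit 11],
  [nat_lit 12, nat_lit 11, nat_lit 8, nat_lit 6, nat_lit 9, nat_lit 11, nat_lit 12, nat_lit 4, nat_lit 10, nat_lit 6, nat_lit 5, nat_lit 9],
  [nat_lit 12, nat_lit 11, nat_lit 8, nat_lit 12, nat_lit 9, nat_lit 11, nat_lit 12, nat_lit 2, nat_lit 8, nat_lit 11, nat_lit 9, nat_lit 3],
  [nat_lit 2, nat_lit 5, nat_lit 14, nat_lit 2, nat_lit 14, nat_lit 4],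
  [nat_lit 2, nat_lit 10, nat_lit 14, nat_lit 10, nat_lit 3, nat_lit 14],
  [nat_lit 0, nat_lit 0, nat_lit 3, nat_lit 14, nat_lit 4, nat_lit 14, nat_lit 5],
  [nat_lit 14, nat_lit 6, nat_lit 14, nat_lit 7, nat_lit 10, nat_lit 2, nat_lit 10, nat_lit 3],
  [nat_lit 14, nat_lit 0, nat_lit 4, nat_lit 1, nat_lit 14, nat_lit 1, nat_lit 4, nat_lit 0],
  [nat_lit 14, nat_lit 0, nat_lit 2, nat_lit 1, nat_lit 14, nat_lit 10, nat_lit 4, nat_lit 2, nat_lit 7, nat_lit 10],
  [nat_lit 14, nat_lit 0, nat_lit 10, nat_lit 1, nat_lit 14, nat_lit 2, nat_lit 1, nat_lit 10, nat_lit 0, nat_lit 3],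
  [nat_lit 14, nat_lit 0, nat_lit 14, nat_lit 1, nat_lit 14, nat_lit 4, nat_lit 2, nat_lit 5, nat_lit 3, nat_lit 1],
  [nat_lit 14, nat_lit 0, nat_lit 6, nat_lit 1, nat_lit 14, nat_lit 3, nat_lit 10, nat_lit 1, nat_lit 5, nat_lit 10, nat_lit 1],
  [nat_lit 12, nat_lit 3, nat_lit 3, nat_lit 12, nat_lit 5, nat_lit 2, nat_lit 4, nat_lit 3, nat_lit 1],
  [nat_lit 12, nat_lit 2, nat_lit 10, nat_lit 3, nat_lit 12, nat_lit 1, nat_lit 10, nat_lit 3, nat_lit 10, nat_lit 2, nat_lit 0],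
  [nat_lit 2, nat_lit 14, nat_lit 12, nat_lit 6, nat_lit 14, nat_lit 2, nat_lit 14, nat_lit 12, nat_lit 6, nat_lit 14, nat_lit 2, nat_lit 14, nat_lit 12, nat_lit 6, nat_lit 14],
  [nat_lit 2, nat_lit 14, nat_lit 12, nat_lit 7, nat_lit 14, nat_lit 2, nat_lit 14, nat_lit 12, nat_lit 7, nat_lit 14, nat_lit 2, nat_lit 14, nat_lit 12, nat_lit 7, nat_lit 14],
  [nat_lit 2, nat_lit 14, nat_lit 12, nat_lit 14, nat_lit 4, nat_lit 2, nat_lit 14, nat_lit 12, nat_lit 14, nat_lit 4, nat_lit 2, nat_lit 14, nat_lit 12, nat_lit 14, nat_lit 4],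
  [nat_lit 2, nat_lit 14, nat_lit 12, nat_lit 14, nat_lit 5, nat_lit 2, nat_lit 14, nat_lit 12, nat_lit 14, nat_lit 5, nat_lit 2, nat_lit 14, nat_lit 12, nat_lit 14, nat_lit 5],
  [nat_lit 2, nat_lit 14, nat_lit 12, nat_lit 14, nat_lit 6, nat_lit 2, nat_lit 14, nat_lit 12, nat_lit 14, nat_lit 6, nat_lit 2, nat_lit 14, nat_lit 12, nat_lit 14, nat_lit 6],
  [nat_lit 2, nat_lit 14, nat_lit 12, nat_lit 14, nat_lit 7, nat_lit 2, nat_lit 14, nat_lit 12, nat_lit 14, nat_lit 7, nat_lit 2, nat_lit 14, nat_lit 12, nat_lit 14, nat_lit 7],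
  [nat_lit 2, nat_lit 12, nat_lit 14, nat_lit 4, nat_lit 14, nat_lit 2, nat_lit 12, nat_lit 14, nat_lit 4, nat_lit 14, nat_lit 2, nat_lit 12, nat_lit 14, nat_lit 4, nat_lit 14],
  [nat_lit 2, nat_lit 12, nat_lit 14, nat_lit 5, nat_lit 14, nat_lit 2, nat_lit 12, nat_lit 14, nat_lit 5, nat_lit 14, nat_lit 2, nat_lit 12, nat_lit 14, nat_lit 5, nat_lit 14],
  [nat_lit 2, nat_lit 12, nat_lit 14, nat_lit 6, nat_lit 14, nat_lit 2, nat_lit 12, nat_lit 14, nat_lit 6, nat_lit 14, nat_lit 2, nat_lit 12, nat_lit 14, nat_lit 6, nat_lit 14],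
  [nat_lit 2, nat_lit 12, nat_lit 14, nat_lit 7, nat_lit 14, nat_lit 2, nat_lit 12, nat_lit 14, nat_lit 7, nat_lit 14, nat_lit 2, nat_lit 12, nat_lit 14, nat_lit 7, nat_lit 14],
  [nat_lit 4, nat_lit 14, nat_lit 12, nat_lit 4, nat_lit 14, nat_lit 12, nat_lit 4, nat_lit 14, nat_lit 12, nat_lit 4, nat_lit 14, nat_lit 12, nat_lit 4, nat_lit 14, nat_lit 12, nat_lit 4, nat_lit 14, nat_lit 12, nat_lit 4, nat_lit 14, nat_lit 12],
  [nat_lit 4, nat_lit 12, nat_lit 14, nat_lit 4, nat_lit 12, nat_lit 14, nat_lit 4, nat_lit 12, nat_lit 14, nat_lit 4, nat_lit 12, nat_lit 14, nat_lit 4, nat_lit 12, nat_lit 14, nat_lit 4, nat_lit 12, nat_lit 14, nat_lit 4, nat_lit 12, nat_lit 14],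
  [nat_lit 6, nat_lit 14, nat_lit 12, nat_lit 6, nat_lit 14, nat_lit 12, nat_lit 6, nat_lit 14, nat_lit 12, nat_lit 6, nat_lit 14, nat_lit 12, nat_lit 6, nat_lit 14, nat_lit 12, nat_lit 6, nat_lit 14, nat_lit 12, nat_lit 6, nat_lit 14, nat_lit 12],
  [nat_lit 6, nat_lit 12, nat_lit 14, nat_lit 6, nat_lit 12, nat_lit 14, nat_lit 6, nat_lit 12, nat_lit 14, nat_lit 6, nat_lit 12, nat_lit 14, nat_lit 6, nat_lit 12, nat_lit 14, nat_lit 6, nat_lit 12, nat_lit 14, nat_lit 6, nat_lit 12, nat_lit 14],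
  [nat_lit 0, nat_lit 4, nat_lit 14, nat_lit 12, nat_lit 0, nat_lit 4, nat_lit 14, nat_lit 12, nat_lit 0, nat_lit 4, nat_lit 14, nat_lit 12, nat_lit 0, nat_lit 4, nat_lit 14, nat_lit 12, nat_lit 0, nat_lit 4, nat_lit 14, nat_lit 12, nat_lit 0, nat_lit 4, nat_lit 14, nat_lit 12, nat_lit 0, nat_lit 4, nat_lit 14, nat_lit 12],
  [nat_lit 0, nat_lit 4, nat_lit 12, nat_lit 14, nat_lit 0, nat_lit 4, nat_lit 12, nat_lit 14, nat_lit 0, nat_lit 4, nat_lit 12, nat_lit 14, nat_lit 0, nat_lit 4, nat_lit 12, nat_lit 14, nat_lit 0, nat_lit 4, nat_lit 12, nat_lit 14, nat_lit 0, nat_lit 4, nat_lit 12, nat_lit 14, nat_lit 0, nat_lit 4, nat_lit 12, nat_lit 14],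
  [nat_lit 0, nat_lit 5, nat_lit 14, nat_lit 12, nat_lit 0, nat_lit 5, nat_lit 14, nat_lit 12, nat_lit 0, nat_lit 5, nat_lit 14, nat_lit 12, nat_lit 0, nat_lit 5, nat_lit 14, nat_lit 12, nat_lit 0, nat_lit 5, nat_lit 14, nat_lit 12, nat_lit 0, nat_lit 5, nat_lit 14, nat_lit 12, nat_lit 0, nat_lit 5, nat_lit 14, nat_lit 12],
  [nat_lit 0, nat_lit 6, nat_lit 14, nat_lit 12, nat_lit 0, nat_lit 6, nat_lit 14, nat_lit 12, nat_lit 0, nat_lit 6, nat_lit 14, nat_lit 12, nat_lit 0, nat_lit 6, nat_lit 14, nat_lit 12, nat_lit 0, nat_lit 6, nat_lit 14, nat_lit 12, nat_lit 0, nat_lit 6, nat_lit 14, nat_lit 12, nat_lit 0, nat_lit 6, nat_lit 14, nat_lit 12],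
  [nat_lit 0, nat_lit 6, nat_lit 12, nat_lit 14, nat_lit 0, nat_lit 6, nat_lit 12, nat_lit 14, nat_lit 0, nat_lit 6, nat_lit 12, nat_lit 14, nat_lit 0, nat_lit 6, nat_lit 12, nat_lit 14, nat_lit 0, nat_lit 6, nat_lit 12, nat_lit 14, nat_lit 0, nat_lit 6, nat_lit 12, nat_lit 14, nat_lit 0, nat_lit 6, nat_lit 12, nat_lit 14],
  [nat_lit 0, nat_lit 7, nat_lit 14, nat_lit 12, nat_lit 0, nat_lit 7, nat_lit 14, nat_lit 12, nat_lit 0, nat_lit 7, nat_lit 14, nat_lit 12, nat_lit 0, nat_lit 7, nat_lit 14, nat_lit 12, nat_lit 0, nat_lit 7, nat_lit 14, nat_lit 12, nat_lit 0, nat_lit 7, nat_lit 14, nat_lit 12, nat_lit 0, nat_lit 7, nat_lit 14, nat_lit 12],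
  [nat_lit 0, nat_lit 7, nat_lit 12, nat_lit 14, nat_lit 0, nat_lit 7, nat_lit 12, nat_lit 14, nat_lit 0, nat_lit 7, nat_lit 12, nat_lit 14, nat_lit 0, nat_lit 7, nat_lit 12, nat_lit 14, nat_lit 0, nat_lit 7, nat_lit 12, nat_lit 14, nat_lit 0, nat_lit 7, nat_lit 12, nat_lit 14, nat_lit 0, nat_lit 7, nat_lit 12, nat_lit 14],
  [nat_lit 0, nat_lit 14, nat_lit 4, nat_lit 12, nat_lit 0, nat_lit 14, nat_lit 4, nat_lit 12, nat_lit 0, nat_lit 14, nat_lit 4, nat_lit 12, nat_lit 0, nat_lit 14, nat_lit 4, nat_lit 12, nat_lit 0, nat_lit 14, nat_lit 4, nat_lit 12, nat_lit 0, nat_lit 14, nat_lit 4, nat_lit 12, nat_lit 0, nat_lit 14, nat_lit 4, nat_lit 12],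
  [nat_lit 0, nat_lit 14, nat_lit 5, nat_lit 12, nat_lit 0, nat_lit 14, nat_lit 5, nat_lit 12, nat_lit 0, nat_lit 14, nat_lit 5, nat_lit 12, nat_lit 0, nat_lit 14, nat_lit 5, nat_lit 12, nat_lit 0, nat_lit 14, nat_lit 5, nat_lit 12, nat_lit 0, nat_lit 14, nat_lit 5, nat_lit 12, nat_lit 0, nat_lit 14, nat_lit 5, nat_lit 12],
  [nat_lit 0, nat_lit 14, nat_lit 6, nat_lit 12, nat_lit 0, nat_lit 14, nat_lit 6, nat_lit 12, nat_lit 0, nat_lit 14, nat_lit 6, nat_lit 12, nat_lit 0, nat_lit 14, nat_lit 6, nat_lit 12, nat_lit 0, nat_lit 14, nat_lit 6, nat_lit 12, nat_lit 0, nat_lit 14, nat_lit 6, nat_lit 12, nat_lit 0, nat_lit 14, nat_lit 6, nat_lit 12],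
  [nat_lit 0, nat_lit 14, nat_lit 7, nat_lit 12, nat_lit 0, nat_lit 14, nat_lit 7, nat_lit 12, nat_lit 0, nat_lit 14, nat_lit 7, nat_lit 12, nat_lit 0, nat_lit 14, nat_lit 7, nat_lit 12, nat_lit 0, nat_lit 14, nat_lit 7, nat_lit 12, nat_lit 0, nat_lit 14, nat_lit 7, nat_lit 12, nat_lit 0, nat_lit 14, nat_lit 7, nat_lit 12],
  [nat_lit 4, nat_lit 10, nat_lit 14, nat_lit 12, nat_lit 4, nat_lit 10, nat_lit 14, nat_lit 12, nat_lit 4, nat_lit 10, nat_lit 14, nat_lit 12, nat_lit 4, nat_lit 10, nat_lit 14, nat_lit 12, nat_lit 4, nat_lit 10, nat_lit 14, nat_lit 12, nat_lit 4, nat_lit 10, nat_lit 14, nat_lit 12, nat_lit 4, nat_lit 10, nat_lit 14, nat_lit 12],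
  [nat_lit 4, nat_lit 10, nat_lit 12, nat_lit 14, nat_lit 4, nat_lit 10, nat_lit 12, nat_lit 14, nat_lit 4, nat_lit 10, nat_lit 12, nat_lit 14, nat_lit 4, nat_lit 10, nat_lit 12, nat_lit 14, nat_lit 4, nat_lit 10, nat_lit 12, nat_lit 14, nat_lit 4, nat_lit 10, nat_lit 12, nat_lit 14, nat_lit 4, nat_lit 10, nat_lit 12, nat_lit 14],
  [nat_lit 4, nat_lit 14, nat_lit 10, nat_lit 12, nat_lit 4, nat_lit 14, nat_lit 10, nat_lit 12, nat_lit 4, nat_lit 14, nat_lit 10, nat_lit 12, nat_lit 4, nat_lit 14, nat_lit 10, nat_lit 12, nat_lit 4, nat_lit 14, nat_lit 10, nat_lit 12, nat_lit 4, nat_lit 14, nat_lit 10, nat_lit 12, nat_lit 4, nat_lit 14, nat_lit 10, nat_lit 12],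
  [nat_lit 4, nat_lit 14, nat_lit 12, nat_lit 10, nat_lit 4, nat_lit 14, nat_lit 12, nat_lit 10, nat_lit 4, nat_lit 14, nat_lit 12, nat_lit 10, nat_lit 4, nat_lit 14, nat_lit 12, nat_lit 10, nat_lit 4, nat_lit 14, nat_lit 12, nat_lit 10, nat_lit 4, nat_lit 14, nat_lit 12, nat_lit 10, nat_lit 4, nat_lit 14, nat_lit 12, nat_lit 10],
  [nat_lit 4, nat_lit 12, nat_lit 14, nat_lit 10, nat_lit 4, nat_lit 12, nat_lit 14, nat_lit 10, nat_lit 4, nat_lit 12, nat_lit 14, nat_lit 10, nat_lit 4, nat_lit 12, nat_lit 14, nat_lit 10, nat_lit 4, nat_lit 12, nat_lit 14, nat_lit 10, nat_lit 4, nat_lit 12, nat_lit 14, nat_lit 10, nat_lit 4, nat_lit 12, nat_lit 14, nat_lit 10],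
  [nat_lit 6, nat_lit 10, nat_lit 14, nat_lit 12, nat_lit 6, nat_lit 10, nat_lit 14, nat_lit 12, nat_lit 6, nat_lit 10, nat_lit 14, nat_lit 12, nat_lit 6, nat_lit 10, nat_lit 14, nat_lit 12, nat_lit 6, nat_lit 10, nat_lit 14, nat_lit 12, nat_lit 6, nat_lit 10, nat_lit 14, nat_lit 12, nat_lit 6, nat_lit 10, nat_lit 14, nat_lit 12],
  [nat_lit 6, nat_lit 10, nat_lit 12, nat_lit 14, nat_lit 6, nat_lit 10, nat_lit 12, nat_lit 14, nat_lit 6, nat_lit 10, nat_lit 12, nat_lit 14, nat_lit 6, nat_lit 10, nat_lit 12, nat_lit 14, nat_lit 6, nat_lit 10, nat_lit 12, nat_lit 14, nat_lit 6, nat_lit 10, nat_lit 12, nat_lit 14, nat_lit 6, nat_lit 10, nat_lit 12, nat_lit 14],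
  [nat_lit 6, nat_lit 14, nat_lit 10, nat_lit 12, nat_lit 6, nat_lit 14, nat_lit 10, nat_lit 12, nat_lit 6, nat_lit 14, nat_lit 10, nat_lit 12, nat_lit 6, nat_lit 14, nat_lit 10, nat_lit 12, nat_lit 6, nat_lit 14, nat_lit 10, nat_lit 12, nat_lit 6, nat_lit 14, nat_lit 10, nat_lit 12, nat_lit 6, nat_lit 14, nat_lit 10, nat_lit 12],
  [nat_lit 6, nat_lit 14, nat_lit 12, nat_lit 10, nat_lit 6, nat_lit 14, nat_lit 12, nat_lit 10, nat_lit 6, nat_lit 14, nat_lit 12, nat_lit 10, nat_lit 6, nat_lit 14, nat_lit 12, nat_lit 10, nat_lit 6, nat_lit 14, nat_lit 12, nat_lit 10, nat_lit 6, nat_lit 14, nat_lit 12, nat_lit 10, nat_lit 6, nat_lit 14, nat_lit 12, nat_lit 10],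
  [nat_lit 6, nat_lit 12, nat_lit 10, nat_lit 14, nat_lit 6, nat_lit 12, nat_lit 10, nat_lit 14, nat_lit 6, nat_lit 12, nat_lit 10, nat_lit 14, nat_lit 6, nat_lit 12, nat_lit 10, nat_lit 14, nat_lit 6, nat_lit 12, nat_lit 10, nat_lit 14, nat_lit 6, nat_lit 12, nat_lit 10, nat_lit 14, nat_lit 6, nat_lit 12, nat_lit 10, nat_lit 14],
  [nat_lit 6, nat_lit 12, nat_lit 14, nat_lit 10, nat_lit 6, nat_lit 12, nat_lit 14, nat_lit 10, nat_lit 6, nat_lit 12, nat_lit 14, nat_lit 10, nat_lit 6, nat_lit 12, nat_lit 14, nat_lit 10, nat_lit 6, nat_lit 12, nat_lit 14, nat_lit 10, nat_lit 6, nat_lit 12, nat_lit 14, nat_lit 10, nat_lit 6, nat_lit 12, nat_lit 14, nat_lit 10],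
  [nat_lit 4, nat_lit 14, nat_lit 10, nat_lit 14, nat_lit 12, nat_lit 4, nat_lit 14, nat_lit 10, nat_lit 14, nat_lit 12, nat_lit 4, nat_lit 14, nat_lit 10, nat_lit 14, nat_lit 12, nat_lit 4, nat_lit 14, nat_lit 10, nat_lit 14, nat_lit 12, nat_lit 4, nat_lit 14, nat_lit 10, nat_lit 14, nat_lit 12, nat_lit 4, nat_lit 14, nat_lit 10, nat_lit 14, nat_lit 12],
  [nat_lit 4, nat_lit 12, nat_lit 14, nat_lit 10, nat_lit 14, nat_lit 4, nat_lit 12, nat_lit 14, nat_lit 10, nat_lit 14, nat_lit 4, nat_lit 12, nat_lit 14, nat_lit 10, nat_lit 14, nat_lit 4, nat_lit 12, nat_lit 14, nat_lit 10, nat_lit 14, nat_lit 4, nat_lit 12, nat_lit 14, nat_lit 10, nat_lit 14, nat_lit 4, nat_lit 12, nat_lit 14, nat_lit 10, nat_lit 14]]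
noncomputable def RF : List (List ℕ) := [[nat_lit 0, nat_lit 1],
  [nat_lit 1, nat_lit 0],
  [nat_lit 2, nat_lit 3],
  [nat_lit 3, nat_lit 2],
  [nat_lit 4, nat_lit 5],
  [nat_lit 5, nat_lit 4],
  [nat_lit 6, nat_lit 7],
  [nat_lit 7, nat_lit 6],
  [nat_lit 8, nat_lit 9],
  [nat_lit 9, nat_lit 8],
  [nat_lit 10, nat_lit 10],
  [nat_lit 11, nat_lit 11],
  [nat_lit 0, nat_lit 0, nat_lit 0, nat_lit 0],
  [nat_lit 2, nat_lit 2, nat_lit 2, nat_lit 2],
  [nat_lit 2, nat_lit 6, nat_lit 2, nat_lit 6],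
  [nat_lit 4, nat_lit 4, nat_lit 4, nat_lit 4],
  [nat_lit 6, nat_lit 6, nat_lit 6, nat_lit 6],
  [nat_lit 0, nat_lit 0, nat_lit 6, nat_lit 0, nat_lit 0, nat_lit 7],
  [nat_lit 0, nat_lit 2, nat_lit 4, nat_lit 1, nat_lit 2, nat_lit 4],
  [nat_lit 0, nat_lit 2, nat_lit 7, nat_lit 2, nat_lit 0, nat_lit 6],
  [nat_lit 0, nat_lit 3, nat_lit 6, nat_lit 3, nat_lit 0, nat_lit 7],
  [nat_lit 0, nat_lit 6, nat_lit 6, nat_lit 1, nat_lit 6, nat_lit 6],
  [nat_lit 2, nat_lit 2, nat_lit 4, nat_lit 2, nat_lit 2, nat_lit 5],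
  [nat_lit 2, nat_lit 4, nat_lit 2, nat_lit 6, nat_lit 6, nat_lit 4],
  [nat_lit 2, nat_lit 5, nat_lit 2, nat_lit 5, nat_lit 6, nat_lit 6],
  [nat_lit 4, nat_lit 4, nat_lit 6, nat_lit 4, nat_lit 4, nat_lit 7],
  [nat_lit 0, nat_lit 0, nat_lit 2, nat_lit 0, nat_lit 0, nat_lit 7, nat_lit 2, nat_lit 7],
  [nat_lit 0, nat_lit 0, nat_lit 2, nat_lit 0, nat_lit 3, nat_lit 4, nat_lit 1, nat_lit 5],
  [nat_lit 0, nat_lit 0, nat_lit 2, nat_lit 0, nat_lit 4, nat_lit 2, nat_lit 1, nat_lit 4],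
  [nat_lit 0, nat_lit 0, nat_lit 2, nat_lit 0, nat_lit 6, nat_lit 1, nat_lit 6, nat_lit 3],
  [nat_lit 0, nat_lit 0, nat_lit 2, nat_lit 0, nat_lit 7, nat_lit 1, nat_lit 2, nat_lit 6],
  [nat_lit 0, nat_lit 0, nat_lit 2, nat_lit 1, nat_lit 3, nat_lit 4, nat_lit 0, nat_lit 5],
  [nat_lit 0, nat_lit 0, nat_lit 2, nat_lit 1, nat_lit 4, nat_lit 2, nat_lit 0, nat_lit 4],
  [nat_lit 0, nat_lit 0, nat_lit 2, nat_lit 1, nat_lit 7, nat_lit 0, nat_lit 7, nat_lit 3],
  [nat_lit 0, nat_lit 0, nat_lit 2, nat_lit 2, nat_lit 0, nat_lit 0, nat_lit 3, nat_lit 3],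
  [nat_lit 0, nat_lit 0, nat_lit 2, nat_lit 2, nat_lit 1, nat_lit 1, nat_lit 2, nat_lit 2],
  [nat_lit 0, nat_lit 0, nat_lit 2, nat_lit 2, nat_lit 4, nat_lit 6, nat_lit 5, nat_lit 6],
  [nat_lit 0, nat_lit 0, nat_lit 2, nat_lit 2, nat_lit 7, nat_lit 4, nat_lit 7, nat_lit 5],
  [nat_lit 0, nat_lit 0, nat_lit 2, nat_lit 4, nat_lit 3, nat_lit 7, nat_lit 4, nat_lit 6],
  [nat_lit 0, nat_lit 0, nat_lit 2, nat_lit 4, nat_lit 7, nat_lit 2, nat_lit 4, nat_lit 7],
  [nat_lit 0, nat_lit 0, nat_lit 2, nat_lit 5, nat_lit 0, nat_lit 0, nat_lit 4, nat_lit 3],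
  [nat_lit 0, nat_lit 0, nat_lit 2, nat_lit 5, nat_lit 3, nat_lit 6, nat_lit 5, nat_lit 7],
  [nat_lit 0, nat_lit 0, nat_lit 2, nat_lit 5, nat_lit 7, nat_lit 4, nat_lit 7, nat_lit 2],
  [nat_lit 0, nat_lit 0, nat_lit 2, nat_lit 6, nat_lit 0, nat_lit 6, nat_lit 1, nat_lit 3],
  [nat_lit 0, nat_lit 0, nat_lit 2, nat_lit 6, nat_lit 5, nat_lit 2, nat_lit 6, nat_lit 5],
  [nat_lit 0, nat_lit 0, nat_lit 3, nat_lit 0, nat_lit 0, nat_lit 6, nat_lit 3, nat_lit 6],
  [nat_lit 0, nat_lit 0, nat_lit 3, nat_lit 0, nat_lit 2, nat_lit 5, nat_lit 0, nat_lit 4],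
  [nat_lit 0, nat_lit 0, nat_lit 3, nat_lit 0, nat_lit 6, nat_lit 1, nat_lit 6, nat_lit 2],
  [nat_lit 0, nat_lit 0, nat_lit 3, nat_lit 1, nat_lit 2, nat_lit 5, nat_lit 1, nat_lit 4],
  [nat_lit 0, nat_lit 0, nat_lit 3, nat_lit 1, nat_lit 6, nat_lit 0, nat_lit 3, nat_lit 7],
  [nat_lit 0, nat_lit 0, nat_lit 3, nat_lit 4, nat_lit 0, nat_lit 0, nat_lit 5, nat_lit 2],
  [nat_lit 0, nat_lit 0, nat_lit 3, nat_lit 4, nat_lit 6, nat_lit 5, nat_lit 2, nat_lit 7],
  [nat_lit 0, nat_lit 0, nat_lit 3, nat_lit 5, nat_lit 0, nat_lit 0, nat_lit 4, nat_lit 2],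
  [nat_lit 0, nat_lit 0, nat_lit 3, nat_lit 5, nat_lit 6, nat_lit 3, nat_lit 5, nat_lit 6],
  [nat_lit 0, nat_lit 0, nat_lit 3, nat_lit 5, nat_lit 7, nat_lit 3, nat_lit 5, nat_lit 7],
  [nat_lit 0, nat_lit 0, nat_lit 3, nat_lit 6, nat_lit 5, nat_lit 7, nat_lit 2, nat_lit 5],
  [nat_lit 0, nat_lit 0, nat_lit 3, nat_lit 7, nat_lit 4, nat_lit 3, nat_lit 7, nat_lit 4],
  [nat_lit 0, nat_lit 0, nat_lit 4, nat_lit 0, nat_lit 6, nat_lit 1, nat_lit 6, nat_lit 5],
  [nat_lit 0, nat_lit 0, nat_lit 4, nat_lit 1, nat_lit 7, nat_lit 0, nat_lit 7, nat_lit 5],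
  [nat_lit 0, nat_lit 0, nat_lit 4, nat_lit 4, nat_lit 0, nat_lit 0, nat_lit 5, nat_lit 5],
  [nat_lit 0, nat_lit 0, nat_lit 4, nat_lit 6, nat_lit 0, nat_lit 6, nat_lit 1, nat_lit 5],
  [nat_lit 0, nat_lit 0, nat_lit 4, nat_lit 6, nat_lit 3, nat_lit 4, nat_lit 6, nat_lit 3],
  [nat_lit 0, nat_lit 0, nat_lit 4, nat_lit 7, nat_lit 1, nat_lit 7, nat_lit 0, nat_lit 5],
  [nat_lit 0, nat_lit 0, nat_lit 4, nat_lit 7, nat_lit 2, nat_lit 2, nat_lit 5, nat_lit 7],
  [nat_lit 0, nat_lit 0, nat_lit 5, nat_lit 1, nat_lit 7, nat_lit 0, nat_lit 7, nat_lit 4],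
  [nat_lit 0, nat_lit 0, nat_lit 5, nat_lit 2, nat_lit 2, nat_lit 6, nat_lit 4, nat_lit 6],
  [nat_lit 0, nat_lit 0, nat_lit 5, nat_lit 2, nat_lit 6, nat_lit 3, nat_lit 4, nat_lit 7],
  [nat_lit 0, nat_lit 0, nat_lit 5, nat_lit 3, nat_lit 7, nat_lit 5, nat_lit 6, nat_lit 2],
  [nat_lit 0, nat_lit 0, nat_lit 5, nat_lit 6, nat_lit 0, nat_lit 6, nat_lit 1, nat_lit 4],
  [nat_lit 0, nat_lit 0, nat_lit 5, nat_lit 6, nat_lit 4, nat_lit 6, nat_lit 3, nat_lit 3],
  [nat_lit 0, nat_lit 0, nat_lit 6, nat_lit 3, nat_lit 4, nat_lit 2, nat_lit 7, nat_lit 4],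
  [nat_lit 0, nat_lit 0, nat_lit 6, nat_lit 3, nat_lit 5, nat_lit 7, nat_lit 4, nat_lit 2],
  [nat_lit 0, nat_lit 0, nat_lit 6, nat_lit 4, nat_lit 2, nat_lit 7, nat_lit 3, nat_lit 5],
  [nat_lit 0, nat_lit 0, nat_lit 7, nat_lit 4, nat_lit 7, nat_lit 3, nat_lit 3, nat_lit 5],
  [nat_lit 0, nat_lit 0, nat_lit 7, nat_lit 5, nat_lit 3, nat_lit 7, nat_lit 5, nat_lit 3],
  [nat_lit 0, nat_lit 2, nat_lit 0, nat_lit 2, nat_lit 0, nat_lit 3, nat_lit 0, nat_lit 3],
  [nat_lit 0, nat_lit 2, nat_lit 0, nat_lit 3, nat_lit 1, nat_lit 5, nat_lit 1, nat_lit 4],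
  [nat_lit 0, nat_lit 2, nat_lit 0, nat_lit 4, nat_lit 0, nat_lit 5, nat_lit 1, nat_lit 3],
  [nat_lit 0, nat_lit 2, nat_lit 0, nat_lit 5, nat_lit 1, nat_lit 2, nat_lit 1, nat_lit 5],
  [nat_lit 0, nat_lit 2, nat_lit 0, nat_lit 7, nat_lit 0, nat_lit 2, nat_lit 0, nat_lit 7],
  [nat_lit 0, nat_lit 2, nat_lit 1, nat_lit 2, nat_lit 0, nat_lit 3, nat_lit 1, nat_lit 3],
  [nat_lit 0, nat_lit 2, nat_lit 1, nat_lit 4, nat_lit 0, nat_lit 5, nat_lit 0, nat_lit 3],
  [nat_lit 0, nat_lit 2, nat_lit 1, nat_lit 5, nat_lit 1, nat_lit 2, nat_lit 0, nat_lit 5],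
  [nat_lit 0, nat_lit 2, nat_lit 2, nat_lit 0, nat_lit 2, nat_lit 2, nat_lit 6, nat_lit 6],
  [nat_lit 0, nat_lit 2, nat_lit 2, nat_lit 0, nat_lit 3, nat_lit 5, nat_lit 2, nat_lit 5],
  [nat_lit 0, nat_lit 2, nat_lit 2, nat_lit 0, nat_lit 4, nat_lit 2, nat_lit 4, nat_lit 3],
  [nat_lit 0, nat_lit 2, nat_lit 2, nat_lit 0, nat_lit 6, nat_lit 3, nat_lit 7, nat_lit 2],
  [nat_lit 0, nat_lit 2, nat_lit 2, nat_lit 1, nat_lit 4, nat_lit 6, nat_lit 5, nat_lit 7],
  [nat_lit 0, nat_lit 2, nat_lit 2, nat_lit 5, nat_lit 7, nat_lit 4, nat_lit 1, nat_lit 6],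
  [nat_lit 0, nat_lit 2, nat_lit 2, nat_lit 7, nat_lit 7, nat_lit 0, nat_lit 3, nat_lit 3],
  [nat_lit 0, nat_lit 2, nat_lit 4, nat_lit 7, nat_lit 1, nat_lit 5, nat_lit 7, nat_lit 2],
  [nat_lit 0, nat_lit 2, nat_lit 5, nat_lit 0, nat_lit 3, nat_lit 7, nat_lit 5, nat_lit 6],
  [nat_lit 0, nat_lit 2, nat_lit 5, nat_lit 0, nat_lit 6, nat_lit 4, nat_lit 3, nat_lit 7],
  [nat_lit 0, nat_lit 2, nat_lit 5, nat_lit 1, nat_lit 2, nat_lit 6, nat_lit 6, nat_lit 5],
  [nat_lit 0, nat_lit 2, nat_lit 5, nat_lit 1, nat_lit 4, nat_lit 7, nat_lit 2, nat_lit 7],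
  [nat_lit 0, nat_lit 2, nat_lit 5, nat_lit 2, nat_lit 4, nat_lit 1, nat_lit 5, nat_lit 5],
  [nat_lit 0, nat_lit 2, nat_lit 5, nat_lit 3, nat_lit 7, nat_lit 5, nat_lit 1, nat_lit 7],
  [nat_lit 0, nat_lit 2, nat_lit 5, nat_lit 6, nat_lit 0, nat_lit 6, nat_lit 4, nat_lit 3],
  [nat_lit 0, nat_lit 2, nat_lit 5, nat_lit 6, nat_lit 1, nat_lit 4, nat_lit 7, nat_lit 2],
  [nat_lit 0, nat_lit 2, nat_lit 5, nat_lit 7, nat_lit 0, nat_lit 3, nat_lit 7, nat_lit 5],
  [nat_lit 0, nat_lit 2, nat_lit 6, nat_lit 3, nat_lit 0, nat_lit 4, nat_lit 7, nat_lit 5],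
  [nat_lit 0, nat_lit 2, nat_lit 6, nat_lit 3, nat_lit 1, nat_lit 6, nat_lit 2, nat_lit 2],
  [nat_lit 0, nat_lit 2, nat_lit 6, nat_lit 4, nat_lit 1, nat_lit 5, nat_lit 2, nat_lit 7],
  [nat_lit 0, nat_lit 2, nat_lit 6, nat_lit 5, nat_lit 0, nat_lit 6, nat_lit 4, nat_lit 2],
  [nat_lit 0, nat_lit 2, nat_lit 7, nat_lit 5, nat_lit 0, nat_lit 2, nat_lit 7, nat_lit 5],
  [nat_lit 0, nat_lit 2, nat_lit 7, nat_lit 5, nat_lit 1, nat_lit 4, nat_lit 6, nat_lit 3],
  [nat_lit 0, nat_lit 2, nat_lit 7, nat_lit 5, nat_lit 3, nat_lit 5, nat_lit 0, nat_lit 7],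
  [nat_lit 0, nat_lit 3, nat_lit 0, nat_lit 5, nat_lit 1, nat_lit 4, nat_lit 1, nat_lit 2],
  [nat_lit 0, nat_lit 3, nat_lit 3, nat_lit 0, nat_lit 3, nat_lit 3, nat_lit 6, nat_lit 6],
  [nat_lit 0, nat_lit 3, nat_lit 3, nat_lit 0, nat_lit 7, nat_lit 2, nat_lit 6, nat_lit 3],
  [nat_lit 0, nat_lit 3, nat_lit 4, nat_lit 0, nat_lit 3, nat_lit 4, nat_lit 6, nat_lit 6],
  [nat_lit 0, nat_lit 3, nat_lit 4, nat_lit 0, nat_lit 4, nat_lit 2, nat_lit 4, nat_lit 4],
  [nat_lit 0, nat_lit 3, nat_lit 4, nat_lit 3, nat_lit 4, nat_lit 7, nat_lit 0, nat_lit 6],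
  [nat_lit 0, nat_lit 3, nat_lit 4, nat_lit 6, nat_lit 0, nat_lit 5, nat_lit 2, nat_lit 6],
  [nat_lit 0, nat_lit 3, nat_lit 4, nat_lit 6, nat_lit 3, nat_lit 4, nat_lit 1, nat_lit 7],
  [nat_lit 0, nat_lit 3, nat_lit 4, nat_lit 7, nat_lit 3, nat_lit 4, nat_lit 1, nat_lit 6],
  [nat_lit 0, nat_lit 3, nat_lit 5, nat_lit 0, nat_lit 4, nat_lit 4, nat_lit 3, nat_lit 4],
  [nat_lit 0, nat_lit 3, nat_lit 5, nat_lit 0, nat_lit 7, nat_lit 2, nat_lit 7, nat_lit 5],
  [nat_lit 0, nat_lit 3, nat_lit 5, nat_lit 1, nat_lit 2, nat_lit 7, nat_lit 5, nat_lit 7],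
  [nat_lit 0, nat_lit 3, nat_lit 5, nat_lit 6, nat_lit 1, nat_lit 7, nat_lit 4, nat_lit 2],
  [nat_lit 0, nat_lit 3, nat_lit 5, nat_lit 7, nat_lit 0, nat_lit 4, nat_lit 2, nat_lit 6],
  [nat_lit 0, nat_lit 3, nat_lit 6, nat_lit 5, nat_lit 1, nat_lit 3, nat_lit 7, nat_lit 5],
  [nat_lit 0, nat_lit 3, nat_lit 7, nat_lit 4, nat_lit 0, nat_lit 5, nat_lit 6, nat_lit 2],
  [nat_lit 0, nat_lit 4, nat_lit 2, nat_lit 7, nat_lit 0, nat_lit 4, nat_lit 2, nat_lit 7],
  [nat_lit 0, nat_lit 4, nat_lit 3, nat_lit 0, nat_lit 6, nat_lit 4, nat_lit 3, nat_lit 6],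
  [nat_lit 0, nat_lit 4, nat_lit 3, nat_lit 6, nat_lit 0, nat_lit 7, nat_lit 4, nat_lit 3],
  [nat_lit 0, nat_lit 4, nat_lit 4, nat_lit 1, nat_lit 3, nat_lit 5, nat_lit 3, nat_lit 4],
  [nat_lit 0, nat_lit 4, nat_lit 4, nat_lit 1, nat_lit 4, nat_lit 4, nat_lit 7, nat_lit 7],
  [nat_lit 0, nat_lit 4, nat_lit 4, nat_lit 1, nat_lit 5, nat_lit 3, nat_lit 4, nat_lit 3],
  [nat_lit 0, nat_lit 4, nat_lit 6, nat_lit 2, nat_lit 0, nat_lit 7, nat_lit 2, nat_lit 5],
  [nat_lit 0, nat_lit 4, nat_lit 6, nat_lit 6, nat_lit 5, nat_lit 6, nat_lit 0, nat_lit 7],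
  [nat_lit 0, nat_lit 5, nat_lit 7, nat_lit 4, nat_lit 0, nat_lit 7, nat_lit 2, nat_lit 2],
  [nat_lit 0, nat_lit 6, nat_lit 0, nat_lit 7, nat_lit 5, nat_lit 6, nat_lit 6, nat_lit 4],
  [nat_lit 2, nat_lit 4, nat_lit 4, nat_lit 7, nat_lit 2, nat_lit 7, nat_lit 5, nat_lit 5],
  [nat_lit 0, nat_lit 0, nat_lit 6, nat_lit 4, nat_lit 6, nat_lit 4, nat_lit 3, nat_lit 5, nat_lit 5, nat_lit 3],
  [nat_lit 0, nat_lit 3, nat_lit 8, nat_lit 8, nat_lit 5, nat_lit 6],
  [nat_lit 0, nat_lit 8, nat_lit 1, nat_lit 4, nat_lit 4, nat_lit 9],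
  [nat_lit 0, nat_lit 8, nat_lit 1, nat_lit 6, nat_lit 9, nat_lit 6],
  [nat_lit 0, nat_lit 2, nat_lit 4, nat_lit 8, nat_lit 5, nat_lit 2, nat_lit 8],
  [nat_lit 0, nat_lit 2, nat_lit 5, nat_lit 9, nat_lit 3, nat_lit 5, nat_lit 9],
  [nat_lit 8, nat_lit 3, nat_lit 3, nat_lit 9, nat_lit 5, nat_lit 5, nat_lit 3, nat_lit 3],
  [nat_lit 8, nat_lit 2, nat_lit 6, nat_lit 3, nat_lit 9, nat_lit 4, nat_lit 7, nat_lit 5],
  [nat_lit 8, nat_lit 4, nat_lit 3, nat_lit 9, nat_lit 6, nat_lit 2, nat_lit 0, nat_lit 3, nat_lit 1],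
  [nat_lit 8, nat_lit 2, nat_lit 8, nat_lit 4, nat_lit 9, nat_lit 3, nat_lit 9, nat_lit 1, nat_lit 5, nat_lit 1],
  [nat_lit 8, nat_lit 2, nat_lit 8, nat_lit 0, nat_lit 9, nat_lit 3, nat_lit 9, nat_lit 6, nat_lit 5, nat_lit 3, nat_lit 1],
  [nat_lit 8, nat_lit 8, nat_lit 8, nat_lit 8],
  [nat_lit 0, nat_lit 0, nat_lit 10, nat_lit 4, nat_lit 4, nat_lit 10],
  [nat_lit 0, nat_lit 6, nat_lit 8, nat_lit 7, nat_lit 1, nat_lit 9],
  [nat_lit 2, nat_lit 4, nat_lit 6, nat_lit 10, nat_lit 4, nat_lit 10],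
  [nat_lit 4, nat_lit 4, nat_lit 6, nat_lit 9, nat_lit 6, nat_lit 8],
  [nat_lit 0, nat_lit 10, nat_lit 7, nat_lit 10, nat_lit 8, nat_lit 3, nat_lit 8],
  [nat_lit 10, nat_lit 2, nat_lit 10, nat_lit 8, nat_lit 4, nat_lit 8, nat_lit 2, nat_lit 1],
  [nat_lit 10, nat_lit 0, nat_lit 2, nat_lit 1, nat_lit 10, nat_lit 8, nat_lit 5, nat_lit 2, nat_lit 9],
  [nat_lit 10, nat_lit 0, nat_lit 10, nat_lit 8, nat_lit 10, nat_lit 3, nat_lit 9, nat_lit 6, nat_lit 5],
  [nat_lit 10, nat_lit 0, nat_lit 4, nat_lit 1, nat_lit 10, nat_lit 9, nat_lit 3, nat_lit 9, nat_lit 3, nat_lit 1],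
  [nat_lit 10, nat_lit 9, nat_lit 4, nat_lit 8, nat_lit 10, nat_lit 8, nat_lit 6, nat_lit 2, nat_lit 8, nat_lit 1],
  [nat_lit 0, nat_lit 11, nat_lit 7, nat_lit 11, nat_lit 4, nat_lit 2],
  [nat_lit 0, nat_lit 2, nat_lit 11, nat_lit 1, nat_lit 11, nat_lit 5, nat_lit 6],
  [nat_lit 0, nat_lit 11, nat_lit 2, nat_lit 2, nat_lit 8, nat_lit 8, nat_lit 11],
  [nat_lit 2, nat_lit 4, nat_lit 11, nat_lit 4, nat_lit 7, nat_lit 5, nat_lit 11],
  [nat_lit 11, nat_lit 4, nat_lit 3, nat_lit 11, nat_lit 4, nat_lit 1, nat_lit 2, nat_lit 1],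
  [nat_lit 11, nat_lit 8, nat_lit 11, nat_lit 5, nat_lit 9, nat_lit 4, nat_lit 9, nat_lit 1],
  [nat_lit 11, nat_lit 2, nat_lit 0, nat_lit 3, nat_lit 11, nat_lit 2, nat_lit 5, nat_lit 7],
  [nat_lit 11, nat_lit 2, nat_lit 6, nat_lit 3, nat_lit 11, nat_lit 5, nat_lit 1, nat_lit 1, nat_lit 3],
  [nat_lit 11, nat_lit 2, nat_lit 8, nat_lit 3, nat_lit 11, nat_lit 1, nat_lit 5, nat_lit 8, nat_lit 5, nat_lit 1],
  [nat_lit 11, nat_lit 2, nat_lit 11, nat_lit 3, nat_lit 11, nat_lit 9, nat_lit 1, nat_lit 9, nat_lit 5, nat_lit 1, nat_lit 1],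
  [nat_lit 11, nat_lit 3, nat_lit 3, nat_lit 11, nat_lit 5, nat_lit 2, nat_lit 4, nat_lit 3, nat_lit 1],
  [nat_lit 11, nat_lit 10, nat_lit 11, nat_lit 10, nat_lit 11, nat_lit 10, nat_lit 11, nat_lit 10, nat_lit 11, nat_lit 10, nat_lit 11, nat_lit 10, nat_lit 11, nat_lit 10, nat_lit 11, nat_lit 10]]
noncomputable def R2 : List (List ℕ) := R1 ++ [[nat_lit 12, nat_lit 13, nat_lit 12, nat_lit 13, nat_lit 12, nat_lit 13, nat_lit 12, nat_lit 13, nat_lit 12, nat_lit 13, nat_lit 12, nat_lit 13, nat_lit 12, nat_lit 13, nat_lit 12, nat_lit 13]]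
noncomputable def UF : List (List ℕ) := [[nat_lit 0],
  [nat_lit 1],
  [nat_lit 2],
  [nat_lit 3],
  [nat_lit 4],
  [nat_lit 5],
  [nat_lit 6],
  [nat_lit 7],
  [nat_lit 8],
  [nat_lit 9],
  [nat_lit 13],
  [nat_lit 12]]
noncomputable def T1d0 : BT := (.node (.node (.leaf (nat_lit 0xc54dbd4eb5c6e95ee15ff187e27ee2a7b5ccf158e959f181f42bc608bdbab99df8299e6fb661ae0de9c0b9b9f828da8ffecafec8fec6fec3f827ed46febfda8ef826cd45febbdaacf825d544c547bd48d97fe5a0f1609a85b684e585e5a5f15af424ddbfc9d6dd67f822d1f6b655e972d56df821d953cd93ad92f820dd3fc58eb58ffea2f81fd13ee540dd41ed88f1c9ce0fe5a1f438d5f3ed82f1c3d612e5a6f41ed97dd5eff81ce94fee51dd78d1e5e168f81bb5e0ce0cc197f23ffe82f81ae939c596c201fe78fe74fe71dd76e19bfe6df24bf818ed37e93ae53bf1a4d5cacdcbc204bddbf432f19fc9c4c1c5ce06f417fe3afe37e195e835fe32fe2fe17be9c7e1c8f419b5d0f813fe28c1a2bda3e1b2b1aebdaaf812fe18e983e184d191e98cf811d1fadd5bd55ce96ff42de164f810cde7fdfffdfbe98af80ff415e952fdedfde8e961f80ef414fdd9fdd7f138fdcff80dfdc2fdbdfdb7fdb1fdadfda9f80cfd9efd99fd94fd90fd8bf80bfd7efd7afd74fd6ef14cfd63f80afd56f437f431fd49fd42fd3cfd35fd30fd2ce8bbf808e840ec60fd1efd19e892f807e83ffd0afd08f044fd00f806fcf3fceefce8fce2fcdefcdaf805fccffccafcc5fcc1fcbcf804fcaffcabfca5fc9ff058fc94f803fc87e862e85cfc7afc73fc6dfc66fc61fc5bfc55fc4efc48fc41f402fc36fc30fc2afc23fc1dfc16f800fc09fc01))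 (.leaf (nat_lit 0x92839a27eacbeac98aa39a79765e9e68729ee63e6a1ab6076a1c9605f543adeae2aba2c7ae149e2b79809a118a297986be8abdbbc573a64ab6c49a43b9c1a61b81579e19815d4bd767d233b23bb34bb053b1ab6abb53935053924f8ebb5f834563da83bd43934f8ff8e7e6fdf8e6e6fcf8e5a6eec759f8e4bee38bc883c9f8e1770787ca8fd8f8dd9b063ba647ac43903b914fa54bab5b8c538d8bb69b258722933c9b39b316d6efe4dc93838f8287bce4fe8bd46fccffd9f8be86fbaf3d6738811da902e12f9b265f219b125ef7b70a6b446b6c9f6e6b2d7b6fa36bbbaf9909d4e9bae74b405b617332e4e0af295f65bb1b9baa94d99cd8f8a196ff53be839ed7c0e4ffffd3ffd19b4c93aef89c96fa87ad9f15f89ba922a754f89a9f0fa90ba8eff897a921aba94b708f2cd742e4aa63668f28eb1a677a3388f496b2e45f875f79a505730ed735b33496e26764eb27830df4a2e2f6636d9f43db2ba2f84362a33fd3316775578aad1ca8ed578967748ef9a133db1ebb1db1236360d33edd34ed2eb8c98f86af4ff886b1134778f885ad12674b671f6f19f882b9296b76f881b92833993b95acf7acb8b0fdbcb2f47b94eb4b5cb0f1d3a49ba2837c9752ab379b4137777317e8d1b091e8d6a88bf474acf0e38493a0e8b9acfa7ee8e8b39cf47eebc763b099e4c89f238b9d731cd8cce0d57edde0d07edf4b303b36bd32f865)))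 (.node (.leaf (nat_lit 0xbd0e6771d72ff864b90ddc6eb12ab91fcd1acccb970cb709d0ba6f33b34e97479504f85fc1269b73c73bc4cef85ec925d867a8c3b4c0d510dd0f9131d12db8a6dd15dd148f149b11c093f85a7349f8596369cd07cd06c720b12098ad6772f857b87cdc7ee47f8b03a8d7b0fb8eece357e3808305b8d2c0f586e9f456bc989efeb6f0f8545348973ac0a7b700bcaef853af68ffa3ffa1ff9fff9cf852ec77ff98db67f851b476ff94c785f850c875b878bc79e4fc6ef3a2e04b5e4b5ddcf66ef5aadef44fd11bcccddee1f84de5246b2eb6e5e4c7f84cec84cca9b117f84bdc70b916c0a8ff7bf84af46fdc71e472aaed7704e8b1e489f463ed2796ea9f02f4b7f48ff449d4eac903f847ec80ef2ad0c4ccbfd4ecf846ed0cc8a3d8a4f318ff5bf845f46ae89ed49dff51ff4dff4aaee6c8f2ff46f324f843ec68d06bd86cbaf4e090f4b0dc88d111f45da6f2e48af4b6f48ef442ff13ff10dcc6e483ff0bff08e4acc0f8c0f9ec69d501f83eff01c0d3c8d4e8e3d0dfd8dbf83dfef1dcb4e4b5d8c2ccbdf83cf52be48cec8df4a0ec7de895f83bf5188e577e5dc96cf83ab1e2de98ea56f839a5e1e93dd1d5ae33ae30e189b5eebde9d99aae5a9e759e6ec17cf834adf89e9aaa62c617f833c1f7e936ade6d577d1e4d9e3a63ba238cd62d9dfe1deb200adfce175f82fae70f82e9e90d19cadf99a479dd2b5d39e99f82cd14b))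 (.leaf (nat_lit 0xfb7d33a813b5639693d083cffb56937ffb558fb477d67bd543c35fb8bf583fcb0b5a77a76f8127ba2fbb33c577c167ce5bb75bc4337e5bbf8b97879a8f9b43c63bc75bb95fcd5bc27b8bfaa46ecf46dc9abd73fa77fbfa7d96a6fa7c72db8ff487f53ff32becda7f5bde4e8172ce72a85bf297e96be433eb63e857e757e07aa52fea8abe8ec196c257e693dd3bf043df5fdc867b17fc83f756b44eb33eb836b7aa3c92d58ed446d342d2aed17ed027ff7be236cd42ccf9b6de24f9b5a623f9b496157eadf9b3960a83ed7beef9b0362e87ef57fdf9ac3e2d3eba4ab956d856d75ab64eb53eda3ed99e7352af5aa02eb1629bc2c5de16d1ab8aa99eaa73e1e5cd87f927f1fffef98d8622629c6ab049ec65d16dfe62a162ae9e391a1e6a31468d764fae5c5e897266a6459a7665d8a9b8c20e5e976253624ee5af3e945e6a5e65a68645a845a7f9704e260fe39a3dcfe5e5cefff8fff67fdbbe7af96ba2218a77de91f96abdf196b2f969723675da59bef966a1f0be6c66677688b644e5794e6b76937e87924d724cf5659e0bbe48824991d43635aa95ce526e097a587e594634f5716e1d6650768cbe5ba61f9e5476967e8b9a647a63c9eb91bcbe5f7660de206202be92a66999f27e417e426a03d9fd7598b280bad6f95599dd7e9ff954a5dc9a7292469240f95199f5b29df950c1f472c09ebc862a7213822c9a10f54ab225))))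
noncomputable def T1d1 : BT := (.node (.node (.leaf (nat_lit 0xe27ee2a7ae2ae1a6adcaaa13c54dbd4eaa2cd9a1bdc49a10f82acd67b625b217a66ff829ae4ad1769a27d97dda8ff828fecbfec9fec7fec4ed46f827fec0e28acd45f826febce2abd544f8259285a284a5cbe61ade07c547bd48b5c5e61cde05f823c9ead19cd608d1f6f822be3ee20ce196d953f821d578ade6dd3ff820b9e5c977fea3d13ef81fec38d5f3ee14aa2bf180f158e140d941ee11ba29e586f15ef81db9b99dd2e14ff81ce268c993c58ebdbbb5e0f81bd572c573f256fe83f139f81ae56dd16cfe79fe75fe72ae0dc1c1fe6ef262ed37f818bddbec32ae1bdd5ff17ff157f13ae13ba619e159e185d95df816fe3bfe38e994e152fe33fe30e97ae1cdd9cee938bdcff228f813b9a7b5a8e9b1b9adc5a9f218f812e189d98ad990f18bd9faf811d561cd62f16ee94ce963d5e7f810fe00fdfcf184ec15f80ff035fdeefde9f15bec14f80efddafdd8f419fdd0f1c2f80dfdbefdb8fdb2fdaefdaaf19ef80cfd9afd95fd91fd8cf17ef80bfd7bfd75fd6ff42dfd64f156f80aec36ec30fd4afd43fd3dfd36fd31fd2df0b5f040f808e483fd1ffd1af08cf03ff807fd0bfd09f069fd01f0f3f806fceffce9fce3fcdffcdbf0cff805fccbfcc6fcc2fcbdf0aff804fcacfca6fca0f07dfc95f087f803f061f05bfc7bfc74fc6efc67fc62fc5cfc56fc4ffc49fc42f801fc37fc31fc2bfc24fc1efc17f009f800fc02))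 (.leaf (nat_lit 0x9a8299c0eacaeac88aa29a788a47a6515a99e65569a0b56069a5a15af942b1bfdaaca2c6ad8891c97a0f998289c37a12be8eb168b997ae61bac39a5ae19b9da48204a59f820643d86fd13b8d438c53915b90b7158fae8bad4bac47ababaa7ba96bd96fc93ba647a5e6fdf8e7e6fcf8e6a6eef8e5bf86bae3f8e493bc8bbd7707f8e187be97d79b06f8dd43934f923bb133b05f8f538e53b34bb29b4c33886779578a5f74839edcdcdeef9b8287836fc8e4f893d37fc0ffda86fbf8be677557897b1276f7af0a677a5f87a11da102e12f63667328a7354362733fbb1edb4f9908d4e8dce04b70732c7b27bae7636d73437b3ea35f9cd4b0d38efff8a153caaf16d7cce4f9ffd4ffd28bb6c35396faf89c8f50976aa122f89b9b8b9f0ff89aa90aa0eea121f897bb454b405b61a31d9af86b446f6c636097267725ad1cb0ed7321bb227af97933ab6ebb2ba9237b3177328934ed2eb0c9a3295f65cb34f0aa6b2d736f67648f3d6f3cf496aae47f38bb399d058f0ea36bb34296e27b1a7b1b8f0df4a2e2f69759a7afa913f8869b73a512f8856f4a3b364b30b129f8826771b128f8813b9843947f039aec830586e9f87a9efe535bb700dba3a3a18b7b9f51db20a32a1f726b2e6ef3aae06ef5a2def873c11bdb859b9faaed7704d8b196ea9f02d0b7bf67b0ecd0a4a33a939c7333c8f2baf4d0889af2c48e6f19671fc49db50e)))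 (.node (.leaf (nat_lit 0xf8656b76d718b10df864d46db106b11ec519ccca9f0bbf08d0b49f1cbb4d9f46d0adb926f85f4778c724b2f0c125f85ed066a917cca8d515dd14ad30a92cb8a5dd10e50f9713a310c08d7349f85a6b69f859cccdcd2a8f37b90399046377b87cf857e357e380b8f7d08fd890f4b8e47eec7fb8fdc489cc8af4b2f855b6e1e4ebe0ce5748f8549723bae6b8f1bceaaf68f853ffa4ffa2ffa0ff9de477f852ff99e363b476f851ff95cf84c075f850435e435de8b0e8d1f491c078c479e8b6e8d6f48bf84eb4f0d507e498dd24f84d7317bca3c89ee484f84cd0c4b0c3d470f84bb8bfc0c0ff7cec6ff84aec63e527e8b9f4fa7ee8e8d2e471e472e8b3f4f47eebdcd7f848d4aec520e480f847e341d8a9d916e099e50cf846c2e5ecc8f32fff5cec6af845d8c7cd32ff52ff4eff4be4a7e0ccff47f33be468f843d111ec5df4d5e4fbecfc7eddd86be06cf4d0ecf5f4f67edff841ff14ff11dcc5ec60ff0cff09ecabc0fec8fff444d500f301f83ec0d8c8d9e8e2d0ded8daf2f1f83de0bae8bbd8c1ccbced2bf83ce892e493ec9ff458e894ed18f83be240a646ba0195e2f83ade9dea3fcde1f839f13cadf9b632b62fe983bdedc5e8e199b643a674a66dadd3b5f8f8347e9faa4bd59dc9f7f833f135ad92b58fd9dfe1deae3aaa37d55cd1e4d9e3b9ffb5fbe974ae70f82f9e90f82ec9d6d1d5a25e91efc57ca69ed14bf82c))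 (.leaf (nat_lit 0x2ba8fb7d5b961bb57bd56fd68b7ffb5687b4fb558bcf93d043ce5fc7237e3fb98b977f9a879b27cd2fc433bf9bc667c35bc25bbbd3586fc5135a7fa7778153c13fb85fcb97ba5bb77b5466cffaa492bd4edc73f577f48ea6fa7d6adbfa7c8ffb87fa63e85bdd6aa53bf08abe86c18ec23fdf47e02fea57e63ff35fdc73e9da7f57e4568186ce82a833eb2bec57de5bf257e786b20ffd8bf63ed936da56d74ed8be91967a8a7742b946b59e86ae6c2ffe73ee36ba4ab6d624f9b69e23f9b59615f9b47e808e0af9b38be183e2362ef9b087e35ffc3e2df9ac3ecd4ed33eb73eb84acc4ad256b356b47fdb524c5a492e636260923dc9abe61696aa92a96bede5c78ff837e5ffff8622f98d6264625f4a39321e6e31624d6a489dec69d169fe466b7e93a2955e546e96a692aed65dd7a9b7ddaf5e6762886259ca0e3e505e8c5e42bed14da34da24e26f9700fefcac5bbf1e5c8fff9fff7aa73b6d59a21f96b8ed4b23cb5f1f96a967b6a36f96975d955bd99f0f96686d06697a253da699e1f4e8da64fd641b2a196afc9eb91bc9eae6aa0ae203602da5cb65b69f2768bd64e4603d9fd6d986694926ade52f179aa899266ee589e9c9eb1f5659a0b8ab0629bc9d46235de45be446e09be87ee656a34f571761db6ada27691ddf9559e9a9ddcf9549a71765d865799f5f951ba98b9f4f95072bf9ebb85c671878dcc9981f949b1ba))))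
noncomputable def T1d2 : BT := (.node (.node (.leaf (nat_lit 0xbe489a9bae78aa8ef82b8a74be5fa6a0a679be8af82a8a75a5d0cd4fb6cecd50ae63a64cc5a9d5e0e2a8f828d6a1d29caaa4babdf827ea6c922e91d49e77f163d99ea618a673f035a639a5fd924db6b1e136a247f8249a64b6aff135aa5ef823bd91ec39b1ddec32ae58b641e9dfe5f4ec34a665ae4ed429ea85c231cdebfea7ec2eda7b963589f1ea42aa8bfe9fea40f81ee651aa59be87fe9aaa57f81de268d9e3f147be90fe95fe92aa76d548ca70f81bae44f25bd5f7d5e1f81af420aa26cdbccd51d955fe7af819f41fe5dbf41cf42df426d1abb61dfe69f25cfe61e94af817fe55fe52f245fe4ae949f816fe3efe3ce1d3b592ea0de61fd1d2d193f814e196d99cf813e203fe2bfe29e1eab60cfe21f812c9fef214f211c1c1c5bbe1ecb602b5c5a5cbe436f415fe0bfe09f411fe06fe04e97ce1e6e976fdf6fdf3e5affdefe978f80ee540f421e96df1d6f80de966fdc9fdc3fdbff172fdb3f80ce965f188f182fd9be968e971e96afd85fd7ff437f40ffd70fd69f40bfd5dfd57fd53f141fd4bfd44f809fd37e8ade117e8a7fd27fd24e4e0fd20e8a9f807e84cf071e89ef107f806e897fcfafcf4fcf0f0a3fce4f805e896f0b9f0b3fccce899e8a2e89bfcb6fcb0f061f408fca1fc9af404fc8efc88fc84f072fc7cfc75f802fc68fc63f04dfc57fc50f801fc43fc3bfc38f022fc2cfc25f800fc18fc10fc0afc03))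 (.leaf (nat_lit 0xc1aaa27cc6818a7ff946ced092d4c9646bdbf15272c0f94372bff942b990c954e1e4aab2a656826ef93dae3f826df93cced6f93ac9dce93fc6d5d13ef53bda83d2abd682caac77d69efd73d973d85bda5bd7caefbaee96f773d267d1cb06c2fbf8ebb2fc9bd487d393978ba88b7ea3b56ef36ef5e9236fc69fba9ce797a167c467b88efeaf00a303a30567c993c86fcc5bca73bd6bbc83c083beaee3a311830cab10670bb8f3ccd2d4d7a35dc3488ba4b10697a277cfa3d0ccd6dcd17b087b13ecd57cfddae073097b14ecd064f7dadea8e9b0f8e4bbd0e8a4fea4b5e52be532e4cea6e8a4efa4f9f8a6baeba0eeb4fff8a5a9027af0f4a483ce8bc24bd5df01e4f1f89dbce6a3a3f89ce4bea3cda7c1a0ddacc984f584fba0e1cee9caecb12ae0c86fcb97bfe4e5a4d89508a8cba0b18cd9950af892a51a992df891abc37931791fffc7f890b0c6c8b4a4b2d8abf493ffc59af4f48fb8d3a909b0caa8b78cd4a90bf88cbd19a12cf88ba3b7a130a11effbbf88ab8c5c0bae4b8f4acf48dffb9a2f2f489a70fb4af536ca36fac9fc744a72d84bc939e3f594b43ab2cc8dee36db370b7aa9ce3539dd736db9cdb1fc101c356d0da9355d35ad358f8779fa97fada8942fb6f0831f99f8743b98f873b0c2b085ed109b8beb2f5347f86eeb185346f86db7aff86bc112c07087aeb06ff46ca75c5f846f5b5785bc7dbc69f8655328)))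 (.node (.leaf (nat_lit 0x573fac76dca0eb66b362d514bd29b8c09b82c6e1eca8a783ec98a0bd8716e386dc7f2b655361c46ad4dff85eeb29c340cb6adf68d47ecee7b887d0bfd0eaf85cacaac118dd16e0aef85bc339d72253875389c50ed5268f5fd357f45a9ce2b121b30dd7214b749351b367f856474dd7385b799752ab63f8554f4ec100cc8097a7cc818f3c8f25b4dbc10ce381f853c37aa7759f7d8796f852eb45b5058f078b50cc95b6f1b8cfbf4cf060a92eab12d326b78aec67e320f84fd33d4388ec66e337f84ec8c1ec64e513ec5d63316b1ae515dd28ec5f5b3e6327d454eb5ecd1cbf0aff80ec59db54dd22b70e731b6364ff786f19f849b32a73326360ff739730f8489f41e50fdc78b769ff6eff6bdf4fe479c749f846df1df334c125d10df845f44bc8ed8effd482dc86ff53f844f44ac911f447f458f451cef6ecdcff42f335ff3ad87bf842ff2eff2bf31eff23dc7af841ff17ff15e504d4c3eae6e6f8c903c8c4f83fd8c7e8cdf83edd34ff04ff02d11b92e5fefaf83de12ff2edf2ead0f2e0eced1dd533dcf6f4fcf462f440fee4fee2f43cfedffeddd14cd938f83a8e4f9266d545f16eea8d9e89dddeb5f5c177cea9f167c98faeaada08ed8baa3de2adc94e6e8c9688f139d9adf833ea50ba67ea91de8fe54de979d9e7d9e5dd7df831ca0ee956c58ec5b9f830de60de499eae8ab0c9e2b5f8a686ce7ef42fb1b2963489f0))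 (.leaf (nat_lit 0x4393a78f33ac1bab9f7fcbb44390478c9bb24bb0879b8f9a63761f723b8ed34a53a63bb1df8dd77bbb948f33639fa33b5f7137775392d34b57a553b3df91d77cbb95671c93a0f7248ef97aba82b66ad362d27aa67edb7eb782b37ad976d79ac29ac1a29d629966b5ba719ecd46d8a6b4a6a29ebba25a6ac6ce629a987a9e9eb9ba7292cc2eda9eb89ea39ebce2436ac7f64b7a209ffbce242ffe2ffd17ff17fcbe169615a21e4ff723f6922d7222f9babe234ff94bf8b6cfa2beaadcc6a5961a661c9df233eb5fdf91b692c91be937dd8e25b627be2abe2c23ee23ed2bf117ef4fe23fe13fe53fe3be0a5a38463362376232ddc261a169a6ae6f928496cac5d5aec82bf49bf5d9a5d9a06a2f6a3aeda439cc6e076a304e3bed9f21c66a0565b865c76d8a5db755cd6d84e5fae601e59d620f59be59c8f9755e1255bd55cef97499d1aa17f57347f347e707fad628e5c0f96c89b58ecbf96be58d8bf28fe6b9ace19829c445ca95b03e104e13b9f9d9972bf057e4e5b46da75dd75d9a6d8055a855d9f961c1e9a5fcf96063e8360035eeffecf95f65956d839181e97af562ffeaee1bf55e6da25dd865997186b1a35ddaf95bc5e8adfbf95a6bdc61ff61edffe0f9596d946d896987f57bf55cffdeee19f5588236e17e7e937e96b16fe66bee54c98ca2c5ca808a6a7653b9aee694de97c6d199b186c4e65d8ec3e646adcfba7d))))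
noncomputable def T1d3 : BT := (.node (.node (.leaf (nat_lit 0xb288a2937a9ef13c8274f82ba28cae966299d93d8275f82ab6add541e27ff829a28d9e89cd6fdd40fecfcde1a697ce94a2c2c27de26cf8279a2d99d1a673e835d1ebc6319e77e963b1bcce268a67a26bdaabcaa3ea9f9250b654d2acdaa2ea9abdade28fe54df822a669ae52aa76de6fdd4eae5cb645c550d154ae18c59ebdf8cde2e27aa5f28236e295be44f424e243a651f81ea292c65bf423a25a9e68f81db23cdddcec3af242d659b1dfec33e9f5ec38fe8bfe87f284ec28ec20f81ad9fdaa39ec2ffe7efe7bec1ff819ec21e9f3ec2cec25c9afa61ff258fe65fe62fe5df255f817f241fe4efe4bfe46f23ef816b5e3d96cae17f815ee1dd96dc9bfc9c1d9efd1e5ba03f813dd5fe159e978d97dfe22a9fef812fe1bfe19f414f430be0bae09fe12fe0ff208fe0dc1ecba02f810e9a6e9a1fe01e99df80ff13bf41cedabe996fdeae99bfde0fddbf1d2e98ef166f80dfdcafdc4d993fdb9fdb4f165f80cfda4fd9ff40eec31f170f169fd86fd80f167fd76fd71fd6af80afd5efd58f13afd4ffd4cfd45f137f809fd32e8cef808f047e06cecdce8c7fd1be8ccfd11fd0cf103e8bff097f806fcfbfcf5d8c4fceafce5f096f805fcd5fcd0f407f05bf0a1f09afcb7fcb1f098fca7fca2fc9bf803fc8ffc89f06bfc80fc7dfc76f068f802f046fc5dfc58fc51f043f801fc3cf01bfc32fc2dfc26f018f800fc11fc0bfc04))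 (.leaf (nat_lit 0x916e92bea2dbaecec6d0f9468bdbe9529ad4d1646ac69e566ac7a63fb9ae7e85c6d6bed5f543ce71be8af542d272aa8ed1e4ed539547f939b2b2f938c9f6de9df936de98f935a7a27bd52bbd77d243c973d1cae7c2e38ef96fd867d7c307cafab3a4b8f19bca8fbe8b5593818f9aab7f67b867c4a70e8b05930397d097cf6ef56ef39fa3b4e69bba9bc677da9bc09bbc7bd47fd963cca3c87fd3a6eeb8d88d08b8d3a109e521c6ddcedfa925c928e4ebf8c077d6c3a1a4e79bbba3c7d8e9a8f8f8b977c19fced4e89cfef8b35fcd97c2db087b13f8ace3097b14f8abed18c0ade117acfced2d711facbac0f6a12c991ec0b4a905ecc38f82d6e0d2decafdc70d86fcd104b7009efedcbef89ca8f7b0fda0e1acaa84f484faa8ddb7bfb7cbcca8ab837eec7ee9ece4e311870cf893dcb0bd199530a8c69cd4b0efcbc3f891e10bc0f9a4d1e304f492f4a59fc5acb5b0cbacb2a2edf88eeb107b0bf88de0b6ed1a9131b0c594d9a8eef3b7f88be10ac0ff9cd6e302f48cb0a6dfb9ecbbb8caecb8aaeaf888ad22f8874b746779a8db578a5f887f1698bd990143895f87c4c26775677a94e397aabb94f87bbb95f87ad359b396aca08b97cbb4bba76fa9f87777b6e8839fadb894639feb2f93a0eb18a8dea75ebbaf9baef4744b4a5b63f4733b4b5f67cd10ec84b078f86abb8bf869dd246b76f8676771f866e47cb86fe3693339)))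 (.node (.leaf (nat_lit 0x5f22cc75a8daa33cab25e36ab749b906d8a4f862b92ae8c8f8619b9e8cbc8d00f85f33385f21e470d0c1e479bf3dc326dd14e464dd13deefdcafcd07d8a3d8ececc9e12bb4cdc6e5e8995b28533f5b2c5b43f459c38094e2e486cc82975fa0f3ab015361536c3777a06d4b4df8565765636f1f72b06e2f4ef855db86c472e358f85457665362d09fc871ffa8c90d63705b6d979b8f56e345f852ad029706934ce860b70ad51cb750d495beffc8ed53406b446784d77ceb78b7296b2d5f85d77beb73d4dfe368dc7ef84d5b42632bdf4fd748dc7f63356b1ed481b085c0cfb6f1cd26c10ee353c70ff1236b6e6b1df44f671c6f2af8496b6b6b34f44e8f336b41f848df15e112ec65f31be732e515ec5ec529ec63ff64ff60f35dec53ec4bf845af12f52eec5aff57ff54ec4af844ec4ced27ec57ec50c6f8f4e0f331ff3eff3bff36f32ef842f31aff27ff24ff1ff317f841e50fd49dc6f0f840eef6d09ed0f0d0f2cd20e116d534f83eec90ec8ad8a9f4aefefbd92ff83dfef4fef2f43fe85ce6e4cee2feebfee8f2e1fee6f51ddd33f83bdcd7f4d2d94bd13ee29076609e49dd44a5aa96639e4ce291ae70b9f9d997f837d1d5c573f836e6c5d98cb5d0f834765f9e48e93fd191d548a264ba4dbddee439d9dde198d1fae19cbe0cc568ea16e97ec9d6cd72bdbba64f9266a653926af42eaea7b1b2e155c551a686be28c5c2))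 (.leaf (nat_lit 0x1bb133b333b21bb0a3b50b5a53a64fa553ac27ab977d2f7e4b5c8f522f912f471b9027932792fb37379dfb301f99673a4b5b9351438d5b46438c538f438efb20639cfb193b986f236ef75ed876da76d95ed77adc4e819ecd8acc76d36ad29ea47aa58683a67972b8726e5eb76aba8eb9fa5e72c4fa576ac0ae618e82aa7886b49a6d86b376b666b5fa47a2c3fa406abfa64a321ea6c8c7fa4fe297f737ee47f6ba0e8a0a82202ffd17fcba2e9a218eca99c04fef53e38ea8a67c9aa69ac18fdd5fe996354e2cde2a83f58bf4221c3e1a96cb81b5b7dfb7eb3fff4fe5dbe13ff9a3fe37f1dbed43f89e15b9a755d745a255d8e5f05a046206a9f49df7e5baf98f9bfb8ec999b6d3e0d3ecc5b85dc7f98833e65ff3a9b74dcdf9821bf25be7b62fa63af97be630563bf97acde7b97ce1e6b5cbedfc2dee6589adc5b5fb55ed658391d4ed929eaaaa076a05d6244234d623d5d3c6279625dd8df96b91c695cc8db0e17949c341c9c1accfe4cff0c977c6a94e134e10edb3ca384e33f962a17fc5e859ff5d95d5a391be9fe8f960c5dad9c8dda0da2bf561f5748bea7584659a9981ee14f95daa37ae32f95cb585ede94e006594d5a891bdf3dcf95ad9d9d9cedda5de29f55be17563de758a6d997187ee11f95789f1f9567e9b7ea0ada99eb1a6afaa3db98bb5cf7eb06aaec1906e9c76a191b1ced1a6bbf94aa6bcf949e280b2bd))))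
noncomputable def T1d4 : BT := (.node (.node (.leaf (nat_lit 0xaa598287f82bae4a7abfeac7b6428a8bf82ab6617ac0eac6d1e3f829f42fc153fed3fed2aa73f828f42ee13bfecdfeccf43af434c1a9e56fd636d5f2f826ba80ca0ee179f825e1cf9dfad57efebafeb9f824d272de51feb6feb5f823e271da68feb2f822eaa5d548feb0feaee42cf821eaa49e497660e93acd4fd598c216fea8fea6f420bdb48a22fea0b25ff81efe9efe9dea83fe9bbe48f81dfe99fe98ea82c58cf81cea7dfe96fe93f42df81bea7cfe8ffe8cfe88dd40c9f6fe86a9b2f156cde7fe81fe7ff41afe76b5dfe547fe6ff818fe6cd971bdecfe6afe66f817fe5ee943fe56fe53fe4ff816fe47e942fe3ffe3df815ea24b9d5ee0bf814ea23bd8ed99be168fe2efe2df17fe985fe27fe25f413fe1ffe1dfe1cfe1ab5d6c96df811fe15fe13fe10add3c98ff810fe0aa9fee9cae9c4f80fe9b6fdf9fdf7fdf4ed70f80ee9b5fde5fde1fddce9c1e9bbfdd4fdd1fdcbfdc5fdc0fdbaf40dfdaffdabfda5fda0fd9cfd96f80bfd8dfd87fd81fd7cfd77f80afd6bfd65fd5ffd59fd54fd50f809fd46fd3efd38f808e8e7fd2afd28fd25eca1f807e8e6fd16fd12fd0de8f2e8ecfd05fd02fcfcfcf6fcf1fcebf406fce0fcdcfcd6fcd1fccdfcc7f804fcbefcb8fcb2fcadfca8f803fc9cfc96fc90fc8afc85fc81f802fc77fc6ffc69fc64fc5ef801fc52fc4afc44fc3dfc39fc33f800fc27fc1ffc19fc12fc0cfc05))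 (.leaf (nat_lit 0xbbdbdd4d8155f55189aadd6ef945d2adf944b5d0e65abe8ae643aa8ea67bf941d94bf53ff93da2bba662f93ca2bcae4bf54cce85ddf3a1b1f539d1e4da84f9367e9ff9359e9acef0c3826b137f0b73147b0cc52ead21c933a1099508d122dd34d4f0f8eaa90b950a9913990e9529b1268bce9fc2f8e492f49af2bb83951776de76e0a51bb6e59eea9eed7cfea0ff611f813184f8b0f9891e8530ccf3f8cb87daf8ca93d9c6f9d4f4e0fab10cd111e0c4a6e1c4c3f4cef4c877b79fc3f8bbebd89bbbf4b99fbaf8b5ebd7a3c7f4b377c6f8ac73d2c310f8ab73d1c3119b0af8a7a3d09fbff8a66bd48cd49fcbf8a593d384d9bf0ec3d5ffd6e303db05d4a498e1c4a3cae6f4aef4a9df01b70dc4d0ccd5f89b77127eeb7ee8f89ad4d7e4d2f898ebcf86dd86dff497f893ebc9bf099bc5f892ebc8a0ee90c5acbaffcdb0f7ffccffcaf49178b1992ce519f88fa4d8a8e8f88effc4e304f88debbdbf08a3b9f88cebbca8ef98c6b8b4ffc1a8fdffc0ffbef48ba0b7dd2da91af889b8d3b0e9f888ffb8e3029efab51c5b34ab1da350978da791f883d095c36a5335b31ecb53a38cb790c4dfacc1f87b8b7bf87a8b7cb914d07f9bb6d87ef486f48284daa4a0f876b386f875b100eb33cb63eb1c5f67a354f872b07cf470f86e4394733bf86d33957324f47d635eb927e0e3f46aa9109b5df8676378f8665f73b46877afcb964b2b)))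 (.node (.leaf (nat_lit 0x4f429fa987adafb24bb0a0bdc797f8627ba2cc9df8617ba1c532f860b8949715df9b236e4b6bb3aac3aee863b7b39fb19b9ef85ddf9abeffd4cff85c93a4c103b8eddaf1f85b93a3e520631a63315b275b3effb5bba8dcdeaba7ffb4d0c2aaf7a8dd5b324b60f856ab234398eba06b1baf64f855a33a2799eb9fcd0ff854f45abc84ffacffabe34cf853f459bc6cffa6ffa5f465f45facdba49fad23970ff851b759b4aaa2e7f850cd01bcafbd2bff93ff92f84fdf4bb32aff8fff8ef84edf4a9f41ff8bf84deb7ed479ff89ff87e457f84ceb7d77226b39c46bb880c6efccc9ff81ff7ff44bcafbece5ff796338f849ff77ff76eb5cff745f21f848ff72ff71eb5bc4bcf847eb56ff6fff6cf458f846eb55ff68ff65ff61c871c524ff5fe0e2e518f087ff5aff58f445ff4fed15dc78ff48f843ff45d51deca2ff43ff3ff842ff37f474ff2fff2cff28f841ff20f473ff18ff16f840eafdd506eee4f83feafcc8bfe0cce099ff07ff06e4b0ecb6ff00fefef43efef8fef6fef5fef3d907d89ef83cfeeefeecfee9e504e4c0f83bfee3e92fe4fbf4f5e137bed6babd86528a69ded09ad4b2d98ed7e18be6bef837a6c9e601f836b6c8c96cf835e164b23cdac266958e92ced1aad5e838a6dabad8dac5f832dec1e5bcca18f8319ecbe1ef9e26e19ef8309ecabdd2ae419a58a64e9a65fedca6cfb9aedecefedbb590c9acae1e))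 (.leaf (nat_lit 0x138a1f884b7a4f759780fb572f661f623f70236db3698b494f84474e633d2f9d5b3c9344f7409747fb364752f730672e5f85434d6f265b9c5725a32df729c346fb1f6b51f719fb17fae242b152af96a18a9ca2a7fa7e3a8d62894a9776949e908a7086ab7a7572646ac4aa637a6bf667726efa5d8a79f6579e55a6ac7a74964d9ac3b64c5254f650966dfa468e78f640fa3efa09b217aeaa9e3a9e32563b4e33c5fd89f0820255d851d769f1b203b9bff9b95dda59d985e279dd91f875f547f353e7f9b3861bde198aa981e622053e07adeab60c2e113e1445cd55ce1dee4600a9c765c845ed49ffc9c2f99a4ffff9994ffeb620adc39dc9c5dbc5e0c193b208b592f59df59773dc53e8f98aebfddbe0f5885fdff984ebfcdbecf58233ebf97b83f7b237f97a4ff6a238c631f976d7f54be4f97527f9b1a34ff0f9744ff84da8ce355ffafffbe62a562cc57385b0c172d60d857df5788e28c634919f9da4f96aae394a12460ff969e1a6e1a1f967ebf44e044e06f566f962ebeeae3067eaf961ebed55bd65945d89fff2a9c6fff1ffeff560358055fba1e8f95e6da75db7f95dffe97e2bf95cebe2c22f67def95bebe15dbe71955983ffe6a1ccffe5ffe3f55a6186ddfcd9e9f9586da265b8f957ffdd7e29a221d1eb765b66449e777eb456b8f952b56396918a5c6a45c27a6eb376b79dadc191f94ad6a2f94982a3b5ded14e))))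
noncomputable def T1d5 : BT := (.node (.node (.leaf (nat_lit 0x9eb97abaae4af82be136deabaeb582b6b661f82af135d2accab2ec2ff829d2cfae4ea665b5dfec2ef828feceb641ae58ec39ec33e98bfec5de0bdd709680f826c22ed9d4adcff825a9b48a228287aa59da72f824ca788a8bbe42ea71f823c279d9e3f2a5f822dd4efeb1feafc990f2a4f821964d8e64dea8c2a6cdd1aa2de93acd4ff81f9dfac97efea1aa63f29ef81ea646e949fe9cb64cf299f81d7e5de14ac1aaf27df81cfe97fe94b1aef27cf81bfe90fe8dfe89d281c27fe963f035a221a1b3dd40c9f6f819fe77fe73dd4dfe70f26cf818ce35b5f1fe6bfe67f25ef817fe5afe57fe54fe50f247f816fe43fe40ed6ef224f815c1bffe36f223f814b592ce27d625f20eae16fe2cfe2ad99be168f812fe20fe1ef15ef158fe17c573f215f811fe14fe11c1b9c193f20af810b203fe07fe05f1b6f80fe5eafdf8fdf5fdf2f1b5f80efde6fde2fdddf1c0f1baf179e198fdccfdc6fdc1fdbbf80cfdb0fdacfda6fda1fd9dfd97f18df80bfd88fd82fd7dfd78f16bf80afd66fd60fd5afd55fd51f146f809fd3ffd39f0e7f808e51bfd29fd26fd23f0e6f807fd17fd13fd0ef0f1f0ebf0aae0c9fcfdfcf7fcf2fcecf805fce1fcddfcd7fcd2fccefcc8f0bef804fcb9fcb3fcaefca9f09cf803fc97fc91fc8bfc86fc82f077f802fc70fc6afc65fc5ff052f801fc4bfc45fc3efc3afc34f027f800fc20fc1afc13fc0dfc06))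 (.leaf (nat_lit 0xc1e4f947ed54ed50cd8ca23dcaadf945add0f944f9438ec4f94296c3ddded2dcc191f93ea2bbf93d8275a2bcf93c82749dadce7ebabdf152f938ffdba2a77abf826d7ac0826ef907f903a91ab52dbd19912cc133ad1c9d2ef8eff8eed11de12fa906e104f8e9f8e8a112a10da928b925ecfaecf4dd1867cb97bfdd20e1167cf57cfbe92abd32a6e9a6ecf8d9f8d85b107b08f8d4f8d383117309f8cf47daf8cb57d9f8cacef8a3c283ceabb4879bf8c09fd6f8bfeccdecc77f02d30493d8f8bb7adff8b8f8b787d7f8b59addf8b2f8b14fd2f8ac691f7bd1f8ab911e930d9bd0f8a7a6f23fd4f8a684f8baf467d3f8a57cfef8a2cae6d6e1ecb6ecb0f89ebce0f89dffd5ecadeca8aaf1bf0a87c58bb99b12f89b77cd77c1acedd4d6e4d187cff8986fc793bbf89677c9f8938d30dcd0f3c8f89295086fcca7caaaebb8f670c5acbaf890ffc68f0c7b14e2f5a4ff950af3c4f88e9bc34fbdf88d8931e0d5f3bcf88ca90993c0b3beb2e8b0fc98c6b8b4f88affba6f0b6b13e2f3b8f9b10bf3b8f888ffb7f887ad2153b19bb3ab4f9f6baf6ed8e3cb5fcb534bb09bb2c36aab42bf2bf87df87c5b5b7b2eeb5c7b179354f879a110f878ec85ec818cbc9f16b386f876b100f875f8748b9df873db9ccd14afb5bcc1f86f4394f86e474e3395f86d4b4dc4dfd357b396f083f869ffb6af8043984b4627994b47afa97fade9274390)))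 (.node (.leaf (nat_lit 0x478ca468c3afe31e533598dbf86397a2f862cca37ba1f861dae5d8e267aa87aee5111b91438db894cf15ab97df1da734c89f7f9af85dcee2d4f38ba4f85cc382b09abb017fa3f85bc3835ba657a553ac4fabb872bc84f858b06cb90cf857b2f6e4dc539243939f23f856ec679b84638ea78fa73af855ec66ab85c78bec5af854b7a863275b3ee915ec59f853ffa76b1a6331ec64ec5ec0bdff9eaca19ee48359f851b5059b07cd01f8508efbbce54b607332e74bf84f9b51af64731be74af84e9752e50ff37ef84ddc7fff8aff88d0c2f37df84c6f26633dbf81b37fbf06b902c46bb880f84ac0afe52bff7a5b3cf377f849671fec7aff755725f372f8483b36f47bd0da8356f847ff70ff6de4def355f846ff69ff66ff62c35abf58dc95f060e0e4dafac471c524f844ff50ff4cdc7eff49f345f843dd22b30eff44ff40f337f842ff33ff30ff2dff29f320f841ff1cff19eca07efdf840c4f0ff0ff2fcf83fc8c3cf00dafef2e7d6efff05ff03d0cce899f83dfef9fef7ec8fec89fef0d8a4f2eef83cfeedfeeae4eae4c4f2e3f83be534fee0fededad0c6d4c1f37eb782b3e537c2d6e245965cb9a9f83892c9f837b60caec8f836c172a9b2ced1aad5e1db5eb886b4d964b23ca2beae44ea5be96f92c1f832f169be289ecbf831cea9a609d1c29ecaf830aeaaa6cd92cc9ed392d2d541d153f82de93bbde0f82cd1abb61d))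 (.leaf (nat_lit 0x53895387ef79ef74fb5d635e2b655361876f536cdb68ef484ba0fb3bfb395363fb38ef43ef3fdf7337716b41fb2f577b579ffb24fb224f67fb21ef2cef28df7863766b2afb18777cbeff8ab096aeeea0ee9bfa84c6856e8c968876967693a68fee6f8ec7fa62fa60a28afa5fee6aee66a69a7a989e68fa56a2a2a2c6fa4bfa49a28efa48ee53ee4f9e9fa29da651fa3f7aa39e26f9d6f9d2b9e9b1fca1e84dfb7a02c5eb81fdf9bef9bdb5eca1febdd5add3f9b8f9b795e195dc7df77df4edc9edc39de72bf057e4e1efe1e529c445cac9f9ce0136104613f9a8f9a7aa37ba2ff9a3f9a29a38a630f99e17fff99a23fef999b61f5be74bf3bec2c6dbf98f93fbf98eed9ced968e298e2b47fdf98a6606f987f9864bfcf9846204f981f98043f7f97b25ee27f6f97a4dedbe34aff5f9765a1933f9f975a9c7c61b23f8f97445cdf971660d9e08ed85ed7ff96db9aff96cfffaed7ced77a618ce3143ea67dea639f96a43f23fe6e5bce1a5e1a087f4f96793ecbfe0f9658feef96251ff999ff3edf96155d75ff157ef7612a5c565945d89f95fffeb4e33563bee1c55ce5dd9f3e9f95d63e89fe2f95c4e00ada4f3e1f95b5dd86be553e3760fadcb71955983f959ffdfb632ae3aee1a6dc865daf3ddf957ffdcf95691f076d866da7a76c692c69599b1c286ba7a76d77ad99691c269c252f94cf94bde82e655e683e63eda7bf948))))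
noncomputable def T1d6 : BT := (.node (.node (.leaf (nat_lit 0xf82bea72fed9b6458ab08288f82aea71fed7be5c9aae6e8c9e90fed6fed4c16fd282ca83f429e537fed0c990f143e942f827b1b2eabe92c2a224a1b6fec1e032d9eacdbffebde5f3b9b9d57df824a64ada52feb7d29cf823ae61ba69feb3a2a1aa8fe5aded4caa76d6acdeabf422f139e938e13de13cf820e425feaafea9f81fadcffea495d3c57cf81ec63e8a679266ae4ede95f81dce55aa509e4fa665da92d953c991d94bde8eea8af41ce53fc93efe91e936ed35f81af426c550fe84e19dbe17f819fe80fe7cc1f8f42ff818e963e155d154d968bdbbf817fe68fe63fe5ffe5bfe58f816fe51fe4cfe48fe44fe41bde0e16afe39aa1df415fe34fe31f156f813c609adf9d9efc5dad9d9f812fe26fe23b997e978a9bea9bdf811fe16e1e6b1e5d99ae199f810fe0efe0cc201fe08d57bdd7afe02fdfdcdabd9e4e9dff40ffdf0fdebfde7fde3fddef80df169fdd5fdd2fdcdfdc7f80cfdbcfdb5e973d993fda7fda2f80bfd98fd92fd8efd89fd83f80afd79fd72fd6cfd67fd61fd5bf809fd52fd4dfd47fd40fd3afd33fd2eecdce115e910f408fd21fd1cfd18fd14fd0ff806f09afd06fd03fcfefcf8f805fcedfce6e8a4d8c4fcd8fcd3f804fcc9fcc3fcbffcbafcb4f803fcaafca3fc9dfc98fc92fc8cf802fc83fc7efc78fc71fc6bf801fc60fc59fc53fc4cfc46fc3ff800fc35fc2efc28fc21fc1bfc14fc0efc07))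 (.leaf (nat_lit 0xf548e26cf946a9b18acfaadbaaa6a94f9a7f99f66ad89a646ada8a4d9285b9aef541d2819e97a696aa59c6949a93ea42f53bee3ccd45de6fdea8d54ed164aeb1e68baeafea87d6eeaef9f8fd6ef3f8f76ef5d2e6f8f1dbd57bbb6fc7f8ebd3d6a2f7dae3a3c18fcd9354938ba34c97b66fcc97c0ed07bbd3b3d4f8e19ce48bd183d2f8ddf4e597d98fda77c69bc4f8d6770383baabb8f8d1cb0573a2b0d57bb9b0d05fc5f8c7f8c6f8c5b0dbd0dadb07b7019efaf8bea90267d853d792dea0f5792cabcaa51972e094fb812db7be9d1a9bc3ab04dcd7c3b79f02ecd2a0cc9b0fc2e4f8a684b368b2a0b7f8a57cb990b898b1a2fef8a196f1e4e8ece9cf06f49e8efbc923f89ca9057ba19f0067c98bbdffd0a4a79131ad3093a3ecffecf9a8f3b0cfbf0bb70cffcf9eea8ee9dcb0f493ffce8cfadeddf891aaf4bf08a4d4f890ffcbffc86b13f88fc0f6d909f88eaaeb891fcb10acb5b2eda2ece0b6f48dffc2a0f4e2dff88ba2f2b7099cd9f88affbfffbc6314f889b8fcd908f888b2e8a91ec311ecbba4cdc8f26f194330dd2563765f718b49f882c50ed34dcb4ed10d57783f73b7a7a7b56f8d5b2c73914b43db57d350f479d345f877ace377a89fb4b77fe080a758ad245bb19b3d5bb393269b5ec8def472c35a63704b6f7332636d4b6c731bf46ccf15b4769348c381c87fb894578ad7645b88df60f865e129b786af47)))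 (.node (.leaf (nat_lit 0xb746f864b928ab3bb324f8637f16dc97d096d4afe534cd2fd92b9b80f85fe51394bc3b36671ff85ec912d4a09f2fd718dd11d475b900f85ce4629b0ed0a2b6f8f85bf461dd22cd1de0e0c333d71cd07be47af858e79e9356f857a0bdb37eb8a8c0c0f856eb4bffb2b31e53893f61f855eb4affb0ab3553872b657369ffafffadc89fd35bcb5cf454c068ffa9b4c2b474b473f852ace29397879bace79efdff9ae05dbcf0dd1bff96cd27c4aec4eaf84f9723cf2bff905f75f84e8f3ac742ff8c3b7aa768dcdfd47ddf4fd785df84f44dd46acc69dc6ee46df84be450ff83ff82f84ac901ff7dc8add904f84973175340573f77279f6ef848732ea7295328733e976bec84d4c1e47cd367db63f447e470bc6fff6ad867e066f845f451d481ff5db6f0f0cef844ff59ff55cd26f45af843e495e486e485d4ece899f842ff41ff3cff38ff34ff31f841ff2aff25ff21ff1dff1aed0cdc9bff12aef6f440ff0dff0adc87f83ec2e2ed2acd20e90be90af83dfefffefcd0c8e0a9eceff4eef83cfeefe117cd16e0cbe8caf83bfee7fee5d532fee1e4acf4abf83ab9f5d2ad8e6eaa6df839e5f49e62a64bf838a23dd603b5fec1fad966e165e97eaaa7f834e1ddd98c7e5da646f833c5dce16ebe56e23fc5dbdd44a5d0f831ec37d9f1c5ece5aff830f436ba35d571de1fde5ade43e54ae549f82de6c5a67df82cb98b9ea5bd8fc977))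 (.leaf (nat_lit 0x939f9ba0fb77fb7267aa93ae7f988799879c8f9dcb53cf5f436253922b95f7395f7cfb3797522f9337ab3f7957a5fb2d9f66638e3b94f722137bfb209b515b8f5fac4b745ba6634483a49ec6a6c7fa9efa99cad1b2d592bf9ac096c39ec49a7a9e867a899eb972bcf66072a3fa5e727972ba7ad276a092ccfa54828daab59abbf64956a2fa4796787eb6a2d3729ba6cd9a6b8ecab215ba20f9cc661af9c6661cc60df9c0dbfa57e02becf9ba93fb721e920a57e653f286b28e7b6fdb867327f137e5edd687f87ff9f9b091b383f67bf7f9ac9db48ffe87ff33eb4fe9f9a57e2a5fdf5fddf9a07a2caec859a43fde359f43eaf996f995f994c1aac1a9c22eba28a221f98dbdd153fd0ffc5e0555c441fb5bef65e8620745ca9dfc57e361e95fe8322bd1a65fdc4e29d9a1d59b8636b60bf975a18225816986f97445884d876580d625f970a618e5b7edb8aa2df56d822269f2f96b9dd48ec9ce278bee8fe2fff5d976b200b9ff9ecbedceedc875c2bd9ec632ce33fff466114610997ff562fff351c9d204f960a61baa2fdda3f95ffff0ffed363af95eb5c575d8f95d7e1245ee6237758466145613ad85f55cffe755c3d206f95a9e19ce30dda8f959ffe4ffe1623bf958bdcb75d7f9577e0f69ed9a38758a819cc9c176407e57cdf7aa9db298a270f951a5e2c274ca75c1e1769f7e9adececadca6b4a6539eb8926ac27ea277))))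
noncomputable def T1d7 : BT := (.node (.node (.leaf (nat_lit 0xea72f82bfedabe449a9b9266ea71f82afed8c65ba6a0a64fa670c63cfed5b9aee943f142f828d964fed1c1a9ea82e283a9b2f827f2bd9ac1aa23a9b5fec2dddbe19dc617febee838aeaacea99a4af824da95feb8b6b1a261f823ea92feb4b6afb66fed6eaa3d9e91e53de53cf821d545feadfeacfeabdc25f820b9b9d97dbdcff81ffea59dd291eff23ef81e7a8996889e8bde52b255f81d828d6e8c9687da69d1f6c1aac58ce936f135f81bdd44b5d0aa76fe8efe8aec26f81ad5e1fe85d9eac5bff280f819fe7dd955ec2ee563f818d9f8d5f7e167b608f268f817fe64fe60fe5cfe59f251f816fe4dfe49fe45fe42e14fe966e965f17ef814fe35d971e61fc609f813d99ce97ccdd8e1d7f226f812fe24b20cd1e6b1b8b1b7f216f811e978c177e195e994f20ef810d997d196c5bbdd75e574fe03fdfefdfae1e3f1def80efdf1fdece5affde4fddff169f80dfdd6fdd3fdcefdc8f1bcf80cfdb6f172e192fda8fda3f198f80bfd93fd8ffd8afd84f179f80afd73fd6dfd68fd62fd5cf152f809fd4efd48fd41fd3bfd34fd2ffd2be914f10ff807fd22fd1de4e0fd15fd10f09af806fd07fd04fcfffcf9f0edf805fce7f0a3e0c3fcd9fcd4f0c9f804fcc4fcc0fcbbfcb5f0aaf803fca4fc9efc99fc93fc8df083f802fc7ffc79fc72fc6cf060f801fc5afc54fc4dfc47fc40f035f800fc2ffc29fc22fc1cfc15fc0ffc08))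 (.leaf (nat_lit 0xf9479e86a1b1f946927f9aa6b2dbb1e0a6cfa9536ad7ae636ad9a64c9a84b96ff940d2dcae549e53ae589a6b8a6ab641f93ad6d6f939c68fdecec54df937769ce64e96a1e265c706a6fa66f3f8fd66f5f8f7f8f2afd5f8f19fba77c6c7d6f8eb8efbdb07a3b88fc49b4c8bb69354ab8ba3d99bdae9069bd193d294e4f8e197d38fd4ece5f8dd6fcc97c06fc79bcd9b03f8d67bbba7c1a305f8d183a4aae084fbaade94f5d532d8cbe0caf8c2f8c1dae3ad23a6f9a102f8be6fca5bbe9cd073c57309ffd8a711ccd56fb97b08ffd7af10a2edaaece0b6caea9ee9dcb0f8a7a0f3a4cfe0ac7fc268f4e2dfecab77ce7cfae6dd9bcf8ef1f8a1cceed4efceeef89d96f7bf01a905f89c8ba397d06fc893bc9f00a4ccc70bbf0c83a1ecfeecf89f0fdae49131ad30defe97b78f02bcd2f89284b98cb8a0b196f4f891992db0d3f3cbf890ffc9811fc0f6f88fe10ba6ebf88e7b13b91ac8b4ffc3a304dcd7f88ca4b3a0b2a8b786f2f88ba12ca8d8f3bff88affbda91eb8fcf889e10ae6e8f8887314dd19c0baa52aeae6671f3b36f8859f18672f8369bd0ef882cb46c347f881d324af3bbf81a75a778c376f7b90536cb780cb53f878d35fa4e3f8777f589f7fb7b4d90c77a8a48463b0a33c63b29b25a35dc09ff871afb56b2d532c7b316b4443437b1af86bc3aff86abb688fa7c87ef8685f75cf27637acf3ed929f865bc69af4e)))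 (.node (.leaf (nat_lit 0xb74db928f8649b733f78c527a87dc49bcb129ef6bd33e12ee8dc6f57dd13f85fd47c43306f19c912f85edcdf67716b76f85de470b46fdc62f85ca30dbf0ab887ec61f85be521c11cc118c87bdc7a7333731ceb9ef8589b5598bdf857bb7da916b0bfeb4bf856ffb3bb1d4b744f3feb4af855ffb1b3345b795b287b49c715ffaec8deac74ac73f853c094ffaab4dbeb5be35ca4e2f8529b968f9aace6a6fcff9be111b6f0e8ceff97c863bf83bf82db23f84fcf6eff91578adb3af84ed76bff8d3388c348dca08716d36adc6ee46df84cbc76ff86ff85ff84dc50f84bc4aecceac101f84aff7ed520bd037b17f849436253616764ab2b7b2ef8489f662b6563609742e524d0dac0bcd867e066f846e475c500df4fff67ff63ec51f845d10dff5ebcf0e51bf359f844ff56e486ec59dc95f843d526e525cee1ec98f341f842ff3dff39ff35ff32f32af841ff26ff22ff1eff1bec80dc97cc96d4aff83fff0ec0a2aef8d2e2f83ee8cdd4ade909e908f2fff83dfefdcae5d917f4e9ece8f2eff83ce0a9cca8dcc6e4c5f2e7f83bf4c8e4c7e8ece4a6f0a5e1f5f83ad9388e75aa74d1f4f8397e9a769fd5f3f14cde02bdfdd1abd16ada39b21dce7ed9ddf834d14b8657ae40d1dcf833d9ad9a98a29df832dd3fd13ee437f831e1f0cdebd9e7ec36f830c234ce31f156e54ae549de5ade43eac5f82dae7cd58bf82ca6a4c58ebde5))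 (.leaf (nat_lit 0x8b949395577c137b97a9dfad839c8b9d7f988799fb50fb45fb4057a523a0fb385f778f52fb3727ab3793478753926370fb295ba6339ffb215b729351fb2053ac638f4389638e636d73a292bb9abc6aa356a2d6d0ded4b6c3bec486bf8ec0fa77fa6cfa6792cc6ac7fa5fae9e6a79fa5e6ad27aba62ae9eb99e97fa50a6cd92c6fa48ba998e78fa4776d386b67eb0aeb5c6949ac8aa2da2215e1af9cc5e1cf9c6f9c18ffaf9c05bdf33eb63fbf9ba7a22ba2e57dd53e97fdb967376b27e7b97fe8fffe9d58bf683f789b3f9b083f87bf995b4f9ac27f137e52bec4ff2762af9a557e05fe6722cf9a096ca5a074dca5e054dc4ba01d99ae199f991f990c60a9df2ba20b5d1f98d5bef17e3359f3bea5a30fffd663861a447de422ffffc623766144613a18566114610997ff97675c2a19ed57b9be725c3da06dd7a3ff339c9e204cbf49e18f970cdbdd5bec615f96caa1ed62895d4f96b96cbc7f593ed97e1d627d99bce32d633a6c9edcdedc78e36960bb200b9ffd6255fdc4629c9a1f9614d8851876d809e1bf960a5fc91a2f3f0f95fffee3deeadc5f95ec5da7612f95d463a99e97583ffe8562bd1a6f95ba182558171869619f95aadfb99a7f3e4f959ffe269edb5cbf958d9d9760ff9576a3bd1e8758981f9d20d66466e5df954c63fce569e909de2f951ba6dc26ef950ba4bc262dea8d281ceb3ae967ab7a293baa79a7a))))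
noncomputable def T1d : List BT := [T1d0, T1d1, T1d2, T1d3, T1d4, T1d5, T1d6, T1d7]
noncomputable def T1 (k u : ℕ) : ℕ := force (Nat.shiftRight u (nat_lit 8)) fun j => Nat.land (Nat.shiftRight ((nth (BT.leaf (nat_lit 0)) T1d k).get j) (Nat.mul (Nat.land u (nat_lit 255)) (nat_lit 16))) (nat_lit 65535)
noncomputable def I1d : List ℕ := [nat_lit 0xc2870400003000c30608081040014200002010708080060434300002010000001850e0c000060018000001820000284000000300004000008686000000810000000a102840814200001420000000000600180000000c0000000000000000006800000680040010004142870818008000c080000010804080021000100042000210100000a001000e00100041420000003001c0408300006000400180000c282000c10004202060438386120038634003840014300041400210180021c1c309001c326001c3000e180021a08400061000b0014200001000b0008f803e005000800284564c002000800000005000800996004cb000824200002020052012000000000000048e28500000000a14000000000080006a00000040000000306110030611000c00000000000e0000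910001810000000100940000004800c0000600000000000000001d380000068000000030038081100000000000030000180040058016000040600006062458000700000000180000800b0000003000030312000000400000000c000040000000600001e006a0003c0001e000102a40a8a000000000000000008011364550a00000003c2401e1200484120108420008000e2c48046000004a1411b4400000000c00014007800000017080000508016040e00000080000006140000a0000000142000474000000013b002800206000090a087000e0408102006010000001000018508641170000c8268280000000180000800b0a7000c0a0008062142000475d070c001366e28002000c000043800b0f10001003038602040800004000241420c04f0d000c30138402808110100811c340092c0008d5e01713000468400000170a0080200007871600018000000000080000000000160000000000000600000060000000000000000000001800b000000800000000000000000000000000001401f3f00004808000007020408100c808000000800000000000000004000001400000000c900000000000019c2000401200020800000383720000014f4100000218200000005a000800000001020400002000126000000000000600000001404080080408000004800004000000000002540000000000000010000000810000180020400016040800200081020408100040810204001020408002000850804081020408000000010200000020400100040810204080020408102000810204001000400002040810204081020450102040810200081,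
  nat_lit 0x6002860400180060038708080040414200002010608081070c183800020100000c0051800003000c00014000000008284102000000200020018300142800000000000a10284081420000142000000003000c003000018000001800000180000060000006001400100041428c081c0080020083000010800080021008100042000210100000a001000c00100041420300343801604089000c000040c000060028206001000420207042c3071200307260030400143800414002103c0021618389001839300183800c1c0020c084030010180001420300101800008c003000000080028458780020008000000000008009120048900082420000202003a00e80000080020000001c38000000070e0000000040002800000020000000004488000448800020500140050500000001000401000038000240070020110140000a00000000014680000068000006000000680002c081142400016001800028000040c00000000000e00500002400000080000000000000801700007870028000123400026000000000000040000006000030000686060000300544800000000042c100002400000080025409080000048004580022c0048412007843254c95282c483000000300141203800580002c000000c000002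818008000050800e04181c000080000a00140000a000030000011046990c44ac11a6c00000100000900005860004081020c001000c001000c00000508340c90a107200006100c00000081800a4c1800a000830014200702528600019896a000020600000042c18000f0001060030702040860e04003001423704c000c0e7c131000008110100811631f095e0000c4c0201e000060400001800a01482000c017160138000000000000000000000016000000000000740000000000040000b0000000000e0068000080000000000000000000002800000000002070a00004801cf430002040815c00080000008000000020000000000000000342801400f80000003f14b40070004d800a28b80000000028000000000400000003b00000000000080000000102040060200d8000100000001180000000000040800004080000000f000000000300000000000000000000000000000081000c00f020400300040890200001020408100000810204000020408202000050804081020408000000010200000020400100000810204080000408102000010204001000000002040810204081020400102040810200001,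
  nat_lit 0x142430606145091424081020c18110180840a10186020c3810e180840a101850a28480000c28a12284810204183022030108142030c04187021c30108142030a140030000000020008000000800a0000a122848a121400000040000c04509000000000000001014185061830602043840e0060a12141840e0c283081c18b101058808042830c141800c141800618080000008700000801c00005060000a2034283000018b10100850600301000030104003010a18082061058808040070018080001808200180850c04103080c2101a045090a000850004509062000400106830220001003828300203800e00485020c587002c3800200084101008b082c20000000000038000000000000300000000000060c2800000000000000000006000000580000060102003000004000080000c1424080081c00100103801e2020f101008506002830000283000c00100000000e0000000380000a0c2040000005060000316202010a0c006020000602080060214301040020b10100800e00301000088104008810a1808200100040000080001400000000800000414000000d000400000006000600400000000d0a04000020000d0000001080020100006800c040190018080001818000005800800000080001102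0000000001800214180000428300000000000080000440000000000000680003c000020028008000010a0000000486000028000060000010400000054480000078900585870800001161c0000000000040400a000000200000000008000000058004080000000000000400e0000001040060602141803008002000010200080000408588000028300000801c08100000800c00000010a0cd970c04102080810000000000000000000000e0800700000000000000010000000000c3800000000266800000000000000000020c0000000000000400000000011a0000000000000000000243000000000002400008000000038240000000480002c00400000000e00000000000202000000000100002000004000080000002040000000000000000700000008200300010a0c000040010000081000400002040038000100000c00000040800e04000000000000004c98602081040408000000810004000001a0000000081020208000000010000001020c0410208081020008100040000004080020000000000000004081010400000000800000081000208104040810004080020400102000810200081000408102,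
  nat_lit 0x14241020814509142400306102031a081800a0020206103831a081800a002050a28482041028a1228480060c20406341000014004040c207063410000140040a142000000000060838000080060a0000a1228480002001100002850400000000000000000000e142050808102060c38000080000014200000028400000050e00287000c284041420604142060808005001c18d0c081860000908080000b000028400002050e00185081810f0000103001810300081850800287000c2800c0818000087800c08180040c284001000a120c0001008180100c000081c6000a0048406341000c00004161c006001848500102870c3038606181800e001850030000000000000000001c38000001400000000000000708100000000000000000000000000000002841810100000000700000000000284000000508000000000000000018508082840c082840c10100000058000180000c00c9d10100001600005000000400000000a103021e000020600002060010f160000004000054218103000010f0000103000818b000020000001800000103000018000107000000000000c00000000000800380000000900007050000600000c30000000030000000040c0000008180000000c0e002870000103000000206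1800006202000614206040c2800c000000008004040000000000000034000000000a0000400000000310043000038580000000008000000e0048000000002600000000000700000000000000040018004000004600005000000000300000000587000000b441808100003000080101021800200202003e0008102000000204080000000000004040c0800600549023404300020410300000810004b0d00008800000000000000000000000000380000018000000030c00000100000000000002830000000000004000000000018000000000000000000000001c0000000b8002000001c2c00000004040000000000000020000130040000140000000000002000000000000a00005800000280000000018000000000380001c5800c04080001800000080810c0010010100000004081000000102040000000000001400000000003878d80020000102081800004080020000000000800000480000400102000000004082020400002041030000081000408100040800204080000400000000000200081000000002041010200001020800000040800204080020400102040000004081000008002040800004081,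
  nat_lit 0x20404000000000183060810304102860018104060810304102860018100000000408080000000003060c10206082050c00302080c10206082050c0030200001020e143850610482041028800081000000000000000e08140000814000040838504083850400000001c204060c106041c28000000000400000000800000180000c0c000000000800000080400080000818210102800000780121800000000000c181000018000000020502180810400200000000002180000c00000001c2810c04082000000000000010c08600000c0000010280000c000040800600180020008205001800900241080420000060800000000000620186041818014003000034680120c39904083851000102000081600000134400280001c00000081070a081070a080000000004080c1820a0838500000000008000000010000000000000380000000010000001000001000010304003851600d2500000000000000000c182000000000000040a0400102080040000000000400000000000000385020008104000000000000020000c0600000000038226000000008100000000004001070a0050000000001400600000c1000000000000c00514085000000000080000000003000010000001800014003870000000002000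0000000000000080800000100058008040020004100002c38000000000e00000000000900040800034001021c2a40c0c0000008380000010102000080204000100400000040830000f8a0e142a302041004204300020400140000810000000020418000040810814086003c081040400002000801c0408002540810200094020400030000000010281025c9010208081020420000040810000001229c700000000000000000000000000000600782800000000100000000000000000000000000c002c00402004800200000161c00000000070000000000048002040001a000810e1449d0000000160000004400810000001020000002000080204180003861b089860102080000210001020009200040802200001020c0000204083000400f1604082021c00100040040204001000408100040010200000000001c00a00810000081040408102005000204080160008c00000000204080000008102000010204081020808102040810004081020400102040810200081020000102040000004081000008102040810404081020408002040810200081020408100040810204001020408102000810204081,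
  nat_lit 0x8182850008206081818306000030014187041c00506000030014187041c00204103050a001040c10303060c00006002830e083800a0c00006002830e0838004080000a0c2830614000001418a04000040c103040c080000a0c2060a0c2060000283000028300100080014000060c00000141840c0000900000001200004001c5800e000000010000002000000143840c00180021418a1200002000000204080000000000001c000000000010240000004000040000000000000e000001800008120000002306024e300000200002000c206041418000002060000107041c00006002831024100040000000003020000100140800a0028189000400200080000014185060c29a000028314080000818812081810000141840c141840c0000b1e000021e00200100000000000000000283000000000000000000000080038b001c000000020000004000000000081800300042831a0000000000000408100000000000003870000000002048000000890e000000000000001c38000700001024000000440800a06000004000000000000080030000000000000b0008008000c005062000000080002c000060000002000010010000001200080040010000005000000004000000d001c58000080000e00000000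0204000000042280000034400000000000281800a000000c00000005c00000000110000100001030304000840c141a3020c000000000200200000820000001840022180000e040800000000000002600000002404000002098100000083a0000002052800004081000040900000000004080020000000040800004081020000102000000e040000000000000408030000812a50080000008154000004004080000000000002000000000000000000000000000980001031e000148e040000032080000000000000002400002040000100000000004000000008000081800200042060a0c00100000000000580000800410000000c20000080000002040000000000000001f1400010020000010000800000400360000102000000204080000048000380000204001000000002040000204081000008100000070200000000000002042a200040800004000000408a000000002040000004081000008102000000004081020008102040810000081020400002040810200001020000002040800004081000000002040810004081020408000040810200001020408100000810204000020408102000010204081,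
  nat_lit 0x10240000a18409102410204142820a0038a1e0c2800414282000038a1e0c2860c204800014308122048204082850414007143c18500082850400007143c1850c18285001c007040000204000000c00008120048e1c18000002c000002c000000000700000070a18006000000004082830a00580000000300004000600000000c0000608300001800400180040a00388121410500005801400001002048f203800010240800e0c1010e10007002800102000070c0038c00000070608080080038014000810000386001c000000018812084090c00388120880e0a143030c0c605041400700287801e0010404106060414000080000404101030a0c106061818500006801a000000408000000000000000001c383000000580000068000000000000000000000000000000008100003c00d00000000600b00000c0160000180000c100000030008003002228000102400200000000028000020040900407080000001084418202000000000500020400000000001800011080c101000000000280010200000000000000000035200100000000b00001000000000060020c00080002600000000000000000000c080000800004000800200001820000000002c00000000082400006000c300060000b180000000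0020904180000e0000b001c300080001c2a00000001c00812000010010200000400408000810600002000401e2a00380000800100407010040700000008000000010610000080000200000000034081001c08234000030824000005c00c00000000000100000400000340010094001020050026000003400081020408002040810200681160808100000000064c00020400a3260001160001400040800200a0000000000044412000000000a001d00000030000003003048b040000700002000e00f8400000000000000000000900000800810000020020400040a7000010002000000034000000008000480801898000000420000000840801204000010044200001a040800004009006c184080001b2e002001020180000818002200001a0c0a000000810028000060c000000408102040010204081160008404040a100006030000001020118000000800000000020440100000810800002020408102001010204080020400002040010204081000408102040800204081020408300001010204081000808102040010200001020008102040800204081020400102040810004081020408002040810204081,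
  nat_lit 0xe201020c143880e2000000180000c08000141030200180000c0800014103050a1c4020418287101c4000000300001810000282060400300001810000282060a143060400100000000000000090a00000101c400001400004000000400000000010000001000c14005000810200003040c080001600004020838008041050010280080028004000030400003000800710180060008009000000a001c40a16305100e2030000100000000100003000002241000a0800d000808008000100008000100000112080050400000040820710003880a0800710003880c182840a10680000010012005001400003000c6850000000060000300240040c10005081420000000000000000000000004000000000100000028000080000008000000000000000000000000000010204000000800100002c00000040000000080060c78306100050008000000800000000000e20000000010000000000000000002c600001c40000002000000000000060000044820014000000000100100005000000002c00002241000a0000000001000408008060010000000170e00000060018000000020000000000800000000000a0000f0000200000000006002000000200040000000080000008005003828008341000000a82002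4204001438200000000400280002c600000000004000071000001000c00000040030814001002c6002004000000800000000010000601000000000000800000001000c003002c6005e04081040002204000802238000060000e000018000000001630000000c081040000100a800002240020000b00560000102040800004081020000000000801c00000004c8800004000264400000580120000d803400900000c000060000000a40040608003060002300542000000000007c100000c002000001c0000102000050000000040000084063c0000210184000008000000240200000000000000000805c0008000000000004180000008308001800e0001802040820035680000400028000030000a00000c000000000700000000604082000c08200000010000000000c0000000081020400002040811a81299000538300001a100000000200000000001d581c40000786830e98081020000002041810200001020408000040000204000020408100000810204080000408102040810000001020c081000008102040000200001020000102040800004081020400002040810000081020408000040810204081]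
noncomputable def I1 (k u : ℕ) : ℕ := Nat.land (Nat.shiftRight (nth (nat_lit 0) I1d k) (Nat.mul u (nat_lit 7))) (nat_lit 127)
noncomputable def D1d : BT := (.node (.node (.node (.leaf (nat_lit 0x604fb02798136c09a604cb0261812ec096604a3024d8124c09160483023d811cc08d6046302258110c0876043302158108c0826040b020180fac07c603d301e580f0c076603ab01d180e6c0716038301bd80dcc06b6035301a580d0c06760333019180c6c0626030b018180bec05e602eb017180b2c058602bb015980aac05460293014580a0c04f6027301358098c04b602520115008880424020a0101007c803d401e200ed00728038401ba00d9006680324018a00c1005e802e4016200ad0054802940142009d004c80254012200850040801f400f200750038801a400ca0061002e8016400aa0051002680124007a0039001a800c4005a0029001040072003100148008400320011000480000000)) (.leaf (nat_lit 0x8276413ae09cf04e68271c138a09c304e0826ec137209b304d8826ac134609a104c58262412e6097104b4824ec127209350496824ac12520927048f82474122e091504878243412120907047f823f411f608ef0476823ac11d208e5046d8236411aa08cd046582324118e08bf045e822dc116a08af0456822a4114e089f044e8226c111e088d044582224110a0879043a8218c10c2085d0429821441076082f04168208c1042081d0409820440fb207c903dd81ed40f5607a503d081e640f1a078903bf81df40eee077503b581da40eb6075903a481d1c0e720737039881cac0e3a06f9037581ba40dce06db036c81b5c0d7a06b7035681a940d3206950346819ec0cea066b03328197c0cba06570329)))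 (.node (.leaf (nat_lit 0x812140902047b023c811cc08e2046d0235811a408ce046302308117c08ba0457022a8114c08a2044f022681124088e0445021f810f4087604390219810c4085e042d0215810a4084e0425020f8107408360419020b810540822040b02048101407fa03fb01fc80fdc07de03ed01f380f9407c603e101ef80f7407b203d701ea80f4c07a203cf01e680f2c079203c301e080efc077a03bb01dc80ed4076603b0c1d760eb3074d83a2c1d060e7b07398392c1c860e3b0711837ac1bc60dd306d58368c1b260d6b069d834cc1a260d0b0681833ec19e60cdb06658330c19660cab0651831ec18e60c6b06318316c18760c3306158308c18360bcb05e182e2c17060b7b05b982d8c16760b33059182c2c160)) (.leaf (nat_lit 0xa63a531be98dd4c69a6345315698a94c42a61e530d2984b4c24a6095303298094bdda5ee52f6a97ab4bd4a5e952eda976b4bb4a5d7d2eb697594baba5d3d2e9697494ba3a5c652e1e970d4b81a5c052db296cd4b64a5b1d2d7e96bd4b5ba5ad52d6696b14b55a5aa52d4696a14b4da5a4d2d22967b4b3ca598d2cc296594b15a58a52c4a961d4b0da58652c2e960f4b06a581d2c0a95ff4afea57e52bee95ef4af6a57ad2bbe95dd4aeda57652baa95cb4ae4a57152b7a95bb4adca56dd2b5e95ad4ad3a56952b3e959d4acca565d2b1e958d4ac5a55fd2afa957b4abca55d52ad295654aa9a55452a9a95434aa0a54ad2a3e951d4a89a54452a1a95034a80a5325297294ab4a52a526d292a94914a44))))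 (.node (.node (.leaf (nat_lit 0x60afb057982bac15c60adb056982aec15660aab055182a6c15260a8305358298c14a60a4b0521828cc14560a23050d8282c140609fb04f98276c13a609cb04e1826ac1346098b04c1825ac12c6094b04a1824ec1266092b04918246c11f608f304758238c11b608c304558228c1126088b0441821cc10d6086304258210c1076083304058200c0ff607f303f181f2c0f8607bb03d981eac0f46079b03c981dec0ee6076b03b181d6c0ea60743039581c8c0e160703037981bac0dc606db036581b0c0d7606b3034d81a4c0d160683033d819cc0cc6065b0329818ec0c66062b03118182c0c0605fb02f9817ac0bc605db02e9816ec0b6605ab02d18166c0b26058302b58158c0aa6053302958148c0a3)) (.leaf (nat_lit 0xa51f528f2946f4a36a519d28ca945b4a2ca512d289294394a1ba50a5284e94214a0da503527d293db49eca4f5d279693c949e3a4eb5274e939d49caa4e25270a937d49b5a4d9526b69355083c840e41fbe0fdd07bf83df41e5a0f1f078e83be41dd20ebf075e83adc1d560e990744839cc1ce20e6307308394c1ca20e4b0721839041c3e0e1d0709838441bbe0ddd06e9837441b320d8906b7835b41a920d39068f8347419f20cbb065c832ac19520c7f06378317c185a0c1d06048301417f20bef05f682f8c17c20bbb05dc82e5417120b7905ad82d64166a0b29058c82b2c15920ac5055d82ae4156a0a7d053d829e414de0a6b05348299c14be0a5b052c8295c14520a1f050e8284c142209e904ee)))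 (.node (.leaf (nat_lit 0x819440c9e064d0321819040c7e06390315818a40c4a061b030c818540c1605ff02fe817d40be605f102f7817b40bce05e302f0817740bb605d902e7817340b9605c902e3816fc0b7a05bb02dc816dc0b4605a102c9816440b1e058d02c4815fc0afa057902b9815c40ade056d02b5815a40ace056502af815740ab6055902ab815540aa2054b02a4815140a860541029e814ec0a7205370299814c40a5e052d0293814940a460521028d814640a2605110285814240a060501027f813f409f604f9027b813bc09da04eb02748139c09c204db026c8135409a604d102668132c099204c30260812fc097a04b30258812bc095a04a9025181284093e049d024d81264092e0495024781234091604890243)) (.leaf (nat_lit 0xcdf4e6fa3377f9b97cd7666af735639ab0cd54e6aa3350d9a2ecd0366773339999c6cce2666ff337d99baccdae660b32f9996fcca7664933229990ecc866641f320d9902cc7ee632b318998bdcb8ad5486aa4154f7aa67d5092a7eb53e9a9f454f86a7c153bea9b354cfaa6295304a97f54bf2a5ef52f6a97954bb6a57552b4a953d4a1aa4b9524ca92354912a47f523ea91d548d6a40551fca8fad41369d694e94a733d399a9c6f4e36a7075381e9c0d4df4a6f65375e9bad4dd3a6e6d37129b794db1a6d8536a69b514da1a6d0536769b334d98a6c3d361a9b034d80a6b3d359a9ac34d60a6a2534f29a5f4d2ea68e534529a0f4d06a67a5335699a94ccda666532de995f4ca7a6475321a98f94c7a)))))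
noncomputable def D1 (u : ℕ) : ℕ := force (Nat.shiftRight u (nat_lit 7)) fun j => Nat.land (Nat.shiftRight (D1d.get j) (Nat.mul (Nat.land u (nat_lit 127)) (nat_lit 17))) (nat_lit 131071)
noncomputable def E1 (_ : ℕ) : ℕ := nat_lit 0
noncomputable def J1 (_ : ℕ) : ℕ := nat_lit 0
noncomputable def W1 (_ : ℕ) : ℕ := nat_lit 0
noncomputable def RL1 : List (List Rule) := [[.rel (nat_lit 0) (nat_lit 0) [nat_lit 1], .defn, .rel (nat_lit 32) (nat_lit 0) [nat_lit 2, nat_lit 4, nat_lit 1, nat_lit 2, nat_lit 4], .rel (nat_lit 30) (nat_lit 1) [nat_lit 6, nat_lit 0, nat_lit 0, nat_lit 7, nat_lit 0], .rel (nat_lit 30) (nat_lit 3) [nat_lit 0, nat_lit 7, nat_lit 0, nat_lit 0, nat_lit 6], .rel (nat_lit 30) (nat_lit 0) [nat_lit 0, nat_lit 6, nat_lit 0, nat_lit 0, nat_lit 7], .rel (nat_lit 34) (nat_lit 0) [nat_lit 2, nat_lit 7, nat_lit 2, nat_lit 0, nat_lit 6], .rel (nat_lit 36) (nat_lit 0) [nat_lit 3, nat_lit 6, nat_lit 3, nat_lit 0, nat_lit 7], .rel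 (nat_lit 34) (nat_lit 4) [nat_lit 6, nat_lit 0, nat_lit 2, nat_lit 7, nat_lit 2], .rel (nat_lit 33) (nat_lit 2) [nat_lit 5, nat_lit 3, nat_lit 1, nat_lit 5, nat_lit 3], .rel (nat_lit 20) (nat_lit 0) [nat_lit 0, nat_lit 0, nat_lit 0], .rel (nat_lit 30) (nat_lit 4) [nat_lit 7, nat_lit 0, nat_lit 0, nat_lit 6, nat_lit 0], .rel (nat_lit 76) (nat_lit 5) [nat_lit 4, nat_lit 3, nat_lit 0, nat_lit 0, nat_lit 2, nat_lit 5, nat_lit 0], .rel (nat_lit 39) (nat_lit 2) [nat_lit 7, nat_lit 7, nat_lit 1, nat_lit 7, nat_lit 7], .rel (nat_lit 36) (nat_lit 4) [nat_lit 7, nat_lit 0, nat_lit 3, nat_lit 6, nat_lit 3], .rel (nat_lit 48) (nat_lit 4) [nat_lit 7, nat_lit 2, nat_lit 7, nat_lit 0, nat_lit 0, nat_lit 2, nat_lit 0], .rel (nat_lit 76) (nat_lit 4) [nat_lit 0, nat_lit 4, nat_lit 3, nat_lit 0, nat_lit 0, nat_lit 2, nat_lit 5], .rel (nat_lit 51) (nat_lit 1) [nat_lit 5, nat_lit 2, nat_lit 1, nat_lit 3, nat_lit 1, nat_lit 1, nat_lit 4], .rel (nat_lit 64)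 (nat_lit 1) [nat_lit 2, nat_lit 2, nat_lit 0, nat_lit 0, nat_lit 3, nat_lit 3, nat_lit 0], .rel (nat_lit 68) (nat_lit 0) [nat_lit 0, nat_lit 2, nat_lit 2, nat_lit 4, nat_lit 6, nat_lit 5, nat_lit 6], .rel (nat_lit 88) (nat_lit 6) [nat_lit 4, nat_lit 0, nat_lit 0, nat_lit 3, nat_lit 0, nat_lit 2, nat_lit 5], .rel (nat_lit 64) (nat_lit 4) [nat_lit 0, nat_lit 3, nat_lit 3, nat_lit 0, nat_lit 0, nat_lit 2, nat_lit 2], .rel (nat_lit 72) (nat_lit 0) [nat_lit 0, nat_lit 2, nat_lit 4, nat_lit 3, nat_lit 7, nat_lit 4, nat_lit 6], .rel (nat_lit 86) (nat_lit 4) [nat_lit 6, nat_lit 3, nat_lit 6, nat_lit 0, nat_lit 0, nat_lit 3, nat_lit 0], .rel (nat_lit 48) (nat_lit 1) [nat_lit 2, nat_lit 0, nat_lit 0, nat_lit 7, nat_lit 2, nat_lit 7, nat_lit 0], .rel (nat_lit 50) (nat_lit 0) [nat_lit 0, nat_lit 2, nat_lit 0, nat_lit 3, nat_lit 4, nat_lit 1, nat_lit 5], .rel (nat_lit 50) (nat_lit 3) [nat_lit 3, nat_lit 4, nat_lit 1, nat_lit 5, nat_lit 0, nat_lit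 0, nat_lit 2], .rel (nat_lit 54) (nat_lit 0) [nat_lit 0, nat_lit 2, nat_lit 0, nat_lit 6, nat_lit 1, nat_lit 6, nat_lit 3], .rel (nat_lit 60) (nat_lit 6) [nat_lit 4, nat_lit 0, nat_lit 0, nat_lit 2, nat_lit 1, nat_lit 4, nat_lit 2], .rel (nat_lit 88) (nat_lit 3) [nat_lit 2, nat_lit 5, nat_lit 0, nat_lit 4, nat_lit 0, nat_lit 0, nat_lit 3], .rel (nat_lit 96) (nat_lit 4) [nat_lit 0, nat_lit 5, nat_lit 2, nat_lit 0, nat_lit 0, nat_lit 3, nat_lit 4], .rel (nat_lit 144) (nat_lit 0) [nat_lit 0, nat_lit 7, nat_lit 5, nat_lit 3, nat_lit 7, nat_lit 5, nat_lit 3], .rel (nat_lit 146) (nat_lit 4) [nat_lit 3, nat_lit 0, nat_lit 3, nat_lit 0, nat_lit 2, nat_lit 0, nat_lit 2], .rel (nat_lit 38) (nat_lit 0) [nat_lit 6, nat_lit 6, nat_lit 1, nat_lit 6, nat_lit 6], .rel (nat_lit 48) (nat_lit 0) [nat_lit 0, nat_lit 2, nat_lit 0, nat_lit 0, nat_lit 7, nat_lit 2, nat_lit 7], .rel (nat_lit 50) (nat_lit 1) [nat_lit 2, nat_lit 0, nat_lit 3, nat_lit 4, nat_lit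 1, nat_lit 5, nat_lit 0], .rel (nat_lit 52) (nat_lit 0) [nat_lit 0, nat_lit 2, nat_lit 0, nat_lit 4, nat_lit 2, nat_lit 1, nat_lit 4], .rel (nat_lit 52) (nat_lit 1) [nat_lit 2, nat_lit 0, nat_lit 4, nat_lit 2, nat_lit 1, nat_lit 4, nat_lit 0], .rel (nat_lit 52) (nat_lit 3) [nat_lit 4, nat_lit 2, nat_lit 1, nat_lit 4, nat_lit 0, nat_lit 0, nat_lit 2], .rel (nat_lit 53) (nat_lit 1) [nat_lit 3, nat_lit 5, nat_lit 1, nat_lit 3, nat_lit 1, nat_lit 1, nat_lit 5], .rel (nat_lit 58) (nat_lit 6) [nat_lit 5, nat_lit 0, nat_lit 0, nat_lit 2, nat_lit 1, nat_lit 3, nat_lit 4], .rel (nat_lit 60) (nat_lit 0) [nat_lit 0, nat_lit 2, nat_lit 1, nat_lit 4, nat_lit 2, nat_lit 0, nat_lit 4], .rel (nat_lit 62) (nat_lit 0) [nat_lit 0, nat_lit 2, nat_lit 1, nat_lit 7, nat_lit 0, nat_lit 7, nat_lit 3], .rel (nat_lit 70) (nat_lit 0) [nat_lit 0, nat_lit 2, nat_lit 2, nat_lit 7, nat_lit 4, nat_lit 7, nat_lit 5], .rel (nat_lit 74) (nat_lit 0) [nat_lit 0, nat_lit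 2, nat_lit 4, nat_lit 7, nat_lit 2, nat_lit 4, nat_lit 7], .rel (nat_lit 76) (nat_lit 1) [nat_lit 2, nat_lit 5, nat_lit 0, nat_lit 0, nat_lit 4, nat_lit 3, nat_lit 0], .rel (nat_lit 78) (nat_lit 0) [nat_lit 0, nat_lit 2, nat_lit 5, nat_lit 3, nat_lit 6, nat_lit 5, nat_lit 7], .rel (nat_lit 82) (nat_lit 4) [nat_lit 6, nat_lit 1, nat_lit 3, nat_lit 0, nat_lit 0, nat_lit 2, nat_lit 6], .rel (nat_lit 95) (nat_lit 4) [nat_lit 2, nat_lit 1, nat_lit 1, nat_lit 6, nat_lit 2, nat_lit 1, nat_lit 7], .rel (nat_lit 96) (nat_lit 5) [nat_lit 5, nat_lit 2, nat_lit 0, nat_lit 0, nat_lit 3, nat_lit 4, nat_lit 0], .rel (nat_lit 114) (nat_lit 1) [nat_lit 4, nat_lit 4, nat_lit 0, nat_lit 0, nat_lit 5, nat_lit 5, nat_lit 0], .rel (nat_lit 138) (nat_lit 1) [nat_lit 6, nat_lit 3, nat_lit 5, nat_lit 7, nat_lit 4, nat_lit 2, nat_lit 0], .rel (nat_lit 140) (nat_lit 1) [nat_lit 6, nat_lit 4, nat_lit 2, nat_lit 7, nat_lit 3, nat_lit 5, nat_lit 0], .rel (nat_lit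 142) (nat_lit 1) [nat_lit 7, nat_lit 4, nat_lit 7, nat_lit 3, nat_lit 3, nat_lit 5, nat_lit 0], .rel (nat_lit 146) (nat_lit 0) [nat_lit 2, nat_lit 0, nat_lit 2, nat_lit 0, nat_lit 3, nat_lit 0, nat_lit 3], .rel (nat_lit 146) (nat_lit 2) [nat_lit 2, nat_lit 0, nat_lit 3, nat_lit 0, nat_lit 3, nat_lit 0, nat_lit 2], .rel (nat_lit 146) (nat_lit 6) [nat_lit 3, nat_lit 0, nat_lit 2, nat_lit 0, nat_lit 2, nat_lit 0, nat_lit 3], .rel (nat_lit 148) (nat_lit 2) [nat_lit 3, nat_lit 1, nat_lit 5, nat_lit 1, nat_lit 4, nat_lit 0, nat_lit 2], .rel (nat_lit 151) (nat_lit 1) [nat_lit 4, nat_lit 1, nat_lit 5, nat_lit 1, nat_lit 3, nat_lit 1, nat_lit 2], .rel (nat_lit 156) (nat_lit 0) [nat_lit 2, nat_lit 1, nat_lit 2, nat_lit 0, nat_lit 3, nat_lit 1, nat_lit 3], .rel (nat_lit 157) (nat_lit 5) [nat_lit 3, nat_lit 1, nat_lit 2, nat_lit 0, nat_lit 2, nat_lit 1, nat_lit 3], .rel (nat_lit 182) (nat_lit 0) [nat_lit 2, nat_lit 5, nat_lit 1, nat_lit 2, nat_lit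 6, nat_lit 6, nat_lit 5], .rel (nat_lit 185) (nat_lit 4) [nat_lit 4, nat_lit 3, nat_lit 1, nat_lit 6, nat_lit 3, nat_lit 6, nat_lit 5], .rel (nat_lit 188) (nat_lit 0) [nat_lit 2, nat_lit 5, nat_lit 3, nat_lit 7, nat_lit 5, nat_lit 1, nat_lit 7], .rel (nat_lit 207) (nat_lit 3) [nat_lit 4, nat_lit 6, nat_lit 3, nat_lit 1, nat_lit 2, nat_lit 7, nat_lit 5], .rel (nat_lit 210) (nat_lit 0) [nat_lit 3, nat_lit 0, nat_lit 5, nat_lit 1, nat_lit 4, nat_lit 1, nat_lit 2], .rel (nat_lit 220) (nat_lit 6) [nat_lit 6, nat_lit 0, nat_lit 3, nat_lit 4, nat_lit 3, nat_lit 4, nat_lit 7], .rel (nat_lit 232) (nat_lit 0) [nat_lit 3, nat_lit 5, nat_lit 1, nat_lit 2, nat_lit 7, nat_lit 5, nat_lit 7], .rel (nat_lit 239) (nat_lit 3) [nat_lit 4, nat_lit 7, nat_lit 2, nat_lit 1, nat_lit 4, nat_lit 6, nat_lit 2]],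
  [.rel (nat_lit 0) (nat_lit 1) [nat_lit 0], .defn, .rel (nat_lit 32) (nat_lit 3) [nat_lit 2, nat_lit 4, nat_lit 0, nat_lit 2, nat_lit 4], .rel (nat_lit 21) (nat_lit 0) [nat_lit 1, nat_lit 1, nat_lit 1], .rel (nat_lit 31) (nat_lit 1) [nat_lit 1, nat_lit 7, nat_lit 1, nat_lit 1, nat_lit 6], .rel (nat_lit 31) (nat_lit 4) [nat_lit 1, nat_lit 6, nat_lit 1, nat_lit 1, nat_lit 7], .rel (nat_lit 35) (nat_lit 1) [nat_lit 3, nat_lit 6, nat_lit 3, nat_lit 1, nat_lit 7], .rel (nat_lit 37) (nat_lit 1) [nat_lit 2, nat_lit 7, nat_lit 2, nat_lit 1, nat_lit 6], .rel (nat_lit 37) (nat_lit 5) [nat_lit 6, nat_lit 1, nat_lit 2, nat_lit 7, nat_lit 2], .rel (nat_lit 33) (nat_lit 5) [nat_lit 5, nat_lit 3, nat_lit 0, nat_lit 5, nat_lit 3], .rel (nat_lit 31) (nat_lit 5) [nat_lit 6, nat_lit 1, nat_lit 1, nat_lit 7, nat_lit 1], .rel (nat_lit 35) (nat_lit 5) [nat_lit 7, nat_lit 1, nat_lit 3, nat_lit 6, nat_lit 3], .rel (nat_lit 39) (nat_lit 5) [nat_lit 7, nat_lit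 7, nat_lit 0, nat_lit 7, nat_lit 7], .rel (nat_lit 31) (nat_lit 2) [nat_lit 7, nat_lit 1, nat_lit 1, nat_lit 6, nat_lit 1], .rel (nat_lit 77) (nat_lit 3) [nat_lit 4, nat_lit 3, nat_lit 1, nat_lit 1, nat_lit 2, nat_lit 5, nat_lit 1], .rel (nat_lit 38) (nat_lit 3) [nat_lit 6, nat_lit 6, nat_lit 0, nat_lit 6, nat_lit 6], .rel (nat_lit 50) (nat_lit 6) [nat_lit 5, nat_lit 0, nat_lit 0, nat_lit 2, nat_lit 0, nat_lit 3, nat_lit 4], .rel (nat_lit 89) (nat_lit 1) [nat_lit 4, nat_lit 3, nat_lit 1, nat_lit 2, nat_lit 1, nat_lit 1, nat_lit 5], .rel (nat_lit 49) (nat_lit 3) [nat_lit 1, nat_lit 3, nat_lit 1, nat_lit 1, nat_lit 6, nat_lit 3, nat_lit 6], .rel (nat_lit 52) (nat_lit 6) [nat_lit 4, nat_lit 0, nat_lit 0, nat_lit 2, nat_lit 0, nat_lit 4, nat_lit 2], .rel (nat_lit 53) (nat_lit 4) [nat_lit 3, nat_lit 1, nat_lit 1, nat_lit 5, nat_lit 0, nat_lit 3, nat_lit 5], .rel (nat_lit 51) (nat_lit 4) [nat_lit 3, nat_lit 1, nat_lit 1, nat_lit 4, nat_lit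 0, nat_lit 5, nat_lit 2], .rel (nat_lit 55) (nat_lit 6) [nat_lit 1, nat_lit 2, nat_lit 7, nat_lit 0, nat_lit 7, nat_lit 1, nat_lit 3], .rel (nat_lit 61) (nat_lit 1) [nat_lit 3, nat_lit 5, nat_lit 0, nat_lit 3, nat_lit 1, nat_lit 1, nat_lit 5], .rel (nat_lit 51) (nat_lit 6) [nat_lit 1, nat_lit 4, nat_lit 0, nat_lit 5, nat_lit 2, nat_lit 1, nat_lit 3], .rel (nat_lit 51) (nat_lit 7) [nat_lit 4, nat_lit 0, nat_lit 5, nat_lit 2, nat_lit 1, nat_lit 3, nat_lit 1], .rel (nat_lit 53) (nat_lit 6) [nat_lit 1, nat_lit 5, nat_lit 0, nat_lit 3, nat_lit 5, nat_lit 1, nat_lit 3], .rel (nat_lit 65) (nat_lit 7) [nat_lit 2, nat_lit 2, nat_lit 1, nat_lit 1, nat_lit 3, nat_lit 3, nat_lit 1], .rel (nat_lit 87) (nat_lit 3) [nat_lit 1, nat_lit 2, nat_lit 1, nat_lit 1, nat_lit 7, nat_lit 2, nat_lit 7], .rel (nat_lit 125) (nat_lit 6) [nat_lit 1, nat_lit 5, nat_lit 6, nat_lit 1, nat_lit 6, nat_lit 0, nat_lit 4], .rel (nat_lit 143) (nat_lit 6) [nat_lit 1, nat_lit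 4, nat_lit 2, nat_lit 2, nat_lit 6, nat_lit 5, nat_lit 6], .rel (nat_lit 152) (nat_lit 4) [nat_lit 2, nat_lit 1, nat_lit 5, nat_lit 0, nat_lit 2, nat_lit 0, nat_lit 5], .rel (nat_lit 49) (nat_lit 6) [nat_lit 1, nat_lit 6, nat_lit 3, nat_lit 6, nat_lit 1, nat_lit 1, nat_lit 3], .rel (nat_lit 49) (nat_lit 7) [nat_lit 6, nat_lit 3, nat_lit 6, nat_lit 1, nat_lit 1, nat_lit 3, nat_lit 1], .rel (nat_lit 54) (nat_lit 5) [nat_lit 6, nat_lit 3, nat_lit 0, nat_lit 0, nat_lit 2, nat_lit 0, nat_lit 6], .rel (nat_lit 56) (nat_lit 5) [nat_lit 2, nat_lit 6, nat_lit 0, nat_lit 0, nat_lit 2, nat_lit 0, nat_lit 7], .rel (nat_lit 57) (nat_lit 4) [nat_lit 3, nat_lit 1, nat_lit 1, nat_lit 7, nat_lit 3, nat_lit 0, nat_lit 6], .rel (nat_lit 60) (nat_lit 3) [nat_lit 4, nat_lit 2, nat_lit 0, nat_lit 4, nat_lit 0, nat_lit 0, nat_lit 2], .rel (nat_lit 63) (nat_lit 2) [nat_lit 6, nat_lit 0, nat_lit 3, nat_lit 1, nat_lit 1, nat_lit 2, nat_lit 6], .rel (nat_lit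 63) (nat_lit 7) [nat_lit 2, nat_lit 6, nat_lit 1, nat_lit 6, nat_lit 0, nat_lit 3, nat_lit 1], .rel (nat_lit 69) (nat_lit 7) [nat_lit 7, nat_lit 4, nat_lit 7, nat_lit 5, nat_lit 3, nat_lit 3, nat_lit 1], .rel (nat_lit 77) (nat_lit 2) [nat_lit 1, nat_lit 4, nat_lit 3, nat_lit 1, nat_lit 1, nat_lit 2, nat_lit 5], .rel (nat_lit 79) (nat_lit 7) [nat_lit 6, nat_lit 4, nat_lit 7, nat_lit 2, nat_lit 4, nat_lit 3, nat_lit 1], .rel (nat_lit 92) (nat_lit 6) [nat_lit 4, nat_lit 0, nat_lit 0, nat_lit 3, nat_lit 1, nat_lit 2, nat_lit 5], .rel (nat_lit 101) (nat_lit 2) [nat_lit 1, nat_lit 4, nat_lit 2, nat_lit 1, nat_lit 1, nat_lit 3, nat_lit 5], .rel (nat_lit 105) (nat_lit 7) [nat_lit 6, nat_lit 4, nat_lit 2, nat_lit 6, nat_lit 4, nat_lit 2, nat_lit 1], .rel (nat_lit 115) (nat_lit 7) [nat_lit 4, nat_lit 4, nat_lit 1, nat_lit 1, nat_lit 5, nat_lit 5, nat_lit 1], .rel (nat_lit 145) (nat_lit 6) [nat_lit 1, nat_lit 2, nat_lit 4, nat_lit 6, nat_lit 2,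 nat_lit 4, nat_lit 6], .rel (nat_lit 147) (nat_lit 5) [nat_lit 3, nat_lit 1, nat_lit 2, nat_lit 1, nat_lit 2, nat_lit 1, nat_lit 3], .rel (nat_lit 148) (nat_lit 4) [nat_lit 5, nat_lit 1, nat_lit 4, nat_lit 0, nat_lit 2, nat_lit 0, nat_lit 3], .rel (nat_lit 152) (nat_lit 6) [nat_lit 5, nat_lit 0, nat_lit 2, nat_lit 0, nat_lit 5, nat_lit 1, nat_lit 2], .rel (nat_lit 153) (nat_lit 5) [nat_lit 3, nat_lit 1, nat_lit 4, nat_lit 0, nat_lit 3, nat_lit 0, nat_lit 4], .rel (nat_lit 153) (nat_lit 7) [nat_lit 4, nat_lit 0, nat_lit 3, nat_lit 0, nat_lit 4, nat_lit 1, nat_lit 3], .rel (nat_lit 156) (nat_lit 2) [nat_lit 2, nat_lit 0, nat_lit 3, nat_lit 1, nat_lit 3, nat_lit 0, nat_lit 2], .rel (nat_lit 160) (nat_lit 2) [nat_lit 5, nat_lit 1, nat_lit 2, nat_lit 0, nat_lit 5, nat_lit 0, nat_lit 2], .rel (nat_lit 160) (nat_lit 4) [nat_lit 2, nat_lit 0, nat_lit 5, nat_lit 0, nat_lit 2, nat_lit 1, nat_lit 5], .rel (nat_lit 161) (nat_lit 1) [nat_lit 3,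 nat_lit 0, nat_lit 4, nat_lit 0, nat_lit 3, nat_lit 1, nat_lit 4], .rel (nat_lit 161) (nat_lit 7) [nat_lit 4, nat_lit 1, nat_lit 3, nat_lit 0, nat_lit 4, nat_lit 0, nat_lit 3], .rel (nat_lit 167) (nat_lit 7) [nat_lit 2, nat_lit 5, nat_lit 3, nat_lit 5, nat_lit 1, nat_lit 3, nat_lit 3], .rel (nat_lit 172) (nat_lit 6) [nat_lit 6, nat_lit 0, nat_lit 2, nat_lit 2, nat_lit 5, nat_lit 7, nat_lit 4], .rel (nat_lit 179) (nat_lit 4) [nat_lit 4, nat_lit 3, nat_lit 1, nat_lit 7, nat_lit 4, nat_lit 6, nat_lit 2], .rel (nat_lit 191) (nat_lit 7) [nat_lit 2, nat_lit 5, nat_lit 7, nat_lit 1, nat_lit 7, nat_lit 4, nat_lit 3], .rel (nat_lit 195) (nat_lit 3) [nat_lit 6, nat_lit 4, nat_lit 3, nat_lit 1, nat_lit 4, nat_lit 6, nat_lit 2], .rel (nat_lit 203) (nat_lit 7) [nat_lit 3, nat_lit 5, nat_lit 7, nat_lit 1, nat_lit 4, nat_lit 7, nat_lit 3], .rel (nat_lit 265) (nat_lit 8) [nat_lit 1, nat_lit 2, nat_lit 4, nat_lit 4, nat_lit 2, nat_lit 5, nat_lit 7,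 nat_lit 5, nat_lit 7]],
  [.rel (nat_lit 4) (nat_lit 0) [nat_lit 3], .rel (nat_lit 24) (nat_lit 0) [nat_lit 6, nat_lit 2, nat_lit 6], .defn, .rel (nat_lit 40) (nat_lit 3) [nat_lit 2, nat_lit 5, nat_lit 2, nat_lit 2, nat_lit 4], .rel (nat_lit 22) (nat_lit 0) [nat_lit 2, nat_lit 2, nat_lit 2], .rel (nat_lit 40) (nat_lit 0) [nat_lit 2, nat_lit 4, nat_lit 2, nat_lit 2, nat_lit 5], .rel (nat_lit 34) (nat_lit 3) [nat_lit 0, nat_lit 6, nat_lit 0, nat_lit 2, nat_lit 7], .rel (nat_lit 42) (nat_lit 0) [nat_lit 4, nat_lit 2, nat_lit 6, nat_lit 6, nat_lit 4], .rel (nat_lit 42) (nat_lit 2) [nat_lit 6, nat_lit 6, nat_lit 4, nat_lit 2, nat_lit 4], .rel (nat_lit 32) (nat_lit 1) [nat_lit 4, nat_lit 1, nat_lit 2, nat_lit 4, nat_lit 0], .rel (nat_lit 32) (nat_lit 4) [nat_lit 4, nat_lit 0, nat_lit 2, nat_lit 4, nat_lit 1], .rel (nat_lit 44) (nat_lit 2) [nat_lit 5, nat_lit 6, nat_lit 6, nat_lit 2, nat_lit 5], .rel (nat_lit 40) (nat_lit 4) [nat_lit 5, nat_lit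 2, nat_lit 2, nat_lit 4, nat_lit 2], .rel (nat_lit 34) (nat_lit 1) [nat_lit 7, nat_lit 2, nat_lit 0, nat_lit 6, nat_lit 0], .rel (nat_lit 40) (nat_lit 1) [nat_lit 4, nat_lit 2, nat_lit 2, nat_lit 5, nat_lit 2], .rel (nat_lit 51) (nat_lit 3) [nat_lit 1, nat_lit 3, nat_lit 1, nat_lit 1, nat_lit 4, nat_lit 0, nat_lit 5], .rel (nat_lit 37) (nat_lit 2) [nat_lit 7, nat_lit 2, nat_lit 1, nat_lit 6, nat_lit 1], .rel (nat_lit 37) (nat_lit 4) [nat_lit 1, nat_lit 6, nat_lit 1, nat_lit 2, nat_lit 7], .rel (nat_lit 44) (nat_lit 0) [nat_lit 5, nat_lit 2, nat_lit 5, nat_lit 6, nat_lit 6], .rel (nat_lit 90) (nat_lit 7) [nat_lit 0, nat_lit 0, nat_lit 3, nat_lit 0, nat_lit 6, nat_lit 1, nat_lit 6], .rel (nat_lit 52) (nat_lit 5) [nat_lit 1, nat_lit 4, nat_lit 0, nat_lit 0, nat_lit 2, nat_lit 0, nat_lit 4], .rel (nat_lit 59) (nat_lit 3) [nat_lit 0, nat_lit 3, nat_lit 1, nat_lit 1, nat_lit 4, nat_lit 1, nat_lit 5], .rel (nat_lit 70) (nat_lit 3) [nat_lit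 7, nat_lit 4, nat_lit 7, nat_lit 5, nat_lit 0, nat_lit 0, nat_lit 2], .rel (nat_lit 88) (nat_lit 4) [nat_lit 5, nat_lit 0, nat_lit 4, nat_lit 0, nat_lit 0, nat_lit 3, nat_lit 0], .rel (nat_lit 162) (nat_lit 4) [nat_lit 2, nat_lit 6, nat_lit 6, nat_lit 0, nat_lit 2, nat_lit 2, nat_lit 0], .rel (nat_lit 204) (nat_lit 1) [nat_lit 7, nat_lit 5, nat_lit 0, nat_lit 2, nat_lit 7, nat_lit 5, nat_lit 0], .rel (nat_lit 222) (nat_lit 6) [nat_lit 6, nat_lit 0, nat_lit 3, nat_lit 4, nat_lit 6, nat_lit 0, nat_lit 5], .rel (nat_lit 247) (nat_lit 5) [nat_lit 5, nat_lit 1, nat_lit 2, nat_lit 5, nat_lit 6, nat_lit 1, nat_lit 7], .rel (nat_lit 249) (nat_lit 1) [nat_lit 4, nat_lit 2, nat_lit 0, nat_lit 5, nat_lit 5, nat_lit 1, nat_lit 5]],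
  [.rel (nat_lit 4) (nat_lit 1) [nat_lit 2], .defn, .rel (nat_lit 25) (nat_lit 1) [nat_lit 7, nat_lit 3, nat_lit 7], .rel (nat_lit 35) (nat_lit 4) [nat_lit 1, nat_lit 7, nat_lit 1, nat_lit 3, nat_lit 6], .rel (nat_lit 41) (nat_lit 1) [nat_lit 3, nat_lit 5, nat_lit 3, nat_lit 3, nat_lit 4], .rel (nat_lit 33) (nat_lit 1) [nat_lit 0, nat_lit 5, nat_lit 3, nat_lit 1, nat_lit 5], .rel (nat_lit 23) (nat_lit 0) [nat_lit 3, nat_lit 3, nat_lit 3], .rel (nat_lit 45) (nat_lit 3) [nat_lit 4, nat_lit 3, nat_lit 7, nat_lit 7, nat_lit 4], .rel (nat_lit 41) (nat_lit 4) [nat_lit 3, nat_lit 4, nat_lit 3, nat_lit 3, nat_lit 5], .rel (nat_lit 36) (nat_lit 1) [nat_lit 6, nat_lit 3, nat_lit 0, nat_lit 7, nat_lit 0], .rel (nat_lit 35) (nat_lit 2) [nat_lit 6, nat_lit 3, nat_lit 1, nat_lit 7, nat_lit 1], .rel (nat_lit 43) (nat_lit 5) [nat_lit 5, nat_lit 7, nat_lit 7, nat_lit 3, nat_lit 5], .rel (nat_lit 33) (nat_lit 4) [nat_lit 1, nat_lit 5, nat_lit 3, nat_lit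 0, nat_lit 5], .rel (nat_lit 45) (nat_lit 5) [nat_lit 7, nat_lit 7, nat_lit 4, nat_lit 3, nat_lit 4], .rel (nat_lit 41) (nat_lit 2) [nat_lit 5, nat_lit 3, nat_lit 3, nat_lit 4, nat_lit 3], .rel (nat_lit 36) (nat_lit 3) [nat_lit 0, nat_lit 7, nat_lit 0, nat_lit 3, nat_lit 6], .rel (nat_lit 41) (nat_lit 5) [nat_lit 4, nat_lit 3, nat_lit 3, nat_lit 5, nat_lit 3], .rel (nat_lit 50) (nat_lit 4) [nat_lit 4, nat_lit 1, nat_lit 5, nat_lit 0, nat_lit 0, nat_lit 2, nat_lit 0], .rel (nat_lit 53) (nat_lit 2) [nat_lit 5, nat_lit 1, nat_lit 3, nat_lit 1, nat_lit 1, nat_lit 5, nat_lit 0], .rel (nat_lit 67) (nat_lit 4) [nat_lit 3, nat_lit 1, nat_lit 1, nat_lit 3, nat_lit 3, nat_lit 0, nat_lit 0], .rel (nat_lit 54) (nat_lit 7) [nat_lit 0, nat_lit 0, nat_lit 2, nat_lit 0, nat_lit 6, nat_lit 1, nat_lit 6], .rel (nat_lit 61) (nat_lit 2) [nat_lit 5, nat_lit 0, nat_lit 3, nat_lit 1, nat_lit 1, nat_lit 5, nat_lit 1], .rel (nat_lit 78) (nat_lit 4) [nat_lit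 6, nat_lit 5, nat_lit 7, nat_lit 0, nat_lit 0, nat_lit 2, nat_lit 5], .rel (nat_lit 85) (nat_lit 5) [nat_lit 1, nat_lit 1, nat_lit 4, nat_lit 7, nat_lit 3, nat_lit 4, nat_lit 7], .rel (nat_lit 86) (nat_lit 2) [nat_lit 0, nat_lit 0, nat_lit 6, nat_lit 3, nat_lit 6, nat_lit 0, nat_lit 0], .rel (nat_lit 97) (nat_lit 0) [nat_lit 4, nat_lit 1, nat_lit 1, nat_lit 5, nat_lit 2, nat_lit 1, nat_lit 1], .rel (nat_lit 118) (nat_lit 4) [nat_lit 4, nat_lit 6, nat_lit 3, nat_lit 0, nat_lit 0, nat_lit 4, nat_lit 6], .rel (nat_lit 142) (nat_lit 5) [nat_lit 3, nat_lit 5, nat_lit 0, nat_lit 0, nat_lit 7, nat_lit 4, nat_lit 7], .rel (nat_lit 150) (nat_lit 7) [nat_lit 0, nat_lit 2, nat_lit 0, nat_lit 4, nat_lit 0, nat_lit 5, nat_lit 1], .rel (nat_lit 153) (nat_lit 2) [nat_lit 0, nat_lit 4, nat_lit 1, nat_lit 3, nat_lit 1, nat_lit 4, nat_lit 0], .rel (nat_lit 158) (nat_lit 7) [nat_lit 0, nat_lit 2, nat_lit 1, nat_lit 4, nat_lit 0, nat_lit 5, nat_lit 0],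 .rel (nat_lit 164) (nat_lit 4) [nat_lit 5, nat_lit 2, nat_lit 5, nat_lit 0, nat_lit 2, nat_lit 2, nat_lit 0], .rel (nat_lit 178) (nat_lit 4) [nat_lit 7, nat_lit 5, nat_lit 6, nat_lit 0, nat_lit 2, nat_lit 5, nat_lit 0], .rel (nat_lit 197) (nat_lit 6) [nat_lit 1, nat_lit 4, nat_lit 6, nat_lit 5, nat_lit 1, nat_lit 2, nat_lit 7], .rel (nat_lit 201) (nat_lit 1) [nat_lit 4, nat_lit 0, nat_lit 5, nat_lit 7, nat_lit 3, nat_lit 1, nat_lit 6], .rel (nat_lit 216) (nat_lit 4) [nat_lit 4, nat_lit 6, nat_lit 6, nat_lit 0, nat_lit 3, nat_lit 4, nat_lit 0]],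
  [.rel (nat_lit 8) (nat_lit 0) [nat_lit 5], .defn, .rel (nat_lit 26) (nat_lit 0) [nat_lit 4, nat_lit 4, nat_lit 4], .rel (nat_lit 42) (nat_lit 5) [nat_lit 2, nat_lit 4, nat_lit 2, nat_lit 6, nat_lit 6], .rel (nat_lit 45) (nat_lit 2) [nat_lit 3, nat_lit 4, nat_lit 3, nat_lit 7, nat_lit 7], .rel (nat_lit 46) (nat_lit 3) [nat_lit 4, nat_lit 7, nat_lit 4, nat_lit 4, nat_lit 6], .rel (nat_lit 32) (nat_lit 2) [nat_lit 1, nat_lit 2, nat_lit 4, nat_lit 0, nat_lit 2], .rel (nat_lit 46) (nat_lit 0) [nat_lit 4, nat_lit 6, nat_lit 4, nat_lit 4, nat_lit 7], .rel (nat_lit 41) (nat_lit 0) [nat_lit 3, nat_lit 3, nat_lit 5, nat_lit 3, nat_lit 3], .rel (nat_lit 46) (nat_lit 1) [nat_lit 6, nat_lit 4, nat_lit 4, nat_lit 7, nat_lit 4], .rel (nat_lit 32) (nat_lit 5) [nat_lit 0, nat_lit 2, nat_lit 4, nat_lit 1, nat_lit 2], .rel (nat_lit 45) (nat_lit 4) [nat_lit 3, nat_lit 7, nat_lit 7, nat_lit 4, nat_lit 3], .rel (nat_lit 40) (nat_lit 2) [nat_lit 2, nat_lit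 2, nat_lit 5, nat_lit 2, nat_lit 2], .rel (nat_lit 46) (nat_lit 4) [nat_lit 7, nat_lit 4, nat_lit 4, nat_lit 6, nat_lit 4], .rel (nat_lit 52) (nat_lit 4) [nat_lit 2, nat_lit 1, nat_lit 4, nat_lit 0, nat_lit 0, nat_lit 2, nat_lit 0], .rel (nat_lit 88) (nat_lit 7) [nat_lit 0, nat_lit 0, nat_lit 3, nat_lit 0, nat_lit 2, nat_lit 5, nat_lit 0], .rel (nat_lit 52) (nat_lit 7) [nat_lit 0, nat_lit 0, nat_lit 2, nat_lit 0, nat_lit 4, nat_lit 2, nat_lit 1], .rel (nat_lit 71) (nat_lit 0) [nat_lit 6, nat_lit 5, nat_lit 6, nat_lit 3, nat_lit 3, nat_lit 1, nat_lit 1], .rel (nat_lit 93) (nat_lit 2) [nat_lit 3, nat_lit 0, nat_lit 2, nat_lit 1, nat_lit 1, nat_lit 5, nat_lit 0], .rel (nat_lit 114) (nat_lit 2) [nat_lit 4, nat_lit 0, nat_lit 0, nat_lit 5, nat_lit 5, nat_lit 0, nat_lit 0], .rel (nat_lit 50) (nat_lit 5) [nat_lit 1, nat_lit 5, nat_lit 0, nat_lit 0, nat_lit 2, nat_lit 0, nat_lit 3], .rel (nat_lit 58) (nat_lit 5) [nat_lit 0, nat_lit 5, nat_lit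 0, nat_lit 0, nat_lit 2, nat_lit 1, nat_lit 3], .rel (nat_lit 60) (nat_lit 7) [nat_lit 0, nat_lit 0, nat_lit 2, nat_lit 1, nat_lit 4, nat_lit 2, nat_lit 0], .rel (nat_lit 77) (nat_lit 4) [nat_lit 3, nat_lit 1, nat_lit 1, nat_lit 2, nat_lit 5, nat_lit 1, nat_lit 1], .rel (nat_lit 79) (nat_lit 1) [nat_lit 7, nat_lit 2, nat_lit 4, nat_lit 3, nat_lit 1, nat_lit 1, nat_lit 6], .rel (nat_lit 81) (nat_lit 4) [nat_lit 3, nat_lit 1, nat_lit 1, nat_lit 3, nat_lit 6, nat_lit 5, nat_lit 6], .rel (nat_lit 101) (nat_lit 4) [nat_lit 2, nat_lit 1, nat_lit 1, nat_lit 3, nat_lit 5, nat_lit 1, nat_lit 1], .rel (nat_lit 103) (nat_lit 4) [nat_lit 2, nat_lit 1, nat_lit 1, nat_lit 7, nat_lit 4, nat_lit 2, nat_lit 7], .rel (nat_lit 113) (nat_lit 0) [nat_lit 6, nat_lit 1, nat_lit 6, nat_lit 0, nat_lit 5, nat_lit 1, nat_lit 1], .rel (nat_lit 131) (nat_lit 5) [nat_lit 1, nat_lit 1, nat_lit 3, nat_lit 7, nat_lit 4, nat_lit 6, nat_lit 2], .rel (nat_lit 135) (nat_lit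 5) [nat_lit 1, nat_lit 1, nat_lit 2, nat_lit 2, nat_lit 7, nat_lit 5, nat_lit 7], .rel (nat_lit 148) (nat_lit 7) [nat_lit 0, nat_lit 2, nat_lit 0, nat_lit 3, nat_lit 1, nat_lit 5, nat_lit 1], .rel (nat_lit 151) (nat_lit 2) [nat_lit 1, nat_lit 5, nat_lit 1, nat_lit 3, nat_lit 1, nat_lit 2, nat_lit 0], .rel (nat_lit 166) (nat_lit 4) [nat_lit 2, nat_lit 4, nat_lit 3, nat_lit 0, nat_lit 2, nat_lit 2, nat_lit 0], .rel (nat_lit 187) (nat_lit 0) [nat_lit 4, nat_lit 0, nat_lit 5, nat_lit 3, nat_lit 4, nat_lit 3, nat_lit 1], .rel (nat_lit 196) (nat_lit 5) [nat_lit 7, nat_lit 5, nat_lit 0, nat_lit 2, nat_lit 6, nat_lit 3, nat_lit 0], .rel (nat_lit 216) (nat_lit 2) [nat_lit 0, nat_lit 3, nat_lit 4, nat_lit 6, nat_lit 6, nat_lit 0, nat_lit 3], .rel (nat_lit 218) (nat_lit 4) [nat_lit 2, nat_lit 4, nat_lit 4, nat_lit 0, nat_lit 3, nat_lit 4, nat_lit 0], .rel (nat_lit 228) (nat_lit 4) [nat_lit 4, nat_lit 3, nat_lit 4, nat_lit 0, nat_lit 3, nat_lit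 5, nat_lit 0], .rel (nat_lit 234) (nat_lit 6) [nat_lit 2, nat_lit 0, nat_lit 3, nat_lit 5, nat_lit 6, nat_lit 1, nat_lit 7], .rel (nat_lit 259) (nat_lit 6) [nat_lit 1, nat_lit 3, nat_lit 3, nat_lit 6, nat_lit 1, nat_lit 5, nat_lit 6]],
  [.rel (nat_lit 8) (nat_lit 1) [nat_lit 4], .defn, .rel (nat_lit 27) (nat_lit 0) [nat_lit 5, nat_lit 5, nat_lit 5], .rel (nat_lit 47) (nat_lit 1) [nat_lit 5, nat_lit 7, nat_lit 5, nat_lit 5, nat_lit 6], .rel (nat_lit 33) (nat_lit 0) [nat_lit 3, nat_lit 0, nat_lit 5, nat_lit 3, nat_lit 1], .rel (nat_lit 47) (nat_lit 4) [nat_lit 5, nat_lit 6, nat_lit 5, nat_lit 5, nat_lit 7], .rel (nat_lit 33) (nat_lit 3) [nat_lit 3, nat_lit 1, nat_lit 5, nat_lit 3, nat_lit 0], .rel (nat_lit 40) (nat_lit 5) [nat_lit 2, nat_lit 2, nat_lit 4, nat_lit 2, nat_lit 2], .rel (nat_lit 43) (nat_lit 0) [nat_lit 7, nat_lit 7, nat_lit 3, nat_lit 5, nat_lit 3], .rel (nat_lit 44) (nat_lit 3) [nat_lit 6, nat_lit 6, nat_lit 2, nat_lit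 5, nat_lit 2], .rel (nat_lit 41) (nat_lit 3) [nat_lit 3, nat_lit 3, nat_lit 4, nat_lit 3, nat_lit 3], .rel (nat_lit 47) (nat_lit 2) [nat_lit 7, nat_lit 5, nat_lit 5, nat_lit 6, nat_lit 5], .rel (nat_lit 186) (nat_lit 7) [nat_lit 0, nat_lit 2, nat_lit 5, nat_lit 2, nat_lit 4, nat_lit 1, nat_lit 5], .rel (nat_lit 43) (nat_lit 4) [nat_lit 3, nat_lit 5, nat_lit 7, nat_lit 7, nat_lit 3], .rel (nat_lit 44) (nat_lit 1) [nat_lit 2, nat_lit 5, nat_lit 6, nat_lit 6, nat_lit 2], .rel (nat_lit 47) (nat_lit 5) [nat_lit 6, nat_lit 5, nat_lit 5, nat_lit 7, nat_lit 5], .rel (nat_lit 50) (nat_lit 7) [nat_lit 0, nat_lit 0, nat_lit 2, nat_lit 0, nat_lit 3, nat_lit 4, nat_lit 1], .rel (nat_lit 53) (nat_lit 3) [nat_lit 1, nat_lit 3, nat_lit 1, nat_lit 1, nat_lit 5, nat_lit 0, nat_lit 3], .rel (nat_lit 58) (nat_lit 7) [nat_lit 0, nat_lit 0, nat_lit 2, nat_lit 1, nat_lit 3, nat_lit 4, nat_lit 0], .rel (nat_lit 77) (nat_lit 1) [nat_lit 1, nat_lit 1, nat_lit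 4, nat_lit 3, nat_lit 1, nat_lit 1, nat_lit 2], .rel (nat_lit 51) (nat_lit 2) [nat_lit 2, nat_lit 1, nat_lit 3, nat_lit 1, nat_lit 1, nat_lit 4, nat_lit 0], .rel (nat_lit 59) (nat_lit 2) [nat_lit 2, nat_lit 0, nat_lit 3, nat_lit 1, nat_lit 1, nat_lit 4, nat_lit 1], .rel (nat_lit 61) (nat_lit 0) [nat_lit 1, nat_lit 3, nat_lit 5, nat_lit 0, nat_lit 3, nat_lit 1, nat_lit 1], .rel (nat_lit 61) (nat_lit 3) [nat_lit 0, nat_lit 3, nat_lit 1, nat_lit 1, nat_lit 5, nat_lit 1, nat_lit 3], .rel (nat_lit 68) (nat_lit 6) [nat_lit 6, nat_lit 0, nat_lit 0, nat_lit 2, nat_lit 2, nat_lit 4, nat_lit 6], .rel (nat_lit 70) (nat_lit 7) [nat_lit 0, nat_lit 0, nat_lit 2, nat_lit 2, nat_lit 7, nat_lit 4, nat_lit 7], .rel (nat_lit 71) (nat_lit 2) [nat_lit 6, nat_lit 3, nat_lit 3, nat_lit 1, nat_lit 1, nat_lit 4, nat_lit 6], .rel (nat_lit 73) (nat_lit 1) [nat_lit 6, nat_lit 2, nat_lit 5, nat_lit 3, nat_lit 1, nat_lit 1, nat_lit 7], .rel (nat_lit 81) (nat_lit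 2) [nat_lit 6, nat_lit 4, nat_lit 3, nat_lit 1, nat_lit 1, nat_lit 3, nat_lit 6], .rel (nat_lit 88) (nat_lit 5) [nat_lit 0, nat_lit 4, nat_lit 0, nat_lit 0, nat_lit 3, nat_lit 0, nat_lit 2], .rel (nat_lit 89) (nat_lit 0) [nat_lit 1, nat_lit 4, nat_lit 3, nat_lit 1, nat_lit 2, nat_lit 1, nat_lit 1], .rel (nat_lit 99) (nat_lit 4) [nat_lit 2, nat_lit 1, nat_lit 1, nat_lit 6, nat_lit 3, nat_lit 4, nat_lit 7], .rel (nat_lit 109) (nat_lit 0) [nat_lit 6, nat_lit 2, nat_lit 5, nat_lit 6, nat_lit 2, nat_lit 1, nat_lit 1], .rel (nat_lit 114) (nat_lit 7) [nat_lit 0, nat_lit 0, nat_lit 4, nat_lit 4, nat_lit 0, nat_lit 0, nat_lit 5], .rel (nat_lit 197) (nat_lit 2) [nat_lit 1, nat_lit 2, nat_lit 7, nat_lit 3, nat_lit 1, nat_lit 4, nat_lit 6], .rel (nat_lit 208) (nat_lit 5) [nat_lit 0, nat_lit 7, nat_lit 0, nat_lit 2, nat_lit 7, nat_lit 5, nat_lit 3], .rel (nat_lit 225) (nat_lit 5) [nat_lit 2, nat_lit 1, nat_lit 6, nat_lit 0, nat_lit 5, nat_lit 2,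 nat_lit 7], .rel (nat_lit 247) (nat_lit 6) [nat_lit 1, nat_lit 2, nat_lit 5, nat_lit 6, nat_lit 1, nat_lit 7, nat_lit 2], .rel (nat_lit 251) (nat_lit 5) [nat_lit 5, nat_lit 1, nat_lit 6, nat_lit 6, nat_lit 5, nat_lit 5, nat_lit 0], .rel (nat_lit 251) (nat_lit 6) [nat_lit 1, nat_lit 6, nat_lit 6, nat_lit 5, nat_lit 5, nat_lit 0, nat_lit 5], .rel (nat_lit 253) (nat_lit 6) [nat_lit 1, nat_lit 2, nat_lit 5, nat_lit 2, nat_lit 4, nat_lit 0, nat_lit 5], .rel (nat_lit 260) (nat_lit 4) [nat_lit 6, nat_lit 6, nat_lit 4, nat_lit 0, nat_lit 6, nat_lit 0, nat_lit 7], .rel (nat_lit 262) (nat_lit 7) [nat_lit 2, nat_lit 4, nat_lit 4, nat_lit 7, nat_lit 2, nat_lit 7, nat_lit 5]],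
  [.rel (nat_lit 12) (nat_lit 0) [nat_lit 7], .defn, .rel (nat_lit 28) (nat_lit 0) [nat_lit 6, nat_lit 6, nat_lit 6], .rel (nat_lit 24) (nat_lit 1) [nat_lit 2, nat_lit 6, nat_lit 2], .rel (nat_lit 35) (nat_lit 3) [nat_lit 3, nat_lit 1, nat_lit 7, nat_lit 1, nat_lit 3], .rel (nat_lit 46) (nat_lit 2) [nat_lit 4, nat_lit 4, nat_lit 7, nat_lit 4, nat_lit 4], .rel (nat_lit 44) (nat_lit 4) [nat_lit 6, nat_lit 2, nat_lit 5, nat_lit 2, nat_lit 5], .rel (nat_lit 38) (nat_lit 2) [nat_lit 1, nat_lit 6, nat_lit 6, nat_lit 0, nat_lit 6], .rel (nat_lit 31) (nat_lit 0) [nat_lit 1, nat_lit 1, nat_lit 7, nat_lit 1, nat_lit 1], .rel (nat_lit 34) (nat_lit 5) [nat_lit 0, nat_lit 2, nat_lit 7, nat_lit 2, nat_lit 0], .rel (nat_lit 42) (nat_lit 3) [nat_lit 6, nat_lit 4, nat_lit 2, nat_lit 4, nat_lit 2], .rel (nat_lit 42) (nat_lit 4) [nat_lit 4, nat_lit 2, nat_lit 4, nat_lit 2, nat_lit 6], .rel (nat_lit 30) (nat_lit 2) [nat_lit 0, nat_lit 0, nat_lit 7, nat_lit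 0, nat_lit 0], .rel (nat_lit 44) (nat_lit 5) [nat_lit 2, nat_lit 5, nat_lit 2, nat_lit 5, nat_lit 6], .rel (nat_lit 38) (nat_lit 1) [nat_lit 6, nat_lit 1, nat_lit 6, nat_lit 6, nat_lit 0], .rel (nat_lit 47) (nat_lit 0) [nat_lit 5, nat_lit 5, nat_lit 7, nat_lit 5, nat_lit 5], .rel (nat_lit 38) (nat_lit 4) [nat_lit 6, nat_lit 0, nat_lit 6, nat_lit 6, nat_lit 1], .rel (nat_lit 36) (nat_lit 2) [nat_lit 3, nat_lit 0, nat_lit 7, nat_lit 0, nat_lit 3], .rel (nat_lit 37) (nat_lit 0) [nat_lit 1, nat_lit 2, nat_lit 7, nat_lit 2, nat_lit 1], .rel (nat_lit 38) (nat_lit 5) [nat_lit 0, nat_lit 6, nat_lit 6, nat_lit 1, nat_lit 6], .rel (nat_lit 54) (nat_lit 4) [nat_lit 1, nat_lit 6, nat_lit 3, nat_lit 0, nat_lit 0, nat_lit 2, nat_lit 0], .rel (nat_lit 57) (nat_lit 3) [nat_lit 1, nat_lit 3, nat_lit 1, nat_lit 1, nat_lit 7, nat_lit 3, nat_lit 0], .rel (nat_lit 68) (nat_lit 5) [nat_lit 5, nat_lit 6, nat_lit 0, nat_lit 0, nat_lit 2, nat_lit 2, nat_lit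 4], .rel (nat_lit 102) (nat_lit 4) [nat_lit 3, nat_lit 5, nat_lit 6, nat_lit 0, nat_lit 0, nat_lit 3, nat_lit 5], .rel (nat_lit 110) (nat_lit 4) [nat_lit 1, nat_lit 6, nat_lit 5, nat_lit 0, nat_lit 0, nat_lit 4, nat_lit 0], .rel (nat_lit 121) (nat_lit 2) [nat_lit 0, nat_lit 6, nat_lit 5, nat_lit 1, nat_lit 1, nat_lit 4, nat_lit 1], .rel (nat_lit 168) (nat_lit 4) [nat_lit 3, nat_lit 7, nat_lit 2, nat_lit 0, nat_lit 2, nat_lit 2, nat_lit 0], .rel (nat_lit 198) (nat_lit 5) [nat_lit 2, nat_lit 2, nat_lit 0, nat_lit 2, nat_lit 6, nat_lit 3, nat_lit 1], .rel (nat_lit 54) (nat_lit 6) [nat_lit 3, nat_lit 0, nat_lit 0, nat_lit 2, nat_lit 0, nat_lit 6, nat_lit 1], .rel (nat_lit 56) (nat_lit 7) [nat_lit 0, nat_lit 0, nat_lit 2, nat_lit 0, nat_lit 7, nat_lit 1, nat_lit 2], .rel (nat_lit 63) (nat_lit 3) [nat_lit 0, nat_lit 3, nat_lit 1, nat_lit 1, nat_lit 2, nat_lit 6, nat_lit 1], .rel (nat_lit 71) (nat_lit 1) [nat_lit 5, nat_lit 6, nat_lit 3, nat_lit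 3, nat_lit 1, nat_lit 1, nat_lit 4], .rel (nat_lit 73) (nat_lit 2) [nat_lit 2, nat_lit 5, nat_lit 3, nat_lit 1, nat_lit 1, nat_lit 7, nat_lit 5], .rel (nat_lit 86) (nat_lit 7) [nat_lit 0, nat_lit 0, nat_lit 3, nat_lit 0, nat_lit 0, nat_lit 6, nat_lit 3], .rel (nat_lit 126) (nat_lit 7) [nat_lit 0, nat_lit 0, nat_lit 5, nat_lit 2, nat_lit 2, nat_lit 6, nat_lit 4], .rel (nat_lit 141) (nat_lit 2) [nat_lit 3, nat_lit 5, nat_lit 7, nat_lit 1, nat_lit 1, nat_lit 4, nat_lit 2], .rel (nat_lit 145) (nat_lit 5) [nat_lit 1, nat_lit 1, nat_lit 2, nat_lit 4, nat_lit 6, nat_lit 2, nat_lit 4], .rel (nat_lit 180) (nat_lit 4) [nat_lit 4, nat_lit 3, nat_lit 7, nat_lit 0, nat_lit 2, nat_lit 5, nat_lit 0], .rel (nat_lit 181) (nat_lit 0) [nat_lit 2, nat_lit 5, nat_lit 7, nat_lit 1, nat_lit 4, nat_lit 3, nat_lit 1], .rel (nat_lit 192) (nat_lit 3) [nat_lit 1, nat_lit 4, nat_lit 7, nat_lit 2, nat_lit 0, nat_lit 2, nat_lit 5], .rel (nat_lit 240) (nat_lit 6)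 [nat_lit 2, nat_lit 0, nat_lit 3, nat_lit 7, nat_lit 4, nat_lit 0, nat_lit 5], .rel (nat_lit 243) (nat_lit 0) [nat_lit 3, nat_lit 5, nat_lit 1, nat_lit 6, nat_lit 3, nat_lit 5, nat_lit 1]],
  [.rel (nat_lit 12) (nat_lit 1) [nat_lit 6], .defn, .rel (nat_lit 29) (nat_lit 0) [nat_lit 7, nat_lit 7, nat_lit 7], .rel (nat_lit 25) (nat_lit 0) [nat_lit 3, nat_lit 7, nat_lit 3], .rel (nat_lit 34) (nat_lit 2) [nat_lit 2, nat_lit 0, nat_lit 6, nat_lit 0, nat_lit 2], .rel (nat_lit 43) (nat_lit 1) [nat_lit 7, nat_lit 3, nat_lit 5, nat_lit 3, nat_lit 5], .rel (nat_lit 46) (nat_lit 5) [nat_lit 4, nat_lit 4, nat_lit 6, nat_lit 4, nat_lit 4], .rel (nat_lit 31) (nat_lit 3) [nat_lit 1, nat_lit 1, nat_lit 6, nat_lit 1, nat_lit 1], .rel (nat_lit 36) (nat_lit 5) [nat_lit 0, nat_lit 3, nat_lit 6, nat_lit 3, nat_lit 0], .rel (nat_lit 45) (nat_lit 0) [nat_lit 7, nat_lit 4, nat_lit 3, nat_lit 4, nat_lit 3], .rel (nat_lit 47) (nat_lit 3) [nat_lit 5, nat_lit 5,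 nat_lit 6, nat_lit 5, nat_lit 5], .rel (nat_lit 39) (nat_lit 0) [nat_lit 7, nat_lit 0, nat_lit 7, nat_lit 7, nat_lit 1], .rel (nat_lit 39) (nat_lit 3) [nat_lit 7, nat_lit 1, nat_lit 7, nat_lit 7, nat_lit 0], .rel (nat_lit 30) (nat_lit 5) [nat_lit 0, nat_lit 0, nat_lit 6, nat_lit 0, nat_lit 0], .rel (nat_lit 45) (nat_lit 1) [nat_lit 4, nat_lit 3, nat_lit 4, nat_lit 3, nat_lit 7], .rel (nat_lit 37) (nat_lit 3) [nat_lit 2, nat_lit 1, nat_lit 6, nat_lit 1, nat_lit 2], .rel (nat_lit 39) (nat_lit 1) [nat_lit 0, nat_lit 7, nat_lit 7, nat_lit 1, nat_lit 7], .rel (nat_lit 117) (nat_lit 2) [nat_lit 1, nat_lit 7, nat_lit 5, nat_lit 1, nat_lit 1, nat_lit 4, nat_lit 0], .rel (nat_lit 56) (nat_lit 4) [nat_lit 1, nat_lit 2, nat_lit 6, nat_lit 0, nat_lit 0, nat_lit 2, nat_lit 0], .rel (nat_lit 112) (nat_lit 4) [nat_lit 0, nat_lit 7, nat_lit 5, nat_lit 0, nat_lit 0, nat_lit 4, nat_lit 1], .rel (nat_lit 213) (nat_lit 1) [nat_lit 2, nat_lit 2, nat_lit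 1, nat_lit 2, nat_lit 2, nat_lit 1, nat_lit 7], .rel (nat_lit 237) (nat_lit 0) [nat_lit 3, nat_lit 5, nat_lit 1, nat_lit 6, nat_lit 4, nat_lit 2, nat_lit 1], .rel (nat_lit 257) (nat_lit 5) [nat_lit 5, nat_lit 1, nat_lit 6, nat_lit 1, nat_lit 7, nat_lit 4, nat_lit 7], .rel (nat_lit 35) (nat_lit 0) [nat_lit 1, nat_lit 3, nat_lit 6, nat_lit 3, nat_lit 1], .rel (nat_lit 43) (nat_lit 2) [nat_lit 3, nat_lit 5, nat_lit 3, nat_lit 5, nat_lit 7], .rel (nat_lit 48) (nat_lit 7) [nat_lit 0, nat_lit 0, nat_lit 2, nat_lit 0, nat_lit 0, nat_lit 7, nat_lit 2], .rel (nat_lit 69) (nat_lit 0) [nat_lit 4, nat_lit 7, nat_lit 5, nat_lit 3, nat_lit 3, nat_lit 1, nat_lit 1], .rel (nat_lit 80) (nat_lit 4) [nat_lit 4, nat_lit 7, nat_lit 2, nat_lit 0, nat_lit 0, nat_lit 2, nat_lit 5], .rel (nat_lit 94) (nat_lit 7) [nat_lit 0, nat_lit 0, nat_lit 3, nat_lit 1, nat_lit 6, nat_lit 0, nat_lit 3], .rel (nat_lit 104) (nat_lit 4) [nat_lit 3, nat_lit 5, nat_lit 7, nat_lit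 0, nat_lit 0, nat_lit 3, nat_lit 5], .rel (nat_lit 106) (nat_lit 5) [nat_lit 2, nat_lit 5, nat_lit 0, nat_lit 0, nat_lit 3, nat_lit 6, nat_lit 5], .rel (nat_lit 122) (nat_lit 3) [nat_lit 2, nat_lit 2, nat_lit 5, nat_lit 7, nat_lit 0, nat_lit 0, nat_lit 4], .rel (nat_lit 127) (nat_lit 2) [nat_lit 3, nat_lit 3, nat_lit 4, nat_lit 1, nat_lit 1, nat_lit 7, nat_lit 5], .rel (nat_lit 129) (nat_lit 3) [nat_lit 3, nat_lit 4, nat_lit 1, nat_lit 1, nat_lit 6, nat_lit 5, nat_lit 2], .rel (nat_lit 133) (nat_lit 2) [nat_lit 1, nat_lit 7, nat_lit 4, nat_lit 1, nat_lit 1, nat_lit 5, nat_lit 0], .rel (nat_lit 137) (nat_lit 5) [nat_lit 1, nat_lit 1, nat_lit 5, nat_lit 6, nat_lit 3, nat_lit 5, nat_lit 2], .rel (nat_lit 139) (nat_lit 5) [nat_lit 1, nat_lit 1, nat_lit 3, nat_lit 5, nat_lit 6, nat_lit 4, nat_lit 2], .rel (nat_lit 142) (nat_lit 4) [nat_lit 3, nat_lit 3, nat_lit 5, nat_lit 0, nat_lit 0, nat_lit 7, nat_lit 4], .rel (nat_lit 154) (nat_lit 3)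 [nat_lit 0, nat_lit 2, nat_lit 0, nat_lit 7, nat_lit 0, nat_lit 2, nat_lit 0], .rel (nat_lit 171) (nat_lit 2) [nat_lit 5, nat_lit 0, nat_lit 3, nat_lit 3, nat_lit 1, nat_lit 6, nat_lit 4], .rel (nat_lit 174) (nat_lit 4) [nat_lit 0, nat_lit 3, nat_lit 3, nat_lit 0, nat_lit 2, nat_lit 2, nat_lit 7], .rel (nat_lit 176) (nat_lit 3) [nat_lit 1, nat_lit 5, nat_lit 7, nat_lit 2, nat_lit 0, nat_lit 2, nat_lit 4], .rel (nat_lit 193) (nat_lit 4) [nat_lit 4, nat_lit 3, nat_lit 1, nat_lit 3, nat_lit 6, nat_lit 5, nat_lit 0], .rel (nat_lit 214) (nat_lit 4) [nat_lit 2, nat_lit 6, nat_lit 3, nat_lit 0, nat_lit 3, nat_lit 3, nat_lit 0], .rel (nat_lit 226) (nat_lit 3) [nat_lit 3, nat_lit 4, nat_lit 1, nat_lit 6, nat_lit 0, nat_lit 3, nat_lit 4], .rel (nat_lit 230) (nat_lit 4) [nat_lit 2, nat_lit 7, nat_lit 5, nat_lit 0, nat_lit 3, nat_lit 5, nat_lit 0], .rel (nat_lit 245) (nat_lit 0) [nat_lit 2, nat_lit 5, nat_lit 7, nat_lit 1, nat_lit 2, nat_lit 5,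 nat_lit 1], .rel (nat_lit 254) (nat_lit 5) [nat_lit 2, nat_lit 5, nat_lit 0, nat_lit 4, nat_lit 6, nat_lit 2, nat_lit 0]]]
noncomputable def c1 : TCert2 := ⟨1024, 1024, 1024, 8, 1023, 16383, 0, T1, I1, D1, E1, J1, W1, [], RL1⟩
noncomputable def T2d : List ℕ := [nat_lit 0x5eac7c,
  nat_lit 0x4e6b7c,
  nat_lit 0x2e5fbc,
  nat_lit 0x1f98bc,
  nat_lit 0x4edabc,
  nat_lit 0x3edabc,
  nat_lit 0x4f6b7c,
  nat_lit 0x3f2a7c,
  nat_lit 0x7bfe3d,
  nat_lit 0xe9be35]
noncomputable def T2 (k u : ℕ) : ℕ := Nat.land (Nat.shiftRight (nth (nat_lit 0) T2d k) (Nat.mul u (nat_lit 6))) (nat_lit 63)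
noncomputable def I2d : List ℕ := [nat_lit 0x21,
  nat_lit 1,
  nat_lit 0xe4,
  nat_lit 1,
  nat_lit 0xe4,
  nat_lit 0x21,
  nat_lit 0x21,
  nat_lit 1,
  nat_lit 0x44,
  nat_lit 0]
noncomputable def I2 (k u : ℕ) : ℕ := Nat.land (Nat.shiftRight (nth (nat_lit 0) I2d k) (Nat.mul u (nat_lit 2))) (nat_lit 3)
noncomputable def D2d : ℕ := nat_lit 0xdc8c4800
noncomputable def D2 (u : ℕ) : ℕ := Nat.land (Nat.shiftRight D2d (Nat.mul u (nat_lit 8))) (nat_lit 255)
noncomputable def E2 (_ : ℕ) : ℕ := nat_lit 0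
noncomputable def J2 (_ : ℕ) : ℕ := nat_lit 0
noncomputable def W2 (_ : ℕ) : ℕ := nat_lit 0
noncomputable def RL2 : List (List Rule) := [[.rel (nat_lit 268) (nat_lit 0) [nat_lit 8, nat_lit 1, nat_lit 4, nat_lit 4, nat_lit 9], .sub (nat_lit 0) [] [], .rel (nat_lit 280) (nat_lit 6) [nat_lit 3, nat_lit 1, nat_lit 8, nat_lit 4, nat_lit 3, nat_lit 9, nat_lit 6, nat_lit 2]],
  [.rel (nat_lit 0) (nat_lit 1) [nat_lit 0], .sub (nat_lit 2) [] []],
  [.sub (nat_lit 4) [] [], .defn, .rel (nat_lit 277) (nat_lit 1) [nat_lit 4, nat_lit 4, nat_lit 8, nat_lit 2, nat_lit 2, nat_lit 9, nat_lit 2], .rel (nat_lit 285) (nat_lit 1) [nat_lit 4, nat_lit 7, nat_lit 8, nat_lit 2, nat_lit 8, nat_lit 1, nat_lit 9, nat_lit 3, nat_lit 9, nat_lit 0]],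
  [.rel (nat_lit 4) (nat_lit 1) [nat_lit 2], .sub (nat_lit 6) [] []],
  [.sub (nat_lit 8) [] [], .rel (nat_lit 8) (nat_lit 0) [nat_lit 5], .rel (nat_lit 272) (nat_lit 2) [nat_lit 8, nat_lit 5, nat_lit 2, nat_lit 8, nat_lit 0, nat_lit 2], .rel (nat_lit 283) (nat_lit 1) [nat_lit 0, nat_lit 8, nat_lit 2, nat_lit 8, nat_lit 5, nat_lit 9, nat_lit 3, nat_lit 9, nat_lit 0]],
  [.rel (nat_lit 8) (nat_lit 1) [nat_lit 4], .sub (nat_lit 10) [] [], .rel (nat_lit 274) (nat_lit 2) [nat_lit 9, nat_lit 3, nat_lit 5, nat_lit 9, nat_lit 0, nat_lit 2]],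
  [.rel (nat_lit 270) (nat_lit 5) [nat_lit 0, nat_lit 8, nat_lit 1, nat_lit 6, nat_lit 9], .sub (nat_lit 12) [] [], .rel (nat_lit 278) (nat_lit 2) [nat_lit 3, nat_lit 9, nat_lit 4, nat_lit 7, nat_lit 5, nat_lit 8, nat_lit 2]],
  [.rel (nat_lit 12) (nat_lit 1) [nat_lit 6], .sub (nat_lit 14) [] []],
  [.defn, .rel (nat_lit 266) (nat_lit 3) [nat_lit 5, nat_lit 6, nat_lit 0, nat_lit 3, nat_lit 8]],
  [.rel (nat_lit 16) (nat_lit 1) [nat_lit 8]]]
noncomputable def c2 : TCert2 := ⟨4, 4, 4, 10, 3, 63, 0, T2, I2, D2, E2, J2, W2, [[nat_lit 0],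
  [nat_lit 1],
  [nat_lit 2],
  [nat_lit 3],
  [nat_lit 4],
  [nat_lit 5],
  [nat_lit 6],
  [nat_lit 7]], RL2⟩
noncomputable def T3d : List ℕ := [nat_lit 0x6d6a70,
  nat_lit 0x5d2970,
  nat_lit 0x4e9cb0,
  nat_lit 0x3ed9b0,
  nat_lit 0x3d96b0,
  nat_lit 0x2dd5b0,
  nat_lit 0x2cea70,
  nat_lit 0x1d2970,
  nat_lit 0x5ea970,
  nat_lit 0x4e6870,
  nat_lit 0xbb3b31]
noncomputable def T3 (k u : ℕ) : ℕ := Nat.land (Nat.shiftRight (nth (nat_lit 0) T3d k) (Nat.mul u (nat_lit 6))) (nat_lit 63)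
noncomputable def I3d : List ℕ := [nat_lit 0x21,
  nat_lit 1,
  nat_lit 0xe4,
  nat_lit 1,
  nat_lit 0xe4,
  nat_lit 0x21,
  nat_lit 0x21,
  nat_lit 0x21,
  nat_lit 0x21,
  nat_lit 1,
  nat_lit 0x44]
noncomputable def I3 (k u : ℕ) : ℕ := Nat.land (Nat.shiftRight (nth (nat_lit 0) I3d k) (Nat.mul u (nat_lit 2))) (nat_lit 3)
noncomputable def D3d : ℕ := nat_lit 0xe08d4a00
noncomputable def D3 (u : ℕ) : ℕ := Nat.land (Nat.shiftRight D3d (Nat.mul u (nat_lit 8))) (nat_lit 255)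
noncomputable def E3 (_ : ℕ) : ℕ := nat_lit 0
noncomputable def J3 (_ : ℕ) : ℕ := nat_lit 0
noncomputable def W3 (_ : ℕ) : ℕ := nat_lit 0
noncomputable def RL3 : List (List Rule) := [[.rel (nat_lit 298) (nat_lit 3) [nat_lit 10, nat_lit 5, nat_lit 7, nat_lit 0, nat_lit 2, nat_lit 10], .sub (nat_lit 0) [] [], .rel (nat_lit 290) (nat_lit 6) [nat_lit 3, nat_lit 1, nat_lit 8, nat_lit 4, nat_lit 3, nat_lit 9, nat_lit 6, nat_lit 2]],
  [.rel (nat_lit 0) (nat_lit 1) [nat_lit 0], .sub (nat_lit 2) [] []],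
  [.sub (nat_lit 4) [] [], .defn, .rel (nat_lit 301) (nat_lit 6) [nat_lit 10, nat_lit 2, nat_lit 4, nat_lit 3, nat_lit 5, nat_lit 10, nat_lit 2], .rel (nat_lit 308) (nat_lit 1) [nat_lit 10, nat_lit 2, nat_lit 10, nat_lit 3, nat_lit 10, nat_lit 4, nat_lit 2, nat_lit 5, nat_lit 10]],
  [.rel (nat_lit 4) (nat_lit 1) [nat_lit 2], .sub (nat_lit 6) [] []],
  [.sub (nat_lit 8) [] [], .rel (nat_lit 8) (nat_lit 0) [nat_lit 5], .rel (nat_lit 317) (nat_lit 1) [nat_lit 3, nat_lit 5, nat_lit 10, nat_lit 3, nat_lit 3, nat_lit 10, nat_lit 2], .rel (nat_lit 322) (nat_lit 7) [nat_lit 9, nat_lit 2, nat_lit 10, nat_lit 2, nat_lit 10, nat_lit 8, nat_lit 10, nat_lit 3, nat_lit 10]],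
  [.rel (nat_lit 8) (nat_lit 1) [nat_lit 4], .sub (nat_lit 10) [] [], .rel (nat_lit 314) (nat_lit 6) [nat_lit 9, nat_lit 10, nat_lit 4, nat_lit 3, nat_lit 10, nat_lit 8, nat_lit 2]],
  [.rel (nat_lit 296) (nat_lit 4) [nat_lit 10, nat_lit 0, nat_lit 6, nat_lit 0, nat_lit 10], .sub (nat_lit 12) [] [], .rel (nat_lit 12) (nat_lit 0) [nat_lit 7]],
  [.rel (nat_lit 12) (nat_lit 1) [nat_lit 6], .sub (nat_lit 14) [] [], .rel (nat_lit 275) (nat_lit 5) [nat_lit 5, nat_lit 7, nat_lit 1, nat_lit 1, nat_lit 2, nat_lit 4, nat_lit 4, nat_lit 2, nat_lit 5]],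
  [.rel (nat_lit 312) (nat_lit 1) [nat_lit 10, nat_lit 9, nat_lit 4, nat_lit 2, nat_lit 10, nat_lit 0], .sub (nat_lit 16) [] [], .rel (nat_lit 320) (nat_lit 2) [nat_lit 3, nat_lit 10, nat_lit 1, nat_lit 4, nat_lit 8, nat_lit 4, nat_lit 1, nat_lit 10, nat_lit 2]],
  [.rel (nat_lit 16) (nat_lit 1) [nat_lit 8], .sub (nat_lit 18) [] []],
  [.defn, .rel (nat_lit 20) (nat_lit 0) [nat_lit 10]]]
noncomputable def c3 : TCert2 := ⟨4, 4, 4, 11, 3, 63, 0, T3, I3, D3, E3, J3, W3, [[nat_lit 0],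
  [nat_lit 1],
  [nat_lit 2],
  [nat_lit 3],
  [nat_lit 4],
  [nat_lit 5],
  [nat_lit 6],
  [nat_lit 7],
  [nat_lit 8],
  [nat_lit 9]], RL3⟩
noncomputable def T4d : List ℕ := [nat_lit 0x1ac78,
  nat_lit 0x16b78,
  nat_lit 0xec78,
  nat_lit 0x12b78,
  nat_lit 0x1ea78,
  nat_lit 0x1a978,
  nat_lit 0x16c78,
  nat_lit 0x12b78,
  nat_lit 0x21eb8,
  nat_lit 0x357b8,
  nat_lit 0x93b8,
  nat_lit 0x6d39]
noncomputable def T4 (k u : ℕ) : ℕ := Nat.land (Nat.shiftRight (nth (nat_lit 0) T4d k) (Nat.mul u (nat_lit 6))) (nat_lit 63)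
noncomputable def I4d : List ℕ := [nat_lit 0x18,
  nat_lit 1,
  nat_lit 0x18,
  nat_lit 0x24,
  nat_lit 0x24,
  nat_lit 1,
  nat_lit 0x18,
  nat_lit 1,
  nat_lit 0x24,
  nat_lit 1,
  nat_lit 0x18,
  nat_lit 0x24]
noncomputable def I4 (k u : ℕ) : ℕ := Nat.land (Nat.shiftRight (nth (nat_lit 0) I4d k) (Nat.mul u (nat_lit 2))) (nat_lit 3)
noncomputable def D4d : ℕ := nat_lit 0x944b00
noncomputable def D4 (u : ℕ) : ℕ := Nat.land (Nat.shiftRight D4d (Nat.mul u (nat_lit 8))) (nat_lit 255)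
noncomputable def E4 (_ : ℕ) : ℕ := nat_lit 0
noncomputable def J4 (_ : ℕ) : ℕ := nat_lit 0
noncomputable def W4 (_ : ℕ) : ℕ := nat_lit 0
noncomputable def RL4 : List (List Rule) := [[.sub (nat_lit 0) [] [], .rel (nat_lit 278) (nat_lit 0) [nat_lit 8, nat_lit 1, nat_lit 4, nat_lit 4, nat_lit 9], .rel (nat_lit 324) (nat_lit 1) [nat_lit 11, nat_lit 2, nat_lit 9, nat_lit 2, nat_lit 10, nat_lit 0, nat_lit 11]],
  [.rel (nat_lit 0) (nat_lit 1) [nat_lit 0], .sub (nat_lit 2) [] []],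
  [.sub (nat_lit 4) [] [], .rel (nat_lit 4) (nat_lit 0) [nat_lit 3], .rel (nat_lit 326) (nat_lit 1) [nat_lit 11, nat_lit 4, nat_lit 2, nat_lit 0, nat_lit 3, nat_lit 1, nat_lit 11]],
  [.sub (nat_lit 6) [] [], .rel (nat_lit 4) (nat_lit 1) [nat_lit 2], .rel (nat_lit 294) (nat_lit 9) [nat_lit 1, nat_lit 8, nat_lit 2, nat_lit 8, nat_lit 0, nat_lit 9, nat_lit 3, nat_lit 9, nat_lit 6, nat_lit 5]],
  [.sub (nat_lit 8) [] [], .rel (nat_lit 326) (nat_lit 3) [nat_lit 2, nat_lit 0, nat_lit 3, nat_lit 1, nat_lit 11, nat_lit 2, nat_lit 11], .rel (nat_lit 328) (nat_lit 5) [nat_lit 8, nat_lit 4, nat_lit 2, nat_lit 11, nat_lit 10, nat_lit 9, nat_lit 11, nat_lit 8]],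
  [.rel (nat_lit 8) (nat_lit 1) [nat_lit 4], .sub (nat_lit 10) [] []],
  [.sub (nat_lit 12) [] [], .rel (nat_lit 280) (nat_lit 5) [nat_lit 0, nat_lit 8, nat_lit 1, nat_lit 6, nat_lit 9], .rel (nat_lit 330) (nat_lit 1) [nat_lit 11, nat_lit 10, nat_lit 2, nat_lit 8, nat_lit 10, nat_lit 3, nat_lit 9, nat_lit 1, nat_lit 11]],
  [.rel (nat_lit 12) (nat_lit 1) [nat_lit 6], .sub (nat_lit 14) [] []],
  [.sub (nat_lit 16) [] [], .defn, .rel (nat_lit 276) (nat_lit 3) [nat_lit 5, nat_lit 6, nat_lit 0, nat_lit 3, nat_lit 8]],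
  [.rel (nat_lit 16) (nat_lit 1) [nat_lit 8], .sub (nat_lit 18) [] []],
  [.sub (nat_lit 20) [] [], .rel (nat_lit 20) (nat_lit 0) [nat_lit 10], .rel (nat_lit 325) (nat_lit 1) [nat_lit 3, nat_lit 8, nat_lit 3, nat_lit 11, nat_lit 1, nat_lit 11, nat_lit 1]],
  [.defn, .rel (nat_lit 22) (nat_lit 0) [nat_lit 11], .rel (nat_lit 332) (nat_lit 4) [nat_lit 5, nat_lit 3, nat_lit 4, nat_lit 10, nat_lit 3, nat_lit 11, nat_lit 8, nat_lit 11, nat_lit 9]]]
noncomputable def c4 : TCert2 := ⟨3, 3, 3, 12, 3, 63, 0, T4, I4, D4, E4, J4, W4, [[nat_lit 0],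
  [nat_lit 1],
  [nat_lit 2],
  [nat_lit 3],
  [nat_lit 4],
  [nat_lit 5],
  [nat_lit 6],
  [nat_lit 7],
  [nat_lit 8],
  [nat_lit 9],
  [nat_lit 10]], RL4⟩
noncomputable def T5d : List ℕ := [nat_lit 0x1e35746b9a91a8,
  nat_lit 0x262d6c639289a8,
  nat_lit 0x1e1d6b5c79aaa8,
  nat_lit 0x16156364a172a8,
  nat_lit 0x463d53549972a8,
  nat_lit 0x3e355b4c6992a8,
  nat_lit 0x5e2d6c636291a8,
  nat_lit 0x5625645b6a99a8,
  nat_lit 0x24432ead6a81a8,
  nat_lit 0x34a32e3d7289a8,
  nat_lit 0xa3140dae7a99a8,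
  nat_lit 0x460da2a1acaba8,
  nat_lit 0x5315644e9aa0a9]
noncomputable def T5 (k u : ℕ) : ℕ := Nat.land (Nat.shiftRight (nth (nat_lit 0) T5d k) (Nat.mul u (nat_lit 8))) (nat_lit 255)
noncomputable def I5d : List ℕ := [nat_lit 0x98129,
  nat_lit 0x80001,
  nat_lit 0x4751,
  nat_lit 0x2001,
  nat_lit 0x19c350,
  nat_lit 0x2001,
  nat_lit 0x119202,
  nat_lit 0x99,
  nat_lit 0x18401,
  nat_lit 0x1420e1,
  nat_lit 0x18561,
  nat_lit 0x119202,
  nat_lit 0x1150c1]
noncomputable def I5 (k u : ℕ) : ℕ := Nat.land (Nat.shiftRight (nth (nat_lit 0) I5d k) (Nat.mul u (nat_lit 3))) (nat_lit 7)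
noncomputable def D5d : ℕ := nat_lit 0x6c75fa58c43d1800
noncomputable def D5 (u : ℕ) : ℕ := Nat.land (Nat.shiftRight D5d (Nat.mul u (nat_lit 9))) (nat_lit 511)
noncomputable def E5 (_ : ℕ) : ℕ := nat_lit 0
noncomputable def J5 (_ : ℕ) : ℕ := nat_lit 0
noncomputable def W5 (_ : ℕ) : ℕ := nat_lit 0
noncomputable def RL5 : List (List Rule) := [[.rel (nat_lit 324) (nat_lit 1) [nat_lit 11, nat_lit 2, nat_lit 9, nat_lit 2, nat_lit 10, nat_lit 0, nat_lit 11], .sub (nat_lit 0) [] [], .rel (nat_lit 0) (nat_lit 0) [nat_lit 1], .rel (nat_lit 278) (nat_lit 0) [nat_lit 8, nat_lit 1, nat_lit 4, nat_lit 4, nat_lit 9], .rel (nat_lit 380) (nat_lit 2) [nat_lit 3, nat_lit 12, nat_lit 2, nat_lit 5, nat_lit 7, nat_lit 12, nat_lit 2], .rel (nat_lit 388) (nat_lit 0) [nat_lit 12, nat_lit 10, nat_lit 0, nat_lit 12, nat_lit 10]],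
  [.rel (nat_lit 0) (nat_lit 1) [nat_lit 0], .sub (nat_lit 2) [] [], .rel (nat_lit 278) (nat_lit 2) [nat_lit 4, nat_lit 4, nat_lit 9, nat_lit 0, nat_lit 8]],
  [.rel (nat_lit 277) (nat_lit 4) [nat_lit 1, nat_lit 7, nat_lit 4, nat_lit 9, nat_lit 9], .sub (nat_lit 4) [] [], .defn, .rel (nat_lit 4) (nat_lit 0) [nat_lit 3], .rel (nat_lit 326) (nat_lit 1) [nat_lit 11, nat_lit 4, nat_lit 2, nat_lit 0, nat_lit 3, nat_lit 1, nat_lit 11], .rel (nat_lit 372) (nat_lit 3) [nat_lit 8, nat_lit 8, nat_lit 12, nat_lit 0, nat_lit 12, nat_lit 2]],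
  [.rel (nat_lit 4) (nat_lit 1) [nat_lit 2], .sub (nat_lit 6) [] [], .rel (nat_lit 348) (nat_lit 6) [nat_lit 0, nat_lit 11, nat_lit 10, nat_lit 4, nat_lit 9, nat_lit 11]],
  [.sub (nat_lit 8) [] [], .rel (nat_lit 8) (nat_lit 0) [nat_lit 5], .rel (nat_lit 287) (nat_lit 2) [nat_lit 4, nat_lit 8, nat_lit 2, nat_lit 2, nat_lit 9, nat_lit 2, nat_lit 2], .rel (nat_lit 328) (nat_lit 5) [nat_lit 8, nat_lit 4, nat_lit 2, nat_lit 11, nat_lit 10, nat_lit 9, nat_lit 11, nat_lit 8], .rel (nat_lit 344) (nat_lit 0) [nat_lit 7, nat_lit 11, nat_lit 4, nat_lit 7, nat_lit 11], .rel (nat_lit 374) (nat_lit 1) [nat_lit 12, nat_lit 4, nat_lit 7, nat_lit 5, nat_lit 12, nat_lit 2], .rel (nat_lit 412) (nat_lit 8) [nat_lit 10, nat_lit 7, nat_lit 11, nat_lit 12, nat_lit 2, nat_lit 11, nat_lit 9, nat_lit 12, nat_lit 11, nat_lit 12, nat_lit 6]],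
  [.rel (nat_lit 8) (nat_lit 1) [nat_lit 4], .sub (nat_lit 10) [] [], .rel (nat_lit 327) (nat_lit 4) [nat_lit 11, nat_lit 3, nat_lit 11, nat_lit 0, nat_lit 2, nat_lit 1, nat_lit 3]],
  [.rel (nat_lit 12) (nat_lit 0) [nat_lit 7], .rel (nat_lit 330) (nat_lit 1) [nat_lit 11, nat_lit 10, nat_lit 2, nat_lit 8, nat_lit 10, nat_lit 3, nat_lit 9, nat_lit 1, nat_lit 11], .sub (nat_lit 12) [] [], .rel (nat_lit 280) (nat_lit 5) [nat_lit 0, nat_lit 8, nat_lit 1, nat_lit 6, nat_lit 9], .rel (nat_lit 296) (nat_lit 4) [nat_lit 10, nat_lit 0, nat_lit 6, nat_lit 0, nat_lit 10]],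
  [.rel (nat_lit 12) (nat_lit 1) [nat_lit 6], .sub (nat_lit 14) [] [], .rel (nat_lit 82) (nat_lit 5) [nat_lit 4, nat_lit 6, nat_lit 0, nat_lit 0, nat_lit 2, nat_lit 4, nat_lit 3], .rel (nat_lit 368) (nat_lit 2) [nat_lit 12, nat_lit 4, nat_lit 2, nat_lit 0, nat_lit 12]],
  [.rel (nat_lit 16) (nat_lit 0) [nat_lit 9], .sub (nat_lit 16) [] [], .defn, .rel (nat_lit 276) (nat_lit 3) [nat_lit 5, nat_lit 6, nat_lit 0, nat_lit 3, nat_lit 8]],
  [.rel (nat_lit 16) (nat_lit 1) [nat_lit 8], .sub (nat_lit 18) [] [], .rel (nat_lit 277) (nat_lit 2) [nat_lit 9, nat_lit 2, nat_lit 1, nat_lit 7, nat_lit 4], .rel (nat_lit 395) (nat_lit 2) [nat_lit 2, nat_lit 12, nat_lit 11, nat_lit 1, nat_lit 11, nat_lit 12, nat_lit 10, nat_lit 2], .rel (nat_lit 407) (nat_lit 1) [nat_lit 0, nat_lit 0, nat_lit 12, nat_lit 11, nat_lit 8, nat_lit 10, nat_lit 11, nat_lit 3, nat_lit 12, nat_lit 0], .rel (nat_lit 414) (nat_lit 11) [nat_lit 12, nat_lit 11, nat_lit 8, nat_lit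 6, nat_lit 9, nat_lit 11, nat_lit 12, nat_lit 4, nat_lit 10, nat_lit 6, nat_lit 5]],
  [.rel (nat_lit 20) (nat_lit 0) [nat_lit 10], .sub (nat_lit 20) [] [], .defn, .rel (nat_lit 324) (nat_lit 6) [nat_lit 0, nat_lit 11, nat_lit 0, nat_lit 11, nat_lit 2, nat_lit 9, nat_lit 2], .rel (nat_lit 390) (nat_lit 2) [nat_lit 12, nat_lit 6, nat_lit 10, nat_lit 6, nat_lit 12], .rel (nat_lit 400) (nat_lit 7) [nat_lit 4, nat_lit 8, nat_lit 12, nat_lit 11, nat_lit 5, nat_lit 11, nat_lit 3, nat_lit 12, nat_lit 2]],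
  [.defn, .rel (nat_lit 22) (nat_lit 0) [nat_lit 11], .sub (nat_lit 22) [] [], .rel (nat_lit 333) (nat_lit 9) [nat_lit 2, nat_lit 10, nat_lit 5, nat_lit 2, nat_lit 4, nat_lit 11, nat_lit 8, nat_lit 11, nat_lit 9], .rel (nat_lit 413) (nat_lit 0) [nat_lit 6, nat_lit 10, nat_lit 5, nat_lit 7, nat_lit 12, nat_lit 11, nat_lit 12, nat_lit 8, nat_lit 11, nat_lit 3, nat_lit 12]],
  [.rel (nat_lit 24) (nat_lit 0) [nat_lit 12], .defn, .rel (nat_lit 384) (nat_lit 0) [nat_lit 2, nat_lit 8, nat_lit 3, nat_lit 12, nat_lit 1, nat_lit 5, nat_lit 8, nat_lit 5, nat_lit 1], .rel (nat_lit 398) (nat_lit 2) [nat_lit 3, nat_lit 12, nat_lit 10, nat_lit 5, nat_lit 3, nat_lit 10, nat_lit 3, nat_lit 12, nat_lit 2], .rel (nat_lit 405) (nat_lit 5) [nat_lit 11, nat_lit 12, nat_lit 10, nat_lit 11, nat_lit 12, nat_lit 10, nat_lit 11, nat_lit 6, nat_lit 10, nat_lit 6], .rel (nat_lit 408) (nat_lit 6) [nat_lit 6, nat_lit 11, nat_lit 1, nat_lit 4, nat_lit 12, nat_lit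 11, nat_lit 12, nat_lit 2, nat_lit 12, nat_lit 11]]]
noncomputable def c5 : TCert2 := ⟨7, 7, 7, 13, 7, 127, 0, T5, I5, D5, E5, J5, W5, [[nat_lit 0],
  [nat_lit 1],
  [nat_lit 2],
  [nat_lit 3],
  [nat_lit 4],
  [nat_lit 5],
  [nat_lit 6],
  [nat_lit 7],
  [nat_lit 8],
  [nat_lit 9],
  [nat_lit 10],
  [nat_lit 11]], RL5⟩
noncomputable def T6d : List ℕ := [nat_lit 0x3b6947160,
  nat_lit 0x3b6966560,
  nat_lit 0xc574a8e0,
  nat_lit 0x14472a4e0,
  nat_lit 0x14374a8e0,
  nat_lit 0x1c472a4e0,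
  nat_lit 0x34672a4e0,
  nat_lit 0x2c570a8e0,
  nat_lit 0x5984b31e0,
  nat_lit 0x32b2ef260,
  nat_lit 0x124632c61]
noncomputable def T6 (k u : ℕ) : ℕ := Nat.land (Nat.shiftRight (nth (nat_lit 0) T6d k) (Nat.mul u (nat_lit 7))) (nat_lit 127)
noncomputable def I6d : List ℕ := [nat_lit 0x3508,
  nat_lit 0x2001,
  nat_lit 0x18d0,
  nat_lit 0x2001,
  nat_lit 0xd1,
  nat_lit 0x2601,
  nat_lit 0x3888,
  nat_lit 0x11,
  nat_lit 0x611,
  nat_lit 0x3011,
  nat_lit 0x2601]
noncomputable def I6 (k u : ℕ) : ℕ := Nat.land (Nat.shiftRight (nth (nat_lit 0) I6d k) (Nat.mul u (nat_lit 3))) (nat_lit 7)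
noncomputable def D6d : ℕ := nat_lit 0x94938b4a00
noncomputable def D6 (u : ℕ) : ℕ := Nat.land (Nat.shiftRight D6d (Nat.mul u (nat_lit 8))) (nat_lit 255)
noncomputable def E6 (_ : ℕ) : ℕ := nat_lit 0
noncomputable def J6 (_ : ℕ) : ℕ := nat_lit 0
noncomputable def W6 (_ : ℕ) : ℕ := nat_lit 0
noncomputable def RL6 : List (List Rule) := [[.sub (nat_lit 0) [] [], .defn, .rel (nat_lit 0) (nat_lit 0) [nat_lit 1], .rel (nat_lit 272) (nat_lit 0) [nat_lit 8, nat_lit 1, nat_lit 4, nat_lit 4, nat_lit 9], .rel (nat_lit 292) (nat_lit 1) [nat_lit 10, nat_lit 4, nat_lit 4, nat_lit 10, nat_lit 0]],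
  [.rel (nat_lit 0) (nat_lit 1) [nat_lit 0], .sub (nat_lit 2) [] [], .rel (nat_lit 273) (nat_lit 5) [nat_lit 8, nat_lit 5, nat_lit 5, nat_lit 0, nat_lit 9]],
  [.sub (nat_lit 4) [] [], .rel (nat_lit 4) (nat_lit 0) [nat_lit 3], .rel (nat_lit 302) (nat_lit 1) [nat_lit 10, nat_lit 8, nat_lit 4, nat_lit 8, nat_lit 2, nat_lit 1, nat_lit 10], .rel (nat_lit 304) (nat_lit 2) [nat_lit 1, nat_lit 10, nat_lit 8, nat_lit 5, nat_lit 2, nat_lit 9, nat_lit 10, nat_lit 0], .rel (nat_lit 310) (nat_lit 7) [nat_lit 8, nat_lit 1, nat_lit 10, nat_lit 9, nat_lit 4, nat_lit 8, nat_lit 10, nat_lit 8, nat_lit 6]],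
  [.rel (nat_lit 4) (nat_lit 1) [nat_lit 2], .sub (nat_lit 6) [] [], .rel (nat_lit 37) (nat_lit 1) [nat_lit 0, nat_lit 5, nat_lit 3, nat_lit 1, nat_lit 5]],
  [.rel (nat_lit 8) (nat_lit 0) [nat_lit 5], .sub (nat_lit 8) [] [], .rel (nat_lit 296) (nat_lit 4) [nat_lit 10, nat_lit 2, nat_lit 4, nat_lit 6, nat_lit 10], .rel (nat_lit 308) (nat_lit 2) [nat_lit 1, nat_lit 10, nat_lit 9, nat_lit 3, nat_lit 9, nat_lit 3, nat_lit 1, nat_lit 10, nat_lit 0]],
  [.rel (nat_lit 8) (nat_lit 1) [nat_lit 4], .sub (nat_lit 10) [] [], .rel (nat_lit 270) (nat_lit 4) [nat_lit 6, nat_lit 0, nat_lit 3, nat_lit 8, nat_lit 8], .rel (nat_lit 276) (nat_lit 4) [nat_lit 2, nat_lit 8, nat_lit 0, nat_lit 2, nat_lit 4, nat_lit 8]],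
  [.sub (nat_lit 12) [] [], .rel (nat_lit 12) (nat_lit 0) [nat_lit 7], .rel (nat_lit 38) (nat_lit 5) [nat_lit 0, nat_lit 2, nat_lit 7, nat_lit 2, nat_lit 0], .rel (nat_lit 274) (nat_lit 5) [nat_lit 0, nat_lit 8, nat_lit 1, nat_lit 6, nat_lit 9], .rel (nat_lit 298) (nat_lit 4) [nat_lit 8, nat_lit 4, nat_lit 4, nat_lit 6, nat_lit 9]],
  [.rel (nat_lit 12) (nat_lit 1) [nat_lit 6], .sub (nat_lit 14) [] [], .rel (nat_lit 300) (nat_lit 2) [nat_lit 10, nat_lit 8, nat_lit 3, nat_lit 8, nat_lit 0, nat_lit 10]],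
  [.rel (nat_lit 16) (nat_lit 0) [nat_lit 9], .sub (nat_lit 16) [] [], .defn, .rel (nat_lit 270) (nat_lit 3) [nat_lit 5, nat_lit 6, nat_lit 0, nat_lit 3, nat_lit 8]],
  [.rel (nat_lit 16) (nat_lit 1) [nat_lit 8], .sub (nat_lit 18) [] [], .defn, .rel (nat_lit 291) (nat_lit 0) [nat_lit 9, nat_lit 9, nat_lit 9]],
  [.rel (nat_lit 20) (nat_lit 0) [nat_lit 10], .defn, .rel (nat_lit 306) (nat_lit 0) [nat_lit 0, nat_lit 10, nat_lit 8, nat_lit 10, nat_lit 3, nat_lit 9, nat_lit 6, nat_lit 5], .rel (nat_lit 307) (nat_lit 4) [nat_lit 9, nat_lit 10, nat_lit 1, nat_lit 10, nat_lit 4, nat_lit 7, nat_lit 8, nat_lit 2]]]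
noncomputable def c6 : TCert2 := ⟨5, 5, 5, 11, 7, 63, 0, T6, I6, D6, E6, J6, W6, [[nat_lit 0],
  [nat_lit 1],
  [nat_lit 2],
  [nat_lit 3],
  [nat_lit 4],
  [nat_lit 5],
  [nat_lit 6],
  [nat_lit 7],
  [nat_lit 8],
  [nat_lit 9]], RL6⟩
noncomputable def T7d0 : BT := (.node (.node (.node (.node (.leaf (nat_lit 0x78865900fc708496208d5d8a25e8978f8326d8376a0817209a780577807f7007d7583f7683b900da758516008f5d0ad5e0a78f82c748446a8996a8356c882730317885c77880740427482b6c0a47384c758506709f7584d760747a836720307782e7682f770646f84f798437582a7a02879029738887505d728607906f7505f6f0568f8227982d6c8867683a768408f8217a0237406b71062738547608c6e871750488f81f7b0279008b77047708728f81d7c0266d079728667285a8f8197f020900788005b6d86877052780537804b9006a7e8557406377858788597983e7a8398f8148a018788469004a900457d8349003d7e81e900388201c7f01b8381a900338882580012820158301690024810117f81780813898088300e8580f8a00c8a80d88806868078b004900108600a8780b8d80390009900058f0028e80190000))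 (.leaf (nat_lit 0x186ae1d6a1343e532b1e195492bdaa44cd148bee30d25144a23e520195dc2b27c21ce51a60024d3a1cc9b3550a1e5d93c3413d2451d6161157917d0d1944326c531ed431dd3e383cf31cb722bdf3f28b1958d31c2d1558c3d3be33b5f4ebad381ea1a52337a572bb6222c012158326c71304f930d522a3b52fab52ad842bb658f9d2381d734cfe3055940a280eebc185f71e5dd1a55e18d9930ee33bdb6362301dd4231c9f38c8d16d803dc823f2fa1ade231bac26cd220e5925ccf3d38f2e2e82ecc338b432d4142c3932b444313a340334344221ae971b51f354c13d20933a042ac35283b432c2a3755c2b242234552626c35411354021866f185614baa24db2a36457906b738bcc38ac72b4ae27cea2dcb3224ab451f5363e6384314cb0a37bbb37aff29cd42a4502cc2434cee3a34532cbd39ae02b3f635b66205442c3e4))) (.node (.leaf (nat_lit 0x382858f90b5194b2b4b43b2843e3ab8f90a5494a343de3d3583eb3b354bf3d31b442979054848b6f4e2cf3c3f32742f90538905358f9063b21b43cdf3e9de3e956411a24527231b883cb738f9053f1a8905183f1e94217d431573f1b33f28d4217f431a745b0e4820746a2f8f903521a533c32559db429878f9025e9a6492ea492504530940b2042a593fad18f9005c11249c2135332489b729c6b4b1b633b334b3593c2ca4b2764398c4d1aa4920d44959571824bb153fb05419a34f94c4f94d419324392c36c27471f14e1fc8f8fb5b9013dc603fa5b452a145b2449243442418f8f84e975904e438b2640b298f8f64d8fa3dab14e1f74f9ec3aa6a41346402938f8f2621072b4cc383d64e222904cb4d2214bbd739ba2621cb40a6449a33904be6029834b47394405db0d35b5e3fb0748375904a92fc569049c904968f8e4))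 (.leaf (nat_lit 0x114e21460515d810de181562a1c5f31d6340fe8107e6a0ad2e05e2508e11095d40a6360868816c1b17d6314612163a918c640dc80076c210e49056bf234db1748c0ccad036d01754b0d63e03ec008e4209e8e0fe740f5f51adc61de0721d2d1f4920d51e0dddf17d750b60e0b6a01466e0aecd1960a0466108698145e517e2c0be551351d0c68c106780de1e196a32444e0dd8e1fc4517c740867515d7d15da812e920fcac2dd0b11ebd145b90fe5d0f5071b51a0e6c512ed826c080c69e0acb08fb630d6480ce231d5211c5f40e61f17684086af15e6d164d60f50c1643b14d1907e6016c391452825c5d16c6d15b830ecc20c6be8fb4e1dca00ddee0dcde17e0f16eac145ec19d5f1fd371c5542c63d0eec313e99146cf156b309e9c16606174e618d04086c117de017d1521d32114863360211e7f12604184e30aeab19c66)))) (.node (.node (.leaf (nat_lit 0x3f2a7429e440b0b4db0c4e350903b13d2e44723c8f8b7648f34d225903a13fb5c469ca8f8b3680d1679b1903913c2553b2e73c2aa4ead08f8ae648be52ac4552384e9bf9037d3faa43c31d42a5d50b088f8aa610ba4e2bf4f2fc51af7502953b339903604a1e89035b61b174e3144f1be442399034f90349721c3461fb4e23a4e23b5027e532798f89e630ea3932c903309032b59aa05529c9031f519ed3e2679031690313619c6422328f898650a350b01903005e0d3588f4902fb902f656291902f1902e93faa94da51902df902dc422ba3ba928f891650e8522c9902c8590cb902c3902be558cc43231560f05e1375b0d2501c7570eb5b1d9902b06b23541a65541c8581c99029f9029b8f887628c35aa4762a83600c5902875f0cd90282579099027d90278590f5611a160a18902699026090258902539024e5a22d90246))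 (.leaf (nat_lit 0x1836833441156871a6410a6a91a69b0fe2816dbc2be24324881c5391ab7f1ac0a1ac902c4792cc948fa9e2ad1417695185d1355241f62715dcb1757e16643324b61f4dd244b830d601a6701ad623741c1adb01ab4b2345e1169618423265082fdfd2bc4a1966c1a4dc21cc020dc13daed2cdfe2fc521d4bb11dc7214301c6801ad4019c8a13deb165e14068f20550205e8254f821c20214721d6151b529116d58fa6d1d557184b21ea711c65124df123491254c62043f0a6d920cb9186ca1c4b133bf2186172a5e4273fc17ec831dad2dc8112e770cdf919de714dcf8fa6833c7b3dc7a1943c3deee195cc2bd2c1a54a3448513e4b0de582b5d014dfa136a71559f384c42d3d018db42bbfa324ca2bc873aee821c372cb272cc1e28d5a11e0934469205892ed7833c6f2cca5224a33d31c2cb7c195db18511302e530b9018d3d))) (.leaf (nat_lit 0x28cd58f964321bd3ac7c34d0634af94323759b9d3aa524dc0e3640b3eb0f36b11343e13daf439a9937415392d73eada22da0422fd3eb7421dd317de637286381af195a322d851b5a72b4a48f95832a9035cf1441f43845c3920b3e1bb5c33a2ccd8471922a5a1372c11cdc83db71343e2423564c1cc8f9514f97b9061c27d55255642842e8f950391a93e405399728f94f353b03f16339b763d49339ca83ea2628c6c3e378362f83e17945191473bc3a952559663a3ea4f9d0391d641b233fa5a36ae68f9464c19f313e94f2112e2158f9453a9473ad103f39a3eb2e2d4193939b905f84528e409b81c2f022da98f9424124a2c5053ba5e315943ca0f38afe8f94046b3e8f93f631552bcd78f93e4f954265e3393b929da534bba3b418552b65016041961443423c1864f17c3640c2fb1a4136b4fbb738354382ad8f93852139))))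 (.node (.node (.node (.leaf (nat_lit 0x5919b5b1958f87e670e99022c4c2205d8c790224598ec9021f570ee5b92663177902175a1d45f0d55b9cf5690c5711d5910e590d761949658fd6392a5f09c648a0688ac901ff901f6901eb901e6901e15a9ba901d8901d3901ce8f870760c2901b97c1ac598ed901b05e0c6901ab5f8c85a12366971901a0610b99019a5c0f75711f59136678b590194559205e910559215f8f9660af61114748db6008e680b06a0b4631695d8b6680b86988a5f95f600c16c093901765b095680c0668c4901705e0bd688bb678ca6d8bf901685d07b728a5660e69015e61083610845e07a710ab6f0a16685e6393b5e06d658e56c8a66c861901485f096600a85f0a96f867698779013a5e06c5f8855c8b25e89d72889690b1901295f09b6087c5f8cf6286e8f83c778416e0926a0bc7384e901136d0735f094608e7618906e0767386978875)) (.leaf (nat_lit 0x34c492edac25ba52fe142b396354512fdff25d9a2ceef16e0d1bbfb1f6221c3f43bb5d3a3bf2b2a51b512203b3354e7136a222a6e1ccf320b9534cec1960112e29204653e3d814e7e12e031dd4742a5f3acc50d61b283fd1bcfd28caf3e2ab35bdc36bbd2db7917e0c282b4213b620dab19d03393ed2d5bb1fbf51e5f2273228fa132ca1633bf71860815ed3234eb25c1f3952738ce02e377036aa34acc224988fa0c36a743c3af1dc061ece12d3f1214aa273fe34d1733463235922aa811ad4d20dc331c460a65f293a421d4e08e2b105da2f50f3326b23be82833f2f48b08eb42950e8fa0328d9513d7610db81c61d2356c1cd308fa022bbe71b5e91ad1b11e6626b4d8fa0127b81235451ecce2d40d165ca186562acd3195ea2bd1c33eea0d6a51eea80d6ad8f9fe4ac7642d163ccf64944222e5a3748e30d6a1ce2f0b694)))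 (.node (.leaf (nat_lit 0x442053d2e2402368f9355095c423a733ab836abc8f9345315b2cdcd3fb032e5a433b524113c1eb824722b3ab372acfb30ce9905c48f93149a4d31d013aa2e3728c35c345298d382c6383068f92f4f9cd4c999503ae8f92d549da37daf323ca40ace905ae34bcb2ebd933b2d4e16a3b96b3d9e53a97e4c984374163c2e33a38639ba83abc53ea638f9275392840a7038ad93c9f88f92554167363b838af23a9f98f9244f95d29597363ec392cb8f92290596333f931b923c2a8905901b574214614e6e08f91b3e21e3dcd93c978313708f91a3dba0409853f1dc41a083ea498f91952ad64128f2bbff2ed6f401b28f9165b1442f41a34b358f915569433f45a38b024817340a0e41165509533dade4114e3b11e5e13d323613eb4440448392403d2444c2ef391ef3629d8f90f6198931438389963a99d8f90d641112ac733fbaa)) (.leaf (nat_lit 0x3244300000000000000000000000000000000000000000000000000000000000000000000002f36400000000000000000000000000a5f00ad2a05e831ad410cece01e8a0c4c8155860563a1365002e3c0bdc51467d0fca1056c91bc9a17d6906e911dd8b1556d04ecc8fc4711d8f046530a52b07d3b04ed1045bd046312a6640fe371254f106681dc7e03e791a65c11d3116587095bf15ea615cb507eb511ca70be650ce2e14e63185ef0a4ed0ce2d0ae4a076b0065b71661911499056c40e69d12dba0e5ed04e8609ec7036b80fd930b64c18e890b5d21465e046da17d5b1742b0869f0bd8a06e5414e4507ec609e261e53c14e3314e101757b0c59d0354c1968513e4e18d7c04e931ad7a08e8208e721364d106691a412))))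 (.node (.node (.leaf (nat_lit 0x381a45040f4aa4b4a16c43a1949a7538b513c2cd8f8e34da1d9047d43a565112e4724c4896d40a2736b3645930521df8f8e25121c37b8b45962459bc8f8e17418b2bc00422484a1418f8e05298a363c14a9e33d3193e3d2451ee4d2e1532dd8f8de5c91c36c4c37a894ba2a8f8dd5b8f19044b46a294128a8f8dc5d0ef4eb8d3a2c0472734ca0a4d98f4f1905f92b56933533cd3336d41a1a4390459917559184e1814f95a31b7e41a5c45a668f8d95c0df9042c401f04ab404bbc94faee4d9d5419d18f8d66916f9041d3ea7a412808f8d47d8d84da3437b4a3da61469c25d24f50a5437a00402ac3faa68f8d0629084ab312c3f0903f8459ae8f8ce5a8ff4d1f3903ef419ad903eb8f8c95c8fe2c3b264a3d4f1fa4f9c04e1c1903dd60b3c3d2ae729e7511e260288903d14a1f2489fd3f2d34b2d4903c856b3841a96903c0)) (.leaf (nat_lit 0x2f551314fa334ff096b20a4a61decb1ad361ec3d1a5331b52f066d22347f14e3b2457018dc915e4f0767c0e61a0deb9116b61747517d2233d0918454186d7165b508e712f5c28fb101757715d262c4680be8b0d69a203d316d671bda20fe62203c4155a61f3841bb2129c09166402236c0bdc01a43e34c830c6301e4ba8faf319c8f1653415c3626c702635719db31b4170be8d1fb94205001cc9e224fc0b5de09dfb14eb103eba1646e33c7819ce817e7a076521463834d6816d7f1851303ebb31bc6225f61ec6a8fad8392db31c842b5581a5722b47723380146731bbc216e2026b122d2f518bc31360b24b5522369076902c2eb0e6572038729bc726c95184f71fc078fab92aabd0fe392b37b176471edfc2caec2cbe00fd820e63f1b4f515cf4086761de6b1d6138fab315dbe14ed48fab21cbd51f5460e6a40d6d61656b)))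 (.leaf (nat_lit 0x2c3da27b4c28ba620db12b45f314c93437a3a27b2b56e501c5204253741325cc720e5b483d48f9982c99e2dcd02bd7135b3d37a7f3e1b431b9c244262a49d34c8934c1050ad23045933b0433ac22d44f20d888f98e34a774839f3bcda4e38c2bcf03eb973d32839ad51fe461f5ce206448f9883f9dd56c622f5662ea9a2bc0339a6f443854c1c48f9834d1b5295b23259b343891fe212344d1a6328f980369e04b45b344f24d23f46b9e3da063f36a3d2623db724735319573295d52763528d988f97a2c9931e4bc36b4840b8e473ce36b674b99c469979067b3d4284338a1f5651d55623e6723d5d8f9743b2103b3db35aaf49b5a40b183db984d2144621223b643f32f3f2232b5531f5912059e26d3f8f96e322b73b433355024ea94394043daa330be33743a4b2bb3ca3e1fdd74e2c54cb6e2e59c1add81bccd264971b5d6)))))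
noncomputable def T7d1 : BT := (.node (.node (.node (.node (.leaf (nat_lit 0x78874900fd6f8736008f5c8ad5d8a76d8378f832690996d882780807685c6c8867103a6f040900db7884e6308d5d8a25e897748448f82c730816e0306f09a730367807f778577482a718436c09f7304f7584d670a4758507806580831730357902878029778756e84c7f02b730427882e7782f7606f7505f70056740887505d730607882d8f8227007d7483f7683b790238f8217506a79055738637708b76047750727a0278f81f9008c76071760487b0268f81d6e0787a05b6b0687e0208f81990079728667285a76058770597904a9006b740627605478852798537a83d7b838890188f814798459004b900467e8339003e7e01e900398181c7e81b8301a900348982480012828158281690025800117f817808138f8088600e8280f8b00c8980d88006868078f804890108700a8800b8f8038a8098d0058e8028f00190000)) (.leaf (nat_lit 0x22df41d6b98f9f53b37c345263d5252cd71345bb2adaa4a48817deb186432b28120d4327453265c93350916dbc176212933f2a2421e5b033d0c2cde0194f7196001fce51866c32cb6573d021ab33e22b2abfb22d5d2562238b5d4bbbf3fa9a30be31a51236c182f20322c2017de8264663055134cfa29c092dbe023e4623bc3371d78f9d22c558344ff3fa8e906c5314b11f6442ac2e31eef48c8532d7e38a0920d3719dd11e5f819d2416e2736b8a1762431a8621511165ca2a425362e53bb903325238c0e20d4e27a6d27b4b3145e8f9b817e96334231c4423dba83723024be81fbf52d40818d5b33c2b4a24521544264c62d50f8f9af36d60176702fa9e2db273bb0e1adc637acf37b6f2dc3036bf419e8034c1e353e5509fe4e3762cc9336b0736b751a573295d5276351f5981d4bc3eb4839b8d2b3cd34c1d224552c1e5)))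 (.node (.leaf (nat_lit 0x373eb5094b8f90b2ac7339bf83e1ae5394a8f90a353dd4ba3d4a1fa364be479cb45a641f53c402c73a3cc224eb9053f25c1f32caa3b21b8f906905273e940451bb411194020e3f2ca3cbb93e1a88f905424e03c31d43161421bc3f22a3f333432498f90437457431f43c96d511a58f9033a3774e12f49a4c5d9a68f9024a2e9479f24b1fd41b1f3f2a7419e45b1128f9003cc6b3da8c48a272ac2143a2639a8d4cbbd3c38865192479784e94c4e94d449525596642b793fafd6b91a4e1aa4a20d4193c4392236c40472553b2e75a9018f8fb47aef4c1d5461d141448401f03e3404d9758f8f83fb974ea144ca124c8fa8f8f63eab04d1f6519eb3ba69421c3441fb611078f8f22c4cb2eb2d4cb9b904cc45b9a4eb2e3aba13c31b4029748a3a904bf38b5c4d1ca3cc27412a847a563e3bb43aff33426904a49049d90497371a4)) (.leaf (nat_lit 0x11604154e313ece07def8fba9185b9036b810e491252b07d8b07e420f65e14da808683095e519d6217c1c14e531662a18d571e58a086770fe810feba243a4124990b6af29ebd146ad0f5da04e500762509cb013e991063a19eb7213f223484214360d51d0ed9d18c910b64c0669304ec307db81cd3b12ed1165f01368812e820ae9c1351e0a6a9106690ce3117d93203d51469220bd315d670866019d7c16dd40ed8e0ce622ce13026d0145f304ed20f59514db70f6bc09e7227bb41ce791468e1abc203ebe0bdcf1d4810c6ae0c6aa1764d094ad14e7b124e6105791ed6a09690056752c5770c6301fcf41f3c4165a60de2d0d6481cca08fb4e0dcde0ddee15ea60d67c18d311dc6a1dd42304fc1dd8913e6e086741468d176190ae55164f6174d613da218e511150d18cc91d65b16e0d14e7e11e03124e233e0519ce71ac71))))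 (.node (.node (.leaf (nat_lit 0x41a593b2d141a5d4eb084f34f903b23db3c3d2ae638f38f8b74e224903a247a983a347670d18f8b3689b090392491f1499fc3b2d34dad4638be8f8ae53ac35533841a969037e3eb44451e94130b4fb0c600ba8f8aa4f2be502fb52af64f1be442399036142a5c3e26662b164f313502953a339903509034a9034641a934f2334f2345127d54278620ea8f89e3a32b903319032c5aa9f5629b903204a9e39031990317903145da9140af1640a38f89851b00903015e920598cb902fc902f7561c642232902ea451ee902e1509f3902dd432315f1c7640e88f891532c8902c95c0f4902c4902bf5a8d2902ba550c6560c8578cc3aa92578ed5c1d8902b1902ac902a6551c0591c1902a09029c618c38f8875ba4663a825f0c790288598ec90283570ee9027e902795710c621a061a179026a90261431c2902549024f5b22c90247)) (.leaf (nat_lit 0x175b517d68166411968716e8c1a68511c692e50a17de2134a2176561aab418bb61adab2b3ed23df22f2a22abf714ec722c9f16d8031482176ca345b6175dc2ebcf1eba625b4c1866f1a56117c1b31563196161ac44243a336c22186972950e2fc492bdac1dd3e1cba52834d1be142bb96304512fdff1fd4711ebb214ae1a4b303e8a16e6319d2019c7b8fa711d4e11fd8323c9520c011f4651e43f1a6d71a54c273931e464185001de8f086c1254701bd758fa6c1f6151a5f98fa6b15dcb19df721607116b61d49e1adf60a6762165a2c52109ec20a6d91ad4113e2339cc5165e13147734d6b34ee8185ea1ce2f3ec751bc290de5813e4b2c48e1b49a1ae38146268fa5f344b743487186082b56e18db437eee18d033b32a2ecab29ca5184680fe282d63d35c6e345e926d5a0ee393437b2cb1e1960b194d234b8f312e81fdc3)))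 (.leaf (nat_lit 0x1a574321bd8f9642d5052bd9433bf92e4d73eb3e2ecc33934348a053f36a3d2623d3b83e35431aad492704c385339c422dd341b053ebba22da017d7f373ac364022b44d2eee0906322c45632a908f9583345b352073b4f2401738f9564939e4ba3f3da7625dc842b52255a138b0347bb7342f2391f94e97b8f9519061d27498283fe1a55e381a98f950363af3520a41a1a39c063f28f3943144b0a3bc6c4b1b627ca847318353ec6118d3f2755bb5a3a959571823b2ee371ef3529d3fc2c3424035a444b19f8f9463eb983f328342d5399478f9454d419412213cbd72c510392221ec8d452284133426ccd1b5d64124a8f9423347c3b9623cd063da732f3063d9de4039d621558f93f4c2374e9548f93e275a536373905e33e374462575e2084e17c4117d4c40d45a4b511604020637ae240236333e2402f439299511398f938)))) (.node (.node (.node (.leaf (nat_lit 0x5a19a5c194660e98f87e9022d4d21f600c5902255c8cd90220589095813664176902185b1d3559215c9ce568f5590d7590f75691d62948668fc6492961084658ab650a190200901f7901ec901e7901e25b9b9901d9901d4901cf750c28f870901ba7d1ab598eb901b15e8f0901ac5d9375a91f67970901a16008e9019b5e90e5512358926670b0901955f0d35d0f95d8d55f910660b462113758da608b9678b56e0af641685e8b269889680b16095e608cf688bc901775d0bd680ca698bf901715c09568892688c0658c4901695d86d690e5718a69015f5f89b5f89c5e86c6d0a0720ac6b8616493a5e07b6e8a5650e66785e901495e0945e8e75f890728766a0699013b5e07a5f89d5b8b65f8856c8b86e88a9012a610836086e5f8c16187c768418f83c6a0bb7209373051901146d0495f096618a8608a96d0676a87778064))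 (.leaf (nat_lit 0x33dfd3544a1b4dc21dc12b2ed31dfe30c5224d4518d993d4861ad8d1558c1d4ea34bbe3635f2c3d91b523354070aeab354e822cc728413312ec195ba34ced16e0c224728fa2318e0211e7f1e4bb394c4442680e61a1ed651ad5623e673c3db3e2af2c3592b31516e292837f2a40a2a49026437454792d3ee254351f4941b3822ba168fa1332d1431bfa0bed4253f324d383a4df37d182e4320e61f35c282255535a748fa0c334051dbb01cd501edce2053523d643246232d66156b22ba7c2d41218d3d1cd330b633294db2bc140c6650f63e22c1121cb98fa043a341116b009dfb2c5082bb6221d0713c760f6cd1d61c3243e1c5c22abe78fa021c46f1b6cb11ea522cc026b818fa012659a2c5703db421ee5922d391b5721a5cc36c833843d17e662eca71954b353e632d762b51310e0633d1f325ad355d03e43b2d52c0d66b))) (.node (.leaf (nat_lit 0x3740b3831a41b6b4f95c8f9353fc3a3437a35b3d5215b8f9342dda43d371905cd382c18f9321cb224ba8b4f1b43d5532c5912bd9e49a4d8f9312dc333a96c3733230d023d9793bace3cafe4d9db3a4048f92e3e294539da8f92d38dae3e36d382c6905af38b6e532a5393d64b9843f985503e4402484f16a4ea6f402d93c9f8344c139abb3ca3e529288f9273841537ae34db86531678f925333e136b563a9cc4e95d8f9242a596372f84ab894292c90597342f932b9154b0d3044f28cd590588905853e21e8f91b3539f3c98c38b02409a33dcda3c96b401303bab63e97f401a22bcf0401633d38c4b41a45a295a1448f9169056f36a89559438f9152f3ce3937060a0b44a72411815095a4e38e40a193b12b569333336040aa445b243fa5a37ae63ec60419d0381d6609898f90f37b6737a7f3ba7b631118f90d2a4b4419ad))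 (.leaf (nat_lit 0x2d4f7000000000000000000003448d0000000000000000000000000000003144200000000004eab2000000000000000000000000003e980ad361363618de70dd8111d4015586164c806df5056c003e6414e100c6d60b652056c61e5fa18d3404ecc1852e0a69f086910ee3705ea40f61207e6a08e0a0466105e680be1e1263c0f447035b3035bd0e5ed02e9e8fc1711dec076b1094a615e0f09dfc155be07ea808e2b18c7f0dc8a176180b60102cc20ad7b1f48b13d1a156b30dc8c0ed8219e4713cec1dc7e0be5408e950ce340dea30a60e1ad7a0ddde1461108e4f1a42a10d5c17d6d0bc80046861363f066c907d9f40d480965f0b5c50ce4a0c5df016d51869b08e7114d7d046a019e8917e2c056d808684106781cd4d)))) (.node (.node (.leaf (nat_lit 0x8f8e490489491864da2e4594e4f9913b2c03c2c54da1d8f8e344c1043b5e4d9994a98747a2f409b738a8a459dc521414f21c8f8e238c593ea5e4a9577318b8f8e13d2d24317e4b1df5198a8f8e0373c0519ed3e2673f3d13eaa955251542dc5b91c8f8de37c4b38b354d1b35a8f18f8dd9044c411b24f3365c0ef8f8dc4f2e04bb5161a0f4617258917549185091e6213d4fbf64bbca7294f471a74e98f501904e1654f95332b7d461e83db5b5b0df8f8d941323492434aa414cbc83ebea3ea5b3faa16816f8f8d637b664619c421977c8d88f8d44ca3b38b493ea6042a585e24e51a53379ff4123540a65619088f8d04bb302d3ef3b2844b3ab598ff8f8ce4c2df903f0463aa382855b8fe8f8c92d3b146b5844b3b4e9c84d1c9903de522e44423c739e6521e161287903d2432503cb09402aa4c2d0903c956a384e9bf903c1))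 (.leaf (nat_lit 0x2f4f92c5522f5591e592095bf1551b0d52a8fb2518c4622db10fe5d1be2e1be7a1ecce2553a09eda17eac0d61b0dea113e171454a18c8f1ac9b20d461a5291736814e4e2ad3026b121a43916d49186090e6570bdc01ec4518c7418d040fcac1dc6d1a383203871bb8029bb508e73213690ae9a18d6c2ad1c155281fbd42d2f518d221556915c92185f11d3551254f1a65c0b6cf8faeb214b22ede4215540c5d208eb41558703ebf175782ccd0136a214e3b114a106ea73c44116de619516195c729bc7213fc1b55f382db8fad83152d2e4fe204d32b47a23321166401bb6315dd8293102eaf318b651c5db29b572336c15d1920b940be8b2db8431bc6264f818443283b329abd8fab9294a330b1c0f69d22cb51fb958fab5116c40d64519c5f15c5d1d6c80b69420d0b213df15eb514ed3233642b44e20c541058f1567d1743c))) (.leaf (nat_lit 0x2c2a327cb827cdd26d2f1c4f52c51533ab88f99d334ca2bc031f4cf1ccf33ba6e345322ccba2c99e8f9984847838cd136abc8f99639b3730b2f234a92b49c35c0f33c7d2bc003138b34b5334b722c5902246134a778f98e354d93bba02bbff2f2d63dce44c21138a151c58447bf11fddd3e9dd8f9882dd1737c6347bad539c538416352d732ada4c1b58f9832a59b315b23b2cb20dd9185a31b5a7369e08f98039cf13cc5c374d847b3a3740c3530f39b1136ac24f30421cd42ac5028c241fcee2c9938f97a35b453bcbd50ade4e45a314383ea7a4028016e6d3a2cc41afa283fd264fd29caf30c2d3a2108f9743e2ab47bdc473bc5a378323e939b263fb2923ab23e39c3f3d82acfb204e91f5c42bc2f322b78f96e315013cc34403ae4f1cd4dbda371ea43ba733bc53226320d9c3aacd43bcb1fdd7166201f2f02749622da9)))))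
noncomputable def T7d2 : BT := (.node (.node (.node (.node (.leaf (nat_lit 0x62884900fe658956706a8f8326785c5e8cf618b2630cc900eb6687c6009d5f0976b05a6b85d900dc628bd6d0788f82c6b057618c15f8b6900cb7284d900c56f0307606e62085738726f82a64896728316d8716108f720476607b6f8357485077059770586986d73036700427404878053780525d8a9730637483f900a7738547583a7684b7784a60890710686d85f77046778459009b6d8606e862900947882b7504c7a838798399008d770437604f7903d7a03e9008373840700667d025808249007a7203b6f05b780237a02d7b0299006c728567085579821790228f8147a8207d834808337b0287c82f7882e7a02780018810157e8198180f8f80e838167c81f7e81d8f80c8201b8281c90026810108f8088380d7f8179001e9001a82012820138400b858068980990011890078500a8e0058b0048d8038e8019000290000)) (.leaf (nat_lit 0x8f9f516d80314a6906d2906d11bdbe01eb91a59f21661134c209e7912eb123667274d82da008f9ea19d311ae150d6502dc2e25d388f9e51163718649186382c3b14939e8f9e01256937c8021a2b2ec4e2acbf2dc038f9dd906cc1d60a2a45f1f557196be305951fdd73ec3a8f9d72d2ef10e5514e3b28d9c31ba78f9d22ac603542425c9c09e9c0be7a1de071cc332bc0d3320932a0c146a50c6a60eeb23543e1931e522570feba156751b5c02c5c9906bf2fd542eab18f9bd2bcf0365861adb32a50738cf42c3e21e5e38f9b82846c1ccfc11ea91158f0ae981d4d51761333ba833dae8f9b40c63e15de72acaf233c18f9af27cb43c3f2906b81664d214612b49d2c4dd1d3bf1cdb02ee5631b922cc938f9a92fbae0f64c25db930c142b4c033de431e3d2d37e35c008f9a42c4d710e63185ed1f54d2c4db30d91213612a464)))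 (.node (.leaf (nat_lit 0x39ac54da7856195905533d1df39acd43a7d5099b2f4724126343a5c2bd0f3b9f9449f11abbe905458ed3a35c403b3778f906549c5905329052f90528363ab3aa8d2db713c3cb8f9053ea763e9403f248905193d358402aa4120e34ac0373888f90439b8952a6e4322a431784123346a535bba63a3d74891950a4f4a23b36cdc4a2443f26120bf541aa13caac599695512a3bca54b963363ec904fb4128f372f82ebdf4ba1a41a2e43b065e24e46a3a44a384c2f14fa02419794724b43a345ca544233842a32904f34199d40b5c4693b4895f904ee4b1e4452bb904e93cb0938b54539b14ca87904e53731d36ad943a834b1ab2a465392da4325936c5e3cb1143250440fc47949904d24e93038afd904cd459dc343053acb93aa993fb0d4a95d333954c9cc41a55904b83ca7b3e298904b18ec9f31b7d3e2d28f8e45023790494)) (.leaf (nat_lit 0x1364f1461e15c1b15e02115ea08e970c3af164f706db514bcf8fba01052c066b70b4f21ac3b076540c63c13de017c8e1cc28185dc1b4b60a5e607de11b4021860b0bc2915571106060c4d98fb90074c51c5688fb8f0f48811c638fb8d0f6128fb8a0c6770de838fb8405ce205d158fb8306e2f155a61948f1247916c860ecff0ec421458b0e4df8fb7c0b3dc07c758fb7815d608fb7515eb61cc4a0867b0c61f13cec0ddfd8fb6912d6e164e313e4b27b7217dd41037b16c391dbd80dcf9145121e36f08e080856b0665315c058fb5f0f3e60e4d68fb5d1260f0f5ec17c8b11e7016c520fec716dba8fb53116bc0b67818d211c5bb0ed9d09e4116d1e0be4017cd11c4f61662437bc61c5021dbcd2bc1812da21847c18d098fb480fe29114ac166d018d371650d17c3f17d4b8fb3f0eeb0095da145411268c146a405e861c398))))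 (.node (.node (.leaf (nat_lit 0x3d29d4e1f64f10d510f854a0d903b33eabc3c344628db5e9135413f903a33e2ad3e2a8648fd621484e985903934f997529cb4e9474e16f5b9b94f246548e1560be508de9037f3bad53c33c4e0d84c19f4e1d95022d5094c4f94d578e0518ba578df90362462124123d51111539758f8a3521125190342aec412363e2a9501385117b8f89e540d16117143a184d984509554e1da538c2529084b2b4451d147235530d4521468f898571004d1d84822c5e1024e1aa5709a570e54d9a54e98f570aa538d94326d902e64126053945548d68f8915b901549ba592475e1174f98a570a056190519a6588ab560ae558928f88a568a55711c5a0a656922902b23e9c4902a756134549258f887578f360977509a1509535293e608e65616b5e8bb57160630b15a0e9609075b882521445710b9026b90262441f258924591355a12c5593d)) (.leaf (nat_lit 0x17e6616e48146361749a8faab19c850e67213e81056d91165c8faa317daf1acc18faa2116238fa9e34547175cf1b5262b4c303ed716e621957616693066c012499173e115da016eae1a4a717cb50beb3213e38fa86223ef106da0f631233670b6d5374ad1ea9024dc83340b8fa7c304381854c18eaf8fa7711c69382ea8fa7419ce718d5b14e2e8fa710edd02128b29b2a213878fa6f3744b1c4431a5ff29ee81b5a11fac7183f6185cc16dbc1d2db52ab92628e18d7f2847b2cca81951628b4328ade1a5013040e30b8e17d991ce1b1765130cf1304778fa6812deb0de2b1762a1ae8f0969e16d9214e8d0e61a186600eebd12eaa0fdc6116cf1b3d04248715e0d365400969f1bc17136260d6a133e2d186a01c2ee1c6351fc043526a0dec8086cb8fa520b66a176d82cba18fa4d0be682cd1a07e99293de194de1cb4e8fa45)))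 (.leaf (nat_lit 0x30ad620d5f31470194c81254f353324eb8227d033aaeb31c452a4fd359fb2f27f283fe31a9731a4035425399eb3821422cae391923239a3c5559063a23cb22abfc309ff30a3f8f9583138b2cc9124c9534c8c3d28a18d6d8f956382275b3652d466382072b565341b21eceb35a292653f341ca321f03eafb4c34f1d46f31b913b30a8f9509061418d3d9060e39ac63e97e155f344a0a4434d2b54e3ad8d3f9571e5ce2c3e73e1a83b9f438b74482b3422315433935543332673337a20535362e135af2412884a9b01d5983b35b2e385459ac412829060039187363b927da334373905f9905f63b500343dd8f94228c6a905f1905ee3b333254a03c9623622141a854bb22381f332ad32f4373e2d0452dc283fd3898d3c3f333b2d53b9449a75462d4462df39bd33fb2e4d2dd20cea382583399c2255638b4735a434f2bf42300)))) (.node (.node (.node (.leaf (nat_lit 0x8f87e5c0f248217681704e9825512d5a8a152961588b85496a5c8bc5c8b5581165b8ff610c358099568b758877588af8f876598c05a0c95790a4f1818f8735c0f75890c90201901f8901ed54127521835115a4e9668f870570d0519a064976531335017c5d0ac4e99969089529545b0935b0b05394b568dd5f874578ea68881648bf640c4668c6580b3650696b0b48f867670ca648c85b8ef551438f864590ec5b0ee501658f861579265f0f9569598f85e55910560f1660755d137588f0570ce6a8655793663109658cd5791e8f8515b1215e8d3541327589f8f84e610a45a8d5561205f8a8901528f8495990e5f8f55d0ad9014a5f0798f844648805b8f46b0c79013c5e88c6406f8f8416607d559235c8d79012b5f88b650888f83c628865d8e75f0a29011f9011d608b9901156208e6286b8f8376407f5c8d2590ed6409c))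 (.leaf (nat_lit 0x1667d1ae9b1d5a58fa421d42c0c6d60f6852d3da0ceca1ae821e34a8fa303a43133dc50666e2ac360c6c420c1a0cdfc1ae191f3b81ddd328c21115f4086a812e4a2ac19394ce0b5d212e258fa1e1b6ce0de8919c6e2bc272bc328fa1b0b6300be9025d502b408195f0275b22a2708fa162b3971363f155e51d59b8fa1339ce41e4bb1cd880be450868818c68283d18fa1005e9219e4e2bcc712d661959a322e92a5c1295c31cdbf14e331db9c2d34932a9a3137621e10166c3304c923c1f273342928127b121d605292288fa051756316a5f37c6b2b3f02fc158e4b31c55930d1f4bb232f5971f3bb11db80965a0fe282436c4f35531a23333371dd1b2d5772c4763ebb71b4cc2bd6f262a5263bc2d45d2a24a2d3d93035a046c91de1d1d66b345138f9fe15e270a65f0ee5e096cd10e9a1857b906d404ec60a62c906d331525))) (.node (.leaf (nat_lit 0x2cc2f382933919655afc50350905d5352ae369d544ac946af62cc3035a894049833b3540aba1dbea2cc541b572413a239a948f931905c240446905bd399b3499bc905b74096c36284383d63922241aed4bb0b2950e47b084e3131bd443aa0f323aa2dd903a1ad2f3803c24c4bb0c4bb163cbc23c1ae573142fc503a26536b28294cf4e1fa339ef4caf751ac82e5743a1ec363264d2c4513c82e3f439a643425a4f30153abe2bd733f14f3622657a3934426351b630ba539a80313603e38c8f91b48b3a9058490583905813bbba8f91a5112f9057a3fa5d3f1a24298c42a193f2c154ab53f27223c201cd114896d4e9ce4ea9c1e2f03da2f4e1d3482a0314c63a21d3ca5e39ace50295509c73834b3facb4e1be58a922b3b52eb29304ab401fd362f428c963e2d1373c540b313f2249055d37ae739ae24ea203a32b9055a3a141))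 (.leaf (nat_lit 0xad140957c8fcb70acda0beab0bd620f51d05e73145b41e5941c4bd8fc740bcef01d0507d0c12c5c0962007c6d0e45b0edd905d670b48d0bce015d0a05c6707d040ac8313d7d1751806c7d0a5e2106870b65704e7f14cfe06c81065f80ad060d6040b4ca0e40f1851c8fc060ece8165580f67e10c2a0a6841152d8fbf71bd52046580cc1010dd88fbee11e030de340cd5c05cbc08daa8fbe50ad24066961541c12cc4125ad8fbdb0adde06e42096431662109c8917d201ac9b09d6a1b4620bc238fbc415bed19dfa1657e124e607d611453c0a47810ea2174fa18c3d8fbb0144348fbac)))) (.node (.node (.leaf (nat_lit 0x904909048a37b9b3e3363dbf93f2fe8f8e33b2734a1865c1db9047e42b1b47b1744a1c4c991332ca34b518f8e2531a73a30338b524e2043f9b7499724b9c0501e6293b635beb4c14e531e24f9c92ac094a1d64a9f7374133db403ab464e9894d93a5095e904534aa083237052a9b571cf9044d392b63630241a9f531d490444431a3749bb42b6e569e1501c8521c653a965326c3f1735b1de3caf94e1c1561e74e2914e9bf904354a2153fae44f9685b1299042d3e251343564d918906e03eb1934ab84ea25483309041e3d35e3836a4cb2c4ba1f4f95c9041136b6b519ee4d951521399040736b864b9e3500da511144e97d903fb4317f2fbca5a194442794e8fa903f14224936b6d5a19a4ea7e453813a33d40aa4509284e1b5303644223e491e84d95b531675512e45b4c4a241509c34f0f65590f5398b578e84f8fb4f203))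 (.leaf (nat_lit 0x1a6b40bcb010e8e094d01cc228fb250a68b0ee952ab573a34118da8155510dd2327b5927be411d271cc82146091a54a8fb1c1352911e1c17c478fb18185ac15dcb224ed8fb101658c0ae940e6b51852b155480e4498fb0417ec5166690c5fe16e17115421f5ca8fafa1ad96066c21e5c40ac518faf510dc70be6f2f44824e39096bb165db2cbcc2b3c721ddd0e5df164841157925b072abce2ab4229c5a2a39f17e0c8fae81d47a0a676146ad116641ac418fae5134a219d8206ea714e111a5e92866c8fae08fad81dd3e1c632086c10adfb30bbd163a98facf1752e8facc0be741be4424d9e18be9234a119e2220ca3196018fac20e66d275a91bda78fabd1adf51c4cb2ee59195d68fab71ed361842b1b3452ac731e4162bbfa16c3c4ab2415aff1736816d4947af32932f15d221a57821d102e315303798faaf375b61747f))) (.leaf (nat_lit 0x2b492255cd29a068f99e2b366906ac3ab3b3530f1359334cba203ff2dda43440c8f9983cc1d29e8020d5e1667c906a3359d03ea561cd701f3d540b1f8f993185ef9069d283e82e40a2bdd116df72e3c08f98e2764633de80ae8a0c6652dbe021c0120585389e934ae31fb272f4be8f9882dd0b29d6c9069127d3b493d434cf52fc56302a632a114fbc942ac32bc553244f3528c165874a3b28f980225752bcf819d341a58a313c326c711dd64351c235a7a35c9e3d58929b2037c598f97a30b9d28dab265f237618176472e4123cba4304aa2c9fc31b1a16d173953939e162e3d2374578f9744e3ad405b12c65b3558e9067129ce12f3b42749735a66382d723c4c1cd462acd331269339cd8f96e5530e2f5302753321d2a9065d4eb963fd083db2131b633f4a433a3c32a5b21cd433a0b353f82f4a99065230ab02db3e8f964)))))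
noncomputable def T7d3 : BT := (.node (.node (.node (.node (.leaf (nat_lit 0x63883900ff66894670756685c8f8325f89d6d86e580ee900ec658b65f0cf900e7730636d05f900dd63896758656a0578f82c630856787c658c871848900c6708356a0b2900c1728506e042900bd6e0436d047900b96c0716707a6f8306a87276859778586a86c7202b7102a7304d7785378852900ad7505a7683a900a8720687583f7704b7804a900a2738547185d77846780459009c7683b7085590095740367404f79838788399008e718317504c7903d7a03e90084728567005b7d025810249007b730606e8667d022790217982e9006d78040700627b82d7a8237a8208f8147d834800337782f788287a0297b0267d0198f80f7f01882015828168f80e7e01d7f81f800108301a8081e900278280c8280d8f808808138201c9001b83011900178480b858068a00990012888078600a8d8058b8048d0038f8018e00290000)) (.leaf (nat_lit 0x17d808f9f5066bd18e1127d361cdbd11e4f09e862fd2a2cc9907647906cf2a5912fa77263bc31b7d1db4e194de076c928c2d374ab293201254f194c8066c22cb592aa1e2ac001165c1ae8f21c1a2b44d2ac5a3721b2dc93126cb0dec8295c1383b51a54036ba5303cc2c3c72d2ef8f9d7176250b5d2302cf32bc62e4608f9d2366e036d431d6420edde2edce185e940ae9323768f9cd1cd420f64c1a5b93626e1760935c40186831658e1a6713e4551663630d532fb152b4f08f9bd13e812d6e92b4dc39cf32d2f52d2ff2d46c8f9b81dcfb18d93106ac0c6651c66c2c4dd33ab935b6f35c4c0b68e1c5fb284e9232a3234b48f9af3d3f114e9b1567d204ee2a4e52b6131b5161dd90304a93140e379dd2ebae8f9a90c6a60deb22fd302c44634bf332d552ebe32b1e02acd78f9a4906b01562e2050f2d45e1be67223d935409)))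 (.node (.leaf (nat_lit 0x2fb734e19443279905543c208363b94499a4d27e905503f2624930d9054d3b9f83eaa49054929cd4905445325743931539c58f90634d0e30b969052932b363539b39ace392c140a768f9053fa4b4092f174ac3d298402aa442753338833ac043a1c37b0651c3e3e3eb4220a5d233472539050b3d9b742a195124f5ea3b905073bad546a352ac92429973fa60589294e9689050049a4c35302904fc4a98732370303644298d419563338949a4e4723a572ba4523950a014094f469404323440a544323141b39904f43d29d4223d4f95e4893a2246142a563535429caf37b5b35abb4e1b13ea873249d38ae135b1a4e2834b1ab904e13aa99441f2904db4c23e422a743148478fd904d34a9bc38b6d904ce45957333ca904c63b2da40a5c5517b32444333864434432c454b1d638b58293fd904ae4e9ea4f980502378f8e42d471)) (.leaf (nat_lit 0x46b90fead16cff16bee08e410b449094750ae200be580adbc15c3c0b5a6056d30ed798fb9f116260c5cf05cf10dd9d28db21cc8d0ad0a15ddb0b50622c731757f0bbdb10dba104061756a21c7718d200ac890f4888fb8f10d762cba108ca12f59704ea70aeba2f4151145206e7006e2f8fb8316d2c0cc6d12e7f194c415c1b0ec101363a134e618c681757e17baf27bde0b4ca1c5a508e95076960961c0c61a13cd10cc233240b0be6f154518fb68255cd17c6710c6913d7d1bd100e6a2144bc1cdae0ed5b0bcda076521554a345130ac820e52717d260f60e0f4a01548a12d15124e215e1710d711a5a116e9409eca0ce4014e7e1e48e125ea1c52d0ed211a4ec37bb0165d93a3a71a46e8fb4a17c270ee5a155b4224b711e298fb4816519175bf17e661dc5b14dee086311e4480fe631dcb00ceb4116a31567c18d9f8fb2a))))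 (.node (.node (.leaf (nat_lit 0x4399d3e3464e19f4f8d85194c903b44123643a5560114650da54154903a43f9c4491e860949688fc4e96a90394482a1402e45690f540f659247501ba5298a4f0de4f8be903804c2443c31b530f85790d4922c501d84b20d4f1aa4e18b518df560ba903633f3409035c51146530d4511128f8a34e1a69034b3fabc4b9e34f15c5115d540d18f89e47217619704f16b5293e5412e51908548c29032139a803f2615497552111561008f8984722d4d1d9519a55094d5c8b5570b15990255918528d9538aa902eb4e21550aac55989548fa5a9018f89154a465b9b951190538e1570bc5511759103550935611c5b8ac568a58f88a570ae8f8895691e902b3902ad482504d1b55d928578f38f887519a05e1765195251955550b855184590a14f97d580e556907570e9638b0531436010a9026c9026390259521515d9395b12b5693c)) (.leaf (nat_lit 0x1853715e8a136bf08ed918c858faab10dc519d862cc9a19d6922bc12eac72c2bd1baee14e641d3ea2c4961363c1835d2a3d107e300969011c631be5f056c6134c22bb571e3bb17cad0c6d508688166452037e213ef8fa860c6a11854b8fa811bca716eae1ec5922b043cb69304388fa7c1b6a815df4264d811b7b2bb421fc0417d521860819ded1758a14ddf33d6f1d3988fa701c2db35b3711dd814e0436d1826b531d5af1834914e87273cf8f26f39ba82646b1960b1f59420b34193bf27b918fa6a1a46f2fb928fa6916da810eaa10e7418de02239013deb8fa68125f01bd6d31c800a69d0d5f3165871861f17692314a61761b0eed417eb11e49b2d5058fa5f16ebe173a919d34056540a6da34c8c14e331c2a2215852c27429ade15e0a076cc2e3d2166c3186104038d2ac320a6b5016cd086c1283781be151ad313bb23)))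 (.leaf (nat_lit 0x8f9642dc0a322049064910e3733b352fd83906463aa6d30cb8906443833b33b26276392d265319d51de32421ca3719623c9f361a8379ad9063d16d8b22d5a2bbfb5bb5a2f98e3138b8f95821c0131ab59062d3d9ae9062a4122e3bb2e2fc90275f23ca5e2a5f7339b64ec9e3822690622381eb341ef50afb4cb4f1c50143b434618838a941dcf52dcba9060f393033b1db1ad923c978285332a5c239df63d1dc906072d381399923b9623a3f9482b254b3842a3232c9c3d9fc342f226cb33ab1d34b7a41288489b028d883f3093330f4d1ac3aa82295462e28f372cd203d535ac5905fa4a58d4b4a54b3183d38c2a3b6413e818c3f37a22905ec431f4323aa3e1b3905e8481f34c2d32dd8457ad04eadc274b13c21a905e434bf854b933f20e4c2d44c2df3ab4c3c227482dd255c44323c33a11905dd399ec359d04fabf42b00)))) (.node (.node (.node (.leaf (nat_lit 0x5c0f28f87e6517143a18501814f1995e8bb5097c5b8e64f9855f0a05b09a571155c8fe558b7590b45b0c35b8bf59881598c08f876570ce5990b571825e08c601105793690202901f9901ee551675715b5715950165570d08f87063177509a1541324e9615c0925412d5a0a65393f5e0ab5c0825494a578dc5f079568b3660af638778f869678c5598ea650c46b899670ca8f867638cb608f1541446206b5a0eb640cc569666306f5c0f55e10e5215a61088580f7560ef6006a5c0f46a8c7578c9620786290c5b8d2580ed569225d89f5c8d759123569335e051600a48f84e5991d5711f608a7901535f88b5a0f957926750a99014b60874648808f84456937578f09013d5e873650616607d8f8415a8d3551219012c610496185e628868f83c5f0976009090120688d56488f901166308d628646307f8f8375b109690cd6509b))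 (.leaf (nat_lit 0xe64d146b82ab751d42c8fa4216e840d6342c3c015e781be18353cd394318fa300ae723152b2b4350b6ce8fa2b22de51463f1f355213078fa280e6af1a54c11e898fa233a4cd15e3b056552a39e0c6c40ee4a19d022cc183724d2cc030a6d70ce6226c722bc070de2b1dc28223872b3978fa161761908dfc29acc38ce48fa131bc971bd980aeb330cb519b7c2b4c331a9a06e601269a2ad6c13c761a5732bc0d2b45f2ebd41bed0056a01dccc353f63b2108fa09906d81ae6a175612741e8eca8243678fa060b5fe2b4212336c36d5810e0d30a8e30bac2fb842c53519d6231c7d3c2453eb8a215a012db722da224b1c8f205363b82ac192644b1a69117d7c12d6640af327b9c2928b253608fa002d4132bbff2d3618f9ff18e501866d0aec53535f176278f9fe096930fe5d41d1a1764e1957a15dc60a6c01c5ef066b738462))) (.node (.leaf (nat_lit 0x1658c3e9fa39214562fc3e350905d63c1c236a404d2c9472f6905d136a8c47589363324ca381da9e2dc531cd11412e0431503a37737d4e31cc0905be382858f930905b8401bb353d63928435b33905b145b0b285324cb0844b131cd3a39a1d37221905b038b9a3037f3b16345b0c323163da033da8a3db14905a9392973a27a905a73f293339f0442f7522c81f53e393473a27f4dac4423c89059e3eaa63425b4eb01542be9059a3f17945a29402f152539341b290595389d1552a54b94247b3a8f91b2f437303829058234af93e9733d2489057b3fa5d3e94e3e9728f9192fbcb25c954019190575905724124947a9b421cf905703c97f4e29f521d4324b93a20f3da0731371541c64fa96392ec37afe592914e9bf1e55741a4125d383a26635bc520d473cb5e362f440b314d2249055e4131935ae34422040b2b28cb2392b6))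 (.leaf (nat_lit 0x2a540000000000000000000000000000000000008f9b4000000000000000000000000010d5c04d7717d090356b0bcfa0ad598fc848fc818fc7c8fc7b16e0c11d1c1bce008c878fc5c07d0c0c4f704c8f0d50d0f62405483185dc0bcef15cb605dd407dad05d678fc3919c580e51f11e2109dcc1043d014798fc1c06e73156430ede119dff0b5600e441124740f606185511656313dbb8fbfa0c6d61351e1242b07ce7065b50bc4214c4314e028fbed106850cd1417d1209d1709d248fbe50944a1a4fe10486075040b4290867a05e9c0e5f80a5e216d68064c58fbd00c4d91a525115fd1552211e0309df90b3dc0e4df07cc90febb056010ecf90aeab0d6571b4f6135782a3f0)))) (.node (.node (.leaf (nat_lit 0x303659048b3fa8d2c3ab353744eacb3b2738f8e34a1de4e97e9047f3b33c37b17449044527232b51342ca521a78f8e239ac63936e90470383d74898c569c0509e69046a4ba2a4b1a2539e2571c9904643ca7b5b9c39045d452125c9f64e9454d95f4c93b904544a9df362f8529ce4da9c9044e44941353ec569d34e2a0333954d20b5216c33b524f1e1509c850295519c75426b3f11a5118634bba4d9c14b1e74f1be4da9290436492e6741cb5412a5b1699042e401e934ab84e98f90424392e734b56532254a3309041f3bad13aad74532c4ba1f4e938904123db3d529ed521244d13590408439cc3eaa950113510db4c960903fc4222f3430550278599954f0d6903f24f16d39afd55a7d5999b903e738b6b4c1f1569254f134903df38311422a854183501274f1da903d338b29499f74f16f4d147528e04e0fb4f8e8903c2))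 (.leaf (nat_lit 0x1ad410bdda0e63e0d4ed0b5ac1968b8fb2505eb6173e18fb241b59910ce814b4526bb18fb1f19cd618be68fb1e18c050fe281352811e7b1adb3343dd1542209e6914cd03440c1ec2f09ebc086681366e0ddc70a697225c817e6b15dcb08e050e6c7106a51f45619d968fafa176381d4ea0ace32c3e20f54816d6e1eb3f25bfe18d3c155e61fdd72cc3a24556115d01051d344f21edd329cbe8faea2acbf1bc3b1d4bd1c47a8fae81653b1be1e176232640f124a28fae537d810667713ed21a43327cd540ba21d416185743442511e9918de7293b20869f27d9c185f51c59b14e511ccfd2d3f428327136121ad3f1556419c78255a40f61d284501cccf19cc11852e1db2f2fca41a5d530c571ded112bf717523314022e2d810c2a35ba03b34115de313e4b19bbe3dbb71d4cb15bc436c3420bd88fab18fab0195b68faaf1747e))) (.leaf (nat_lit 0x20bf527b7227b122b3668f99e2b58f3e1fb35b85906a918d3d2024a2dac23cb103bc1d8f9982acaa21d5d906a41568c36a43361e41e2f0185a328be42cb3e0ee2c9069e275f120d5f2cc3017d652e3da2f23f28d0334b220be48906982ccf82cc911e63539a5137ae21fbe948bce3a30a2eba628cc71bd1b146762a5c31d6142c5ca3ba642f19c503c951ac32adc93761636a899068d31bbd3d2d223c202ebe01cc171b271305ab25c941eca33b2ae35b281eceb3e498299e52aa902fb9d8f97a4abc32cc66906820ce792f4114eba39068035a6731ad916daa344263144f5c252312b73c3ad8f97441aed2d508906752adc048c65303b31e4bb371fd31b6a239b41be002bcd24f38e32a0c5430e8f96e324143234d906619065e3052f9065b3dab431b62906593925836a5a20d45361a32db2d90656906534f379459932fad6)))))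
noncomputable def T7d4 : BT := (.node (.node (.node (.node (.leaf (nat_lit 0x6288490100640bd8f8326587978874650b6618c1640cb900ed6389d6787c658907183b6e05b900de648958f82c6906b78064688b2900cf900cc6b831900c76b871630857686e6c02b7104c658946e0486e0426208d6e02a6607b6e847730367184a760456986d698727104f728437584b768465e8a7728606f862900a971056718557605272058658977f8406c06676053758596409b7205a6e85d9009673050740357a834798339008f7284d738307a0247b02564883738547683a7c0387d0396807a710637583f79028790297e8237e06c900686c85f7982e7882f7c81d7d81f7c83e7e83d8102d8102182022860147d026820167c0278f80e8180f8401581818810198200d8201b8281c7f0208f808818108c00c7f8178001e8381a820128a813838078480a880098c8118500b888068d8058c8048e0038f0018e00290000)) (.leaf (nat_lit 0x31d6636476076cc0e633176a6906d00969515e3a1760f0b6c437e2a366b32959e8f9ea36a904e23732c7f176820ce641658c294a32939d0d6794548b1468e8f9e031be42a2b02a5402e57a20c1525e168f9dd2cc0d3026937d8e34d193b4c729d50196152b54d8f9d732a2b3ad9b29acc906c90f6128f9d23328b2fdb232c2822e322c53e906c60de532649e1c9fe8f9cd2dba1324271bd4c09e7209e76345321f9f58f9c51c69c25eb533e5e1b57217e552fe3d8f9bd2cbb22dbbd15e6319e9d36c123aba48f9b82c2452e40c2e3102fd89906bc2053731c473259831d2f8f9b434a9e3126f10e740b6b1275c423277293b7252f33bde425d3c176aa3fdca27e6c30b961c2ab1ecce203d58f9a933b8e2dbd130cc316dc526d3b2dcba2b45f33d542c3f28f9a42b3792dbc036bda1d4991958a39cf42c507363f42121e29ce1)))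 (.node (.leaf (nat_lit 0x3c1784d246529b9905553c1b33e18c4493a4e15e2ac353e2a63fa1141cf33ea93451961ad18905462acd38f906423cd42aea4fb4290533905309052a409303c22f8f9055598d32b743c3f937a8940a299051a38bc53f2f734b518f9044121c38afd3e11a9050e4228f35af84d32c4021f41aed3d9413aac54e1b14da87384114a1fc36b1a364073f1e9352e35629b4e9cf2ac303ab2e489a227c98393d7411192e380412fe3b284439734a9b04632b8f8fd4d1a04ebc23db8940a8c4228841a208f8fc429a147ba33db0940b544ea784799531456439d6471f7904ea5a241641c3422333fa5328cd55da15352e44f1e24c1c920bf542a3c3fa5b904dc3f29742240431bf489c7904d439a8d432721f4a93b3334020e3bb9341a584b99c4e97c324b84a9fb3aa7f904b94b1fd48af4904b22a3fc8f8e44d3154abc156aa390495)) (.leaf (nat_lit 0x86b615e78095df07e2113e080c46d053bf0ad510cc528fba014c7c0956e0fea48fb9f15c7a1752e06e8305deb14dbb8fb97056ab1ccda13d580b44119be21e41c0bc6e0d599165258fb90114bc8fb8f1ac9b0a410174421dcdf2ac320c59f1b3980bdda1c6421ed108fb83194390ad60124ca0ce6f084d00a5e6135e113dd00ed0d165d28fb7c0b3e58fb7b33d161fbff15e581d42c0d6340be5a086a91be1e0ddd41bd222a3f08fb6810d6713e048fb6616e9616c0613dfe2643a17d2d0ed0c1fbea16df80bc871be268fb5f13bdb8fb5d10e0916ce00e6d80e62e1462d1c57d1c62f1069b0e5a81b36717eae0c684173ed10e240ae7e1455b1a42b0ee031646714daa1255933d6f18c05304312bc030fcec8fb481a48610bcf17dbc026cd1ad1b1e4a7165200f62c15dcb1a5a1124c206e99155870d6c51854216d8b28b6f))))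 (.node (.node (.leaf (nat_lit 0x39b5b343854f18f4e98b5f0f6903b54d9ec3a326532f13b3395d15d903a54e1c23da7a48a963fa925d128903953d251403564f94c5a9035a19a4f27e5c911550ef590f1903814b2679037a4f8e057918482a0511d36016f5d0fa5a99f5510a5690b90364579e4402bb5c117568e15d0fe5e0ff5d1479034c903474824350154501615218152182462ba903385b9675e9245a983561595495a4c2019031d39ad95098a51190568c95a8ce4629f4e1d45e9895e0d655099580a65e945660f85394a5294b902ec902e7902e24f9aa4d9a555943569445599b58a7d5a9755e946580ac688d46290f5a8a15d8dc8f88a578b8598e65b0dd5a0ab730e9902b4902ae429d55716a571995b132541339029590291620c25e151550a05f127590b15f135580895712b5612c8f8815f0e8648aa9026d902649025a5b1605c9558f87e6c887)) (.leaf (nat_lit 0x5ed518c3f1ce251c54117c342557806ed70f6b0366b40f6be22cd88faa22b3371ad96106bf1c597285a908eba204ef8fa9a0b6d1355b8294e61be6a0f63c306ce8fa8e2d3410b67b10dc60d6c21d5fa204d71d3b81e35512e1714e691fb07166d414e1c223dd8fa7c2b3ac225a01fbbb01ed314e1d2f37d11e068fa742bc401b641176438fa7119e4a1bbee8fa701c5ae294192832f1e2d81a4f91cd2c1a5e91b2813aaee19376263fa2743c1e4cb3244c23c0b1fcfe1c56826b121a485372942bc571a3e62dbae45b0e0edac1954b1b6888fa6832d121a2e5154a218d4f0e5f02d57b173a90c6c81a63f0aead305be086cb166311ad8f166458fa5f1460c39c7b1a4de0c665326481e5f50eec732d823152b1d2fa1d5a78fa57342b7174ac076754e3ad2adc041d298fa4d2d3492b4a60e5f314dfc8fa4a186183147e27da4)))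 (.leaf (nat_lit 0x563592dc902cc943ec8a90647341f429c0a503e838b4b2fcc621ce93336b321ee25d5d2d29932b0d1ec9636b86361e32abfb33af93a1de3d3f19063b24c9f28cb18f9582fbe330bde573782bd8323d8433d818f9579062b393d63a20821c012ebe02d3aa2d4a5361bb1dcfb3995625c1e349cc352553430b363171e4828f950452de37bd235c3e906139061050192451b29060a32370474f54f3d42bd6536a222b4eb313633bbba391ad3e273493218f9483c97629d743daa1382ac264fd36ae634a603d2543fa3a29ca436329323584c1c14c1e12a544401b7371721b59036a0a905fb905f729dd18f9423da003d5ab905f2905ef3c96d905ed3639a8f94049a4c2a3b644ac93eaf64da044b3c93fac32755a3a2cb3b5533597e32c44332ca4abc84aac83ba6c3d1df3eac42653530b1134a5020591391f9359f14eb1431b0c)))) (.node (.node (.node (.leaf (nat_lit 0x5891e581229023890231660ea5b9b55e0e55e138580bc601255b8925c8b460891648985a13c8f8775913d8f876648c45b09a638b564912750d95f8b35e07d559215810c90203901fa901ef4f1da4f16b8f8707389e5195250953901c6901be758c35f95c5d0a563934680935e97b5a0bb5c0af5e8ba640be62880589658f8696a8c0648ca628f0549668f867670bf640826c8b0630ee7311c628fb6207f690cd658c8628d15f88b5f1265991d5f0d05e08c5d8d75d0ae8f85c589096c0c6600a38f8575793654937718ec5b9075d888588f75a8d3650b76105e5e06f5f0615890e551205d0ad5e90860886688d55c0f5770a8720df8f8446686a688755b8d26c0c5630f38f841670496409f650515692355910610f28f83c67073630a46184e5d8a25d8e75611f5e8f96588e6b101608b98f83764078650655d0f4590eb6309c))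 (.leaf (nat_lit 0x14e1b1e6bb8fa421c5cd1f3720f61a0fdc78fa3f0b6d61d65c8fa3030ba231ae00963012e4e4bbb41ee8120b84156772cc9a8fa282cb3f2236c1466d02eb717dec29bc61e656234a107e502831f17586244a018d4a8fa1b3abf62b2e92cd3616db73143635c64086378fa162a2232a59c292cf1ded91bea78fa131fdd71e3cc1a5d61ae590bdf91863818d248fa102e3921ddbd15ed22f508185273e4548fa0c2bd6c2dd0b16e910666e1dcc18fa092f40e31b8d22d2809e714b5771fe398fa064add3204b44dc748fa052928607e731ad943cb692cb571ebd81fe442bc8e2ade02dac22a32a30324106b223cd123cf6253ef1fc212aba72ec16196602d4511c4d6283341c2bd27b873d33a2dc592c4db8f9ff2f39e36b8b176230c6a30feaf346e3323be1a54910ec3136930f59218e111ad3116eac175cf1dc170767c1857e))) (.node (.leaf (nat_lit 0x3c4ab3e2363a2a940a5d3f3161cd85332633525c4b2d0462dc2158d35a5e905ce349623e9491cb8a905c91b59a8f931422523634a905c3905c1905bf401633639b905b9393f88f92f36a483ea493054e42abe44b4d4bb4f45afb22cd2393033724b1eccd3d9862f3e749a2744b50333003eab3409dc3eafc366e039ada392591cc973babc32b44452dd4b2d42ccee399f83a1ed3f2aa432df2c4aa3daad342a83e30851b132cc533cb0641a2e411773344d3a16c32d0f37ae18f91b3ebbc3f3204e9e52e4701fd5f194c83da0f3cb6e3ba261db4e3eabf3aacd32bec363733ea1a2ac373a2c04bb2290573449ae4722c411d834426303ab5292a54969343943a2c63da213ea768f9144a171383d33a9a38f913411703547240ad190564393404034631c503529d371f6419e74c1c81bd3f38a8036b1b4323441a4e29cae40a2a))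 (.leaf (nat_lit 0x8f9fe000000000000000000000000033ee90000000000532db00000000000000000000000008fcf71e4e30fcc4055050be870cd9d1555c10e7f11e290f489094b610e708fc6f09cbd09d6a07cd913ce80c4ed054c5105620c5610d4fa0cd010c56b0cc4a07dba144c9106058fc3304cf1144ff8fc2a8fc23015db05d21074790ed528fc0f185a61d5b50f4b711d150fc620bd1d06c8106dd9195dc1861f8fbf711443055ea074e217c5b0dea2065e21360b0e5480be2021c5c0adb60fc6310d76165a21a64016506075710ad020665213ec008ce718c1b8fbd014c881360d1047714bdc8fbc4156011157f21de704c6931c681bd7c09eda1dc3d0651e0cdcc0bdfd13d171b3af173e1)))) (.node (.node (.leaf (nat_lit 0x904919048c4b97f4b9bc8f8e356a0b3b2ce2db7136b324c9b690480392f238b013a36d343888f8e24c9a730bca38b054e1a85114f904713eab638b0254a834e1ab4abc35818735bb94f22550330904653e2663aad79045e42a563530f4e94d4ca79559949045556a8541a194e1d95622d9044f35beb4b14e5a1685312990445343cb33b2d4e1794e2244fa828f8db4fa1742aeb3435233b3545a1d4cb314c1ac8f8da42a182b3b33631940ab85329c569ce9042f59a44402618f8d8904255b1d167a35541c04b1e6263fe5899d39b5c4624f4ba3b5013f904134e9ca4b1f04d97d4e13e904093a33b4a1d0422324ba395e139903fd3d3363fa75591ba5524757902903f34f28a471915a95f5b93b50b62509eb44a145092d519852f37f5426539b284c9845012e5c15b5826b56b5e39b6a4e9a64b20d5c10d539155a9164b2b2))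 (.leaf (nat_lit 0x13e8d086c10d6518fb25165041cc490b69706e8528c6b1cdc80e42210c8413d7927c0046b3e8fb1e0fd2616d8016513173b01266117d9318e9e3d38c225ad08e7d2268b29c732353816cad0f6bd15e9a09e4f18c8f22438105f41464d17d1c0f6b808ea832c9c17be92a3270e63e26cb316c832846c01eb916e4b24b531cd5e0c6a1165638faef4141a1ce6709e02105140bc3b1cc483b30a394042ac938fae82c50a16b451e52317662136ca1463619d091147d1751f186491dcb00d6a0186271d5883a3771b4cc204611d54722de50a6cf8fad219e982ac600edde294e418cb528caf2b6808fac716e863041f3ec2e0d6572d41d0d68c4f4241d4bb2a44b0967a8fab92a49d1a6352e4be0f64c12dd8174f22c2f526b9c1848d18db421b0416b2314dff19c584aca81e3a815c783c4751d3c720cf052ad616b1c0ee281468f))) (.leaf (nat_lit 0x364088f99e279af29da52b3751de663db3d35a9819e94394dd2035a8f998314022fde33caff21ddd1ae22906a50ce6b362a43727b2dd39175b08f9932d36119d349069f3046630365205f62a5008f98e2e37e195f128c6a15dee1adb334d03303821e4cf39ad538b3c1edaf8f98837a6a2ddb127e5b90692906902fba641a6e1dd433b1c4352a7351f331ad31dd111d2f03da0714e198f98039ab1225e8276469068a9068923c2030ab52dc2d3ca62369f21ccfc1de078f97a2bb182db602eaa5225752dcf819d691bd6d2e45d3059529d5635997329cb18aaf3244e1c5708f974303ce31b914fb432f5c22c4460ae680b65d2dc9221d571b5d5372123923d23adb1dd3a295458f96e2cc182c4bf4d45a18d3d1d6141860e9065f32414304c037a022ebdf284e53823e379e820e00362c1349db1f5a3906548f9642c3d92fbb1)))))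
noncomputable def T7d5 : BT := (.node (.node (.node (.node (.leaf (nat_lit 0x618c1901015d8e7680746685c688326607b63884900f0900ee6809b7807a6688f6a0566c066900df5d8a8770646a0577e82c6986d6609c900cd8f82b900c86c847648837786c718317004f5e8a7720506d02a608a96f042900b66d87172843760457184a900b27184d7104c73036768467584b6589472840708556208d7203b708627505371059668966e8606f05b77052768589009d730546d85f900977f048750307d0257f0249009072072760357d8337c834900857285a7483f7b03e7a03d9007c6b0687303a7802879029818239006e6b8636d85d7982e7882f7c81d7c81f7b8387a8397e02d82821808227f8147d0268080f7c02783015828168400e8181881019800108181e8381a858208b00c8280d8d008820128201b9001c818178b811848078400a88809900138400b880068d0058c0048d8038d8018e80290000)) (.leaf (nat_lit 0x3346f31d0111db814675395191567107eb7165870fe9035c7e3bd864d4b0295e435a908f9ea2eab1906ce0b6650be7a27dd1285f7293dd0468a3168915e1930be48f9e0354d70f69e0f6b01fdaf2a5a92bc0d8f9dd2ebae216a0176a64db932d4941a58a2b53231a2b8f9d73dcc12d2bd0d6772dc9a3228b8f9d232ba833ab932d3929d9a0c6c21d5fa1d5c4324292cba18f9cd3330e10ea916e5d0ae682b54d1857e3634a1d68626d3b0b5c525e3518e5421ddd2b2a530cd82b2771857b906be2a65b2fe142b2458f9b83e5a02e3bb1ce4419e1b906bb1c48c3344d32c4434a9e8f9b44ed9c906ba0ddf52049e243bd2fda1263532cd9e1de661869440dc928d452d3951d4822e49c2146132b8e8f9a93643238a4d0ae5e906b52ecb92c45e2dc2e245382a3798f9a436bff35a4a176371861538dc22b61330bf32135a275f2)))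 (.node (.leaf (nat_lit 0x3b20a4f968591299055637beb3e1724d1d94f22d23c203f2974019c9054e3db3b43a149054a9054730c24413cd8f9063b30a58988383d32fc5d9052b4b9633e9df5498d8f90532af93d3ba3f9b6353329051b362f4412fc35af84021c8f90439acd4220f9050f421dc34b513db313f22442aec3d96d34305469ac42282905084931937ad9905033e2e1362e25599a4da7e2bc2f5a1b74794e904fd5aa2741a19904f838b8938b9a4321d4c1ab403304c1a08f8fd4dc703dafe681b243a8342a25429a18f8fc904f53ba66412bb559d347aa0324554028041260904eb492d53b2ac4f9e24e9c929cd4373403d298412333fa5321c01461c240a5a904dd3e2a6421d5421be501c6904d55d22244191904cf37b9b3f275904c73d2ae3fa114b984904c0571fa36326904ba3ab5b3d3c5904b3904af4d3158f8e43738c4c9423d321)) (.leaf (nat_lit 0x106d30a61d095e607c810bd6308d990cc691567e15ced0a44107d0c11423074ad0a4420a4b6106cf0c65105cbc14ce8284190c3ed1b5681455b0b3a01c5c81e3fa0cd170d46d1543417dbc12deb19c9b8fb8f3443b0ab9f1dcf6283d10c6421b4cb156450dd9f1ece4184398fb830e44905e970cdfd084e2095df134f113ddb0fd94175cf1a54918db632d168fb7b27bc016d1c204a816d4b1be571ad4c1ae9b1ad220edd4304380fd678fb6816478204b417cc907cd613dba19d960ce430dc7c2344c15d1e09cf21ce250ee2814e270fe098fb5d38475116d20f58117db31b62f1d57d1061e17c8f1b3ef0867c0c6a117eab1b6401555114558154ff0fcfa153c418d021255c2646019c581db918fb490fc51194868fb4817c7718b9012e9113d1a12ea38fb451062b1467b1e3b71154f0febf1363a0f61a0a5c714e8d21387))))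 (.node (.node (.leaf (nat_lit 0x4c1fd3530f4d1a64e20d5f0d4903b64e9ca3ba7f41aba3c3385b128903a64323c37b2849a9540a916095d903963c31d3aab84f8e0579185529b5a9cf5c147550c9590ce903823fae7352f25094c5a9035b1954ea785c975600d85b9895514356944903659035e393545d1024f94d510dc520dd5e9119034d509eb4b9d04e1da4f16b53132531333f2f1903395c9515f1275f1355712b5612c903223d2519031a4f9aa4d9a5598ef598f15c194452795d99f5e8f8540b0580b15f90d640d6549155b916902ed40267902e35098a511905690a5790b5329c539ce5c96f5f90f5f8bc608f65e14657093588fe560e6558a55688a590ff5a0bb738c3902b53ea5840a40581605c9555a181531829029690292650ea5c1675509262124590a65b983578e5561595495a590b55f0a35c0ae9026e902659025b5a16a571996b8878f87e)) (.leaf (nat_lit 0x10e8c17c801be261b6882dd252ec62145f325d7a4bcb51069d22bb22a3378faa21bc3a07e991cba73361609e741c3af2c4bf0bec3096cc1a3b01bd361063b3147f2c3418fa8e15dcb0fec70bec60a653202b01c5cd2637214ed413e1c27b1211e17136692239d2a3ac8fa7c3440c3bb100e6b60a6782a4591952730ae02bc571c44318d2d194de1ac8a0dea21ddae8fa7029b972ab2a1e3cc17e021bd7c2ac631b2862cc4b193922641c2740f1d3982d3ea22de31fc2a2d4da26b071a3e68fa6a34c401b4858fa693142716e70186341c54131d128fa6842509234b718cc20f5ef15e63194c81ddbd1b63e056b815e0a16db706e850c6af175da1a60c8fa5f3545b1a2711368233647126b10fdc615ded3252a1e3c71e656332b78fa570f64c0e6332e4be2bdbf195b92fcc32cc0315e9a05ed715dfb353da0a6980c6c42abe1)))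 (.leaf (nat_lit 0x2f98e2ebdf2ed509064a906488f9622ac0957b6239db118d3d2abfb3226335aa71ecfb2d1f832b44286003c2ad399f221ce933b74391863c4ab9063c1ae22906392fbe38f95831b3e511932dbe72d3b49062e571879062c3a1ad3a17f20bf555b7f32b2d2c4aa4096c1dd5d4122e245ce349c43525c452d44c2dd1e2ab452de8f9503837736aeb2cd07906118f94f3fa8c165be332ca4f3a35026b2cd6438a8d2c4ea465f13d3f9383d63a9a33cc953b9768f9482ad733d99d341c327c983aa12371f74d1c1509e128d443b244331cb4da5446a3a29ca435b2e3918c29dd53a978905fc2fca31658c4c2a348b3a3fab327ce1905f08f94117582372843724b369bc2b3b535b4f3eafb4da034f301522be27535303062ec2d359db4552f323703230034b503adc33e22f3eabf1f55a3c2bc391ed2158d38ada381e8391f332ad3)))) (.node (.node (.node (.leaf (nat_lit 0x5d9525c9539023990232630c25c95c5e08965934580ac5e97b5b8a05c882638986189158965630ca54966638c48f876720af59881658fb7291c5e9085e08b5911f5d8f990204901fb901f057154501617289e8f8705a91e5d122901c7901bf748e9901b55d0b85d938680a1681255a0ab5c09a630be5f8ba8f86a5a13c698c08f86963877640cb5613d660bf8f8676c8b46c899640ed750d961912620786a0cc668c7638d06487d578f7598d35e0d16108657120658aa65879630eb5d0f45f0e86906b5890e6c0c55c8d25c8b75d8a4579265991d641078f84e7789f5e051579365c8d76288e5f8b35e08c5a1235591063895730de6407563880648445b8ec55937640f2660498f8416506f66061678d55b0f5600f3660738f83c660886285e5d8b95f0bd901215890c5d0ad6c100600a2638656307f64037648c690109620cf))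 (.leaf (nat_lit 0x13ebc1f53726b341d3b81e3550cec519d422e3b1906da244a047b433a4044227416d92056bd205841fd6d2d2c70bec90f6122bb3f8fa2821375136ca0969528d6928b8a28da71ded906ea72a4001762a1d65c19d1839bf68fa1b2cc931c66a086cb225751fd5f1cc99292238fa162b26f222db244a108e501ebd81f4161f2d81adb01dd3a11e5213ec018aaf3bc5a3037605ec80f6d83041111e061e4bb30b8d2cb942dd95096cd11e611cd9b2e40e8fa0932a0c0eeb208ed0195a620cb1265d38fa06293661e5b5285a52a281165e217d0d3caff2cac21fa134a5891de0b2ad062cb572932f29c6b15d2823ce323cdf2436725c4829d97325d71a65f2d4ec1cc06272421c2cc1f36f8fa002d37d2a5c12e39e8f9ff2d37e185de2b4a717d8f8f9fe45c683f37c0eed1146920c63019e1019d34105f4165d21db4e066ae8f9f5))) (.node (.leaf (nat_lit 0x3d3f141a3e382593f2d0452dc1dd113436b362553fa5d3f3162bd914920725c1e399f4539771dbc6905ca3a53e422528f931431c54326c2acdb905c08f930373331ad2935a2135a488f92f382b6314f342ac345b4c44ac946af652ee03a2ce391401dd433b1de525833a3d74aac8323c8905ab4128f4baf729cd23a9f93a2a92a4533ab1133b0d443174a30b905a339a993a2503e308403132d4a536b863aaa43f2aa422df1cc973b2cb409564694990598411bb33d0e3e1e9303bc8f91b3e2d24b9803a3c229c64183a98f91a3d2c138b351cc173fac439afd33ac034bca3da762e3b335bec57201905743d3364895f4693b3542535a8a539ba56a479056c2db71363f83fa1a491718f91436d333f273401708f9133647141a56905653a2154123532c4f4e9973726142a344e24e29cae561d63aa3d551e7501c81bd3f39285))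 (.leaf (nat_lit 0x346e3000000000000000000000000034c8c000000000036acf00000000000000000000000000a6871e4d10ee29065790acf70657f16d5902552164c40bd6b8fc7a0adac30d6602e0d07c7d07d1f13dbb8fc520bd230f5148fc4a0de030bc76114890dd6107dfe1469610d710fd760ede18fc2b1ecfe0956e015d00fdd9034e708e7f2643c36d7736c7410ca20ac220fd780f48d186210b5211748404e6b17c1b08e41085d81c4d017c7b8fbee106730cc8e0d6a50bdcc0ddb48fbe5195e91a4331cc3d0fe24155e0076051a5aa0adf91663808c791a3f713c888fbd0174bd8fbcf14d8014c67145ff0dd9d22de58fbbf8fbbe1bd2c0b6d6175a2075f80ce200666f17c6e1f4ef2bda4)))) (.node (.node (.leaf (nat_lit 0x90492906e94ba084aa4c4a20b8f8e339b03392c646a2936a89906e433b7a35bc9363b9353024b9a78f8e231b7339ac54d17951192904723fa4937388422884b9b04e2b25815736b6d4fa204cb2b904663cb0939b6a9045f402d1343854f8e14e9d441a9f904564422a421194d93a5095e904505b9b34a9a24e246571b99044634352323aa4e1a84ca1f4ca87482178f8db9043e3bbcb63a264d9734cb2c549b142a188f8da904374b1fc36b565899b5327d904303fb294c1f65c0fa904263ba7b44b464ea4f4a23b273fd442a139b3c4c9c04e9e65012e904144d9ec4c1ef4f1854e12d9040a3b29348243432314ca385b15b903fe581ae4c20e5512a5996957917903f4363ab44a724822c561d8903e84fb47469965193e4e97d903e0552643da7a4f17c5013f5f139903d4579e43d2d75218f4c18b5b1455294a5294b903c3))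 (.leaf (nat_lit 0x1458b146360c683155048fb251dd600c4ca176318fb2420be21ed150fddc0dd058fb1f18bde0ed268fb1e153dc8fb1c184e60666e05ea81ad4022bc12168b09e4f235ad3c41d303f206ea412e4e2a4a608e7d0f5a8223f018eac01eb90b658066ad125931f4ce1accc1bb9c0d63f4a4b215e4b2a3231364d17c838faf31ccfc0d684156084041a8faef1c5f60f4f9105621741027c218faea2fba28fae92b50a8fae830d201d4c51860e1466d076c18fae535d6a164d90a69f1ceb31858e1b3db3044e2e3d217be91f3d51cd4621de70e52e3db201461828d6f0de231dd1017eb4293fc275001fb8415e9c19e0721d540be5a29c730c6d529cd33a4541baee0de6432c281cd701b57230bad1a4ac175ea0fc8720b041bb271a51d3845c20af515c6c1660119c052f42c1cdb214e0417ce01c2fa243602c361335133435f165ee))) (.leaf (nat_lit 0x1f646269af8f99e2aa052b36c26d3c3ca6239ae4906aa3a4dc2121e36c028f9982cc0b3cb6929e3d24c9f1b54816e1f332a8361d120632175d650b782fad61ad310be49314652f3641966716e802f3592f38b3036321d571468f1462d364072bb811f4a938a4139b5c20c154fb4238a943834b2e412906931160f2fba541a6d1eccd339cc311ee4bb144b30c1dd85294e53925e9068e4b1e54f2374b2022d40804e7932c8b2d4353e2b41f5533c33d361e31cd5e28c1f2ab188f97a4b4f02b9bd2c4363038017dec1ae812d5304dd0b2ad552fa9d2db5817d241ed882a49d2f3ce8f9743a43148230304f42d44590676906722ec9128c6a2759035ae636b1b23acf1ae599066c304188f96e34a9a3c2102dcc6313a4906629066033413314b83cde8364901d2f03d236349f1274963636e3397e204ee906552fbd98f9642ea3f)))))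
noncomputable def T7d6 : BT := (.node (.node (.node (.node (.leaf (nat_lit 0x78061901026c832660a7658b9668947284e6e851700926e0b1780a46788b7306b6f0566c85f900e07502c5f0976908e600967087375849718bb6b8316b88a748356688c7709f7e02b6f0427b87f7004d6d04f7c85c7204c7985e70830710368f8257b0347883c6f8507582a768438f824798336e0787c8407303a6d0797603b7303f77838788397686a738607505d7803e7903d798886b0687385b7988075072750477884b7984a7b0577c04875071780457704690086790637505579859780539007d77054718628f8187d0207a81f9006f7505a900668f8147b819798217b82d90058900527c026798277d81d7b82f7e0238381b7d0228301a8301e8201c7a0299002e7f0178381583816900288181381812828118700c8400e8400f8c8088681085807868068a8058c80d8600b8700a8a8098b8038c0048d0028e80190000)) (.leaf (nat_lit 0x1ce1b0d6b710e5a33c52374e332c235146344ae82fe9733c1c35dd81d43b2b2a5274981dcfd28c2e38e7e34c2b1d60d8f9e53caa3286804a42a34e7f1934825d5626d5523cb2384f93955920dc24ca4d1dccf304a92ccd33ed152d4d132d9642b411959d51aa22bc5f36c5e31bd32c4f336cf141bd031bd431a6b2f45d29cb831c0d2f34234cb63d45c5324a1854c3249d31570525b02f2ab1d3831bd6739b371feaf22461334bc325d40a68b41a0c1ac8930a901e4ea30df630bf1363ed346084d216521d72d4071f5032c57530ab5359e03ed763d5261b51d3934a8f9b434aec34aed28d6c1bc9b445e04b3da214ab20d5f403e8311bd3e57838e28462524bc0e4f4191c6a38f9a938a1b30ce51e2f018dc921590385ad325222cccb2bd6f8f9a43721e2c55d2a4fb1ddf735bf337de23557f4238744bc73d3c12241e8f99e)))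 (.node (.leaf (nat_lit 0x372f84b2fc4c2fb552d2542f93d388502be4f2bf4ebb8552513e2a942ba8419e43f2a79054b8f906469504bc972dc539053920cd435c283b2cc906ef8f9054a173481874915730beb4433640a484197e32eea3e260411b9431723e3b93c36d402194317f9051041a764218c4fa1850a172ec4b6a91a42a1c51948529495a3ea551fa4923d3fc2c3db4740a984fb1450b13564593c3cb47acd5538b3e2ce32bca4031057a854b16c462b68f8fd521714c1ac4d1b140af340a2a481868f8fc5d97040a8242a87593e945a65422354eadc4dadd4cc4041aad36b5439b613a33d32b7a46a3941b394a2e94db6b35b1a4ba383c33835c0c3fae74ca55374163cb1d3f2a454a4f55a4e2dc932db714cac05830a532c14c3704e43a3f2d141a598f8ea904c13db19451e3513984d1ec499f78f8e44c11b904aa904a59049e293fd3db72)) (.leaf (nat_lit 0x35d1331d258fba9135ec0468a07eb50b6d30e5ed13e920965516651104a611c7514e3b18e50374773848706e2515d4026db11dc8b1a6b41dc7e0be542147013e2e0b6781bd3b1567b056c612626066c1096361363f1263c10d931f5ca103a0295c33860c36c412d41209e110d61009ed00e64c17e0f13df3194c8066c01d58a0ae770ee290b6ca0f68518e9410eaa20ca314676365841acef1b51a2d4821a54a0dec80cdbd20c0813e0a155be1b67528dab18d290d6d514d1921c3e1dc8c1ce8320d321bca00ae991c4c50d61a01eb91961c086692aeac34da23a55b2d5d9086cb16db736d180d52b33de833d7e184e60be898fb4e0fd821cec4155f00de98166c317d3c1648a3aba41c4ad26e6c1b54712ebd15e4516dda1763a066c21757d18d040f4291ad4131e0336d1728c64376433c50c3850a36d1634daa3547b2c413))))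 (.node (.node (.leaf (nat_lit 0x4d1ca3cb5c8f8ba511125194b903b74e1fd481f24f9c9559c154153903a749a67481ed50a3b5c2344e92290397402a6412ac8f8ae55901491f3482df54944569455596f45b674e9c23d2618f8aa539005031751316500fe510ce56115538d45099f90366492933d3468f8a3500df558d8521465190b462704d1e9903448f89e52107521245195c51253502545812b5293d5891e56128551839032345a979031b8f898588d95890d549759030b41a5d5294a5590a590d7570ec598ff5314353911568f8902ee4423c902e48f8915591c558f655989902d3402aa5a0dc548ef560cd55116550c9598f0578fa568f4590ed6b0c65810f5b1095412e4ba0657256902a88f8875d908569274d1b5529e6519e74f97d4e1595d137571665c8d2519525f0c75515d569355f0f95d1185094d9026f902669025c8f87e5e8b35416b52161)) (.leaf (nat_lit 0x38cdf37e4117d231b51216dcb1bd4235e012f55c1940f335631b66718d0819c112caeb3d47c2a5072dcc32bb8f1861e20d8835da830e571864f1cc741b56a3b55123c6516c663846e3dc693547a365b4204b32cc912dbe038c76195491fbf53fd013b37c1ed0025b8225b8129c363dab43b31c3d4343449f11e842ad433553a8fa7119c4719e2019c1b176ce294461bc4545b4b3bba38fa6e1b6471965d16e171843730d2f175a72558118de78fa6c38d4d2646a1769d204b521c010b6da1e49c38659146d62a4243a5d608e30303af8fa680adfb09dfc156120fe7430d2d365623b6ab1860b31ee631cd939be533658385a617d8019d248fa5f14e8e1ae1912eb1365cc354ff324e844506403bf37ea2336e51c3a52b3433144f29c502de6f35ced1d4bb3ccec356702bdd51c5463d449355ff1852029bf43f479353fa3cb21)))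 (.leaf (nat_lit 0x2bbfb3922831a8e353f7345bb361ad285e32fdc848213501d242bb254b2935b264c2b13429d319ef2ecbe5819d37196544d84d1b332b3555a3f1b47d8f958461642cc2f2dc30304fc29d5a3a334341b834d5836992354fa3ca5e3e20b53da0535a439a2e5b4d732b2d5d2373cb9a3f200459d1341d54c2794d2781e4a721d851cd11906163938a3b2fa3352c401633d9de1dd1c3e2722bccc4d41a4ecf0512c6522d643b69399ae412073b22f39b553f9ab3b9b0353914d9f937af238b7e3ba3e36abb402f141232403d1543113330f422ba43231554324035235b0250b77383511eb458f9424c180283fe3c3f23f402449af3a5143d20f313ee461bb351b23e1a84fda14f247502464fda54c15f4d15e55b9d5228a56b3e35a894629e4e9918f93b4e1ba4d3273821d8f93a353dd59a1533a11379ff369d6381d04ea7e4fa7d)))) (.node (.node (.node (.leaf (nat_lit 0x56138521519023a9023352985501655f8c85495a5c0cc50181600c55c0f75198b4e20d5995b5e1365692555910580f5581235890c4f1aa511a64e9da618b2710bf6d0b490205901fc901f18f870580b74e9555a9995613455167901c8901c05713f5913c580ee5512c5b0cb541325a0eb5b8d5901a54e1905d8a85b1396791f581215990e6a8a05517b6411d5e8d354926701206b8a69018f9018a610e76b0ab6f8e6901846986d6a8816d0699017c6409c6d09a578e15d8a26c8ac6d8e55e1035d0ad69876700a16d8a59016a5c8c1718b56e8c0901606106e628b65e89d700c46f0af71075901545f8cf778b06b0ca760649014c60090658956488f710b86e8939013e5f8855f8836507b6509b72099700779012d6087c6087a628846a86c6606567074718676f0827a044901176d037608a9620bd6308d72889718bc79041))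 (.leaf (nat_lit 0x3ac3347b1e26b2229c923037f37b7b3dd0225c1f32bdb355dc2fc253857235ccd3dcc934d7147a451a5df3134d42de14648828ab21dbc32cc0a3de093c5e917e4027cc7362303ed79345bc295d12edea33c840ce34215982a44d2bd9a38db518d774231247af5116732850e2050f2b3942b4dc38d05433901f396305953aa6d2c2572d418352e53ed9416eae2c49630e5638d992ec3d3144c0d6a14121023399373cc39acf1ce2f39c831cd3318574195732bcd236cd034d6e1769129bd9254f8233804b2b30a661285f142bb33462d09ec98fa0422c202fb9534be418d6d16d8b30435304f53049014ce21060e1c6a88fa02355501b6132550b1b56119e4e2768c8fa012b54e2cc14245383de222d32a2b3fc29caf365dd33b9f8f9fe35aaf346a90febb1866d3448f33e04376961ad7c1951e394052ccc432e218f9f51058f))) (.node (.leaf (nat_lit 0x4bbb13aad53f32856994579953ba6955a4436a4054a9f55aa052b9e3e22151b3a32bd640a831db938f931421883f4a442544203d547b9c49b2f38c514018d3636e375ac431f4373323da29409a3905b24ba2d205ae4e1694f16851c0448a273828c539cd3da2654a423a3038f92a4e9d8551983d21a8f9293bba255a803aa7a39b4951b40339f0529d3539d42dcbf411973519c5129c5229b3c2b03faa138a5b5719b5819a56403363ab3a28442a885a1c5333aa30ce4501eb905919058d905894bcae44b533db043548e3da0837b9b4724b2dc813f9d98f9193fa753e94e40a4c2c3f04020e3b46c52c3144bba50bc84fbc95337635b064e2c94f2c84fad83a2223c9623f9bc4032c4cb313a2b9479df3ea1f4c2243141d41a583236047a633c3c535c27501cc3535641a964d9bf4931f36b8639ae3432954e9be4d40040b89))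 (.leaf (nat_lit 0x3334500000000000000000000000000000000000000000000000000000000000000000000000000009d86046620ae7a13e530be2a09e8f0de4a2d57b14e6418d9f06ea716d920d6bc08dcf0ddde094b012e9e0c6930ae9c0ae8205ea0076180be9515e4205d8e08ea605db91adc01c66b1ae380ddef0f6be0b69a1f6152bc9907e2b03e6318de5086cd0566e0beba0865f10dc7024c21656913e3719d3135c6f1057a194de0969f12ed70bdf51b47f19db313e81374681cc3f086d90663130ed41861f0765e1b41712e8d095bf16e6639d0937d0d16e2c096b015df9066520a5d2105871d6ad0aed113eb20d5ee09d681beb61a53707e723ce27055c51a65c0dc800ae901d61d0f69b24c95)))) (.node (.node (.leaf (nat_lit 0x3bac29048d8f8e34e979511415696d3a3d74da8d4c9db5212f33c43439f64ba2c8f8e2489783e2c536305459a243904559dc52130904733c27344a0a509a1519a09046b7194f461a754113551148ec484da644c9cb904603d2ae51b3c8f8de3f2d04d2d490457522fe443734d2c34c2c44fb0e3fb74362fd4d2f74e2f6403844fb2e409564e28f8f8db511774fa20512254d3c64e9b7469404e2498f8da571764d32b4db30904384c9fb4d1c34cb0c40b0832b7d482bc35ab84d8f13d3923aa9940af4531c749292433c0452da402d74d9c64aa914e8f2904153cb5b479e88f8d1528e99040b34b5e3fb0d509e2519e14c933903ff903f9422ca5134f503504f0e853b8c53acb903ec4db004cb012b3e247ae14d1ee8f8c34f8d0903e146b09432508f8c2530f34c98240aef4933b42b588f8be540fb528dd4e1474f8d64ab24))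 (.leaf (nat_lit 0x3d45b374b735cf2086cc0a5b81de71164ac1ebdc2d3df4a3c207e601553413dfa1658c48d5e17ea518d48136b80fdc611e7d1264b40c06346021e5c4176d23852713ed828ce128b5a34ce03260537d602fe060e52a2164619c5834c850e6683d5b61b4d631b8e2a5c12ccba3251f4b3150bd362c3e735be60b66a24b622e31834bb01567916d3d194c6253590e6481a6650d63e1e494166321b6351ad3e1aecf14d2e0868805e8611dba34b5d134a219c9a116230beb333e873e4103dc221864d1d3ce275a92acdb2abf62d3cd3ccda3bbcf286443cce73661439c421b65b3ac3c443bc4a3781bb4c38deb3f3bd40b791ad1b275f23ccf63e2de4445a1cc44384bd22cc01dae01eb8d2cc5436dfd11e4915ebf283b620cb91254f224a129bb514d831652818ea43c3b41cd3014e3315df421ba6236393ad9e0d6c7146c537ddb))) (.leaf (nat_lit 0x4da8127c7127c722bb63354093246235ae639ad93fb5f56dd71f5ce2eb652f3641f5573da032b9ea2dbe33abbe3fd6636a5a369f84d1dd4c2b7235352bde41e5f837cf74fc212e4b48f98e2c9932d4e92e63d3daff35b752cdd035521354a82e3ef482ea3aa623236a1ecf428cd5394ce3ebd841a2338478314ca31d9749d9c3aba13aa7b3427f509cf519ce52bae59a94333f820c861bd3f3c5543f3ac48a86374fe335522b5cd4cdd3383de4ca1232a148f97a4f27728c2d2a5533ccb120ceb3eb074abbb37624335e63fabd3b2db3fb20329c431b859067c8f974432742d4ee1b5a33b545344263b36f3c2c71bb681b43948b573fb6c403d23f236382e221cdd8f96e51a092c45632c554f44e3a6003728b35a2b395fe3344a1f5af57d9b4427c4cb3f39a6a4aa4136243543ad3f333339b65829a1cd6b16564255652ee07)))))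
noncomputable def T7d7 : BT := (.node (.node (.node (.node (.leaf (nat_lit 0x7c061901038f83260090648956108f6d84e6d8516f892690b1708a46688b7106b758407583a900e18f82c608a9690bd6a08d72873760496c8bb6b8437108a8f82a6588c7589f79836720307787f740486d0717a05c758477c05e740427582b7a0348f8257b83c6e8727583576831788338f8246e0786f0566d85f720796f8607285d7903e7a03d7606a7c83b7583f778387883979888770546f862788807c0507384c7784678845780577584d7384f7804a7704b6c8867185a740667a858790526c07d6b0687005b7c0208f8187c0267486f7d863750557a8198f8147a0227b82390059900537e81f7d81d7a0277c82e7b02d8381b7d0218181a8301e8281c7b0289002f7f8178401583016900298201382012830118700c8480e8380f8d0088681086807878068b0058c00d8500b8600a8a0098c8038c0048d8028f00190000)) (.leaf (nat_lit 0x1aea51d6691bb683cd7134e0134d613ed0238bd036e703855c116731c5688f9ea283fd273fe20e67356ab37d631e5233baa38f9e526d383d56236ea21926816564235652860750c7932bfa21c3e8f9dd2c456364552ec4e3dc493cdff43d9b56a45195dc8f9d72cb96323952c5952e26d3347c392e82a50e30d0f4fb942acdc30cc32f25233b8f3cd068f1e01954b28d471b5461c59a341f5395a8366574d22b1c6a1226352e4c43a5a61cc744ea101ab9f8f9bd17d3f295542fca53cd513a4ff55b2a532a22e3642c36528470293b64024a3446e49c690fe0b3626a3628b33ba32f4f529d303247a3d5b4503e4224aa254f821c0131a90334761a5494db424fc182cccb1ae9b37a1b8f9a92c4962be002ce56195733ddb519d774b4193244c3621e8f9a42c4e934bfb2063d2cc30405ea38c84522db56abd3fb20215354da81)))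 (.node (.leaf (nat_lit 0x34bca4e3014f30043b8c3a3cb3b2cd4bb504cb4f4fbb7422563f2a843ba73c9e93db449054c469508f906905433a4cd9053a3244f3938a3b2fa9052c4a1738f9054522f4e1df4728d3a3d73d9623da5e9051c3c35c4213a8f904392c0363ec4120e4128f2bccc5791a4d21c509485194945c1a54a764398c55218562174c460402a646aac52c484e9c2402614eb174fb16474f0552f936b88542d64a389362f8553693b33349a4b44930511718f8fd472254b2205cb553eb9b42a2e5c9708f8fc40b3042b2b35ce43bb3b3a3584b2df4c1f335391402363d2e238b7e482da3e2d7519c64ca91413d139a993eaf4501c73e29236c0b38b0943250384153dad140a594f254502534cc3259306333b947b774c3ba3430540cc13cb1d40aa44e8f24143a3db5b451e8523973d2ae40b3c4c11b8f8e4904ab3d3f19049f904983eb53)) (.leaf (nat_lit 0x354683946f125ec8fba915e630a6d815dcb0be650b64c14e451be3a1052811cd6086881e5fa35d092e50d05eb318c8a276141bebe0bdcf08e2b0edda1bd75166981adc6146d2046b604ed90acb0075f507eb107e9c19d4119e851bda71147d38d3233d203156a314c608e760c668136d705e9215e751867118d691a49a18db30de5211deb0d6d4125930edc71ad4221ddd1561128dab37e06166c33857e184e612e5e0cdc52ebdf11e5d1467217e0f23d841a6bd146ad08e5f1bdc20d4de1558716dc305e9f0852e1c4bd1466634cad16695076b70c6d60e64b3941b3c68711e610666e37bb011db83e494334821a54a17e9d18d6d1ce8218e2c1d47f0ce2e1b51a06ec5175408fb4b1eeb936da91bc9d15d29096550ce54176510fca11dc6d37e5818d241363c3e4e834c332f380305df32de1344883160934de9365793ab93))))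 (.node (.node (.leaf (nat_lit 0x42a5841260501128f8ba558c9903b84f1fc481f1509c8569c05513c903a84aa6642a5c51a3a5d2335616590398571fa4aa3d549018f8ae4dadd4eadc558dc5790f4f8fa46b663fb473d298529008f8aa4bb144cb135590b5214a5a0f1550f84d9119036748a64411cb4f0df8f8a3549755110d518fe4726f711e43f2a7511078f89e5217b531395224e5124f4d9825195257166551675393490324509fb461c3578d98f89853146598d89030c903085b8ce558ff5d9105e8f05610a568dd4d19f548d4902ef519eb519f65491c8f891558d657947902d4902d05694456116550c6570ef5294b588ec4f16f588cc708c5680cd59145648c85512d4ca056a251902a95d9088f887549255595b549e1539e25097c54133560ee5891e5a0cb5913d590eb51151551385a91d5e1175194c9027090267441ed5e8b38f87e5516a53160)) (.leaf (nat_lit 0x35c053362116e0d1b4862ced30feaa3f4e33ec1c194d93f42b2cc2e18cba18cb938cf4354f131c452c40d354b6194a7294241d3831bd6716eae0a68b1b441403ed25b8115b8232d7636d261bc9b375e02041f485f12cc0a2ed7839e282a36239c623535f1fbf226466274653cbc22abb533bbe3ad6635c9e11d8f2bc973953918c478fa7119e4018d5b185ef1ae131bd073bba442aec2a54e1b57a1a60a1666d1c3c31a5c1165ca186181b66434d4d8fa6c24c9519e890b5d223be815df41d4bb20632196ac1c5883053e145bf3152733b480de230ddde1863816d8b37de63dc2a3167e1a51d1757d32c0f35bdb18d0431dd418c851bc291e3451a59f1be42146363662436608366033f45c3ab1e3567f1bd7c1d34c8fa5720cd427cd5376963be0525c9c37e04396971857429d7043d15394d11860c1fc2f3e4f93f5591f557)))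 (.leaf (nat_lit 0x2fcfb39334331b83ad58374fa33226405a049da45132753a9e353dd401d1449d53e2002e2154ca113aba236ae63ca5a3f39d4e22232bd64433e1c3a0461648f9582e3f42fbf32b3fc245ce3922832a8e3f3f7351a3345bb3d17e3d1a8285e325dc8431864839e35a893a33a37229452b140b2938b265099a5199b9061e30cee1b5a34554538c283a2cc346ef3e2493d95632eea8f94e2ad102ec4b42459522cb4c38b573103aa27521db49987522f3422243ba1f3944044a623336a39b613eb8637ae34d2954e1be4a2e9501cc3335640a964d9bf2dc93543743fafd4db0a363731ea5f4b1808f942264fd3c5003f3ac48a86474fe3d21a3ad528f940362213e20b2ddcd5095f5195e4add3502475124641cd853b2e40a3f33b2d501d2401a24d1ba8f93b58a134718d411b93e3b23629d369ef3e2b03aad5363284d1944e195)))) (.node (.node (.node (.leaf (nat_lit 0x591355095d9023b9023453984581225e909571325c8f45612c588ed561215298a4f1aa4d1b55a12354127578d758920579365a8d39020d521a54f999618c1700bf6e0b490206901fd901f2570b78f8704f954901da5318359928901c9901c15813e5615358937501815c0d25415a5f0c75c10e901a64f18f600a25195c569265b8f75b8d56b8a0549245f0f95e90c6a91f5f8f5708a6901909018b5d0ad6f0ab708e6901856288472081720699017d6607b7189a578e0630a8720ac6c8e55f102610e76e876780a16f8a59016b5c8b26c0b56a8c090161610855d0cf6687c6b0c46d0af78875901555d0b66f8b06a0ca778649014d5e0a7638b9658946c8b8728939013f5f86e5f86c6509c6707a6e099708779012e5f89d6409b6986d6388367065670746c067730827a044901188f8375f0976208e600966e8896a0bc7a041))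 (.leaf (nat_lit 0x34d1737bbf1e47130b632ac0935b5d38c6324cb3383e53c59d30ca41f3d52cc53355fd374524f3411a6432dba63550c3c50a213b31dc372dbe031d163c5aa17e2031414312b737c7b154a2285e4345e23857f18ea9223992acd22a5b03c5ad3152254b6c5bb571add8293d42126b2d45d2c4b82dc5b374b71e45f39bd3354f32c3432d40e31bcf3d4f218e4f274e518dc91ce2f2d4832d56f01eaf8fa0c225982e2c72f36f37d9933c3d1cd0b2c5d5205902a44d36dfe3544a1fd362ebe320d5f234643d3b408ecb2a4914c2b21ce1515df921c208fa0430c5e35bda1eb4e0fe748fa033faed2064612dba22d8e1b63133d508fa0232c461dd331b423195b92b6b827c724c26e2bcc7246801ddc42e216294fc2c55e2fca334c8935aaf8f9fe1d6341d66b16e171b43945cec37e6f35ee5345db334df394bc2ce412e2ab0d684))) (.node (.leaf (nat_lit 0x3d3de529d6369d04ba7e4ca7d3ab4954a7b37a7f4d9cf4e9ce474d7411b241237383353fb311ec13411888f93135425344262c57247bd849a23444784021d353f934cca8f92f3a28438b9a481921d597489683dd9c4e22c4f22d3abad459ae393f85029a409ad51b3f3a2fe4d9d88f92a55a7c3fa0f3f9d9394be3ea41482433aa69541974299c4ea9c4fa9b3bba150b403e9f04c9d34d9d43b1ff53a124d2144fa7850a793f3ae489b73733241b2c3aa94361b64bbe946a3c3042d3d5534acb1284eb4bb723bac23648d3d9dc4222a4196c2ec43409293ea758f9193fa724096d2ac733fa193c46b514573f2c1552f6542f745b0e33b7150ac451ac357b843b1b341248461414228842a83593c649957499b04a1ab304384e9ca3137d4e1f837ad936b9251b113630f422ba43231483c05823e3aabb402f1412324e3ff552ce))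 (.leaf (nat_lit 0x8fa68000000000000000000003325f0000000000000003152300000000000000000000000000000000000000000000000000000000bd3408ea0145e5136a714d310de373169e0be7917de70b68e0a6531b5c017d4808eb408dfc08e260be4a0a4ac0e63f0dd8205e6214d811d61c16e1906e0e06e6006e4e165920febb136120cece1048b0c6b20262d13dee0dc7e1c68a0867a1ae6a0c5b71468d1351909e942043f174c81de8f2b62a3bd251164734c8c1cca0066d0086c1185f01958a1cc17385130dcc2056c608ea8136ca17d370a6c80fe810aeba0b6300e61a3047737c870c6c4196480bec91367717cb50b6830a6d51551b1369a27c990ac3b04e7b0c61f07dbe345b6065bd0fe491254f1d6330b6c7136a328c6a)))) (.node (.node (.leaf (nat_lit 0x373049048e4e9798f8e34d1bc54a4c4d336363eb49207441f49048142ae449969479788f8e2342ca323704c991489724ca084fab62c3f04d94f471a752113531149046c4127345a0a511a1521a03542c482933d3464cbea551ec4c1f74f0e8402aa4e2d351c313630334b51532c8522c94fb764535238b02503c9513c8532d84fa8a4c1de4c97f501778f8db539b14d1ac59ab9323ab4c9bb4e163561768f8da4d2874e28230c1d4029745b1b4db0b41a5d33b604f1c4343854d915904274cb6b34b1a4da383c3384431f3a33d35b7a4ba393f3394f8ea904163db19469e3518e98f8d19040c402e1461ee501e7511e6511599040057b6e34ac556abf57abe5b0de54ad240ac637b6d572fb562fc2c3e13635e4e30d4e8d08f8c3903e23fae742a55520f38f8c25612b41aee47a6547a35530fb8f8be559434d189508f64bb23))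 (.leaf (nat_lit 0x35d0539b90375940a52a0a52b145f3156931ebe61d408314360c6a6165861365027d9e28caf15e1b0d6bc0ce8c0de7812e7c395a22f4e03cce7336221953b33baf186b52c3e728b7938406434ed44c221acef0d6cc36c9035cf638580166102ce2736475573f63ad2f2c50832c3c4d3bc09e9129ce12d3dc096cd1fbf52bbbd36d181657b1ee5b1841230378106b00f5ed05e861dde828e592146129dd61a6bf08e9914e3b0d63e34ce234b7b115bc066c00adfb166253cdd9394da36d60196a48fae02666c52c441fb8e20ade38c1037ae5286393460226db13656b17d3d38d1f5031553b591bba534629503185435a186d13b58319c584a3cd5838d2c4db394c521cdd323ce3345a30cce3f4c91165c166cf8fab521c1110c80066c28fab415df2164a61ce4d8fab32156c0fe90096da2234d35e441558c0f61d24d3c1851e))) (.leaf (nat_lit 0x8f99e28b2228a012ac922c37f34d018f99d33bc535b7c2a5af1f55a29503354073cb21304352baa52dbd931b1c35c348f996312635aa4d59a303fc1e2bdd1355d039521354a82d3ef2b9938f98e2d55d2cdf738bbb34b071e5f8324f74ac212a4b43f3d23a9f9332f21faeb314503145440b9c40b2f414513b5ac1cdb22cdae36cbf3ca44332405029f512a0444034d9c53ca8c20d121d4ea49df63cc02439af3fd143a3ee3eda143da54b3b1452a13ea5b4f2778f97a27d912958d3bd89424ae433754b2ff345cc30d2d523c754b873ebc136abc33ab89067d432748f974215851cd113a6163b5443c2cf3a3cc10e5a3448f532f556312482ea382ad3d35422cc051a098f96e1eccf304a92acd31e2f03d9b434b3742cd02b56e315d71e5965419855a4238b4a412803da7a41c0437285323aa409cd1cc42255562655523cb2)))))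
noncomputable def T7d8 : BT := (.node (.node (.node (.node (.leaf (nat_lit 0x6d078901046709f5a8ec5a0eb900f4688576c88078093698a06b875728747584e8f82d7883d900e26788b638c6690c5900d26b85c6c87f678bc6a82e700ab7503371865720648f82878034720618f8277084a7285e6e846680798f8257902975043708317206b6f8268f8247782f758367682b6f0498f823738396e0738f8227403e768406f060710518f821768386f0567783b708378f82074859690418f81f7604b7284d770726d83c8f81d7704573050790486e0448f81976053768636e0687182c8f81871058760557386690071730328f814760527785b900629005f9005d9005a900549004f9004c90047900429003f7e0179003a7f011810128201390035900307f01c840168680e9002a8081b8181a7e81e8400d8380f83815868108300c8f8048a00589807848088f803890098880b9000a900068f0028f00190000)) (.leaf (nat_lit 0x295451e4cf334432e66f41c512adfd33d163450c3ed15474fe32da81d3af2c3a714dee183a9146bd3741c2b5581e1f529a703ca6f17e0f39ce8414f911e0619d3129c8c185b93ecfa3ace720d37295a1906cd19e100e5ed2a56e36d603c40e2c3a21a52c2a3b20a5d214e450fdc7906ca31594165e10be5407eb4906c719e1b32c0c2b205394b71ac9b32db21cbf2906c404e9d906c33a26817df8165dc3039e1edce0c6be333dc3bc8d1664333c4b1abb030daf30ee90965f3f5282fd520aeab332b02ebdd1667c026b84049a11e99335970ee2834b7b12e4b8f9b4292370f63f0cdde1dd4241d0d40cf13341504e9318636244a11fdd73dc6936b1c2fa062dbe12f3781bcfb33d102accc14e2e1768a0de0a2f52a3bd210c6734b3593d35a2b3f036473906b2076922cc80184c83a43d0a68b2d3912b2e92fbcc0ee622ab49)))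 (.node (.leaf (nat_lit 0x42288401b33e39b3a2b98f90a3f21f3d3364cb2e40a4a8f908412d0441dd8f9073eb141ad002d4191e4cb3847f905409053b905363c37632c579052d699174b1184517c4e1da48182451594c1a06a9139051d3d2348f105411d93f1ac402874122d42184433bd8f9033b95e431414695734bbc8f90248a46509bc431df3f97a8f9014a1e13ca748f90042a3b44b5e4825135b878f8ff499b03f2d88f8fe34b2c37b7e5891e8f8fd4713f43249469634a2cb473ba3bb203f93c8f8fc3ca8f4197f40b6e4d3713a9a48f8fb501e240a673fb5b362c28f8fa46195314288f8f83f29f4ea154d9d63eb078f8f64d994402e63da7b40a908f8f34cadc45a308f8f243313441fa45a65353578f8f14f22541af38f8ef4fa82351888f8ea3f3163faa9421318f8e94430b3e91b8f8e8489c8904b4353ef904ac904a6904a090499362d6)) (.leaf (nat_lit 0x135e91450115d7515c7016c448fba62cd398fba314be707d7216d65103b48fb9f094d2085642fde02ec5b8fb9923ba40e63c8fb96305468fb951d49d066c013dc10c4258fb931a5d60f63d114cd0749809c2f14cd30f54310d8d10e611057e1fe42144750dc05086880b5c20c445153c306ce18fb828fb818fb80264fd8fb7f2959e134e60d656115530cc26185740e64914c3e47ca71760d203a50bd6815c0f0ed300dbd30deaf12cf3144c0154661561e8fb652fcb28fb640d61f8fb63394ea19e198fb6221ddd184f6165b00d3f11844f0945614bfc125cc0d67f1ab6813d4e144b8185201050b0e6841543b164d91d50f1d4351e4ba1e50e1c6140dd2f8fb4c196328fb4b136261c4a5155be17e2c14d0314bd519547185550fe221562117de2154c419c97113ed17c341561215e2f124a22a38f115251851714c8801ed3))))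 (.node (.node (.leaf (nat_lit 0x8f8ba422334b33c481f7903b93c9e08f8b7452dd41a583bb47903aa3d24d8f8b33db084d1eb3d2ae9039a4b8e48f8ae4f9e64d9c33db1b3e3194aa6690388903853c2e33b1508f8aa4623a4a9f6472e4492e13b25690373903709036d9036a36b1a4c1068f8a3462534ca359035890356903549035139a098f89e453174ab0d451ee40a5a441f09033b3e2a690335903329032d90328903263d2108f89842a5445a3d48aac38ae29030f4c1fc9030990305903028f896630b6902fd902f8902f4902f24018e8f891529c04ea984ba61902d9902d7491e9902d1902cd902ca5f8c1902c5902c0568cf902bb5509c6709b568b2902b85689d441f43e1648f887902aa902a441a594c1ef3ea5b90297902933ea5e9028c8f885902898f884902848f8839027f9027a5809490275902724d16e8f87e9025d90255902509024b90248)) (.leaf (nat_lit 0x17410165b58faab19be517d3a1b5d53e47831d1418ce02fbf71b52904e8609dfb066952c4f203ebb2b40b2ab90184ab08eb025dd03559d1941f15ddf1e4df193ee1754c09eda17d491a35d37c873347c07e6018e502458b37526173be10ecf2fd023357807e71285f41dd4b086c1046d93b3bf395130a69f12c2d175f00a6d217c951e46a165a6136a21cc121beb72ee6b1ecb009e9c0e6bc1d4118fa6d4d5a9076a9185e7176cb8fa6c284e5175e52b67a165878fa6b20461066c214e8008e821ad1b194fc0d648176b518c0832c7d2b6ee1d4ce214241bbf315e390e65711e033dd5c38da20c64131c063ccc5125ea38c8e8fa5f1acbc1d2af1b2f01bd852d3f41e32514e7e3cd5134c7a3246e41479185d90e61a293b716e911561136ce330dfe165823b42342c492dec80b6893f44a3dc221a4d60de8f28dbb0c60214e53)))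 (.leaf (nat_lit 0x9064c341c5313ae3ebfa17d5b352fc41bda2ebd935a002c3b1362868f95d3fa9232a288f95c4ea3139a238f95b42232352458f95a3fac33a33f1c4822d59c1ddae9063719d699063390630352942ac032bd59441a63841b3e1a13f18f44be42dbe33c17033281402c43b998462f63b3348f9514fb383f2da4c2bc1f4aa1757b9061815db734b0e2943115de63996a411779060b3ea2c3ab183e3153badb8f94b3838438b61399818f9494c97d323c13aace4e352343048f9473ea7937b8a8f946501d33d329372a135b758f9454e27835241369972faf58f9443db313cb553a1ab1e9fe305963359b155ec905f3339cd33bad4b4ff3b98a19d6240976362f7419903c9ea4594f3ea0f3c9e53e27341a1a38b418f93d3c2423f2c932bde8f93b311a84a20b3aab13ea0d3e173391af8f939421bf33a8e8f93848a963a1f84223e)))) (.node (.node (.node (.leaf (nat_lit 0x90243902409023c4d1ec9022e902298f87c902268f87b902218f87a5d8a29021c90219902145c8b9902115788d5d8a75a095598a99020e9020a902075910c690af658994d9588f870901f3901e8901e3901de901db901d5901d0901ca901c2901bb901b68f86e901b28f86d901ad8f86c5d0ad901a7901a2570ee9019c6108e5c8a85a8e7668e6901966008f660975f0bd608906a889901919018c610c8668a66e8b8901865d8d767882698b59017e5711d658c49017861937698926e0a1901725890968877678bb720ac9016c5b8d3670ca7287690162588f75c1205d10e6f8b46e08170088901565c0f5670c06d0677286f9014e5a8f0658c7678cc678b1700a5901405592190136598f95711f6d89a690b09012f5f0d59012660110901236c8866f07d6b0696e8bf6788c90119670a4618cd5f8ed630cb7088a650e57386a))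 (.leaf (nat_lit 0x19d662f57624e4f15e3a1b6c93b37c10e090b6a63fcbd206ef3152b09e2b45c8a17dac0fe962b4be17d991767b3e5bc3ccb60feac37e3410e743f46f3643317dd426d3c34de337d0a3cbcf1eb4e38c831dc741cd5e0de4a0f5ef2bd1a3d4f719dd82c36026bc01bb83175da175cf1de1d08ea53750635c7b1dcb50d69410ed439bb824be24abd033d0919cb30ae980fe5d17d7f15ddb2f3791cd5a2ac1a12e9e2bb0a32c32394841951e1567809e5e026cc18ece4d4d13b5ba352eb2b4c117eb12e638284ad1f26e17dfa906d68fa0428cb115677076520be552a4168fa03476440eeba09dfc1b6a811e978fa0225c1e225930be851be69155c61a4c98fa013fc2e906d51c548166c5076752cee48f9ff086900ded01065c3151831c4234d6b1e4af2dca915e6c15e201b561146011468719d0437cda3abe61bdad37b480e591))) (.node (.leaf (nat_lit 0x304028f935462ba47a6343386343378f9344d2f143a62469cc3d19e35bc93327c392c84baf9905cb2e5a4905c810db8905c53947e35b3e2bcd82bd713a9aa4294a3f4ec4ca183babf3bbc84d9a541b434298d3eb423d1793fa1d409d78f92c3fb5038a9e39b013aba13b143409a3491923da6a4698b41a763cb2f8f9283b33932a2b8f9274ba394023639a993d39c8f9254e9c640aad3e36b331b88f924479c73c1c43a33d2d32a8f9224bb4f44afe32a13333003f21e8f91c905929058e9058a905863938b2bcf01a4393c95441153491719057c8f11a3f13a3c9b93e9693d9612f3ce4a168333cd3a36c8f91646bab3fa27393108f9153da853da8d33b923a1328f9145012e4730350bcb372ea3f9993e3744fb893e9a98f9124eafa8f9113d29b37b538f90f3719b41a803eb4036acf8f90d3d29c4f9d14f21234bc78f90b))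 (.leaf (nat_lit 0x2c3f22d52c000008f9f5000000000000000000000000000000000000000000000000000000003d5707e4612da38fcae185f106d5f1065b015c309c96036000d4eb115e8135a702d7001d888fc5318d3d1ad848fc4e2f5080ec901cd4d14cd4164ee05d5007c7105c720fc940bc558fc300dcc60345f035838fc2002c361bc5e024db075110761305cdc0bde48fc07095448fc0117c640acf80f4910a46202cb907c928fbf51c4370bbfd1a5b106c091740a12daa8fbe840df709d35135c9044500956c8fbe029dd18fbdf0b59a32db4105058fbd40bcf5045891258c0ce350a53f0e60708c140c5f28fbc209d270353e194d5074dd14d6a055958fbb68fbb58fbb3095730abfb13683)))) (.node (.node (.leaf (nat_lit 0x2fc599048f7094c4f94d4e92d579604e9334e92b4ea1771948906e5429c18f0e34995f48a4740a2037b30449ba521294d9555113e3aae08f8e14992a4a9875016d40ade8f8e04b1d850a2f49a4c431748f8df42a4e49a778f8de561c93db5c3f31d4a9e43ab128f8dd4e224433eb4eb333eb698f8dc50283429ae4c1b736c27509528f8db4f185569dc48208462c14d2c62d3d2589658f8da4f16b422b65213040b06353f93b21b8f8d95024f441fd3b2e734acc8f8d84b9ce423ec473728f8d640a7e4c99d4824437b6f8f8d4421cf3d29d3aad5402a84c2b78f8d131b0c4c1f1519f24a1bd8f8d040ad441a644f1fb363f82cabd8f8ce4c1b136a8a473d7402603b3c68f8c93732b44a2a4e2223e9428f8c344ad33f2a744b444e1808f8c2432df471ed40a5c903d6359938f8be4a1e74d9cb48346903ca3cb7a903c53fa0c))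 (.leaf (nat_lit 0x2ac5c0d5792a4770945d0a5331ec650c5ab1b51f3f6a1145f58fb228fb2129d560ce2d16ed716e160edca0d6670eca414df610e2414deb1542b1c4c219413163a016b4d0c6a31cc4811e2915cd032ced0dd230d3942063116d1218b4514d0718441194891f3ea18e640e63e1c42925b240bcf42869b2643c15446106bf2941d1360c1a5320beb313e3b1d3668faed8faec15c9c0f58f03ed11e48b126d80c49e1c4a315c4d16cbb2f6702935f8fae518bfe114541559810e5a345b6156051a4e92d4e409e7206e8e28460342ee17627182e80a68115d634dd413b58013e2516d2435b2329367136661a54a314382242c20cc727e4d37c863caef2eb9818d9f1845814e172d3e91db970e647304ca8fab523c9f0dd2e0ee238fab40edc40f6c60fea48fab325d5d03eb9026aa8fab216d3802eb61b4170f6150f5901d65914e58))) (.leaf (nat_lit 0x2b269906ae906ad146510cdf93c4633a1b5599d4394764c40d1cdbf1568c1567d906a70be8d2aba83643a3cb1e35468381be3719f3b5cd22da0906a017d6d195771857d3f3f63d45a2ac6b2946c9069a1254f3638c2bc003252237ee64ab8e2e38d3eaff8f9894899a1a61c0a67624d7a2da3f3039d42c5229e042ea5731a5238bd88f98352295339f93531133a163cb27392be20bdb1b27115d1931a9a2dc041860841c2a40aa5322a3393ac8f97b48a382bc21344a80cdc01760e1adb319d342bbff2cad219d1c1cd673dbd12fc4039ac78f975482a017d5433c4c38d6f906791dd812266e175bd2bc933b3772d4810de4036b1f31b7d3fbbb8f96f3fa7d9066d1e5a51c5d39066a9066890665906633c33a264d7295ff39ce22fcc337c183434a2c4bf3728b8f9675129138aa28f96644afb389d21cc851562a194de9064e)))))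
noncomputable def T7d9 : BT := (.node (.node (.node (.node (.leaf (nat_lit 0x6d06a901056e88b900f9900f7900f56885c6c87f680b1720ab6b075720746e84e7783d8f82d900e37309f900d7900d5900d372857730806a88a6e8336c8a07402e7206571864770348f828718616f84a8f8277205e8f8266b06b780298f8257404271830690796f8467682f8f824758357682a71849738398f823750737303e8f8227583f7005f6e851798388f8216e05d7683a6d837748598f820698417604b8f81f7384c780716e03c770458f81d7404f7604771044750538f81977862748667282c710588f818770546a0689007272032770528f8147885a90063900606f0569005b90055900509004d9004890043900407e0119003b7e817800138201290036900317d81e838168400e9002b8181a8081b7f81c8700d8300f86015838108280c890058f8048880684008890098f8038980a9000b900078e8028e80190000)) (.leaf (nat_lit 0x38a6e39aeb3252d32d60354d03451540d133dd792adfd39bf714e581e4df36c0b066c0086c11567c3ece831d141e3db28be12b3e21dd4b3e41c35bed194f614e3a1e5fa176ae3cbfa0aeab20d3627daf03ebb1b6b709dfc2b5ff2f66f3dbe32f1ff17d993326909e2b0c6be10db8906cb433d04147b03e9d18e2c906c8165be343a83443a3ed06425091c5e31cc3715dcf0ce541667b32c7d3248e17dd92f3ad1fc94146453ac0625dd015e2136bef1aaaf31da11bea7036b81ce1e1860835ce7324be29b49906bd0965f404991354f22da015de9423be1cdd431a28361cd0d6480be6521d2a3ad0a3d5052b3b8906b919d69254a028dcd36c6f38b5d2a4c12ca703738d1bd842aca833c210868e19de71d5481cd4217d7f166403bc5a4cbf63244c2ad6f17ea3066a41852e906b1315220e6572e3c02b36030aff906af2b3dd)))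 (.node (.leaf (nat_lit 0x8f90b401b23f39a33af33e21f8f90a3e3354db2d4a1dd412d08f9083d24a3eb148f9071bbc32946c3c46b1ecb0905419053c905373d2d22bbff39c434022d4a16846217411a1472fc442f74b12d409999051e3e1128f9044118a3e1154014b41117421772f3ce3b95e8f9034214045956323cd48a468f9024f9bb421de3c9744a1e18f9014027742a3b8f900481f14925035b6c489b08f8ff3bb1034b2c8f8fe2e3d241b004613f8f8fd42248459624b2ca483b929c2740ac94d1553da5e4197e41b6d4e3704521b511e28f8fb41a593e344332cc451958f8fa323723f29f8f8f84ea144d9d53936f4d9948f8f6411f03ea7a3eab73f2dc8f8f33a9bd413138f8f24c2e44e1f7333c74e2258f8f1332b94ea828f8ef3d9423f3168f8ea3e3094018049b0b8f8e93a150489c88f8e83041a2ac4b904ad904a7904a19049a35377)) (.leaf (nat_lit 0xde281451714bf316c3017cee2bd398fba615cbb14cab0abd407c95104e90cc0f0a5b1085572fdbc2ec7c22ba48fb991648a2f5468fb961c49d8fb950cdee12da38fb94195d68fb930f4011165b0855f08c360a4ba0f4c60fc900fed4105b61cd81155800dd270ce4a0c4a90c4501450006caa14bfc1955e254fd8fb802859e8fb7f134290e4dd0de460cd300ed95086d91545546ca616c3b1f6590cd230d39f0ec260ddd50ee620ee6c145c9154fc165282ecb28fb6518c1f0c691384ea8fb6319e1820ddd8fb6215606144140d5f2186130a4f415b82125e20e42b17dad13e16145a7115eb0e5900f60e14e0d164890de3515e391d4d31abd51944d0dd111a6328fb4c15598165f00ed831ce1b07eb414e0715d0e1945e1746a17bb517e4313dcc8fb450e412114f917bbf0ee8f1146714db42a3cf125260cd0114c8702ed1))))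 (.node (.node (.leaf (nat_lit 0x412338f8ba4c33b45a65903ba4024d3cadd8f8b740b464031b903ab439e03db088f8b348aac3bb589039b4c9064f9e68f8ae4e9c2393473e2a749aa49038990386581c43e91b4623a8f8aa3d2a6571fa4a1f23c25590374903719036e9036b45a624d0e4462538f8a34e1ec3d2ae41aad501cc903523a964453178f89e4f1fc701fd90340432e69033c711f690336903339032e903293aad53f19342a548f89846a3c519eb90311402369030d3faa99030690303620b68f896902fe902f94f1f93aa9942a0c529c08f8914fa974f1fb902da4f1f84a1e8529ed902ce902cb8f88f902c6902c18f88d902bc560975b8a8568945823e568b9902b63f2098eaaa8f8874aa6669267902a19029d902986a2609028f9028d6088e9028a5d8a790285598e7902809027b580b290276902734c9588ea5d8f87e90256902519024c90249)) (.leaf (nat_lit 0x174c510e5a18be58faab17b4d253d30cdfe32d5818be62fcfe1567d17e4708e82076762c2e8026cd393a72ac5c183e709e9c3548d15687193640c6411c3af1a4ff1667508e71155aa1a31c1ac883745b066d51c4de2558a3e5251837b1c4c22b35f2bc6e036da295f317e0f173a911e49304343d516066c212bdf146261c6c516d651e55519da2185631bc9719e102fe6a28c7f08eb00fe5d1d4244d5a98fa6d0ae9002e8a186ca274e58fa6c1757b2c67917586214618fa6b0a69f193b309dfb19dcb194660e63f0e61a0e5918fa682cee830cf52ec111ad753fc350a68b36d5c11e03175a60d5df32bdc3c41018e241adf819cbc8fa5f193b01b5322b4db163c231c8f17e02344793f4773257838d51165dc06eb5344161ce1f1de1c4242334c7810e23384e3344c92eec7155da37cd110e9619485156122f55914e7e1b271)))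 (.leaf (nat_lit 0x9064d3823f3139d3acfa3442a3d1822fcc32fc183aba13ca6a3632f3ea928f95d479b44da318f95c371af412328f95b3aaa23eac38f95a3f1d21b62729da41cdc8906389063690634906313933e2bcd829dbb4524719d623d1da4022c3cc0d4ac0e8f95434a168f9533d3278f9523828b4eb388f951402d94b2bb1e4e1165e5906199061733b8c2a400384813c17648984185db4518f422e03f2de393123f28739b69362ea39abe4b97d8f9493cb923bacd4f35133afa3da798f9473ab534f1d38f9463e328381ef3d2cf4d2788f94534240379962cabd3db318f9443d3c68f9431dd18265d3365a5905f5905f43b2373639e3c3ee3f9d93641b3e16a371593d9693a3434594e3fa0e3db423f27243a193a1d734bc839a9e8f93c3434a4b14d311a744a0a2b4bf8f93a3d1723f223411bf8f93933b3747a968f938392d733ab8)))) (.node (.node (.node (.leaf (nat_lit 0x90244902419023d902359022f9022a5a09590227590a9902225c8a28f87a9021d9021a902155a09d90212578cf5f0845b07c5987b9020f9020b902085a0cb670ca65881906db8e9f38f870901e9901e4901df901dc901d6901d1901cb901c3901bc901b75e0bd901b35f890901ae5c0ad8f86c901a8901a3561239019d610856709b63883678ac90197608c16509c6406e6986d650b8901929018d5f126678a16f089901875e8c668069680b09017f5d0f06e0bf90179629366a0bb700a6901735711f6809a68892698e69016d5c8d2718af70867901635a0eb5d0cc5e0ed670c07089967886901575d0f46d8b46a0766787d9014f5611d54921669206e093660e590141668c7901375a8ec58909788776a0b590130600c5608c8618cd570ee680886806f710826b0c4708a49011a6c08c901109010e9010c670bc6d8a56d078))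 (.leaf (nat_lit 0x4bb1e47c7625e4e19d311c4173f46341c680a6ad3dcda18e2f0c6940b5d21363c2bd71414222b2b01b52c15ec3335e03fae50ded038e331adb33a4693b46212e4b27d3b2cdb23650d3a38f07652185771dd6719b8107e88066b302eb63848415e202c2e926b9119d0419e89146c41465e09e724dcb7165e11dc7e1cd2b11e612b4151ea6f30d941ac9b18c072059f0e6bc3c52114e0b3038e1bde82bcb414e3b2bb8b2bcf03f4f71a51d165bd1de1d026aa14e2539c4a3c4ec1d4cf8fa061a4c82f637284ac1e5451ec8c906d727cb18fa0418d6d1eb4e2e48b33bb7476448fa031ce150f5ed1cdbf12e0524c1e8fa02235920cdc01ce68165c51b44940c2e8fa0107e601a60a096d21854c0f6bf2c3a2076a90eeac0f6c68f9fe3851f3b43c294651edc2454f318dd815601375613759d1d38338cbd384e01cb682cba02d408))) (.node (.leaf (nat_lit 0x3e3d8452ba8f93535b7a443854f28e4c2f18f93436b1a45b542f32a8f933422138f9324caf81bd1b3d59c33dae905c7905c634cb536a942ac0318dac3b9b940a20905ba479603c9653913d4895f3b1ea4398c411e5459784d21c3b3413fb508f92c3fa428f92b35a003b1ab401a2451912c3b18f92940a75372863b3398f928351b84aa398f9273eb0f38af23a3ac4d9c68f9253fb563f36a36a2b469c78f9243c2e338bc52c19e4bb4f8f92245afd39a7c8f91e4c9a9429c1905939058f9058b905873a30a32c321cd1c3d970402c44813e9057d8f9193f20d409aa3e9903d948403bd8f91832bbc3938737b3047baa3ea26382d83d9ac3ca843ca8c313c1392c84f12e8f9144830251bca35b618f9133f37350b884121e3d234333043d29b8f91137b8a3719b8f90f41a7f3fa5a36b753d29c8f90d4f9d04f21132b5741288))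 (.leaf (nat_lit 0x2bd2c00000000000000000000304370000000000383db8f9f52d4940000000000000000000000000000000000000000000000a56403d5311dc1175f18fcae8fc98104cd0160009d4d035c30e4911055a194b88fc5f01cb917d3d8fc531bcfb2e5088fc4e0fd8d16c968fc468fc4405d3507d5405e670fdce0cc3e14c700ed43045700f4a50458902c2f1c5470258517d2f0744f0b5ca8fc0a184b30856c0e63d8fbfe8fbfd0f4eb0a43302d8806d3f1bca38fbf20acf8094d20f58c0bde412d493fdf78fbe80ad50124c0044450954428dd18fbe01242d0a4c7124a2104f106d720ccce0542007c091650f07c920e503075b00b3f115bf409c0517c130bd0707e5614c86055740c49e0ee2213e80085330adab14534)))) (.node (.node (.leaf (nat_lit 0x90493906ea439ba4b93b4f9a044a18333c939b014797c4b161906e64491c8f8e2521a54c9a64394a4b9164594c4698b4d8fc4d9713c3184992a8f8e14a9864f16c3c3154b1d88f8e050a2e4aa4b3c17a42a4e8f8df43a74561c98f8de4ea6441a5c4b9e3412db4d2248f8dd593f84fb32393844f2838f8dc429ad4c1b633320462f64e1858f8db559db49207472c04e2c533b7e3cabf4e16b8f8da431f45312f41b0537bec499a45024f8f8d9451ee3c2a833ac24c9ce8f8d839bf9904283fa7e8f8d64c99c4924338b07431cf8f8d43ea5b39b263b2e73e29030b0c8f8d144b5e4d2e13a230412d48f8d03db5c4ba6136beb3caf54d1b18f8ce37a89483d63f2933c3553732b8f8c945a294d2213618848ad38f8c3413193eb5b40931432df8f8c2462d13b31d903d735a104b1e78f8be4e9ca42a58903cb47a633a33d4d98e))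 (.leaf (nat_lit 0x29b903150c2b47a0a4a40a573174af0c3fb18442406a0145ec13df628d568fb210be8d17ed617d4e0ecdc154720ec5d14b22145ea11d2013e7f10ecf17d3e1634816d3a0b6b2354e41860c15c5130670155680d4252163015c41154c416cd518d121a4d91f41d19e631ad7a184e61cb970ac562969a2556b16cd41f43f3bbea12e298faf00f5ef12e9e8faee1045415c9c8faec0f58e00ed30be55136660d3b61c3f515e1416ba33eced295023bcb618c64112ed1634b34db516d7e336971a3b4334481aea516e2e314381e3661c482184f20cdf9136a24cd403347513ece16d4a1eb982daef126d83952429c60223e91959a28e4c35d6a2db6733b230ae98184ef15db733c2c30b2405e8630c5222c9f8fab50ec800fd820fdc48fab41065c11e9224d5d8fab304e93016cc16d388fab21c51a1b6c902eba16d0b1d3a53ada8))) (.leaf (nat_lit 0x2c3b2195b90b6a61562a0b6813f37c359be3699f305763fbe4906a82cd191b5292bee90de2d2ac0c35a0519d6611e09429b5439d41fdd72cd97906a1146773a4831957c4535a2d359244cb2e4199069b906993330e2f43132c3d38ee5423792e378393cc4799a8f98915611906950d63e2d9c53e3ae4a4ca3c4e22faa532aa330402512958f983362f43c2e2352813b9988f981209f514e539068c31b3a274d73ad5216d5b43a57342523f39c47a388f97b394cc28d1090685906840fe749068329c572bb761b4391cc7431b7d3431f38bbb472a08f97517c712b3f02bc739067a1fe422366d906782cc593b2d615de6906732fc4030bd13dac73ea7d8f96f9066e2f59b1d5969066b906690ddde906643429a2dc042a56e2ae044a3da2ebd936bde39ab138334502918f9673624543afb8f96638b3f1b4d690651906509064f)))))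
noncomputable def T7d10 : BT := (.node (.node (.node (.node (.leaf (nat_lit 0x901078f832900fb900fa900f8900f6900f3900f2900f1900ef900ea900e9900e8710466d8718f82c900d9900d8900d6900d4900d1900d0900ce6b858900c96c066900c3900c27085270062900be6e0336d05d900ba6d85f900b76e85b710597185a6b068900b38f82470855720537285471063900ae7284a7604f900aa710457504c7704872050900a37784b74847718727184d9009e778397203090098788347483a790317982b900917b0257503f770437f036900877e8387182a780406d8609007e7983e718427801e7e01c8f817900707a03d720357981b7a01a7b8167c8157a83b900568f8138f8128f8118f8108f80f7782f8f80e7d82e7a029798288f80d8f80c9002d7c0277d0268f808900239002290021900209001f9001d9001990018838098600a8300b900148d005858068c8078f8028f801900049000390000)) (.leaf (nat_lit 0x1c521155e20c65119d03194e11f3df1c4261844a1f4901d469192ef8f9ea24c911ad061ad94212421851618c6e8f9e53aa041ecf822a811dc76184688f9e022d0d19de020bac1031c14c628f9dd16ce021c5f1c4f50eeb71a408185501d58614e588f9d71ee351860819bfa1d23026b9215e96105ba136a21d4e81eb42254931d4821c2ab18c781744922b218f9cd1e61f196aa1cd0f1bc8b08e99906c21fc248f9c51d5481e2a3906c00f6361abcc8f9bd2ec0a11d0c1f36623c021a4341335f1ecce1dc9621c3021cae0e63313e921d3621ad3e10e598f9b41e4281ecd31cc791dbed1f44011c2315ced1fb808f9af0f64c0fe901ed751dd44195734cd4a11e0622d858f9a92a2fa1cdae906b611e171e2ec1c52f0d68307e501dd4720d88906b4906b32e43829b671ac5c195051ba131b9d21d48c1ec80244358f99e19c8f)))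 (.node (.leaf (nat_lit 0x34bc5409924114f905573c15e3435645a1d4c97324b9e411cf3f17e9054f3b9944292f8f9061fa701f3c71e537905429053d1fa6b90534905319052e3fa333b24e42a5d54b0b481a03f9483eb463fa351e4a18f9044226532b4434385382d7411e33aaaa90511549c93caa4401e43f35e1bccd3c9e7409ee3ab093ba661cce52e3394698c905043e9bf40a0e58a4440b2921bc25924737ae320c704a1293836a1f91b8f8fd3d29831b0c4d9e93f2e7459bc4d157212b08f8fc402603c2e140267419dc429301dc54471c7411195999d452a1904ef43ac33e2291eab54a2c836a893b2cb3a306904e64b2fc36a2138b89422fe20bb14527944162904de4d9ce4016c3e2da4f1f9904d6529ba35354906ec5a1683337a904c83ba9f402484a91f904c24d9d34d9de904bb42295461a7904b5904b03b46c904a8904a29049b23359)) (.leaf (nat_lit 0x95a7145a909eda07e8514d0b13bb7044840aba68fba006e610ad5e8fb9f10ded09672093fb074e20c66f05ec814d95134ff0c5330b53b133a5036d11bdc08fb940ad7f0d3e210e2017bf20767620cfc2555409e5e09ed88fb8e223958fb8c1042a154590cbff0ee03235a4245cd0d48606e0c0cc7d0840f09e4f134e90e64d0ec1f8fb7d16dea15cbe17c8d17df8164f28fb7520e3d16d408fb7209eb00c5828fb6c8fb6920644185c8195a111d201f4eb14d6b1d3a10fc3b1e45703eaf0dc2e0fd5205eac0bcaa8fb600fdd913b8d17ddf0fd9d1cbce0adf90f50117bea8fb578fb550c6c48fb531cdd110581116631ec4614df4134dd144dc8fb4d8fb4c165e30f48e1241317e028fb4a1a61414dcb8fb4814dc51661016cab17e07105fa07652155ef0bd3617bbe17c561860e11419184d1145ac0e656176160cd151c376))))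 (.node (.node (.leaf (nat_lit 0x4f1be3fa754f0cd538eb8f8b9906dd3ca9c439403c2bc2fb118f8b6903a94d278491863d2ad36b868f8b290399551c640a194e8d2560ee36ae659a128f8ad8f8ac8f8ab903833faba43a1c4f8cc60109539d13ca7b8f8a98f8a88f8a78f8a68f8a5903684da383e1a2580f4578c8580b1510b88f8a29034e41a7d4c9bb501215111d520b4550b59033d3f2628f89d8f89c8f89b8f89a8f899903253ca9143178568c65b8c7558a1598a05e9973629d8f8978f8964f1da511908f8958f8948f8938f892902f04323143272538f0568c5558e65a8e5902d54aa418f8908f88f551a58f88e8f88d4e98b8f88a5094d5098a4b20d8f8895194c8f888906dc3aaa041a2e5810e5e910638af568b0902994e1f88f8868f8855e1178f884589188f8834e9a68f8828f8815f9608f8808f87f902715b19a9025e5b0f75f8f95c08b5d08c)) (.leaf (nat_lit 0xb66517b9c1db611b2d611dd813e87103b315d178faa517bbf1e41d1756218c1b19b0e16d711dbd119d180a6978fa9a176a514638086c18fa940bec68fa90185131dc9e1dde41dca416d741e4d0165fd8fa860a67512e931bd9a10d3a0eeb213d45175c98fa7c1fc982055524e5f1dd8e0f632155d618c5b8fa7401ed31b2ed0ae8c17cad4d41a185491dc3e1e40e1f343145591e41c1a4c38fa6d22307166431b53f1b42b8fa6c1eaeb0ae6a1155b0fcfa22cac1ea6e0c60a20d928fa6a0be6b1eb968fa690fdc61bc118fa6803e8a1dcf0076b5155be1bcb3154a519d1018b7c17d02174cc14e8d1c31f1cc7f1263a076bf05e9d04ebe1838b1b51b066cb185ce1956f1557818c6f0d6011acd517d6616d8b8fa571a5271d4441e34b23466114371467b19b651cb2219db10eeca1a47218c078fa4a1947c175250fe28225f3)))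 (.leaf (nat_lit 0x22b4117c839064b185260fde933a112ab791f3781fc9c1ce00906453233031b73906422d28330b881e36f3c1b03636d9063f361a137a409063e8f9582a4091fc361950a16dbc221b81cc2c1d57d9062f13c333fa531b35d36b1b3b1c81fbb223a00342e49062633a7a9062534a1490623349ac343ec351b73532e8f9509061b9061a1dd0e906152558a906123ab163f261175f53225c1ed461f44e2337f399b9233e022b3e8f949379cb37b13243bd2ea4c2e9871b1fe313c83333520df13aaf6349b233af931b741e1f535b4f3332d3b3f93cbba1d3e540246342f2175b634abb8f94221c951d3e81d509234480fdd41cd221bb1e3c9e610c633635c361ef3e1e21e1933b1eb3a347371a4382933833b905e730176905e5349d51a572341e83123c5526424d983a24f391c221d413aa2434305905de38a8835b02363ab32a8a)))) (.node (.node (.node (.leaf (nat_lit 0x5b0c05d0bf9023e902368f87d8f87c5f1028f87b5b9038f87a5298f589558f8798f8788f8775412e8f8765596a56184529855317c8f8758f8748f8735f1b55612c5b12b8f0e45a1d4901f4698d5580d75c89f5d8a45b8ca5e0c4901cc901c48f86f8f86e588e08f86d690e18f86c901aa4f16b8f86b8f86a9019f8f8694f97d50161901995c0dd8f867571545b13e5713f5612d5d8dc8f8658f864901895a8ff5c8fe8f8619018390182901818f85e9017b519528f85c901755494a5294b8f8579016f5795357115631168f8519016790166901658f84e9015d9015c9015b9015a901595d0de8f849901515613d5a13c5c0df8f84490147901469014590144901438f8419013990138901359013490133901328f83c901289012790125901245c9005b901901229011e9011c8f83790112901119010f9010d9010b9010a90108))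 (.leaf (nat_lit 0x12e6c165ca1dcfd206601dea01053918db01f46b186891d3971cc5e08695116d415e46184941e52c8fa2b1e2ea1642210cec1ee391eca313e4e1cc4f1bca98fa231c24d1dcdf1dce306e7018c7b164601e4e48fa1b12e1d13e1c254db0bec9106ba1fbbc204d78fa161a5141b3f71e427222b717e051ed610aeab1e4321b25217d2418aaf1acca1a5ff8fa101d6bb19cc6046cf906d91ad438fa0c1c5b2196bc0a69f166490fc9a0a6b18fa091e4ba1f3d40e6c5163e7112b38fa0623c921c529086d7203f38fa051cdbf2242f1854b235381760f0c6301c4e78fa03195931a3fc14d281d5631e4ea8fa021ea5f1e2de23c9f1d5651f3d21f3778fa01104bd1d3a21f5561d3911d4312232417cf125c4d244b4244731fc77194000ee18176481dc041c44317dcc06ea7135e817d840de531ba9e04e791837e1dc4c1bece1f403))) (.node (.leaf (nat_lit 0x905da41a1f392c54aa223c28d29c163433135af837b9b3a333905d235996905cf34b284028f8f93119c751c3db1ad4d1dc121e53c1ecee1dda323bc33fa3a371692a38234b5838243391f03ca34905b34a1fa1eca03c1ec3c1ca225973da18361d01b3a738a5a1bd7c8f92a3c2973b2ae0f5a83f9c13d2a6235963aa87392cd25ab93aa25332ca393d749a271eb8738a8239afd432854322a9059f3c9b133ac037beb4c1b31d2bd3b977353263f163262cc3519c21cd239a961f2281e28e10cb62439020ab120a37184cb3aad33d9713f1f71cc4b3a2583f1ed3b9f13e9f23dad0905773c2551dc3d1a3e644a2c3b11a3b20f1b4853593a3d1793d1a89056d8f9143da3d3cad43a2b642a089056938b143c1df3c141905673faf11eab43bafb3ca8c1c3af3230037226383033a2ce9055f42ac43a2842db71392c62246a409d8))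 (.leaf (nat_lit 0x8fa13000000000000000000008f9f5000000000000000000000000000000000000000000000000008f91b000000a67d8fcc40a65d07cb20b6d609ed510cf30154e096d202e680958d04cc51c48106ecd046cc05d1a0e5070c4da0566e0f5c20c5680ecb80be24135bd8fc4107d6a8fc3c06d1f0551d0a59119cc01dcc710cd90168402d8f0f45d8fc1407d2b8fc0c8fc0b0e55a0acbc0a641036340ae9b06ea4056310a4cf19c4509ea9056a8064898fbf117d6c076ad126a312c500bea11d4fb0acbf0eddc0551e8fbe10b6ae155f6084420ddd00ad6e1645208cf48fbd31355d1442d0edb81041e8fbcd14da5145230a54c8fbc00452d18cf78fbbb1457a8fbb80767c01eb90cc10095e68fbad24db9)))) (.node (.node (.leaf (nat_lit 0x2418e906eb4e9c04e9e14d1f349adf4fa174e9133eaac4a1c3906e78f8e24c9fb3e2a73c2a838ae235b1a412503eaa93badd3bb17904744e23b34b0d3d2513c31d9046d40a5440a593db194f1fc904673ba924d20a90461422324b1914e9375a9d641280904585b1d93530f598e34d20b906e25415f36ad941a764d21a904478f8db3833c3cadc542563ab5b46a2f5496d9043f8f8da4a9f639b08402d14f1fd3f2494e97f90439452394d14e522153a340906e134b50369b65f8e7904294cabe353323d2c13bb6e90420303c9391ad353523c3cb8f8d3904173da9b45a074e10c5592637b155b1953d95636b6b48a638f8cf904015a22d35ab85598d5b9058f8cb903f55f13b352f45a9a33c273906df4127e4b9db50936530f5906de5619b4624b4e123511208f8c1903d52f33848972520ec568ed8f8bd8f8bc8f8bb903c4))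 (.leaf (nat_lit 0x19cc90bdfe16d601f5d3205a010e0d0b629186471e3f415e9a17b451561e21d00155e12033415ddb14e0b153f611673173ae125871664a0f37b12c888fb1208e828fb101e56416e1915c7e14df21a4651762c8fb041c5dd0f69e155f08faff0f62e1257b1d38a14d5115bee0f3201edfc8faf51c6220d6988faf317d1923e541748a1561316cfe17d5817e3c0f393105301461120bfd185c30fec71aba41c6671d4af15d2a13ec316364165900fc51246800f691155b716b271dbe316bb48fae01ccc11a508194f91c5af1d41523bc114e0410bcf165aa14e7e0fad209e7f18bd91468e22e551e2e917bda18e3b1fdfb8fac221bfe1062b1e3c61cd9b1b55c183e42530a22adb22acf1566d1b47118ca7205350aebd16dbb036b81e55308ed01558c1651224b493dd892140d12deb1dc5a234181748715bd00be400fe21163e9))) (.leaf (nat_lit 0xd6572159e205c419ca609e71194553bb2c38b9a1acd415dee8f9981ddf71fcb117662906a61cbb61dbb5165d51d42534b51382bf1762715d801db2316cb719aa21db2a17d991d5b50ce649069c23b3f1ec7a2339d22bdd183981baee175a2185a61b3b038ac937baa8f9881ecb9906941ec9d1d57016583105ab1d62a9068f1a43a3b9ab30bb9309ae31b361ea6f1dd9c3527f8f980232e821245235ad9068b175761760924b3a1f4d8906883c32b313ca906861467a1d3f01d3ef175b410d792035a2021e1abd81ca8b17dec906812046435b01383d68f9741d3a81aad80b67812e691a5c11c3a31dc991de3790677906742527722bde1857e372f7383f88f96e17bdc1dcf61f53221e5b906660edc7264531cc9723ab2293819065c1462d9065a18d1c1ddd738220303701e2c73617033a5b1e3848f96429ae529b8f20421)))))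
noncomputable def T7d11 : BT := (.node (.node (.node (.node (.leaf (nat_lit 0x8f833901067c83d6607a5c0e76687c6c8536d8588f8318f8308f82f8f82e8f82d900e6900e5900e47983e7386c5d8a87306e73859770528f82b900ca8f82a900c48f8298f828900c0900bf8f827900bc900bb8f826900b88f825900b5900b47406b6e0788f824900b1900b0900af6d0797686a8f823900ac900ab8f822900a6900a56588c900a48f821900a1900a09009f6688b8f8209009a900998f81f90093900927906f7c07d8f81d9008a90089900887e0868f8199008290081900809007f8f81890077900769007590074900738f81490069900679006590064900619005e9005c90057900519004e9004990044900417d81e9003c7f01a7e01b7e81c90037900327f0128f80b8f80a9002c800117f8177f813870098f8078f8068f8058f8049001690015878108f8039000f9000e9000d9000c900088f0028f80090001)) (.leaf (nat_lit 0x1bc7f1564d332738f9f48f9f28f9f18f9f08f9ef8f9ee8f9ed8f9ec1d2c54ea8823d4e263b5294fc8f9e98f9e81e2ca4ea203932c283fc8f9e48f9e3193851fbf527cdd1ec618f9df8f9de1f464532791dcdc20c012dd388f9dc8f9db8f9da8f9d91a1f6512472e58d1cd8517e13165648f9d68f9d51edce294e53043e1d4ea31a242e2838f9d18f9d08f9ce16ba91f3d5166801966c8f9cc8f9cb8f9ca8f9c8906c12fc4e8f9c48f9c38f9c28f9be1bb865a9cf2ec351cd882f4378f9bc8f9bb8f9ba8f9b91fd911cd112a5072ad553f29b8f9b78f9b61c1eb351b54e9e2325981b4fb303218f9b38f9b28f9b02050f1dd952549830a9c8f9ae8f9ad8f9ac8f9ab8f9aa06ea767a323a339304071a5081d5a92e40a8f9a88f9a78f9a68f9a5502924d9bf2dc1119d031ddc430c148f9a38f9a28f9a18f9a08f99f2145e4e22d)))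 (.node (.leaf (nat_lit 0x905584c2ef55b978f90a905529055152c6030ce48f90837d18395278f90733c7d34c898ea7149a95559c6422b23a3d49053e44ab53a3133c25d8f905905269052590524905239052290521905209051f8f904905173ba6990516905159051490513905128f9039050d9050c4931f323608f9029050a9050938b7e3e3c18f90190506905058f900905029050150c572dc938f8ff904ff904fe8f8fe904fa904f98f8fd33eea906ee906ed40b2032b7d43ba74e2058f8fc904f7904f639b61433c06741641be28f8fb904f2904f14dc00904f08f8fa904ed904ec8f8f8904e8904e72bccc3144c8f8f6904e3904e24e46c294b48f8f3904e0904df8f8f2904da904d9904d8904d78f8f1904d1904d08f8ef904ca904c98f8ea904c5904c4904c38f8e9904bd904bc8f8e8904b7904b640aba4ea383e2ec40322904a34334d3fad4)) (.leaf (nat_lit 0x8fbab8fbaa116ac066ad0ae770ad82045f009c800a67b08e760b4ad0e66d10bb908695076b38fb9b8fb9a05eb10ee7419c44086cb0a66a124a00a5868fb941161b0ad8f0c5f309ca60deb20fec7076a309de709e5e0f5870fe512149f103c51a4c68fb898fb881b5e80ae3f0c6340d4c206d481065c075b70a5de0e54115c7e0be180dbcb0e62e0de120ce8e04ea414d450edcf164e18fb74135b98fb718fb700a6550ce8c1cdb10e6900aeb00ce2d0f3df14e151063713d3b8fb630ce540de1917cdb0c57a0ad401c37a0de4a0d63a1168804ea81562a8fb5c8fb5b8fb5813c8b145198fb5409eb41a3e78fb528fb518fb4e0eded096b51151b11e660ced30d6330b64c104a11558315638175d1174540d6490ed2b13dee0d6850468a8fb478fb461b373066c08fb448fb401dc958fb3c8fb368fb358fb338fb328fb2e19d3f))))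 (.node (.node (.leaf (nat_lit 0x903bf903be903bd903bc903bb8f8b7903b0903af903ae903ad903ac8f8b3903a09039f9039e9039d9039c8f8ae903909038f9038e9038d9038c9038b9038a90387903848f8aa9037c9037b9037990378903779037690375903729036f9036c903698f8a39035f9035d9035a903599035790355903538f89e90348903459034390342903419033f9033e9033a90337903349032f9032a903278f8989031e9031c903189031590312903109030e9030a9030790304540f95711f902ff902fa902f5902f38f891902e8902e5902e0902de902db902d8902d6902d2902cf902cc55123902c7902c255926902bd56121548ed57936902b9568ee902b78f887902af902ab902a5902a3902a29029e9029a90294902909028e550c89028b5890e90286578c7902819027c580d790277902748f87e902689025f90257902529024d9024a)) (.leaf (nat_lit 0x8faad8faac17af81b2cd17d7b0be318faa98faa7162bc8faa41c4b21bca518c971cd308faa126d332cb308fa9d0fdc61dcce8fa988fa970d5c58fa931c3ec8fa8f1fcaa15c538fa8d8fa8c8fa8a8fa891f50019cf41d4eb8fa858fa84284a48fa808fa7f1ec9d195a32a42d1ccf825dd58fa7b8fa7a2059e1e537244721b5a70b6d60c6d51ab3b19b1d076521d3c21edc21564620c961e4a905e9f0ee4e0b6301a6008fa6c1758916d8b136361f5f224c902e45d1dd4f194de424ae1952a2757027df70868f1d5722549e036b63036b36ad90f61118d3401eb90f5ef38a758fa678fa668fa658fa648fa638fa628fa618fa6018ac01ab0534b3d11e1c0d68313e25372768fa5e8fa5c8fa5b8fa5a8fa598fa581c42f4ab3120c2025ba58fa568fa5524cd38fa518fa501ac1329c2e8fa4c8fa4b193f91a4098fa498fa481fd5f)))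 (.leaf (nat_lit 0x3cb823824f3223a8f9638f9621be2f8f9618f9608f95f8f95e8f95d906431be0b8f95c90641906408f95b1d38338ee58f95a30d2d3948e8f9591b2b84d1d4512a04d36221cc0906354db653923431a538f957144a28f95690629906288f9558f954906278f9531e5f88f952906248f95190621906201fdaf29d979061f43a0140aed165ca3730c393178f94f9060d9060c8f94e906098f94d8f94c8f94b906088f94a8f9493451c906061a54a8f94839c154d3e18f94790605906048f94690603906024a5102d56f8f9459060112dba38c6b2d3ef8f944905ff905fe8f943905fd1ea3e461d35729f40a032fc244023b49a548f941195498f940905eb905ea905e98f93f39b493bba28f93e36cbf39a6a8f93d905e68f93c905e28f93b905e137b4a31cbe8f93a905e03bba18f939905df1b51d8f938905dc905db1cdae2cd96)))) (.node (.node (.node (.leaf (nat_lit 0x90245902429023f90237902309022b5493790228580f790223570c5588d29021e9021b902165c0f0902135711d551205a8ec588d3902109020c902095b87b8f8728f8718f870901fe901f5901ea901e5901e0901dd901d7901d2901cd901c5901bd901b857909901b45d8d5901af590eb580f4901a9901a45d0bd9019e650cd5e8cb5e0cc8f86890198549105810c660c6578f58f866901939018e5b8958f8638f862901885d8cf8f8608f85f901805c0b28f85d9017a5d88e8f85b8f85a901745c8b98f8568f8558f8549016e5c89c8f8508f84f901645f08f5d06d5e0968f84d8f84c8f84a901585f8848f8488f8478f846901505f09b5d0ad5f89d8f8438f842901425e0945e8a75c0c15d8978f8408f83f901316288d5f8a95d0b6620906504b670458f83b8f83a8f8399011b7e83861883600a2620858f8368f8358f834))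 (.leaf (nat_lit 0x8fa448fa431d2f028c701ac258fa418fa401d5548fa368fa351c4f31a55e1bcf58fa2f8fa2e8fa2c1b23d2cd908fa2a8fa291dd5d1dc4d283fd8fa278fa2618a3c28c4f302788fa228fa2116e448fa1d8fa1c18d36274651d45f186328fa1a8fa198fa188fa171baa6283fb203992550b263fe8fa158fa14263f11e56c1e3f42b2252c2828fa128fa11146912b3811ae598fa0f8fa0e8fa0d0ce535229122364363143230b8fa0b8fa0a1db802d4b8273e82ccba8fa088fa070f5f429a1f1e2eb1cd751a5c107e82293d341d350be750f4ac21bf31f5651ed4334a870ee9d0a6631b57428d5a8fa0214b5e0fe1712e6921e5b25d2f1e55729c921c2a811ec301ecc24c1e19573215441e60729d9a2d2462a49c19df624539332da39b6a3c2e21cdbd1462609e92342728f9fd8f9fc8f9fb8f9fa8f9f98f9f88f9f739a990a678))) (.node (.leaf (nat_lit 0x8f935905d9905d84e5b2905d78f934905d41857d905d324dc88f933905d08f932905cc3dba81ccfd4ca7e5919b4134c3da041dcb3489e14a9c08f930905bc905bb8f92f905b6905b53bc8d905b48f92e353dd8f92d4bbb14c2b18f92c33c8f3652c8f92b905ad8f92a905ac40200323b28f929905aa383de8f928905a81ad7c8f927905a632ee6905a5905a48f925905a21dc74905a1905a08f9249059d1851e9059c9059b8f92216d7790599412068f91e1bb688f91c905944426b313c39058c42a6e4cadc3f2aa8f91a905809057f9057e8f9193eab0905791bc9b905781c4d68f918905768f9178f9169057150b6656b238f9159056e3141d3fc2c8f914394819056b9056a5fbb8492708f913905684fc0c51cc18f912905668f91190563905628f90f90561905604e473354a88f90d9055c9055b2ec4b2cccb8f90b90559))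 (.leaf (nat_lit 0x3b3858fa3d8fa3c00000000003323e000008f9f600000322ca3936d000008f9eb000000000000000000000000000000000000000004e86046c907ebb0569b0ad4c0bd4b145cb0c61a05dfa045c7076af046c60f58e08ec80149907e6b106a504ed9096cd0f66104ecf066c20bd9f1249a06ec58fc3f05e0a04e8d095e50a59306e99086d80c5f90152902dd203db302d2e09e1d0962306e710d6620566e0a63b07ed00f5da05e7c10e7d8fbf803d8a17dfc0462b06417096a110eca0464706e608fbeb08ea6056a0055420969e0e4a7095fb05ed709e9a076bc0a6988fbd78fbd607e720bdbe045c00a48a14cc80de3c07d310c648056bf0c63e09bca03e0e0968410e2c8fbba046da0ce0f09e890cd1a084b009df515c45)))) (.node (.node (.leaf (nat_lit 0x381f38f8e390488904879048690485904849048390482906e88f8e29047c389ff9047b9047a9047990478904779047690475906e38f8e19046f9046e403d1353918f8e090469904684e427492ea8f8df90463904628f8de9045c9045b9045a904594f3ff8f8dd90452904514cb6745b248f8dc9044a904495a438904488f8db904439044290441403d2904404fbb75526f8f8da9043d9043c9043b3d3924a2e94d40b9043a8f8d9904349043390432904318f8d89042b9042a35c288f8d690423904222b3f0904218f8d49041c9041b9041a90419904188f8d1904109040f9040e9040d8f8d090406904059040490403904028f8ce903fa903f758aee54398903f68f8c9903ee903ed903ea903e98f8c3903e6903e5903e4903e38f8c2903dc903db903da903d9903d88f8be903d0903cf903ce903cd903cc903c7903c68f8ba))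 (.leaf (nat_lit 0x8fb298fb288fb26186a909e9c066d20beba1db5627532194910a6810fcb50ce641ed3a243f204e790ed28136100e61e15dec8fb1b8fb1a8fb191be560965f8fb1108ebe22dc3223c88fb0f8fb0d8fb098fb060ae4f18bb48fb038fb020feae8fafe8fafd8fafb18ba4255538faf98faf7026b817e148faf40e6451e4501bbc98faf214ed415b4b18584252f604ed10f56d0dd691d408235e41e54619cb103e931c5810c6941c48c8fae78fae61232d12e42115b807e508fae48fae38fae1036b74eafc1d63d1a5ab1f3501d3018fad78fad51adb08fad11dc128face1ad4d8facb8fac98fac819d568fac68fac48fac30c6c41fd508fac18fabf8fabe294948fabb32c262934f2d3001d41f8fab60aebd16592204302d4ee0b6650eece2ec568fab31653c036aa17d3d1c4360ee5d0ae681d45517dc914e160a67a1bdbf8faae))) (.leaf (nat_lit 0x4f9d826cd228ce928c6a27cd58f99d18d04906ab8f99c8f9991f4661dccd224ab24df125ccf2b9b12db2b8f9978f9961bd67906a28f9958f99427cb91ae228f9928f9918f9908f98f422314db382d3950ee3937ad034adf8f98d8f98c8f98b8f98a8f98990697906961ec463aa6d28caf3f9c93f9e78f9878f9868f9858f9848f9830e64b0a68b1c5cd22de38f9828f98110e5a20b6d30ab41dd473da4e42a338f97f8f97e8f97d8f97c8f97b906871167360296501c728ba325c71195dd4dba631ad34c2dd8f9798f9788f9778f9768f9759067f9067e164473e2f1442394d3b32550e195d6293b63b3163b3088f9738f9728f9718f9708f96f906709066f20cd45499a5627d463932dbe09066746b963c9c1349e68f96d8f96c8f96b8f96a8f9698f9688f96790658906578f9661b4393aeef8f9651db6e3c37f2acc71e4bb)))))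
noncomputable def T7d : List BT := [T7d0, T7d1, T7d2, T7d3, T7d4, T7d5, T7d6, T7d7, T7d8, T7d9, T7d10, T7d11]
noncomputable def T7 (k u : ℕ) : ℕ := force (Nat.shiftRight u (nat_lit 7)) fun j => Nat.land (Nat.shiftRight ((nth (BT.leaf (nat_lit 0)) T7d k).get j) (Nat.mul (Nat.land u (nat_lit 127)) (nat_lit 20))) (nat_lit 1048575)
noncomputable def I7d0 : BT := (.node (.node (.leaf (nat_lit 0x3a00015000000000240960a00002004c100003c100001000200002000000000000000600000000c059800018000000080c4a380000064b9500380000400301000000304ac00602080000c000000000009000000600000800018001000400600000000004013000000100000000200c81320000000040000018001004c006000401300000060001601001800000180000000501000400000000810020000000000600040800004000020400700180010414081000408000040800c0030002140810a005001000400020050000040800c000020208082020450000040810204001000000602001010404100000400a000000000000000e00001020408100040810018080480410104000011c040000000080003400900003800600380000000002007850200204000438308047001000180001c2001e0401b000c481004840806100803e00000080020002300001a0c1830604e3700200000000180200828100000000000280003018004142020a00280040080c00001002e54200000c00a00100020c0020000c40002600301260000600000000c040000000001000000000000060004080022008804600800e007812400404060018004002010000301026001e))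 (.leaf (nat_lit 0x24004091c200021e38400006000000000070000007000000000003800018000001c400000038012000006a0070504081091c2070004006800008000000c0001430007001000000243800e3c0001200000001c000001c00900105000018609000060e1a00000600000d00000001a0c211000000000003891c0000700000000610580080068e0010883001c40400002001a000001010009002401324000000e00414200010000000000000a89000048000000001c007960e000000000180063c003065420400000090000000060c58c0000283003c1940e0c00500000070610000100c2000044000000c18000201801200400001068900443030600a08000c18000440001c341841200400080c00008000000034600006418934980000a0c1050c00406003402d105448b6400000001000028000212c000000080000042001b080000000000030000180060000000004800014003003400f22000000c00296180000000500000600d0c0048003060c0001800307000088000004003200200000000008000000000180000078c28006830610000241c40906100002c49380003c2880e88484220c1800240600006000306001901800900000c0000000010))) (.node (.leaf (nat_lit 0x180090028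00609080c3a80800c00001020c1200000000000300406000000003000c0000414000000018008002800414004004428400000000000180000829600100001a00019060c000041408000343000000180060c180041401600000000000000080c00d003c105000828f1e240002c0000022381801a000020a0078500082800400204004c68000000000028007120c7851e14000000028008040005400e80000000c1e0000200005820a0048e080828304000040808000080000000000800000000000001618280000010780080000f0000110180001700280030000004063c280080c0000010000000048000000000200011000001c14140031200004000028100000101834017004c0000000004062c280080010000100000000080000808d000000000000000014812000000500001000c000000c000020a0070000247000010000068c0000c0050000180005200300000000600000000000080006000102000002e54500000002e022c28c1200a090008000083c10000100000000000001800000001000000000203038e00001172a00700003c006001c00304bc0040200000080010500000000c0000002080000420001000020014000012404080)) (.leaf (nat_lit 0x2600000000000000000000000018000000000285870414288102040e0e2828804147020a00005002c000102810e142810d122c50b161468704142880028380002c0001000105002440b041410d000000b143800e1628382160000b004c102041c5870000b9512082800028a1404280000008009040010000002800a2800a0c0800b0e2c380001c5000000100000010a000000a001c5870018000002c38000005020000000000080516285800000000002c500161c0006c280061600100043058d0000000000000d00000000e140040800008))))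
noncomputable def I7d1 : BT := (.node (.node (.leaf (nat_lit 0x8880005c70000000000a5cb84005c2000020005020001c080401000000000000080000000100080000200000000078b3c28000082089400288180004003080000700000800010201000000000000000000080000c6800200002000008052000000008015000000226140000401182001400000080170200002005808000088000000080000098200000000200000000000200000000000102044c00000000800008100000808204080000200002081410200181000400100000400004141020a080061c0048004081000008101000000404101040408000000810004080020000080040020208080000008000000000000000000c000020408102000810202001001c0800200000021408000000010000000000000300060030000000070400400040000800083070608500120c00000180072008000120c002002439c0e0c1004200001001c000042c022000c18306080000000080000000300102820038009020000a002c0030814004101c400081478b00002002250180141c000020000000040030000000000400200000801000b0100080050000002001000000000800008100040010000001000c004020000000060018008580001c00000000019d))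 (.leaf (nat_lit 0x547001424680002848000000000a000061a00706020061216343000000000181848000003002028080000000508000001400505000000c00044ad0a0c38c002c3060200000000030b0c2000c002000c3418000001800002003000000580000058a0000a01000008e00b80060e989070000600100000000280000200000020c000100000a0e0000800184800e240071a0060012003800000016000030000184861e34000026400002440000000000000000a000001800000000204180061c003061ca0f0800000000c087020c68b0044601000c806000008500000000e0c000121c1800e0c0001c0c18c002408300287000000480241c00306a0016020c180001c00a00001800018001001c180000000000005810200180004c0000648008001870e40540001e4400d000000100000002200080000038902000000800006100000a000009200000080e0c0000000003200038700009872400a00000439816000080000000000c30b0000003060c0801600000001c0003e00d81001c0000400000000000034000100e0008b0024003060008014000000e0c01056380250e001800c240000e4080c003c5950000003060c00f16000010000181000000f))) (.node (.leaf (nat_lit 0x16380002c20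58000200010018001000000b00000000000000183c58000040000600600081400000040120030600081408024002880000080000040c001029800444b00004003000c0000814a98000048e0004019000418708140130e0000000040120000180000c00512100010eb0000000401826004030e00184100020f060028708005800e1c00004380800000015000018500204850610281000870e0004000140400b100c004000c0040a0000a0610400081408000402810000200001400000000010020000160008002006010024002000c20f160041106004002014080000000100200000200580040001b00000000004000004c91400000a4000c0800000002000c00f16004110600400122008000000010000016020000e000410e1000a15040808000005810014780000408500002010008201005c0040a005000a00508000c2140010281006000502000040004000000008024102800814d000e00100000400222000001c00080005828b0000a8000002810000205020018410649800200006000002700002081e2c30a00002112800507265c080061000700000800610001006400832102810000580040000000000020014000004c0000408100)) (.leaf (nat_lit 0x2e0000000400000000000060002f000000000006860814289122448a0c0028908140040a280850a3460d120020a0000200003400d1a14206082028918003040a005151c30205145400d0814206000020d002800a1a000041a0000d000038400006860030014001000400000000800680001028008180001844000000030000007000c3430018180002624200080000000000002818006000000c10003000000004000060000040001a00000080000c000000c001800000000801a00000082c68e14000000000000100000c00480800048609))))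
noncomputable def I7d2 : BT := (.node (.node (.leaf (nat_lit 0x20420e00380000a0008000301000c0240408000151400000500020000980040000506020030f0c0428d00880802a08000600000000106800000080000000104303810c1c78002005005e240840000101087000012040061400001000108f0038600008001c0008000000000200240000a000020004000005c00100000170004c1c0001d8500004810a080007c8800920004813000000004800070000000000b8504000000001d260000012420080006007801200001040010024d429000000000000380004828f02000c600002976400103000c003204038f0a04080000000000003000a08180066c1912000807241c58000408000010201020410000000007a007822200180060000016400130a00800260000020cc000001c006041c0040a1c2000a1c300004c00008504001e1000002002020004000009000100200000c800801000000000408002000002294000000400000580000004000040c0010000016000008b0208d0008000000c006800000600002400d1a0000e38061190000000140000100280a50028301300078f02000002e0448010080010a000020001e0004000002014800005800000001012800b00020400000000013000b8020580ae))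 (.leaf (nat_lit 0x8fc00310002021614a80222c280260098000000000038000141000032000000410200000078400000000020000041c5800a0cc861614580100088018084002278300000000014001800e0001e003c00008a80001a007000000007000000001281060664100060010a00607050a000000a0010000480050814000100020015040070800000080000d08102041200780041431f12304000010200005000004000000e20280180000004ac000064c10c629c200161400b0a007020044000000028000000000800000004400000a8a84001800d0020204001800000100042800380000810000302070c00a0024001000c140040e0828404002840408000004400800000000c0000800000270400039005018000000041000007000000400004050010009282028000000001808000040010096007032608034011400c00005850000405000010000080000c1800100000800000001020020200008841a08400000c109000148004008803a0000200200010000200003488000000021000000000c50000004050014300321c000000008000006803a0000000000000008000000000000100000030201040020022000000000b1b0000000000040004180000000000))) (.node (.leaf (nat_lit 0x400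00041062a0000d000000000000820c000000000080000000000000001800000060000200000013e680000600006000002c00000003aa4003000c00000000002c000000000f0006000000000880000000002000000600000008c4005a0000002000058010180000c00003104008614000582c0000a000030010180000c000062800100011880000000001c7000c00a000000005000c00a000001300047811638c02340000300004850414380000c0000600506000050a0c0418a00300810000000020411f041c71a141800a0cac1801a0018c040020c000c0000048700000c000000418a140000000003000000008000400110140820e1871a0000000000030000004800000680000c0000000000000c90000081920000000502810900240080048081021000e02006020a1000c361018a0c3818a1e00000041c580081c0061a0018000183000c040021400083002830106007860040000200000100004005a040810838204000000002306020618004011c00a00002150018024003c2801418000000400400000020000000002468d0000001000000002000010c185000200000000000000082030a04a8002dc9806c10020000008518040002400001)) (.leaf (nat_lit 0x1c48006000050a1428b001c4850600583122c50000000090a1c18b0e1c1850c2438912241800600005001c00300245800a001891600785063018016001800e2c28b121c003122c5800024683060048006006020020003121c000001c28e100c0070620180002400324000021000009002401b080038b0000183060018012000001000000080000000000001014388000c0030028182001c007160018016080060000004983000200001c91a0860516000130008500004c50000005000800205))))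
noncomputable def I7d3 : BT := (.node (.node (.leaf (nat_lit 0x4000000c0000074080009050e100800000040000c2c0a20018581005c0802e0c00002b400000040000000011000000a00000233a00000080008000000017000a01004c0000200c805e0c080000c0012200000060528900001810024000020000328040000634781000018006007814a0000006040030068181720001a060400006000200008001380019210007801e08001000418d0400781060000304000001a0c18000040020600100520000300008800000080000c0020001a0f0000891000020200000000204000000001b000068000001800000203000408164000000400d00100c000000c00000440040030382000000004007010204180000010034ac68d000000300008910e00209001401e1208000003c1030020100002010000100000010005003c1001c004820000500020800e000468200000010024100000008b12080060c04000020c7820000283000419b04003050004000020000100001000a14287024c001000008c00047001e0000a0000400004c0832e040170c2c080001858100fc090000000100000000200180340418006340010038180040100000001882200880040000004000011a080000c04001068458100880030000027))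 (.leaf (nat_lit 0xa00c9210000000e02080001c012120048c044828200000020c001800000100000000000080000000135002430b00303802024c060e0038410080000014482005800000281020c2c00308001000400000080c0000030c8000088140c00100010c510006050000005040060300000000200000000400000001410412080020c180040000000001c6877a3850d000800000000030010482000018200341001400b80002400206484980c00006000c503120c5800e00107000000524206000e14b0000980002c0c00024200000ac40002c0c0000864000040c00c040000c08002820000602000000400006020000280000028f2820000840000b000010928206890400200000090804000001a000050000845000800000100140a000000010480020000024240001808000062818000605001800000062803300781030ca03800410400000c008000000a000c000000001f10000050000000004000100100021a00003000a01406004020000513202040000002800010402001430c1000005004028006304002014005000800000000051a300000a00044100001978009800e00402000000000005800000000000019e10080000000283003450000040030030800))) (.node (.leaf (nat_lit 0x1a0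00020000510023c0001000000000400a200c02a0400080001821b0400284020000c000050004143210000000000030b00000018c0828500f80000000000003c00200142812600b01000160b005570000143810a0003600000000654002001428102000806e0400000000010254482001c281461c0010000080000000000004000000080000ca8000001160210082160000000000000200006160000904002810e1800a0000000020000000002070000a00000030b000000616000140a0008000000050a0038126380010c2c0061600001000000314000030000001000030b1c0078600040000c2c0830020580060c008000000112000931c00001000000000086811c0000000000000200401003c00b00004860004000002c0822e000000200a890000380020010602001930000000020400020040000000000001000000103800e0000e000038020040000c0000008000010038200024400122000800254f82000000100000000001d000a0c98a1c00100000018616040000c2c0800019da600000800004e0e0044e8000280122c0000000100010090002080000300000000600000000580002440000004e0402007010600180000001208000953e08000)) (.leaf (nat_lit 0x500000000000000000000000100020000000000000704100000000380001c3000000000001000708100001600200000000200000000810100000038200000000e0800000000020000000081c0070030100001c380000000c0008002001018a04000000010100001000012000040000000000000000101041008000040010e000820004000000000000003010c12080020018002040c1001000200000000c0018004143010c0e080000000000000818e1828309001001800280000e002090000280002428004002800000000))))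
noncomputable def I7d4 : BT := (.node (.node (.leaf (nat_lit 0x204019000060a00840800038000160000f3a04502000001a00000010000096004800002ec0003e04000000008a04000000000000000000000140000000001004c00100000000068000001009a0048c01000000008040003e00201186c0000000680000000a24003800014000081020000143800804980000020134000000e0400022610000810201000400000b800700102010000000065c381021438000000010010000000008e0e0018c00c000400200072a00081020000000dc0000020387101c003041c1040204700000000102100000008000000000408040810e0001500000810e004801200480081c200000058004002040600501020400000540000204380160048012002070a000132c00000160080000001800000180000018d0e000000e0000a00001820c002832e00000000c30600000031c00000002c48000280001624000000010000000031ce8000000400000400001e0400000004010000010000408502000000420000100068000209000000480240028a000400c043001a0000000000008c00000011a140001e70c800000019240038002003890630000001c0070808000004038006000000000800000000000c40001a65e070e41ca7))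 (.leaf (nat_lit 0x860012004800a08e8c00141001258280001800308000031e18505221c191181c0090c0c7000c1018a001478a56004820054e000a08280120c60000302801c0000026501831e00000000018006003000000306000c0060c0c1001e0818018bca001208a061a00a000094002040000000180080000500000018014000000000380000038500000090034000080cb8d180800d08005821c000030a0018918000250000b0022d910000782002034000264c0040a080050431180004c000000000014000001430300002481500000000000000002c00006000000699f800000002000000004006801c000031c0000600580000024b000000b000000180480000b06008860ce000b120000000080000000600000c4000000a00000000900005820000000002400700005072260000444ca023c000001a00820000000d00d028200005820000500000000000000000054005264000f0004600000000000005830000011000c70000005830000000002c180000000000005890004000160000000040330000580000000000000000000000000c7050018300640c01102340000a000280028000520000000000060000000160098000000000000a031c980000000000))) (.node (.leaf (nat_lit 0x80958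00a00000000026000000004994004800000000800c00000000800400003000020000000000102142800020000000040000000000204006000040000005831c00000000000000202000000103200000004000000020011000000000000000200006000000800004000200100201400002140000c00280240000800280000021181220000226000000000080000c0003000008001c40010f400000000810a3c080000000000000001018009000800000000002208000000020000200810001a80020428100007801e0120000000001a00000301841200304000038000001c4001a5410000008800200000020000000040810a280800028780120000a14280001a002001a1840000000152e0068200544801a00b82000000c360000000000020040000241448f00001001c3c00000042000000500000060200004800000480000450b000028000280000000004360000108a800000144000021f01000010000040811ab401512001000200000002c2800228000100010e0000000003c00000080001e44505000010f22000120028000300000000000000000c81006400500680000000000020108210040000030d8000009003a0008000040000000001)) (.leaf (nat_lit 0x1000000000000203000840204081050600402002028010147880e1c20404000050000002001c0040820003002038c0c00180101028004180080a0c10400200030c000070024105080018e0814284001c000000c2030018900001010400001800000706140038004202820c10b801000000160010406101860c0c00b06384800c1c4800800000160c4830c00006081c180125800900003000400000080000016000000010009080c0003c3410b0e0039c12502020a100090000006101400606180060018302))))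
noncomputable def I7d5 : BT := (.node (.node (.leaf (nat_lit 0x408c18000040000001002e0000100000002c0840002c801614b44020000100004430604b00000008b1e00281000000d860000108000033900001003a0008200000820000300000073e0c1010000446820800d80080801f0000202100031b0400014000800028002820000280081020284000000808b001a0020200400000a0801122340ab08102020034a006c0400500102020400a000638282010c00006009020010204080800200001806e48004001c2850a1410004146830a04d8008242801214083121460404900051a000020410000003000000000840808102000008000001020a0000000000000814001000400b34000000600002040828d020000004080020000000005c20500000800000001002ca800000180000018000001800a0402700040005000180000000b0000000000c00800000831604400020058b0000001002c58000088000000083001c1000008001068c3800408000002038200041950e00100043c000181c0000e00482001cd0004100003400c800064000000001914284825e001000018502100030a0400e810208000000028200002800600db10014005003000106542800600000020ca871a08000000048232000000000029))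 (.leaf (nat_lit 0x24801002cf890030f800000001000000b1c3850300002830c0400000141801000000000c78000001800a0030e0004000000128a0030001002c007000000b00000000a341830c28000020018006000000200000000c000000c7010c2818000ec68a00700000048000009400c180c7800000000063cb0d0a00181000c40300342810000280000008000000000800780003000008040031e000030a0419400041802e00608220001c00982108000000007080400302800000c0002005bf2400013000000000044000000a8000004000000280020008006000010600400020000800000831e00001044c0881c00400003800002000001c007800000181000008006004000014080160100e02207000000000020c40000017010c00011000400c0000c090000609002001c223440000000004c108000000000005c00000a800c0004000000000016540003a00000000000016385000000920000000000040030400000000c000000400000000000200180004c02800040001635001000c78600006920a0400c00000000004000000000002007140400001000080000080112204000040208500380000000007000050100011010400000200400b009c0000000000))) (.node (.leaf (nat_lit 0x400b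168068a0400218002c000000000d1460001061c380000000106000000200019001c20106185020e00011001c30a2400482020c3000084000001438000040004401e010000000001c09200000002a00002040000b001c000040000b460000204000000034007000000004000031e6400204000130000000000000700000001c0000200080001654380040411a14040070024009001438614700800084002000000d004c00000000000e00080003c380001c30a023000614000000024100000402100080071a043000000986142c03a28000112400491000038000004806a14008001040f0c5c0091a2450f04000800684002003820d0200300004c006001000012004002e0848610000191c2000004000002e004060c009003c181090000000003c380000001d025000000000002608006144c20614084122804000120400000087870000006141c0000c288303c1850224d030a0210382001c10200000002a1c00228f40800020008041830d02005160400017004c600102410012080000c040160008b00042000722200800000f861a0400200000010000482000030a0020000000d98004012001408000042000200008822c0011200081000000a80)) (.leaf (nat_lit 0x800000000260003800000000004203000048e1830700060448c001c0000e0030912140041804000020400c14140840824003002448e0004180121000b1800007000c784000080800000050200600080418f08000040014290000c203000089014000000a0440500047000000281000000f00104900004181002c00406101800c0c080340001000140070804181000c203000001808141810030080000000000180070804181002c0040000280080c3100000300121429e003420c0010080063c000000001206000000e1800c))))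
noncomputable def I7d6 : BT := (.node (.node (.leaf (nat_lit 0x2208000260000020540000000800000001036080000e24105001c48000101000000000040000000000000000000000000e0000000080000e000010048000000000400000000000000090600100080058200000000008100000000000080000000f001608000002c000000000b00640000c0000b000800a000000200000000008000002c00000000000c0000b00000002800002000000b0064580000800b000000028000000008002002c000040000a0a00a000000100040058000080141400a14000040308002000000100008c000000020000187860064400000810200000001e8810200683000c00300000000000000000000000060408204080140000000040800008000000000100180000000040000000001040800100081810208181144c080003c0810208000000860008000010400000020840308000821e00180000410f000c2071c04081043800000000010208700000081500000100214002300000b000000c00280000a0000500040000c0000e0240300003888600002800e24080001c48000000000000000000000004000000008300002c002000800b00001021600a000010013002c0020004002000000102000800a4048000000000000020))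 (.leaf (nat_lit 0x20408000002121810d8000302001a00680080400300040030e04001000c0010200081020c201024018100303810020680000030900006001a380010214e80000008100281830e440810004001000408110000812800081020c0880e2418000005120c0050000005170000380000000002000800c10001000400f1a0c0830e040000000001000440d0204080000c2010210081003c0030804083002018016000001068203002c0000e7001f00000000018880180000c0060000060000000000000204080000000000000000204081000400a100000106040001a04000100408302047830804013020040008040010010001106020000002120000000020000000000010200580062c0011e002072204000100000102005130e44381000088000000001000200000c00000600000010500380080000000000000000008400000200000000000000000000008010000000000000100040810004001140000300040001c000800000003000000a000000000000801400183000008f0070000220000100000000204081004c000000400a1a00201000408800002120000005003c0000200080081090000040800000700005800000000001c0000d3e000010204480))) (.node (.leaf (nat_lit 0x2c0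030800512020000f00002001c0400a2404080000000000007000040a800000d810a00000000088000000010a0038902040000000b11000000000140000000000004000000040810a001000000000321ca8002040800a0000000002000040a800000001020428000140010028000005888000340000204006000428000180000a0008000001800000815002000324000000000080021400712000000458880181c00a00000060200006000040022180000a003890018007120000000000003400000020060014203800e24007120030000042801c0000014180010a00389021800712043170e240000000900002c0001e00000180000a003438224003890014a8100040001c0400000180000000389001468712042800e24000001c080001810204000000030007000000e001c3800000000000000000003000000000003c0000c003000018000120400008240000000000000000000140000a001000000002000008200007850000395005800a0000011040000712002800e240060000000000000000000000000300003878000102801c0000020000000000016000000002000091600000000000000000000000000004c00200000053c000020408200)) (.leaf (nat_lit 0x400000000000000000000000000200030a00004081020c06200040a0060500303800000080082028c0020284240078000002830a0000402201860000e83080428018002000c002830204280103420c000000500006800200286000c003020400e00000061a201830a2020102140080c00300020000500001801a0c2000600181020c40d00103050c003002c00000000c003020008100001881a007850014006005c280004c01300000810200181000c0810000b8000000000028000180078d0000081003408106000810204084))))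
noncomputable def I7d7 : BT := (.node (.node (.leaf (nat_lit 0x101001200000006c20022000021c0110000284801430200142860004000000008600000068000000170000000000010042000000000100000000f00006001238584000060e000800000202004c08004000c000101000000004000030000000000200100020400400000010010084000000100101048000004041200000101048004000001020001000810000004082a20004000c1000400001005810004940000000102101000004004150810a800e140080420200000801500102080014a900a085830c203000200202000000000004071024409000001500102030400000000820400200081220380002c00d000000e0c1000b060408408100000010100081000e000848212002001a087001604000000000108101810010181021018100400802a00081021000000106800c00001080000002100000c0008420000060004200000c30a0004081080000026000010210000000ca000000000021c8840000000000000d00000000e440071c042801214100020048004000001c000051430089282860012380002800000006c00000340000000000040040000001003e002042a54d00041800000000040604004200d20102000800e606000000008168009c))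 (.leaf (nat_lit 0x204090000c00f0018309003430b000000002040801204003140408102001810200001020c30102001811a3450100000050000100001800000004810200103000008100000031430081000000106040811600081000c081020c08b14301810c0000f0c08000000000a00005001800001020000200000810404190000c083140418b0204102000458000040800000300001808110400830c04003002c1820000000000030300000022c00003000001a000078b1a000000000282200001d000400100040810000882002400000000810034400160000006000000000080160400200045830c0408002005830c0008100180001600300000030f02600000000580000000102005970618081160c00a2404000000050100000001430001000000600040050c00300200c88004007882800013000138000009800000002260000012000002208000004808000040000000100000090000000010000000002c00000000020004000000000000040001600001000008000400000c00093000c980240400100000000200001002800000040000000000000408b000030f00007070400000000008000007803004080000800000000004600a02000000000000010204002))) (.node (.leaf (nat_lit 0x400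000c0000f0200000000c00000040001e0408000000020008000005000000007810e14000005890000000000e1450c000428000000120000000021c282000000000280002c000800e44202000090000500022c040810e140020000100165000000000010200391001c70100009830058900003400002040070a04391001c2800e3808904000030000014002c0031e007850014085021c88a181000000009011a28000000000900044070a045800024700001450c022460a1808005023000200000000000680002c980143000a180000132043820004882001c881120850c002428a180048514300050230017040018000000001a0000016389801e0050c001c0010a000020004282001c280121450c000028a18004851430007040009800240000000000023418a00141000c280050000000000000000004070a400000a4000012004800000a00180049300300801c00000001c000021c0010e00202001000406000040400007000050008002802c00000002428a18000111430000000048000000001c000000000c910400580000048200000001a3c00c00000000058b83000091700007120034280000000e00006800078100000808000080040010200)) (.leaf (nat_lit 0x4000000000000000000000000002c4030e142860c1830d062c2860e146870a34b850a200880c2c380162c3861e2080810143830e60286022c18700006830c0438000343000e003830204708000030d1c2c68910346800220389123400302041001e002890a2c1830e5c301020888b00143850200280040818000283000620181020c002000000012143800000190000c0030208081000018000188000a000870a280000018180003c0010000001060c081000800010004800e000061a2000000000800a0008106040810004086))))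
noncomputable def I7d8 : BT := (.node (.node (.leaf (nat_lit 0xa0440c007c00016140800400380000000000000000018000000000000080000408000060020000000040000293001030000000130010000000018004080000000000001c00014000000000000080000300149000008000000000000000120000008000c000340008000000000200080001c01d0208000000008300080000200002000010602040030008000040008102040000008001020408000000002c5008c0204081020000200080010c04081001008102040000000101020008102080810404286000410000000811658301024408002000800204001020c001020408102040800204001000400402040800224000000408100000030004081020408102040810004001001008100040001800080003c7000204700060400b000420b0200003022c5000604000060400200001800200003000458f1e0000100040050024080020008b140c0000200712000000306040001004000000018306002010000001060000700240030010180080c1000010400001c004040018000000200c000000a0030000080000400000000800006002000000000000008300000010204081020408102080800c38081140c18104002030600003001030300080010238199))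 (.leaf (nat_lit 0x1c00018180050008000080000400140040024006002c1050e000003c000070a002850000200001c0070010380042000200000000e0010000002000000021002400800240000e14000003430300000000c0c0001a001800000380161400000100040000004001000000004000a001000000008201018004003000000580161400204000082a00300002818300000030e085090000005100c180000020012002800000105000800204140000810000000040c040000b003410008006801400000000c18c060018800007030a0018b06006890800180000c180000c19700000020000004000c00606288001c00000000000318002030600000000c303005400f1c00005000c7a20c00003042020b0a0c00004145880054482041418000002000000680000010d08040040828000000800000000040000000000000126000000020006000000000000090000100060000008101800600000000000312007800600008120800018387000000000023c000000c00012000000224500120448b1400000000420106001050000183000000020180000a1400000000000e0c000001c005000000000005000600000000000b0000780000c188000400000004000a00008))) (.node (.leaf (nat_lit 0x4080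0a0048500009800404100000c0090a00281005000000001010000280000c00b001000000000000000000001058a060010000001001400180040020810000102000902040010000102000004a0038001830a0c18900100800004081020000000005180e0000400002000000001020c000000000a3008000080c004140020000101800000090020400010000060a00282040800206002000c34001000c0000e1c089060c1800000000081c00006002000010000000020b000c0000008000001c083000038012003830e00180140000304000021844108060020200105860000206000c004001818000080011404001000000000000090000380000038500000020400880184410800000000010006000020600000040020180040000006000810204005000000702080090e080020a000000a000070a00000080000304000020000002000000200000020408000080800800100000600103000000a0000081020000110240001a0038502001000a10000000000b0c140000c28000000000200000000800002005c00410180000e000000400002000020000002800008102000010000000000600000000c00400002000000500000000000040010204083)) (.leaf (nat_lit 0x20b0000000000000000000000014006001010204082000c00102001000008003820400000040000000140000a00280000800600081040014300046c006000000400181000010006000000000241000014300001c0000000000001800000004090a002000414306000000000002000010004102010008140000a18008000030000280000c0000000100040e10000122060600340000808000000800008000000800004000000000000000000000000000506203850000000000000000000000c3048004000001028000002c004))))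
noncomputable def I7d9 : BT := (.node (.node (.leaf (nat_lit 0x4080000c280000090116006c200006c009120008002000010004280000000000682940600000002c00002040000200004000001002002080000000001400b12000020000080007800000040000004000140000000004800a0000402000000600000000c0800000101120000d04005800000001040c0000000103000000004000000000000040800300000000a14102040898000006881600100000000004241000408102000c000003410d041410202001022c2c18100004022614a0204001020008300000000206000000008102000810104041010408002044400004081020408102040808202080800408100041000600081020004082000010204081020408102020808202001020008000241c1000038780040800a06080070208600040020304145000808000060830e1c0418104000030208000000c2021c0840c06101001e3c007140c2040400102040000306080020408080000000006040020808102060000800103800200001000000002000080c1c0800004181000008000000090000000000018000000030000a000600000000008000001031200002040010204081020400100003c10200001820000203000000002000000000002040001c))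 (.leaf (nat_lit 0x21c3861a0000a0000001000000600684800000200001c0000e100040024000000038a0000003027c00000203840038000020400100040060018003020448e240c384001068c0e145010a280030204280000c2804a0018a18003880e1430002002051a00000020040002004010038000002c0801c38000000400000003800e1c48506100010030005002800300000030e0000700000000c2818b1230000160020024000000a000000c000010000013120040000000001e04000000000f1600086000c18a00040001200c03004418b00000040000183160c180320c2001600288060c026200c18006145801a00180000020302008030600000000c280003028b0c0c0050200200002018a00002070a2c0920004000180058d0014000000000d06000002a0000020080000c002800000284441008000200130824008080030002000010000000120000a0000180008c0122e3c0000000000020c0a7082c28000000000800183000000006140801000084080c0000804080040c000080890714000000040680000c00000001800828584003000500000820004b85160c301003000f000000220000000600000122c2000a540070a001800014000040029d0a30100))) (.node (.leaf (nat_lit 0x161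0008120c205080c100000060014042040a14002000000300006820404280060c00702004020004280003000102003850604000000800d0000180000400000081000400003000c18002000030008000042818004000870200104000810d040c8800800506221008006040010008102040c00000200850044081000c080000400302001840a00102040818008180000a000000000180060400700000020400003101c004060c181004400100183000004000020038506040000a0008008000040808100000040008180000e140070a0000300000800800000140400002000050004004000c0800200000060000f0800102000000410041040c540030a0c38500040030000c000800000140400302000000804000000c0800200000000000006041020408000003000004000040000000140c0800000080000000100000010000003020000002040000028000000000000000030200000060000302010800000102040028000003000024006040000400000090204000002808000000010000000001408100000000c0008000000000a800840000000120060002040000000000000000800000000000000000000002000030200001000008100340020408100)) (.leaf (nat_lit 0x280000000000000400e00000000000000001800002000000000008001800002004010020380000000000180880c180810a00300000008002000000014001000040000000801800000020008002040800c10000021400100204000204081020008002000040a040010018280021848102040060200080000000100144860018000000000c0000309000008102000800e64000082c6801800400000000c12003010004001000408000004891018080180448100000050a040050000680020000b1600300005820c00202801200001141c080))))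
noncomputable def I7d10 : BT := (.node (.node (.leaf (nat_lit 0x4000140040a00000800000880004c0000a0450210000890000c010000083000000402288800004b8c0400080260800000000801a0c29804000801a00101001420104083800200a02040008300003851400109000450200600011400002020c6800e04500001c0010e000070000001140c00700040222a0000136340020004505001c00000000010800007002400000000012e1400710000010600000004408000000000004300001c00000100000620000000008a06003800004e0000000001000100060070002006002c3c001000000000640030000000000400100582091e4408100000003200008000000200000020000000002048b1404800082401102040003200000020c0000200108024c000000800000000800000081020008300040030004013000008102000810204080000438700000810204080020408102040010204080000408100040810204081020008102040810204081020028002040810204086020c08100140840004381360028002003802620086180400c00000822c0870124680920000001243401802000000004500121c00124600070000001000000000000000400000021c3800204081020408104280011440000000409e))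 (.leaf (nat_lit 0x3428412244870c147100018002000010000000000000008044c006000040500000090000000000000000000000410b000c240050c14484125410000000082a00200001c4080610c85083c20b1210000082c00000203860e001840600108000010d0c3000900003832a90180000000d0e00a80000000a0028004000058806000000010000001810006000000000007001400000101000000385000c40700085850824c820000700041801a006c0003414800000000000000000000002004c2000a0080306240002a081000034203004c017081ca80004c0000a00000000021000001000a30004000010006002a10000518002410000000000400000040000010000050a0000b001800e08000030e38a80003c001060000000200000018180008000010081000020e0c1018a001a240000000700120018000240000600300101800f000000e1c08285340c1870624006000000b281400000000000e180060034000005860c0000002001000f040000000000000810780280030420000000058e80000000000080920000181000c0071e0000b000c902001c005001400b06188802c0000006002800e00280005000100202820000001020000f0c00000001c011))) (.node (.leaf (nat_lit 0x1000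0001000385001c00000000800e0c0070a000021e0018000000820050205000000600000000200003000c08000001840000400000000100003000200281081800408140003a0c080001401400080000a408010250005000000006200010000000000418122100000000009000020200000800624314240c0860e04005081810100000800e1c004000000114105880a0030002000800200003000008100048010c0c00000242800014000000020000003041200000002480004000000800000003c102222c30a001018000000000a0430100200000e0000000182810c441090200000120040804000880208280161800000480050c0ca8608441810a4418000000021e140000e000000424100003010016003830004009000058010004000000100003c28000007030800600180808000200030000003000400d08083810610001001401f0000b800004012041c0000000001001818000000010000014120008112040810000500003800000000030a00602022898000180000a1c1801a0400e001048a00000050000003000020004006800e0000306000040208b8004003800208402040800d025c002000490902280010600001243008018040820204080)) (.leaf (nat_lit 0x10008001c28000080061010283000030000181800000000001000608100000a00100000030800000000010284000030608001000c0000004000080c184800824006001000000183001000002002000800000020a00000000040000380050c080040c1830300000020010804123400010000060020209000048216004800010004002000812000080000004120020b00240020010380001000200000000c0000500206051600189000001c121c006000118e0000004060018010001800000000))))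
noncomputable def I7d11 : BT := (.node (.node (.leaf (nat_lit 0x810204081020400108040810204081020008104100010200500020400102040800004080000008100040010204101000000102041000004001020408002041000204001000408102040010204080020408102000810000080020408100040810200081020408002040810204080020408102000810204080020408102000810204081020408002040810204081020408002040810204080020408102040810204081020008102040810204081000008102040010204081020408102000810604200060400100040810204081020408d0208080020460102000810204081020408102041010404004020409302141950004081000000002040810204081020408100044012400081000430e0000080041848002040000004100000400002100000210000000400000040000000000020000000040090800001040c280000008404000000a0000002140090c0000000042800618000000000000040810a18e80002c001000400002040010200080020450400040810400001020008108040010204000020400102000000204080000408102000810204080020408102040810204081020808f280008100000012c240000000000020440002040810218001))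 (.leaf (nat_lit 0x40a1400000006880e000090000007000000300000000000000000800000080000000000000010000000000a002830a0070012000001c0800000000062e00000001420000100001200880000000008000000600000000000400080000418282060028000004000084200000000000000030c000000000004000000000003000000000180020000000000000000000000050000000a000050e102830610185000818000109060a0001400084020038115088cc0400080031a001190000000000000000140030c080000000000000000508140000000004000000c0800003000020000000020000205000000000000000614000000000000001800000000080000000001000400000080820000000000c0c0000000297000800000900000000003080c2004e0010f0000280067c005000c0070620000040028008102090080280000c28e3600000000000000001820e00000000000000000000a0030400000030a000000058b000000d05060000000000000a0000208000020678003000000018181800000000020000000003850014300000000004641800000000060029e000000004100000000000060c280000030000000030a000040c000000001283))) (.node (.leaf (nat_lit 0xa0828600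0000100000000a140030a0000002000060600000000c2800000000000000002040060000000000000008081830000100001c000000000000041030a000030c00580000000002040030a000040c00000000000002041030a003010c000000000000000008100000000e0001b0c0000000000000000001060008100000000400000061400002180000000001020000100080010004083060430008000000204001000000100000010000000000408002040040004200000008100040030a180001600000020408004080040000080020008a0000084000410002040000004080020008d020000100040000614300000058002040010200080080000000080000200091080008200040000234081000468102000800204012021000200040060218c0b00040810000080023000100000800000082040000102000000200000020008100040800400081040800102000000204002002050010283830a000010c4058002040810204081000400102040810004080040008104100010200081000800102000810028081140800000040840400000020400100040800204200000408000000810004081020008100040800204080020400102002a60004000)) (.leaf (nat_lit 0xa00000000000000006000000000000000000100000000000000000000100000000103000c0000608000000800006100020400200000000004000000010000000c1800000010001c000044020300000002614600000028000000000000002004400000002830428000001000000101000008104041c000000000000401850410780000000000005800e00780000032200747020a002800070000000c00406001000c180041200d00060078308540000000980040000000700000a140001014a00000000e0408000000800000000000000000))))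
noncomputable def I7d : List BT := [I7d0, I7d1, I7d2, I7d3, I7d4, I7d5, I7d6, I7d7, I7d8, I7d9, I7d10, I7d11]
noncomputable def I7 (k u : ℕ) : ℕ := force (Nat.shiftRight u (nat_lit 9)) fun j => Nat.land (Nat.shiftRight ((nth (BT.leaf (nat_lit 0)) I7d k).get j) (Nat.mul (Nat.land u (nat_lit 511)) (nat_lit 7))) (nat_lit 127)
noncomputable def D7d : BT := (.node (.node (.node (.node (.leaf (nat_lit 0x704dee0989c12f3825d704b6e0969c12cb8258704aee092dc11fb82337044ee0895c1123021a6042cc08558109b021260422c08418107b020860406c07f980fbb01eb603d2c07a180efb01dd603b8c074d80e8301c76038ac071180e1b01c260376c06e980dcb01b86036ec06d980d7b01ad60358c068d80d0b01a060332c066180cbb019560328c063580c63018b60312c062180bfb017d602f8c05d580ba30167602cac059180aeb015c6026ec04d5809a3012d60258c04ad8094b01286024ec0499808f280fb501f2a03e1407ba80f6501e6a03c94078a80f0501dca0389406b280ca5017ca02d94059280ad50156a02a940532809a50126a023d4041a006a400ca8018d003120060400be8014d0023a003b40072800e100181802f3005a600b0c012180222002c40038400580000))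 (.leaf (nat_lit 0x92eff25dfa4bbe4977b92ec725d5e4ba5c973f92e6725c9e4b8dc970292dfd25bf64b7e496fb92def25bae4b63496c392d8525afe4b5dc96af92d1525a164b424968392cff259ce4b334966292cc3259824b2fc965b92c9f2590e4b1bc961e92c35258664b0c4961792c2d2584e4b03c95dd92bb92576e4aed495d992bb12575e4ae5c95b392b4d256864ad04959e92b372563e4ac1c956b92a8d255064a9dc952f92a47253ce4a73494e2929c32537e4a6f494db9299f2530e4a5bc94a5929492528e4a51494a09293f2524e4a3d49479928ef251d64a3a49473928df2518e4a25c943e9286f250da4a1a494339284f2506e4a07c9403927ed24fce49f9493f1927e124fbe49f7493eb927bf24f4e49e3c93b79276d24ed649da493b39276524ebe49d1c93979271724dfe49b94936f))) (.node (.leaf (nat_lit 0x9191923216464248c839190323202463cc8c78918d7231a6463448c5f918bb23172462948c4f9189d23136462648c4b9189523126462448c47918872310a4620c8c409187f230fa461ec8c3c91877230ea461c48c369186b230d24619c8c309185f230b6461648c25918492308e4610c8c209183323062460bc8c15918292302e4604c8c08918032300245ffc8bfd917f922fce45f8c8bf0917cf22f9a45f2c8be4917c722f8a45f0c8be0917b722f6a45ecc8bd7917ad22f5645ea48bcf9179b22f3245e2c8bc49178722f0645e048bab9175322ea245d0c8ba09172722e4645c848b899171122dbe45b6c8b6c916c722d8645b048b59916b122d5e45aac8b549167f22cf6459e48b039160322c02457fc8af7915eb22bd24575c8ae9915d102ade055b40ab58156902ace055940ab1))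 (.leaf (nat_lit 0xa581f4b00e95f9d2bf2a57d94af4695e852bada57154ae1695c1d2b7ea56fb4ade695bb52b4fa56874acd6959a52b19a56234ac429582d2b04a55f74abea957c52aeda55d94ab169561d2ab9a55714aade955b52ab2a553f4aa6a953dd2a77a54d74a8ce9514d2a28a544f4a89a9510d2a15a54134a82294fed29fca53cd4a75694e9d29c9a53914a68e94c35297fa52f74a58a94abd294ba52354a3da9477d28e5a51c94a38a9466d28c5a51894a2e69457d28ada51594a2969450d28a0a51154a1e6943bd2861a50c14a17e942dd284fa50574a07a9403527fba4fdd49f9e93f1d27d7a4f6749ebe93d4d27a8a4f4d49e6a93ccd2798a4f1b49e2a93c15277aa4ee149daa93b2d2764a4ec749d8a93afd2753a4e8949d02939dd270ba4def49b6e9349d2687a4cdf4998e9319d25fa)))) (.node (.node (.leaf (nat_lit 0x8118302302045fc08be8116d0227e044ec089c8112b0225204494086f810db021b20432c0864810c5020ce0418c08308105f020ba0414c08288104d0206a040740803810030200203ffc07fe80ff301fe203fb407ea80fbd01f4a03e3407af80f5b01eb203d5c07aa80f4f01e9a03d14077380ee301dc203b7c076e80ed701daa03b4c076880ecd01d6a03a74074280e6d01cae0394c072880e4f01c9a0391c072280e4301c82038f4071280e2301c420383406fa80ddd01b8a036bc06d580da901b4e0369406cf80d9d01b360366406ca80d7d01af20359406a680d4901a0a033ec067b80cf5019da03374066a80cbf01976032e4065b80cb50195e032b4065580ca90194a03234064580c75018e603174062d80c450185a0308c060a80bfd017ce02f8c05f080bdf017ba02f6c05ec))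 (.leaf (nat_lit 0xa404f4806e9006d200ca400f4801a8ffbd1fdfa3f8d47eee8fd3d1f9da3f3947e6e8fcbd1f6ba3ed347d9e8fa151f3da3e5747c7e8f7d51eefa3d9547afe8f56d1eaca3d4f47a6e8f41d1e77a3ca54792e8f2551e47a3c774783a8f05d1dffa3bb5477568eea51dd3a3ba54773e8ee1d1d97a3af5475d68eb9d1d53a3aa5475468ea7d1d4ca3a8b475128ea151d37a3a5f4749a8e92d1d24a3a3b4746e8e8d51d19a3a314745e8e8b51d10a3a1b474328e8251d02a39f9473ea8e7b51cf0a39dd473aa8e7451ce7a39cb473928e71d1ce2a39c34737e8e69d1cc7a3977472be8e51d1c97a3917471f68e3e51c7ba38f3471e28e3b51c74a38e74716e8e27d1c43a386f470ae8e0f51c1aa3833470628e09d1c07a37b746f5e8de5d1ba1a373f46e6e8dc7d1b82a36fb46dde8db5d1b3f))) (.leaf (nat_lit 0x92165242c64858490af9214724272484bc908b920ff241ce4833c9065920c92416e482cc90589209f241364826490439208324102481bc902a9204f2409a4812c9024920472408a4810c90209203f240664809c900b920112401e47fdc8ff891fdf23fb247f1c8fe091faf23f5647ea48fcd91f9923f2a47e2c8fc491f8723f0647e048fbf91f7123ed647d9c8fae91f4f23e6e47c7c8f8d91f0723dde47bb48f7591ee923dae47b2c8f6491ebf23d7647ae48f5391ea323d4247a4c8f4891e8f23d1647a248f3d91e7923cee479cc8f3891e5f23cb2479148f1f91e3d23c76478dc8f1991e3123c5e478848f0b91e0d23c164780c8eff91deb23bd24779c8ee991dd123b9e4772c8edb91db123b3e4766c8ecb91d9523b0e476048ebf91d6f23ad6475a48eab91d5323aa24750c8ea0))))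 (.node (.node (.node (.leaf (nat_lit 0x80bd7017aa02f4c05e880bcd0176a02ecc05ce80b9b0170a02e0c05c080b6d016aa02cf4059980b250163602c64058b80b150161a02bd4056e80acf0158e02abb854b70a92e1521c2a3b854670a8ae1511c2a1b854270a82e1501c29f3853270a62e1499c292b851a70a32e1461c28738502709f8e13d9c278b84f0709dce13adc26f384d9709b0e135dc26b384d37098ce12e9c259b84af70946e1259c247b848b708fee11c9c235b8467708b4e1155c227b84437083ce1065c209b8407707f6e0f59c1e7b83cb7077ee0ec9c1d6383ab70754e0e9dc1cdb8383706ece0dbdc1b5b835f706a6e0ce9c19ab833370664e0cbdc191b831670622e0c41c187b830e70616e0bfdc16d382d5705a8e0b4dc169382d1705a0e0b3dc161b82b77053ce0a69c14cb82977052ce0a4dc143b827b)) (.leaf (nat_lit 0xa367746cbe8d8ed1b1ba363546c5e8d85d1af9a352746a1e8d22d1a43a3485468fe8d19d1a1ba341d4681a8d01d19f7a33cb467928cf1519dfa33a7466ba8cd3519a4a33474665e8cb5d1967a32b74653a8ca4d1948a328f4650e8c9bd192ba323f4644a8c86d190ca32174642a8c83d18fba31d34639e8c73518e5a31c94638e8c6bd18caa318b4630e8c5fd18b3a314f4626a8c4b51895a3123462428c47d1883a30ed461c68c385186ea30d74617e4c29498509309b261324c254984693083260fe4c1cc98389306f260da4c184982e9305b260b24c1549825930472608a4c10c98209303f2607a4c0cc98189302d260564c0a498139301b260324c024980292ffb25fe64bfc497f692fe125fbe4bf7497ec92fd725faa4bf4c97e792fb725f3e4be1c97b792f5725e7e4bc1c9780)))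 (.node (.leaf (nat_lit 0x91d0f23a16474248e7d91cf9239ee473cc8e7891ce3239c24737c8e6c91cc723982472c48e5691ca72394a4728c8e5091c9f23936472648e4b91c892390a471fc8e3a91c73238e2471ac8e3391c512389e470ec8e1c91c3723866470c48e0f91c192380e470148dff91bfd237de46fa48df391bd7237a646f448ddf91bbb2377246eac8dd491b8f2371646e248dbd91b79236ee46dcc8db891b63236c246d1c8da191b412366646b9c8d7091ab72356646a4c8d4891a8f2351a46a2c8d4491a87234f2469dc8d3991a6f234d24699c8d3291a5d234b64695c8d2891a3f2344e4688c8d0991a112341e4682c8cfd919f9233ee467d48cf9919f1233d6467a48cef919d9233a6467448ce3919c32335e466ac8cd49197f232f6465e48cb5919692329e4652c8ca49193b232724647c8c8d)) (.leaf (nat_lit 0xa39cd46b9e8d6dd18ee92fe525fc64bf6c979392f0d25e164bc24978192e1f2578a4a5549472925dd24aca48e148d4e815736ee66dc9d5b897a70634e0c29b9453632a6c1d4d74a9ae3535bca6ae74d4e69a3e53452a67db4cfb299ee533b1a67614cdf299aad3350a66714cc5a997fd32daa655d4c9a69924d3208a63fb4c6a698c4d3152a62294c3ea985cd309aa611d4c202982ed304ba602b4bfc297f252fbaa5f574be6697cbd2f85a5ec14bd5a979652f2ba5e3d4bc3e9774d2ee8a5d814bafe975f52e96a5d134ba22973ed2e47a5c3f4b84e96fcd2deea5b8b4b71296e152db8a5b4d4b4d69699d2d21a5a154b3e2967652ccea59874b2aa9648d2c85a58db4b10e961352c13))))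 (.node (.node (.leaf (nat_lit 0x8156102abe0555c0aaa8155302aa20553c0aa68154b02a920551c0aa28154102a7e054f40a9d8153902a6e054d40a998153102a5e054ac0a948151b02a320545c0a898151102a06054040a7f814fb029f20539c0a71814e1029be0534c0a68814cf02996053240a5d814b90296e052cc0a58814a3029420527c0a4e8149b029320525c0a4a81493029220521c0a428148302902051fc0a3e8147b028f2051bc0a3581469028b6051640a2b81453028a20512c0a1381423028420504c0a08813f7027e604fc409f1813e1027ba04ebc09d5813a90274e04e9409cb813930272204e0c09c08137d026ce04d8c09b081353026a204c740977812eb025d204b6c096c8125f024b604964092b812550248e0490c09208123f0247a048b408f3811e3023c20477c08ee811cd0236a0467408c3)) (.leaf (nat_lit 0xa4bef497ae92e9d25c1a4b81496fe92df525bca4b69496ca92d0d2595a4b29495e292bb5256da4ad9495aa92aa52553a4a9f4950e929bd2523a49c54935e9265524c3a4983492fe9253d2477a48a7490ea9219d242fa484748ffa91f9d23e7a479f48eee91dd523b7a473f48e1a91bfd237ba46dd48da291b2d2363a469148ce6919c52330a464b48c66918c52304a45f948bea9178522e5a45c948b8e9171522dfa45a748b169160522bfa457d48aee9157d2297a451548a1a9141d2223a444348882910fd2207a43bb4875e90dbd21b3a43274863e90bbd216ba42b34854e909dd212fa42454846e908bd20ffa41e74837e9067d20b1a415b482b2904bd2093a410b4821290415207ca40f3481e2903b5206fa40db481b2903552065a40c348182902cd204ea4085480de901b52033)))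 (.leaf (nat_lit 0x926dd24db649b64936b926d524d9e49b14935c926b724cde4995493259264924c8e4991493219264124c7e4989c930e9261124c1e497dc92e9925cf24b8e496bc92cb9257f24abe4957492ad9255724aa64954492a79253724a3e4941c9277924eb249d2493549265924c72498649304925f924a72491e491dc922f9245b248b24912c9224924472485e490a4920a9240b2480e4900c9200923ff247ce48f3c91db9239f2473648e6491bf9237d246f648de491bb92375246e648dc491b7923572467e48c9c91879230b2461248bd49177922ed245d648ba49173922e5245c648b84916f922c72455e48a5c913f9227b244f248994912f9225d244b648964912b92255244a6489449127922372443e4881c90f7921d72437e486ec90dc921a7243464868490c792175242d6485a490b3)))))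
noncomputable def D7 (u : ℕ) : ℕ := force (Nat.shiftRight u (nat_lit 7)) fun j => Nat.land (Nat.shiftRight (D7d.get j) (Nat.mul (Nat.land u (nat_lit 127)) (nat_lit 19))) (nat_lit 524287)
noncomputable def E7td : ℕ := nat_lit 0x19c67379de65398e2031bb373e64a7511cd62c1eb2f3d8da84f11021f9cc293880a8ad8d21cc9eb18493fe765e9011fcc16e
noncomputable def E7t (u : ℕ) : ℕ := Nat.land (Nat.shiftRight E7td (Nat.mul u (nat_lit 19))) (nat_lit 524287)
noncomputable def J7td : ℕ := nat_lit 0x138164a70e89d17c340b85e2905e7e404210589c0840d0340e815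
noncomputable def J7t (u : ℕ) : ℕ := Nat.land (Nat.shiftRight J7td (Nat.mul u (nat_lit 10))) (nat_lit 1023)
noncomputable def W7td : ℕ := nat_lit 0x6ef9dfbb776337dd5ba62c6e7dccf121fee380ad8f703183fe5eb6e16e
noncomputable def W7t (u : ℕ) : ℕ := Nat.land (Nat.shiftRight W7td (Nat.mul u (nat_lit 11))) (nat_lit 2047)
@[irreducible] noncomputable def E7 (a : ℕ) : ℕ := force (Nat.sub a (nat_lit 1755)) E7t
@[irreducible] noncomputable def J7 (a : ℕ) : ℕ := force (Nat.sub a (nat_lit 1755)) J7t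
@[irreducible] noncomputable def W7 (a : ℕ) : ℕ := force (Nat.sub a (nat_lit 1755)) W7t
noncomputable def RL7 : List (List Rule) := [[.rel (nat_lit 0) (nat_lit 0) [nat_lit 1], .defn, .rel (nat_lit 272) (nat_lit 0) [nat_lit 8, nat_lit 1, nat_lit 4, nat_lit 4, nat_lit 9], .rel (nat_lit 315) (nat_lit 3) [nat_lit 11, nat_lit 3, nat_lit 1, nat_lit 7, nat_lit 4, nat_lit 11], .rel (nat_lit 34) (nat_lit 1) [nat_lit 6, nat_lit 0, nat_lit 0, nat_lit 7, nat_lit 0], .rel (nat_lit 295) (nat_lit 1) [nat_lit 6, nat_lit 9, nat_lit 7, nat_lit 1, nat_lit 8], .rel (nat_lit 292) (nat_lit 1) [nat_lit 10, nat_lit 4, nat_lit 4, nat_lit 10, nat_lit 0], .rel (nat_lit 37) (nat_lit 2) [nat_lit 5, nat_lit 3, nat_lit 1, nat_lit 5, nat_lit 3], .rel (nat_lit 38) (nat_lit 4) [nat_lit 6, nat_lit 0, nat_lit 2, nat_lit 7, nat_lit 2], .rel (nat_lit 24) (nat_lit 0) [nat_lit 0, nat_lit 0, nat_lit 0], .rel (nat_lit 273) (nat_lit 3) [nat_lit 9, nat_lit 1, nat_lit 8, nat_lit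 5, nat_lit 5], .rel (nat_lit 292) (nat_lit 0) [nat_lit 0, nat_lit 10, nat_lit 4, nat_lit 4, nat_lit 10], .rel (nat_lit 34) (nat_lit 3) [nat_lit 0, nat_lit 7, nat_lit 0, nat_lit 0, nat_lit 6], .rel (nat_lit 312) (nat_lit 0) [nat_lit 11, nat_lit 7, nat_lit 11, nat_lit 4, nat_lit 2], .rel (nat_lit 36) (nat_lit 0) [nat_lit 2, nat_lit 4, nat_lit 1, nat_lit 2, nat_lit 4], .rel (nat_lit 294) (nat_lit 0) [nat_lit 6, nat_lit 8, nat_lit 7, nat_lit 1, nat_lit 9], .rel (nat_lit 34) (nat_lit 0) [nat_lit 0, nat_lit 6, nat_lit 0, nat_lit 0, nat_lit 7], .rel (nat_lit 42) (nat_lit 0) [nat_lit 6, nat_lit 6, nat_lit 1, nat_lit 6, nat_lit 6], .rel (nat_lit 270) (nat_lit 0) [nat_lit 3, nat_lit 8, nat_lit 8, nat_lit 5, nat_lit 6], .rel (nat_lit 275) (nat_lit 3) [nat_lit 9, nat_lit 1, nat_lit 7, nat_lit 8, nat_lit 7], .rel (nat_lit 40) (nat_lit 4) [nat_lit 7, nat_lit 0, nat_lit 3, nat_lit 6, nat_lit 3], .rel (nat_lit 38) (nat_lit 0) [nat_lit 2, nat_lit 7,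 nat_lit 2, nat_lit 0, nat_lit 6], .rel (nat_lit 43) (nat_lit 2) [nat_lit 7, nat_lit 7, nat_lit 1, nat_lit 7, nat_lit 7], .rel (nat_lit 40) (nat_lit 0) [nat_lit 3, nat_lit 6, nat_lit 3, nat_lit 0, nat_lit 7], .rel (nat_lit 324) (nat_lit 2) [nat_lit 3, nat_lit 11, nat_lit 2, nat_lit 5, nat_lit 7, nat_lit 11, nat_lit 2], .rel (nat_lit 34) (nat_lit 4) [nat_lit 7, nat_lit 0, nat_lit 0, nat_lit 6, nat_lit 0], .rel (nat_lit 305) (nat_lit 5) [nat_lit 3, nat_lit 1, nat_lit 10, nat_lit 8, nat_lit 3, nat_lit 4, nat_lit 9, nat_lit 10], .rel (nat_lit 156) (nat_lit 2) [nat_lit 5, nat_lit 1, nat_lit 2, nat_lit 1, nat_lit 5, nat_lit 0, nat_lit 2], .rel (nat_lit 274) (nat_lit 0) [nat_lit 8, nat_lit 1, nat_lit 6, nat_lit 9, nat_lit 6], .rel (nat_lit 316) (nat_lit 0) [nat_lit 11, nat_lit 2, nat_lit 2, nat_lit 8, nat_lit 8, nat_lit 11], .sub (nat_lit 0) [] [], .rel (nat_lit 52) (nat_lit 0) [nat_lit 0, nat_lit 2, nat_lit 0, nat_lit 0, nat_lit 7, nat_lit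 2, nat_lit 7], .rel (nat_lit 52) (nat_lit 1) [nat_lit 2, nat_lit 0, nat_lit 0, nat_lit 7, nat_lit 2, nat_lit 7, nat_lit 0], .rel (nat_lit 54) (nat_lit 1) [nat_lit 2, nat_lit 0, nat_lit 3, nat_lit 4, nat_lit 1, nat_lit 5, nat_lit 0], .rel (nat_lit 54) (nat_lit 3) [nat_lit 3, nat_lit 4, nat_lit 1, nat_lit 5, nat_lit 0, nat_lit 0, nat_lit 2], .rel (nat_lit 55) (nat_lit 1) [nat_lit 5, nat_lit 2, nat_lit 1, nat_lit 3, nat_lit 1, nat_lit 1, nat_lit 4], .rel (nat_lit 56) (nat_lit 3) [nat_lit 4, nat_lit 2, nat_lit 1, nat_lit 4, nat_lit 0, nat_lit 0, nat_lit 2], .rel (nat_lit 57) (nat_lit 1) [nat_lit 3, nat_lit 5, nat_lit 1, nat_lit 3, nat_lit 1, nat_lit 1, nat_lit 5], .rel (nat_lit 61) (nat_lit 2) [nat_lit 6, nat_lit 1, nat_lit 3, nat_lit 1, nat_lit 1, nat_lit 7, nat_lit 3], .rel (nat_lit 62) (nat_lit 6) [nat_lit 5, nat_lit 0, nat_lit 0, nat_lit 2, nat_lit 1, nat_lit 3, nat_lit 4], .rel (nat_lit 65) (nat_lit 4) [nat_lit 3, nat_lit 1, nat_lit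 1, nat_lit 5, nat_lit 1, nat_lit 3, nat_lit 5], .rel (nat_lit 80) (nat_lit 4) [nat_lit 0, nat_lit 4, nat_lit 3, nat_lit 0, nat_lit 0, nat_lit 2, nat_lit 5], .rel (nat_lit 92) (nat_lit 6) [nat_lit 4, nat_lit 0, nat_lit 0, nat_lit 3, nat_lit 0, nat_lit 2, nat_lit 5], .rel (nat_lit 114) (nat_lit 0) [nat_lit 0, nat_lit 4, nat_lit 0, nat_lit 6, nat_lit 1, nat_lit 6, nat_lit 5], .rel (nat_lit 150) (nat_lit 4) [nat_lit 3, nat_lit 0, nat_lit 3, nat_lit 0, nat_lit 2, nat_lit 0, nat_lit 2], .rel (nat_lit 153) (nat_lit 1) [nat_lit 4, nat_lit 0, nat_lit 2, nat_lit 1, nat_lit 3, nat_lit 1, nat_lit 5], .rel (nat_lit 157) (nat_lit 3) [nat_lit 4, nat_lit 1, nat_lit 3, nat_lit 1, nat_lit 4, nat_lit 0, nat_lit 3], .rel (nat_lit 162) (nat_lit 6) [nat_lit 3, nat_lit 0, nat_lit 2, nat_lit 1, nat_lit 4, nat_lit 0, nat_lit 5], .rel (nat_lit 187) (nat_lit 4) [nat_lit 4, nat_lit 3, nat_lit 1, nat_lit 4, nat_lit 7, nat_lit 7, nat_lit 3], .rel (nat_lit 276) (nat_lit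 0) [nat_lit 2, nat_lit 4, nat_lit 8, nat_lit 5, nat_lit 2, nat_lit 8], .rel (nat_lit 278) (nat_lit 0) [nat_lit 2, nat_lit 5, nat_lit 9, nat_lit 3, nat_lit 5, nat_lit 9], .rel (nat_lit 287) (nat_lit 0) [nat_lit 4, nat_lit 0, nat_lit 8, nat_lit 2, nat_lit 8, nat_lit 5, nat_lit 9, nat_lit 3, nat_lit 9], .rel (nat_lit 304) (nat_lit 1) [nat_lit 2, nat_lit 1, nat_lit 10, nat_lit 8, nat_lit 5, nat_lit 2, nat_lit 9, nat_lit 10], .rel (nat_lit 314) (nat_lit 0) [nat_lit 2, nat_lit 11, nat_lit 1, nat_lit 11, nat_lit 5, nat_lit 6], .rel (nat_lit 321) (nat_lit 0) [nat_lit 3, nat_lit 0, nat_lit 5, nat_lit 11, nat_lit 2, nat_lit 5, nat_lit 11], .rel (nat_lit 321) (nat_lit 2) [nat_lit 5, nat_lit 11, nat_lit 2, nat_lit 5, nat_lit 11, nat_lit 0, nat_lit 3]],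
  [.rel (nat_lit 0) (nat_lit 1) [nat_lit 0], .rel (nat_lit 25) (nat_lit 0) [nat_lit 1, nat_lit 1, nat_lit 1], .defn, .rel (nat_lit 314) (nat_lit 3) [nat_lit 11, nat_lit 5, nat_lit 6, nat_lit 0, nat_lit 2, nat_lit 11], .rel (nat_lit 273) (nat_lit 5) [nat_lit 8, nat_lit 5, nat_lit 5, nat_lit 0, nat_lit 9], .rel (nat_lit 272) (nat_lit 2) [nat_lit 4, nat_lit 4, nat_lit 9, nat_lit 0, nat_lit 8], .rel (nat_lit 37) (nat_lit 5) [nat_lit 5, nat_lit 3, nat_lit 0, nat_lit 5, nat_lit 3], .rel (nat_lit 35) (nat_lit 5) [nat_lit 6, nat_lit 1, nat_lit 1, nat_lit 7, nat_lit 1], .rel (nat_lit 274) (nat_lit 2) [nat_lit 6, nat_lit 9, nat_lit 6, nat_lit 0, nat_lit 8], .rel (nat_lit 41) (nat_lit 5) [nat_lit 6, nat_lit 1, nat_lit 2, nat_lit 7, nat_lit 2], .rel (nat_lit 36) (nat_lit 3) [nat_lit 2, nat_lit 4, nat_lit 0, nat_lit 2, nat_lit 4], .rel (nat_lit 35) (nat_lit 1) [nat_lit 1, nat_lit 7, nat_lit 1, nat_lit 1, nat_lit 6], .rel (nat_lit 313) (nat_lit 5)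 [nat_lit 3, nat_lit 5, nat_lit 11, nat_lit 6, nat_lit 11], .rel (nat_lit 293) (nat_lit 4) [nat_lit 1, nat_lit 10, nat_lit 5, nat_lit 5, nat_lit 10], .rel (nat_lit 271) (nat_lit 5) [nat_lit 7, nat_lit 4, nat_lit 9, nat_lit 9, nat_lit 2], .rel (nat_lit 35) (nat_lit 4) [nat_lit 1, nat_lit 6, nat_lit 1, nat_lit 1, nat_lit 7], .rel (nat_lit 275) (nat_lit 5) [nat_lit 7, nat_lit 8, nat_lit 7, nat_lit 0, nat_lit 9], .rel (nat_lit 39) (nat_lit 1) [nat_lit 3, nat_lit 6, nat_lit 3, nat_lit 1, nat_lit 7], .rel (nat_lit 42) (nat_lit 3) [nat_lit 6, nat_lit 6, nat_lit 0, nat_lit 6, nat_lit 6], .rel (nat_lit 35) (nat_lit 2) [nat_lit 7, nat_lit 1, nat_lit 1, nat_lit 6, nat_lit 1], .rel (nat_lit 41) (nat_lit 1) [nat_lit 2, nat_lit 7, nat_lit 2, nat_lit 1, nat_lit 6], .rel (nat_lit 39) (nat_lit 5) [nat_lit 7, nat_lit 1, nat_lit 3, nat_lit 6, nat_lit 3], .rel (nat_lit 293) (nat_lit 5) [nat_lit 10, nat_lit 5, nat_lit 5, nat_lit 10, nat_lit 1], .rel (nat_lit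 294) (nat_lit 4) [nat_lit 9, nat_lit 0, nat_lit 6, nat_lit 8, nat_lit 7], .rel (nat_lit 43) (nat_lit 5) [nat_lit 7, nat_lit 7, nat_lit 0, nat_lit 7, nat_lit 7], .rel (nat_lit 317) (nat_lit 6) [nat_lit 11, nat_lit 9, nat_lit 9, nat_lit 3, nat_lit 3, nat_lit 11], .rel (nat_lit 301) (nat_lit 6) [nat_lit 9, nat_lit 2, nat_lit 9, nat_lit 10, nat_lit 6, nat_lit 10], .rel (nat_lit 156) (nat_lit 4) [nat_lit 2, nat_lit 1, nat_lit 5, nat_lit 0, nat_lit 2, nat_lit 0, nat_lit 5], .rel (nat_lit 164) (nat_lit 4) [nat_lit 2, nat_lit 0, nat_lit 5, nat_lit 0, nat_lit 2, nat_lit 1, nat_lit 5], .sub (nat_lit 2) [] [], .rel (nat_lit 57) (nat_lit 4) [nat_lit 3, nat_lit 1, nat_lit 1, nat_lit 5, nat_lit 0, nat_lit 3, nat_lit 5], .rel (nat_lit 59) (nat_lit 7) [nat_lit 2, nat_lit 7, nat_lit 0, nat_lit 7, nat_lit 1, nat_lit 3, nat_lit 1], .rel (nat_lit 63) (nat_lit 7) [nat_lit 4, nat_lit 1, nat_lit 5, nat_lit 2, nat_lit 0, nat_lit 3, nat_lit 1], .rel (nat_lit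 91) (nat_lit 3) [nat_lit 1, nat_lit 2, nat_lit 1, nat_lit 1, nat_lit 7, nat_lit 2, nat_lit 7], .rel (nat_lit 152) (nat_lit 4) [nat_lit 5, nat_lit 1, nat_lit 4, nat_lit 0, nat_lit 2, nat_lit 0, nat_lit 3], .rel (nat_lit 161) (nat_lit 3) [nat_lit 3, nat_lit 0, nat_lit 3, nat_lit 1, nat_lit 2, nat_lit 0, nat_lit 2], .rel (nat_lit 167) (nat_lit 7) [nat_lit 7, nat_lit 7, nat_lit 3, nat_lit 3, nat_lit 1, nat_lit 3, nat_lit 3], .rel (nat_lit 169) (nat_lit 7) [nat_lit 4, nat_lit 3, nat_lit 4, nat_lit 2, nat_lit 1, nat_lit 3, nat_lit 3], .rel (nat_lit 190) (nat_lit 5) [nat_lit 5, nat_lit 5, nat_lit 0, nat_lit 2, nat_lit 5, nat_lit 2, nat_lit 4], .rel (nat_lit 204) (nat_lit 4) [nat_lit 5, nat_lit 2, nat_lit 7, nat_lit 0, nat_lit 2, nat_lit 6, nat_lit 4], .rel (nat_lit 215) (nat_lit 7) [nat_lit 3, nat_lit 0, nat_lit 5, nat_lit 0, nat_lit 4, nat_lit 1, nat_lit 2], .rel (nat_lit 253) (nat_lit 7) [nat_lit 5, nat_lit 2, nat_lit 4, nat_lit 2, nat_lit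 0, nat_lit 5, nat_lit 5], .rel (nat_lit 289) (nat_lit 7) [nat_lit 9, nat_lit 3, nat_lit 9, nat_lit 0, nat_lit 2, nat_lit 4, nat_lit 7, nat_lit 8, nat_lit 2, nat_lit 8], .rel (nat_lit 295) (nat_lit 5) [nat_lit 8, nat_lit 0, nat_lit 6, nat_lit 9, nat_lit 7], .rel (nat_lit 305) (nat_lit 7) [nat_lit 10, nat_lit 8, nat_lit 3, nat_lit 4, nat_lit 9, nat_lit 10, nat_lit 0, nat_lit 3], .rel (nat_lit 309) (nat_lit 8) [nat_lit 10, nat_lit 0, nat_lit 2, nat_lit 8, nat_lit 2, nat_lit 8, nat_lit 10, nat_lit 0, nat_lit 5], .rel (nat_lit 315) (nat_lit 6) [nat_lit 7, nat_lit 4, nat_lit 11, nat_lit 0, nat_lit 11, nat_lit 3], .rel (nat_lit 325) (nat_lit 5) [nat_lit 3, nat_lit 11, nat_lit 6, nat_lit 4, nat_lit 3, nat_lit 11, nat_lit 2], .rel (nat_lit 332) (nat_lit 8) [nat_lit 11, nat_lit 3, nat_lit 3, nat_lit 11, nat_lit 5, nat_lit 2, nat_lit 4, nat_lit 3]],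
  [.rel (nat_lit 4) (nat_lit 0) [nat_lit 3], .defn, .rel (nat_lit 28) (nat_lit 0) [nat_lit 6, nat_lit 2, nat_lit 6], .rel (nat_lit 271) (nat_lit 4) [nat_lit 1, nat_lit 7, nat_lit 4, nat_lit 9, nat_lit 9], .rel (nat_lit 38) (nat_lit 1) [nat_lit 7, nat_lit 2, nat_lit 0, nat_lit 6, nat_lit 0], .rel (nat_lit 26) (nat_lit 0) [nat_lit 2, nat_lit 2, nat_lit 2], .rel (nat_lit 36) (nat_lit 1) [nat_lit 4, nat_lit 1, nat_lit 2, nat_lit 4, nat_lit 0], .rel (nat_lit 44) (nat_lit 0) [nat_lit 2, nat_lit 4, nat_lit 2, nat_lit 2, nat_lit 5], .rel (nat_lit 46) (nat_lit 2) [nat_lit 6, nat_lit 6, nat_lit 4, nat_lit 2, nat_lit 4], .rel (nat_lit 296) (nat_lit 0) [nat_lit 4, nat_lit 6, nat_lit 10, nat_lit 4, nat_lit 10], .rel (nat_lit 36) (nat_lit 4) [nat_lit 4, nat_lit 0, nat_lit 2, nat_lit 4, nat_lit 1], .rel (nat_lit 44) (nat_lit 3) [nat_lit 2, nat_lit 5, nat_lit 2, nat_lit 2, nat_lit 4], .rel (nat_lit 38) (nat_lit 3) [nat_lit 0, nat_lit 6, nat_lit 0,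 nat_lit 2, nat_lit 7], .rel (nat_lit 41) (nat_lit 4) [nat_lit 1, nat_lit 6, nat_lit 1, nat_lit 2, nat_lit 7], .rel (nat_lit 41) (nat_lit 2) [nat_lit 7, nat_lit 2, nat_lit 1, nat_lit 6, nat_lit 1], .rel (nat_lit 44) (nat_lit 4) [nat_lit 5, nat_lit 2, nat_lit 2, nat_lit 4, nat_lit 2], .rel (nat_lit 302) (nat_lit 1) [nat_lit 10, nat_lit 8, nat_lit 4, nat_lit 8, nat_lit 2, nat_lit 1, nat_lit 10], .rel (nat_lit 312) (nat_lit 5) [nat_lit 0, nat_lit 11, nat_lit 7, nat_lit 11, nat_lit 4], .rel (nat_lit 44) (nat_lit 1) [nat_lit 4, nat_lit 2, nat_lit 2, nat_lit 5, nat_lit 2], .rel (nat_lit 46) (nat_lit 0) [nat_lit 4, nat_lit 2, nat_lit 6, nat_lit 6, nat_lit 4], .rel (nat_lit 48) (nat_lit 2) [nat_lit 5, nat_lit 6, nat_lit 6, nat_lit 2, nat_lit 5], .rel (nat_lit 301) (nat_lit 1) [nat_lit 9, nat_lit 10, nat_lit 6, nat_lit 10, nat_lit 1, nat_lit 9], .rel (nat_lit 316) (nat_lit 3) [nat_lit 8, nat_lit 8, nat_lit 11, nat_lit 0, nat_lit 11, nat_lit 2],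 .rel (nat_lit 304) (nat_lit 2) [nat_lit 1, nat_lit 10, nat_lit 8, nat_lit 5, nat_lit 2, nat_lit 9, nat_lit 10, nat_lit 0], .rel (nat_lit 309) (nat_lit 3) [nat_lit 8, nat_lit 10, nat_lit 0, nat_lit 5, nat_lit 1, nat_lit 10, nat_lit 0, nat_lit 2, nat_lit 8], .rel (nat_lit 302) (nat_lit 6) [nat_lit 1, nat_lit 10, nat_lit 2, nat_lit 10, nat_lit 8, nat_lit 4, nat_lit 8], .rel (nat_lit 321) (nat_lit 5) [nat_lit 5, nat_lit 11, nat_lit 0, nat_lit 3, nat_lit 0, nat_lit 5, nat_lit 11], .rel (nat_lit 48) (nat_lit 0) [nat_lit 5, nat_lit 2, nat_lit 5, nat_lit 6, nat_lit 6], .rel (nat_lit 281) (nat_lit 5) [nat_lit 2, nat_lit 9, nat_lit 2, nat_lit 2, nat_lit 4, nat_lit 4, nat_lit 8], .rel (nat_lit 80) (nat_lit 2) [nat_lit 5, nat_lit 0, nat_lit 0, nat_lit 4, nat_lit 3, nat_lit 0, nat_lit 0], .rel (nat_lit 316) (nat_lit 2) [nat_lit 2, nat_lit 8, nat_lit 8, nat_lit 11, nat_lit 0, nat_lit 11], .rel (nat_lit 328) (nat_lit 1) [nat_lit 8, nat_lit 3, nat_lit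 11, nat_lit 1, nat_lit 5, nat_lit 8, nat_lit 5, nat_lit 1, nat_lit 11], .rel (nat_lit 333) (nat_lit 6) [nat_lit 2, nat_lit 11, nat_lit 0, nat_lit 2, nat_lit 5, nat_lit 3, nat_lit 4, nat_lit 11], .rel (nat_lit 54) (nat_lit 2) [nat_lit 0, nat_lit 3, nat_lit 4, nat_lit 1, nat_lit 5, nat_lit 0, nat_lit 0], .rel (nat_lit 55) (nat_lit 3) [nat_lit 1, nat_lit 3, nat_lit 1, nat_lit 1, nat_lit 4, nat_lit 0, nat_lit 5], .rel (nat_lit 221) (nat_lit 6) [nat_lit 1, nat_lit 7, nat_lit 7, nat_lit 5, nat_lit 2, nat_lit 1, nat_lit 5], .rel (nat_lit 276) (nat_lit 5) [nat_lit 8, nat_lit 0, nat_lit 2, nat_lit 4, nat_lit 8, nat_lit 5], .rel (nat_lit 279) (nat_lit 2) [nat_lit 8, nat_lit 4, nat_lit 3, nat_lit 1, nat_lit 8, nat_lit 4], .rel (nat_lit 282) (nat_lit 1) [nat_lit 6, nat_lit 3, nat_lit 9, nat_lit 4, nat_lit 7, nat_lit 5, nat_lit 8], .rel (nat_lit 287) (nat_lit 4) [nat_lit 8, nat_lit 5, nat_lit 9, nat_lit 3, nat_lit 9, nat_lit 0, nat_lit 4, nat_lit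 0, nat_lit 8], .rel (nat_lit 307) (nat_lit 3) [nat_lit 10, nat_lit 9, nat_lit 10, nat_lit 1, nat_lit 10, nat_lit 4, nat_lit 7, nat_lit 8], .rel (nat_lit 309) (nat_lit 1) [nat_lit 8, nat_lit 2, nat_lit 8, nat_lit 10, nat_lit 0, nat_lit 5, nat_lit 1, nat_lit 10, nat_lit 0], .rel (nat_lit 318) (nat_lit 0) [nat_lit 4, nat_lit 11, nat_lit 4, nat_lit 7, nat_lit 5, nat_lit 11], .rel (nat_lit 324) (nat_lit 1) [nat_lit 0, nat_lit 3, nat_lit 11, nat_lit 2, nat_lit 5, nat_lit 7, nat_lit 11], .rel (nat_lit 329) (nat_lit 6) [nat_lit 9, nat_lit 3, nat_lit 11, nat_lit 0, nat_lit 4, nat_lit 9, nat_lit 4, nat_lit 0, nat_lit 11], .rel (nat_lit 333) (nat_lit 7) [nat_lit 11, nat_lit 0, nat_lit 2, nat_lit 5, nat_lit 3, nat_lit 4, nat_lit 11, nat_lit 2], .sub (nat_lit 4) [] [], .rel (nat_lit 56) (nat_lit 2) [nat_lit 0, nat_lit 4, nat_lit 2, nat_lit 1, nat_lit 4, nat_lit 0, nat_lit 0], .rel (nat_lit 63) (nat_lit 3) [nat_lit 0, nat_lit 3, nat_lit 1, nat_lit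 1, nat_lit 4, nat_lit 1, nat_lit 5], .rel (nat_lit 67) (nat_lit 0) [nat_lit 6, nat_lit 1, nat_lit 6, nat_lit 0, nat_lit 3, nat_lit 1, nat_lit 1], .rel (nat_lit 69) (nat_lit 1) [nat_lit 1, nat_lit 1, nat_lit 3, nat_lit 3, nat_lit 1, nat_lit 1, nat_lit 2], .rel (nat_lit 84) (nat_lit 2) [nat_lit 5, nat_lit 7, nat_lit 4, nat_lit 7, nat_lit 2, nat_lit 0, nat_lit 0], .rel (nat_lit 97) (nat_lit 5) [nat_lit 1, nat_lit 1, nat_lit 5, nat_lit 0, nat_lit 4, nat_lit 3, nat_lit 0], .rel (nat_lit 101) (nat_lit 5) [nat_lit 1, nat_lit 1, nat_lit 3, nat_lit 4, nat_lit 1, nat_lit 1, nat_lit 5], .rel (nat_lit 102) (nat_lit 6) [nat_lit 7, nat_lit 0, nat_lit 0, nat_lit 3, nat_lit 4, nat_lit 6, nat_lit 5], .rel (nat_lit 139) (nat_lit 1) [nat_lit 7, nat_lit 5, nat_lit 7, nat_lit 4, nat_lit 1, nat_lit 1, nat_lit 2], .rel (nat_lit 147) (nat_lit 1) [nat_lit 2, nat_lit 6, nat_lit 5, nat_lit 6, nat_lit 1, nat_lit 1, nat_lit 4], .rel (nat_lit 150) (nat_lit 1) [nat_lit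 0, nat_lit 2, nat_lit 0, nat_lit 3, nat_lit 0, nat_lit 3, nat_lit 0], .rel (nat_lit 154) (nat_lit 1) [nat_lit 0, nat_lit 4, nat_lit 0, nat_lit 5, nat_lit 1, nat_lit 3, nat_lit 0], .rel (nat_lit 156) (nat_lit 1) [nat_lit 0, nat_lit 5, nat_lit 1, nat_lit 2, nat_lit 1, nat_lit 5, nat_lit 0], .rel (nat_lit 156) (nat_lit 5) [nat_lit 1, nat_lit 5, nat_lit 0, nat_lit 2, nat_lit 0, nat_lit 5, nat_lit 1], .rel (nat_lit 166) (nat_lit 2) [nat_lit 0, nat_lit 2, nat_lit 2, nat_lit 6, nat_lit 6, nat_lit 0, nat_lit 2], .rel (nat_lit 171) (nat_lit 0) [nat_lit 5, nat_lit 3, nat_lit 5, nat_lit 1, nat_lit 3, nat_lit 3, nat_lit 1], .rel (nat_lit 176) (nat_lit 2) [nat_lit 5, nat_lit 7, nat_lit 4, nat_lit 1, nat_lit 6, nat_lit 0, nat_lit 2], .rel (nat_lit 178) (nat_lit 1) [nat_lit 2, nat_lit 7, nat_lit 7, nat_lit 0, nat_lit 3, nat_lit 3, nat_lit 0], .rel (nat_lit 184) (nat_lit 1) [nat_lit 5, nat_lit 0, nat_lit 6, nat_lit 4, nat_lit 3, nat_lit 7, nat_lit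 0], .rel (nat_lit 217) (nat_lit 2) [nat_lit 2, nat_lit 1, nat_lit 2, nat_lit 2, nat_lit 1, nat_lit 7, nat_lit 7], .rel (nat_lit 217) (nat_lit 3) [nat_lit 1, nat_lit 2, nat_lit 2, nat_lit 1, nat_lit 7, nat_lit 7, nat_lit 2], .rel (nat_lit 221) (nat_lit 3) [nat_lit 1, nat_lit 5, nat_lit 2, nat_lit 1, nat_lit 7, nat_lit 7, nat_lit 5], .rel (nat_lit 225) (nat_lit 4) [nat_lit 5, nat_lit 2, nat_lit 1, nat_lit 7, nat_lit 1, nat_lit 6, nat_lit 5], .rel (nat_lit 266) (nat_lit 4) [nat_lit 7, nat_lit 5, nat_lit 5, nat_lit 2, nat_lit 4, nat_lit 4, nat_lit 7], .rel (nat_lit 276) (nat_lit 1) [nat_lit 4, nat_lit 8, nat_lit 5, nat_lit 2, nat_lit 8, nat_lit 0], .rel (nat_lit 281) (nat_lit 6) [nat_lit 9, nat_lit 2, nat_lit 2, nat_lit 4, nat_lit 4, nat_lit 8, nat_lit 2], .rel (nat_lit 285) (nat_lit 6) [nat_lit 5, nat_lit 9, nat_lit 0, nat_lit 2, nat_lit 1, nat_lit 3, nat_lit 7, nat_lit 8], .rel (nat_lit 314) (nat_lit 1) [nat_lit 11, nat_lit 1, nat_lit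 11, nat_lit 5, nat_lit 6, nat_lit 0], .rel (nat_lit 327) (nat_lit 5) [nat_lit 7, nat_lit 3, nat_lit 11, nat_lit 2, nat_lit 0, nat_lit 0, nat_lit 4, nat_lit 11], .rel (nat_lit 330) (nat_lit 1) [nat_lit 11, nat_lit 3, nat_lit 11, nat_lit 9, nat_lit 1, nat_lit 9, nat_lit 5, nat_lit 1, nat_lit 1, nat_lit 11]],
  [.rel (nat_lit 4) (nat_lit 1) [nat_lit 2], .defn, .rel (nat_lit 27) (nat_lit 0) [nat_lit 3, nat_lit 3, nat_lit 3], .rel (nat_lit 29) (nat_lit 1) [nat_lit 7, nat_lit 3, nat_lit 7], .rel (nat_lit 37) (nat_lit 1) [nat_lit 0, nat_lit 5, nat_lit 3, nat_lit 1, nat_lit 5], .rel (nat_lit 313) (nat_lit 0) [nat_lit 5, nat_lit 11, nat_lit 6, nat_lit 11, nat_lit 1], .rel (nat_lit 39) (nat_lit 2) [nat_lit 6, nat_lit 3, nat_lit 1, nat_lit 7, nat_lit 1], .rel (nat_lit 45) (nat_lit 1) [nat_lit 3, nat_lit 5, nat_lit 3, nat_lit 3, nat_lit 4], .rel (nat_lit 49) (nat_lit 5) [nat_lit 7, nat_lit 7, nat_lit 4, nat_lit 3, nat_lit 4], .rel (nat_lit 49)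 (nat_lit 3) [nat_lit 4, nat_lit 3, nat_lit 7, nat_lit 7, nat_lit 4], .rel (nat_lit 39) (nat_lit 4) [nat_lit 1, nat_lit 7, nat_lit 1, nat_lit 3, nat_lit 6], .rel (nat_lit 40) (nat_lit 1) [nat_lit 6, nat_lit 3, nat_lit 0, nat_lit 7, nat_lit 0], .rel (nat_lit 37) (nat_lit 4) [nat_lit 1, nat_lit 5, nat_lit 3, nat_lit 0, nat_lit 5], .rel (nat_lit 47) (nat_lit 5) [nat_lit 5, nat_lit 7, nat_lit 7, nat_lit 3, nat_lit 5], .rel (nat_lit 45) (nat_lit 5) [nat_lit 4, nat_lit 3, nat_lit 3, nat_lit 5, nat_lit 3], .rel (nat_lit 45) (nat_lit 2) [nat_lit 5, nat_lit 3, nat_lit 3, nat_lit 4, nat_lit 3], .rel (nat_lit 270) (nat_lit 1) [nat_lit 8, nat_lit 8, nat_lit 5, nat_lit 6, nat_lit 0], .rel (nat_lit 303) (nat_lit 6) [nat_lit 10, nat_lit 0, nat_lit 3, nat_lit 9, nat_lit 5, nat_lit 9, nat_lit 10], .rel (nat_lit 297) (nat_lit 5) [nat_lit 10, nat_lit 5, nat_lit 10, nat_lit 7, nat_lit 5], .rel (nat_lit 40) (nat_lit 3) [nat_lit 0, nat_lit 7, nat_lit 0, nat_lit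 3, nat_lit 6], .rel (nat_lit 45) (nat_lit 4) [nat_lit 3, nat_lit 4, nat_lit 3, nat_lit 3, nat_lit 5], .rel (nat_lit 319) (nat_lit 6) [nat_lit 11, nat_lit 4, nat_lit 6, nat_lit 5, nat_lit 11, nat_lit 5], .rel (nat_lit 332) (nat_lit 1) [nat_lit 3, nat_lit 11, nat_lit 5, nat_lit 2, nat_lit 4, nat_lit 3, nat_lit 1, nat_lit 11], .rel (nat_lit 300) (nat_lit 5) [nat_lit 8, nat_lit 0, nat_lit 10, nat_lit 7, nat_lit 10, nat_lit 8], .rel (nat_lit 328) (nat_lit 3) [nat_lit 11, nat_lit 1, nat_lit 5, nat_lit 8, nat_lit 5, nat_lit 1, nat_lit 11, nat_lit 2, nat_lit 8], .rel (nat_lit 47) (nat_lit 3) [nat_lit 5, nat_lit 3, nat_lit 5, nat_lit 7, nat_lit 7], .rel (nat_lit 305) (nat_lit 6) [nat_lit 1, nat_lit 10, nat_lit 8, nat_lit 3, nat_lit 4, nat_lit 9, nat_lit 10, nat_lit 0], .rel (nat_lit 178) (nat_lit 7) [nat_lit 0, nat_lit 2, nat_lit 2, nat_lit 7, nat_lit 7, nat_lit 0, nat_lit 3], .rel (nat_lit 278) (nat_lit 4) [nat_lit 5, nat_lit 9, nat_lit 0,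 nat_lit 2, nat_lit 5, nat_lit 9], .rel (nat_lit 280) (nat_lit 2) [nat_lit 9, nat_lit 5, nat_lit 5, nat_lit 3, nat_lit 3, nat_lit 8, nat_lit 3], .rel (nat_lit 317) (nat_lit 4) [nat_lit 11, nat_lit 1, nat_lit 11, nat_lit 9, nat_lit 9, nat_lit 3], .rel (nat_lit 320) (nat_lit 2) [nat_lit 11, nat_lit 4, nat_lit 1, nat_lit 2, nat_lit 1, nat_lit 11, nat_lit 4], .rel (nat_lit 157) (nat_lit 6) [nat_lit 1, nat_lit 4, nat_lit 0, nat_lit 3, nat_lit 0, nat_lit 4, nat_lit 1], .rel (nat_lit 167) (nat_lit 2) [nat_lit 3, nat_lit 1, nat_lit 3, nat_lit 3, nat_lit 1, nat_lit 7, nat_lit 7], .rel (nat_lit 277) (nat_lit 5) [nat_lit 1, nat_lit 9, nat_lit 3, nat_lit 4, nat_lit 9, nat_lit 5], .rel (nat_lit 280) (nat_lit 7) [nat_lit 8, nat_lit 3, nat_lit 3, nat_lit 9, nat_lit 5, nat_lit 5, nat_lit 3], .rel (nat_lit 283) (nat_lit 6) [nat_lit 9, nat_lit 4, nat_lit 6, nat_lit 5, nat_lit 8, nat_lit 2, nat_lit 7], .rel (nat_lit 284) (nat_lit 2) [nat_lit 9, nat_lit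 6, nat_lit 2, nat_lit 0, nat_lit 3, nat_lit 1, nat_lit 8, nat_lit 4], .rel (nat_lit 306) (nat_lit 5) [nat_lit 9, nat_lit 6, nat_lit 5, nat_lit 10, nat_lit 0, nat_lit 10, nat_lit 8, nat_lit 10], .sub (nat_lit 6) [] [], .rel (nat_lit 54) (nat_lit 4) [nat_lit 4, nat_lit 1, nat_lit 5, nat_lit 0, nat_lit 0, nat_lit 2, nat_lit 0], .rel (nat_lit 55) (nat_lit 5) [nat_lit 1, nat_lit 1, nat_lit 4, nat_lit 0, nat_lit 5, nat_lit 2, nat_lit 1], .rel (nat_lit 68) (nat_lit 7) [nat_lit 0, nat_lit 0, nat_lit 2, nat_lit 2, nat_lit 0, nat_lit 0, nat_lit 3], .rel (nat_lit 69) (nat_lit 5) [nat_lit 1, nat_lit 1, nat_lit 2, nat_lit 2, nat_lit 1, nat_lit 1, nat_lit 3], .rel (nat_lit 71) (nat_lit 1) [nat_lit 0, nat_lit 0, nat_lit 3, nat_lit 3, nat_lit 1, nat_lit 1, nat_lit 3], .rel (nat_lit 73) (nat_lit 5) [nat_lit 1, nat_lit 1, nat_lit 7, nat_lit 4, nat_lit 7, nat_lit 5, nat_lit 3], .rel (nat_lit 80) (nat_lit 7) [nat_lit 0, nat_lit 0, nat_lit 2, nat_lit 5,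 nat_lit 0, nat_lit 0, nat_lit 4], .rel (nat_lit 92) (nat_lit 2) [nat_lit 0, nat_lit 2, nat_lit 5, nat_lit 0, nat_lit 4, nat_lit 0, nat_lit 0], .rel (nat_lit 98) (nat_lit 6) [nat_lit 7, nat_lit 0, nat_lit 0, nat_lit 3, nat_lit 1, nat_lit 6, nat_lit 0], .rel (nat_lit 104) (nat_lit 2) [nat_lit 5, nat_lit 0, nat_lit 0, nat_lit 4, nat_lit 2, nat_lit 0, nat_lit 0], .rel (nat_lit 141) (nat_lit 2) [nat_lit 5, nat_lit 2, nat_lit 7, nat_lit 1, nat_lit 1, nat_lit 5, nat_lit 6], .rel (nat_lit 150) (nat_lit 7) [nat_lit 0, nat_lit 2, nat_lit 0, nat_lit 2, nat_lit 0, nat_lit 3, nat_lit 0], .rel (nat_lit 157) (nat_lit 2) [nat_lit 0, nat_lit 4, nat_lit 1, nat_lit 3, nat_lit 1, nat_lit 4, nat_lit 0], .rel (nat_lit 177) (nat_lit 6) [nat_lit 1, nat_lit 7, nat_lit 0, nat_lit 5, nat_lit 6, nat_lit 4, nat_lit 3], .rel (nat_lit 187) (nat_lit 3) [nat_lit 0, nat_lit 4, nat_lit 3, nat_lit 1, nat_lit 4, nat_lit 7, nat_lit 7], .rel (nat_lit 216) (nat_lit 4) [nat_lit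 3, nat_lit 6, nat_lit 6, nat_lit 0, nat_lit 3, nat_lit 3, nat_lit 0], .rel (nat_lit 242) (nat_lit 5) [nat_lit 7, nat_lit 5, nat_lit 0, nat_lit 3, nat_lit 6, nat_lit 5, nat_lit 1], .rel (nat_lit 248) (nat_lit 6) [nat_lit 6, nat_lit 0, nat_lit 4, nat_lit 3, nat_lit 0, nat_lit 6, nat_lit 4], .rel (nat_lit 279) (nat_lit 5) [nat_lit 1, nat_lit 8, nat_lit 4, nat_lit 2, nat_lit 8, nat_lit 4], .rel (nat_lit 280) (nat_lit 1) [nat_lit 3, nat_lit 9, nat_lit 5, nat_lit 5, nat_lit 3, nat_lit 3, nat_lit 8], .rel (nat_lit 282) (nat_lit 3) [nat_lit 9, nat_lit 4, nat_lit 7, nat_lit 5, nat_lit 8, nat_lit 2, nat_lit 6], .rel (nat_lit 286) (nat_lit 5) [nat_lit 9, nat_lit 1, nat_lit 5, nat_lit 1, nat_lit 8, nat_lit 2, nat_lit 8, nat_lit 4, nat_lit 9], .rel (nat_lit 287) (nat_lit 8) [nat_lit 9, nat_lit 0, nat_lit 4, nat_lit 0, nat_lit 8, nat_lit 2, nat_lit 8, nat_lit 5, nat_lit 9], .rel (nat_lit 305) (nat_lit 1) [nat_lit 4, nat_lit 9, nat_lit 10, nat_lit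 0, nat_lit 3, nat_lit 1, nat_lit 10, nat_lit 8], .rel (nat_lit 308) (nat_lit 6) [nat_lit 9, nat_lit 3, nat_lit 1, nat_lit 10, nat_lit 0, nat_lit 4, nat_lit 1, nat_lit 10, nat_lit 9], .rel (nat_lit 311) (nat_lit 2) [nat_lit 7, nat_lit 9, nat_lit 10, nat_lit 9, nat_lit 5, nat_lit 8, nat_lit 10, nat_lit 0, nat_lit 9], .rel (nat_lit 321) (nat_lit 1) [nat_lit 0, nat_lit 5, nat_lit 11, nat_lit 2, nat_lit 5, nat_lit 11, nat_lit 0], .rel (nat_lit 324) (nat_lit 3) [nat_lit 11, nat_lit 2, nat_lit 5, nat_lit 7, nat_lit 11, nat_lit 2, nat_lit 0], .rel (nat_lit 325) (nat_lit 6) [nat_lit 11, nat_lit 6, nat_lit 4, nat_lit 3, nat_lit 11, nat_lit 2, nat_lit 1], .rel (nat_lit 329) (nat_lit 8) [nat_lit 11, nat_lit 0, nat_lit 4, nat_lit 9, nat_lit 4, nat_lit 0, nat_lit 11, nat_lit 2, nat_lit 9], .rel (nat_lit 332) (nat_lit 2) [nat_lit 11, nat_lit 5, nat_lit 2, nat_lit 4, nat_lit 3, nat_lit 1, nat_lit 11, nat_lit 3]],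
  [.rel (nat_lit 8) (nat_lit 0) [nat_lit 5], .defn, .rel (nat_lit 36) (nat_lit 2) [nat_lit 1, nat_lit 2, nat_lit 4, nat_lit 0, nat_lit 2], .rel (nat_lit 45) (nat_lit 0) [nat_lit 3, nat_lit 3, nat_lit 5, nat_lit 3, nat_lit 3], .rel (nat_lit 292) (nat_lit 3) [nat_lit 4, nat_lit 10, nat_lit 0, nat_lit 0, nat_lit 10], .rel (nat_lit 30) (nat_lit 0) [nat_lit 4, nat_lit 4, nat_lit 4], .rel (nat_lit 312) (nat_lit 4) [nat_lit 2, nat_lit 0, nat_lit 11, nat_lit 7, nat_lit 11], .rel (nat_lit 296) (nat_lit 4) [nat_lit 10, nat_lit 2, nat_lit 4, nat_lit 6, nat_lit 10], .rel (nat_lit 298) (nat_lit 0) [nat_lit 4, nat_lit 6, nat_lit 9, nat_lit 6, nat_lit 8], .rel (nat_lit 50) (nat_lit 1) [nat_lit 6, nat_lit 4, nat_lit 4, nat_lit 7, nat_lit 4], .rel (nat_lit 50) (nat_lit 4) [nat_lit 7, nat_lit 4, nat_lit 4, nat_lit 6, nat_lit 4], .rel (nat_lit 272) (nat_lit 4) [nat_lit 9, nat_lit 0, nat_lit 8, nat_lit 1, nat_lit 4], .rel (nat_lit 296) (nat_lit 1) [nat_lit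 6, nat_lit 10, nat_lit 4, nat_lit 10, nat_lit 2], .rel (nat_lit 271) (nat_lit 1) [nat_lit 9, nat_lit 9, nat_lit 2, nat_lit 1, nat_lit 7], .rel (nat_lit 36) (nat_lit 5) [nat_lit 0, nat_lit 2, nat_lit 4, nat_lit 1, nat_lit 2], .rel (nat_lit 272) (nat_lit 3) [nat_lit 4, nat_lit 9, nat_lit 0, nat_lit 8, nat_lit 1], .rel (nat_lit 318) (nat_lit 1) [nat_lit 11, nat_lit 4, nat_lit 7, nat_lit 5, nat_lit 11, nat_lit 2], .rel (nat_lit 50) (nat_lit 0) [nat_lit 4, nat_lit 6, nat_lit 4, nat_lit 4, nat_lit 7], .rel (nat_lit 49) (nat_lit 2) [nat_lit 3, nat_lit 4, nat_lit 3, nat_lit 7, nat_lit 7], .rel (nat_lit 298) (nat_lit 1) [nat_lit 6, nat_lit 9, nat_lit 6, nat_lit 8, nat_lit 4], .rel (nat_lit 46) (nat_lit 5) [nat_lit 2, nat_lit 4, nat_lit 2, nat_lit 6, nat_lit 6], .rel (nat_lit 292) (nat_lit 4) [nat_lit 10, nat_lit 0, nat_lit 0, nat_lit 10, nat_lit 4], .rel (nat_lit 44) (nat_lit 2) [nat_lit 2, nat_lit 2, nat_lit 5, nat_lit 2, nat_lit 2], .rel (nat_lit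 46) (nat_lit 1) [nat_lit 2, nat_lit 6, nat_lit 6, nat_lit 4, nat_lit 2], .rel (nat_lit 50) (nat_lit 3) [nat_lit 4, nat_lit 7, nat_lit 4, nat_lit 4, nat_lit 6], .rel (nat_lit 302) (nat_lit 4) [nat_lit 8, nat_lit 2, nat_lit 1, nat_lit 10, nat_lit 2, nat_lit 10, nat_lit 8], .rel (nat_lit 310) (nat_lit 2) [nat_lit 8, nat_lit 10, nat_lit 8, nat_lit 6, nat_lit 2, nat_lit 8, nat_lit 1, nat_lit 10, nat_lit 9], .rel (nat_lit 279) (nat_lit 4) [nat_lit 3, nat_lit 1, nat_lit 8, nat_lit 4, nat_lit 2, nat_lit 8], .rel (nat_lit 279) (nat_lit 1) [nat_lit 2, nat_lit 8, nat_lit 4, nat_lit 3, nat_lit 1, nat_lit 8], .rel (nat_lit 282) (nat_lit 5) [nat_lit 7, nat_lit 5, nat_lit 8, nat_lit 2, nat_lit 6, nat_lit 3, nat_lit 9], .rel (nat_lit 318) (nat_lit 3) [nat_lit 7, nat_lit 5, nat_lit 11, nat_lit 2, nat_lit 4, nat_lit 11], .rel (nat_lit 54) (nat_lit 5) [nat_lit 1, nat_lit 5, nat_lit 0, nat_lit 0, nat_lit 2, nat_lit 0, nat_lit 3], .rel (nat_lit 153) (nat_lit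 2) [nat_lit 0, nat_lit 2, nat_lit 1, nat_lit 3, nat_lit 1, nat_lit 5, nat_lit 0], .rel (nat_lit 277) (nat_lit 2) [nat_lit 9, nat_lit 5, nat_lit 3, nat_lit 1, nat_lit 9, nat_lit 3], .rel (nat_lit 283) (nat_lit 0) [nat_lit 6, nat_lit 5, nat_lit 8, nat_lit 2, nat_lit 7, nat_lit 3, nat_lit 9], .rel (nat_lit 319) (nat_lit 1) [nat_lit 6, nat_lit 5, nat_lit 11, nat_lit 5, nat_lit 3, nat_lit 11], .rel (nat_lit 320) (nat_lit 1) [nat_lit 3, nat_lit 11, nat_lit 4, nat_lit 1, nat_lit 2, nat_lit 1, nat_lit 11], .rel (nat_lit 323) (nat_lit 4) [nat_lit 11, nat_lit 9, nat_lit 11, nat_lit 0, nat_lit 8, nat_lit 5, nat_lit 8], .rel (nat_lit 329) (nat_lit 1) [nat_lit 9, nat_lit 4, nat_lit 0, nat_lit 11, nat_lit 2, nat_lit 9, nat_lit 3, nat_lit 11, nat_lit 0], .sub (nat_lit 8) [] [], .rel (nat_lit 102) (nat_lit 3) [nat_lit 6, nat_lit 5, nat_lit 2, nat_lit 7, nat_lit 0, nat_lit 0, nat_lit 3], .rel (nat_lit 103) (nat_lit 2) [nat_lit 7, nat_lit 5, nat_lit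 2, nat_lit 1, nat_lit 1, nat_lit 6, nat_lit 3], .rel (nat_lit 104) (nat_lit 6) [nat_lit 2, nat_lit 0, nat_lit 0, nat_lit 3, nat_lit 5, nat_lit 0, nat_lit 0], .rel (nat_lit 130) (nat_lit 6) [nat_lit 6, nat_lit 0, nat_lit 0, nat_lit 5, nat_lit 2, nat_lit 2, nat_lit 6], .rel (nat_lit 132) (nat_lit 6) [nat_lit 7, nat_lit 0, nat_lit 0, nat_lit 5, nat_lit 2, nat_lit 6, nat_lit 3], .rel (nat_lit 139) (nat_lit 5) [nat_lit 1, nat_lit 1, nat_lit 2, nat_lit 2, nat_lit 7, nat_lit 5, nat_lit 7], .rel (nat_lit 152) (nat_lit 7) [nat_lit 0, nat_lit 2, nat_lit 0, nat_lit 3, nat_lit 1, nat_lit 5, nat_lit 1], .rel (nat_lit 155) (nat_lit 2) [nat_lit 1, nat_lit 5, nat_lit 1, nat_lit 3, nat_lit 1, nat_lit 2, nat_lit 0], .rel (nat_lit 163) (nat_lit 2) [nat_lit 1, nat_lit 5, nat_lit 0, nat_lit 3, nat_lit 1, nat_lit 2, nat_lit 1], .rel (nat_lit 169) (nat_lit 0) [nat_lit 3, nat_lit 4, nat_lit 2, nat_lit 1, nat_lit 3, nat_lit 3, nat_lit 1], .rel (nat_lit 181)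 (nat_lit 2) [nat_lit 0, nat_lit 6, nat_lit 5, nat_lit 3, nat_lit 1, nat_lit 3, nat_lit 6], .rel (nat_lit 194) (nat_lit 6) [nat_lit 3, nat_lit 0, nat_lit 2, nat_lit 5, nat_lit 6, nat_lit 0, nat_lit 6], .rel (nat_lit 211) (nat_lit 4) [nat_lit 6, nat_lit 3, nat_lit 1, nat_lit 2, nat_lit 7, nat_lit 5, nat_lit 0], .rel (nat_lit 222) (nat_lit 2) [nat_lit 0, nat_lit 4, nat_lit 2, nat_lit 4, nat_lit 4, nat_lit 0, nat_lit 3], .rel (nat_lit 226) (nat_lit 2) [nat_lit 6, nat_lit 0, nat_lit 5, nat_lit 2, nat_lit 6, nat_lit 0, nat_lit 3], .rel (nat_lit 233) (nat_lit 5) [nat_lit 2, nat_lit 1, nat_lit 5, nat_lit 2, nat_lit 5, nat_lit 5, nat_lit 1], .rel (nat_lit 276) (nat_lit 2) [nat_lit 8, nat_lit 5, nat_lit 2, nat_lit 8, nat_lit 0, nat_lit 2], .rel (nat_lit 281) (nat_lit 2) [nat_lit 4, nat_lit 8, nat_lit 2, nat_lit 2, nat_lit 9, nat_lit 2, nat_lit 2], .rel (nat_lit 281) (nat_lit 3) [nat_lit 8, nat_lit 2, nat_lit 2, nat_lit 9, nat_lit 2, nat_lit 2,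 nat_lit 4], .rel (nat_lit 307) (nat_lit 0) [nat_lit 7, nat_lit 8, nat_lit 2, nat_lit 10, nat_lit 9, nat_lit 10, nat_lit 1, nat_lit 10], .rel (nat_lit 308) (nat_lit 2) [nat_lit 1, nat_lit 10, nat_lit 9, nat_lit 3, nat_lit 9, nat_lit 3, nat_lit 1, nat_lit 10, nat_lit 0], .rel (nat_lit 315) (nat_lit 1) [nat_lit 11, nat_lit 0, nat_lit 11, nat_lit 3, nat_lit 1, nat_lit 7], .rel (nat_lit 329) (nat_lit 3) [nat_lit 0, nat_lit 11, nat_lit 2, nat_lit 9, nat_lit 3, nat_lit 11, nat_lit 0, nat_lit 4, nat_lit 9], .rel (nat_lit 331) (nat_lit 2) [nat_lit 8, nat_lit 0, nat_lit 8, nat_lit 11, nat_lit 2, nat_lit 11, nat_lit 3, nat_lit 11, nat_lit 0, nat_lit 0]],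
  [.rel (nat_lit 8) (nat_lit 1) [nat_lit 4], .rel (nat_lit 31) (nat_lit 0) [nat_lit 5, nat_lit 5, nat_lit 5], .defn, .rel (nat_lit 45) (nat_lit 3) [nat_lit 3, nat_lit 3, nat_lit 4, nat_lit 3, nat_lit 3], .rel (nat_lit 293) (nat_lit 1) [nat_lit 5, nat_lit 10, nat_lit 1, nat_lit 1, nat_lit 10], .rel (nat_lit 297) (nat_lit 1) [nat_lit 10, nat_lit 7, nat_lit 5, nat_lit 3, nat_lit 10], .rel (nat_lit 37) (nat_lit 0) [nat_lit 3, nat_lit 0, nat_lit 5, nat_lit 3, nat_lit 1], .rel (nat_lit 273) (nat_lit 1) [nat_lit 5, nat_lit 0, nat_lit 9, nat_lit 1, nat_lit 8], .rel (nat_lit 47) (nat_lit 0) [nat_lit 7, nat_lit 7, nat_lit 3, nat_lit 5, nat_lit 3], .rel (nat_lit 270) (nat_lit 4) [nat_lit 6, nat_lit 0, nat_lit 3, nat_lit 8, nat_lit 8], .rel (nat_lit 37) (nat_lit 3) [nat_lit 3, nat_lit 1, nat_lit 5, nat_lit 3, nat_lit 0], .rel (nat_lit 313) (nat_lit 1) [nat_lit 11, nat_lit 6, nat_lit 11, nat_lit 1, nat_lit 3], .rel (nat_lit 44) (nat_lit 5) [nat_lit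 2, nat_lit 2, nat_lit 4, nat_lit 2, nat_lit 2], .rel (nat_lit 51) (nat_lit 1) [nat_lit 5, nat_lit 7, nat_lit 5, nat_lit 5, nat_lit 6], .rel (nat_lit 48) (nat_lit 3) [nat_lit 6, nat_lit 6, nat_lit 2, nat_lit 5, nat_lit 2], .rel (nat_lit 48) (nat_lit 1) [nat_lit 2, nat_lit 5, nat_lit 6, nat_lit 6, nat_lit 2], .rel (nat_lit 51) (nat_lit 2) [nat_lit 7, nat_lit 5, nat_lit 5, nat_lit 6, nat_lit 5], .rel (nat_lit 51) (nat_lit 4) [nat_lit 5, nat_lit 6, nat_lit 5, nat_lit 5, nat_lit 7], .rel (nat_lit 293) (nat_lit 2) [nat_lit 10, nat_lit 1, nat_lit 1, nat_lit 10, nat_lit 5], .rel (nat_lit 319) (nat_lit 5) [nat_lit 3, nat_lit 11, nat_lit 4, nat_lit 6, nat_lit 5, nat_lit 11], .rel (nat_lit 297) (nat_lit 4) [nat_lit 3, nat_lit 10, nat_lit 5, nat_lit 10, nat_lit 7], .rel (nat_lit 321) (nat_lit 6) [nat_lit 11, nat_lit 0, nat_lit 3, nat_lit 0, nat_lit 5, nat_lit 11, nat_lit 2], .rel (nat_lit 311) (nat_lit 7) [nat_lit 8, nat_lit 10, nat_lit 0, nat_lit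 9, nat_lit 3, nat_lit 7, nat_lit 9, nat_lit 10, nat_lit 9], .rel (nat_lit 299) (nat_lit 5) [nat_lit 9, nat_lit 7, nat_lit 8, nat_lit 7, nat_lit 5], .rel (nat_lit 51) (nat_lit 5) [nat_lit 6, nat_lit 5, nat_lit 5, nat_lit 7, nat_lit 5], .rel (nat_lit 299) (nat_lit 4) [nat_lit 5, nat_lit 9, nat_lit 7, nat_lit 8, nat_lit 7], .rel (nat_lit 47) (nat_lit 4) [nat_lit 3, nat_lit 5, nat_lit 7, nat_lit 7, nat_lit 3], .rel (nat_lit 57) (nat_lit 0) [nat_lit 0, nat_lit 3, nat_lit 5, nat_lit 1, nat_lit 3, nat_lit 1, nat_lit 1], .rel (nat_lit 328) (nat_lit 8) [nat_lit 1, nat_lit 11, nat_lit 2, nat_lit 8, nat_lit 3, nat_lit 11, nat_lit 1, nat_lit 5, nat_lit 8], .rel (nat_lit 273) (nat_lit 2) [nat_lit 0, nat_lit 9, nat_lit 1, nat_lit 8, nat_lit 5], .rel (nat_lit 276) (nat_lit 4) [nat_lit 2, nat_lit 8, nat_lit 0, nat_lit 2, nat_lit 4, nat_lit 8], .rel (nat_lit 303) (nat_lit 3) [nat_lit 9, nat_lit 10, nat_lit 3, nat_lit 10, nat_lit 0, nat_lit 3, nat_lit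 9], .rel (nat_lit 322) (nat_lit 3) [nat_lit 9, nat_lit 4, nat_lit 9, nat_lit 1, nat_lit 11, nat_lit 8, nat_lit 11], .rel (nat_lit 332) (nat_lit 4) [nat_lit 2, nat_lit 4, nat_lit 3, nat_lit 1, nat_lit 11, nat_lit 3, nat_lit 3, nat_lit 11], .rel (nat_lit 80) (nat_lit 3) [nat_lit 0, nat_lit 0, nat_lit 4, nat_lit 3, nat_lit 0, nat_lit 0, nat_lit 2], .rel (nat_lit 278) (nat_lit 2) [nat_lit 9, nat_lit 3, nat_lit 5, nat_lit 9, nat_lit 0, nat_lit 2], .rel (nat_lit 278) (nat_lit 5) [nat_lit 9, nat_lit 0, nat_lit 2, nat_lit 5, nat_lit 9, nat_lit 3], .rel (nat_lit 287) (nat_lit 6) [nat_lit 9, nat_lit 3, nat_lit 9, nat_lit 0, nat_lit 4, nat_lit 0, nat_lit 8, nat_lit 2, nat_lit 8], .rel (nat_lit 314) (nat_lit 5) [nat_lit 6, nat_lit 0, nat_lit 2, nat_lit 11, nat_lit 1, nat_lit 11], .rel (nat_lit 323) (nat_lit 2) [nat_lit 8, nat_lit 4, nat_lit 11, nat_lit 9, nat_lit 11, nat_lit 0, nat_lit 8], .rel (nat_lit 328) (nat_lit 6) [nat_lit 8, nat_lit 5, nat_lit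 1, nat_lit 11, nat_lit 2, nat_lit 8, nat_lit 3, nat_lit 11, nat_lit 1], .sub (nat_lit 10) [] [], .rel (nat_lit 55) (nat_lit 2) [nat_lit 2, nat_lit 1, nat_lit 3, nat_lit 1, nat_lit 1, nat_lit 4, nat_lit 0], .rel (nat_lit 65) (nat_lit 0) [nat_lit 1, nat_lit 3, nat_lit 5, nat_lit 0, nat_lit 3, nat_lit 1, nat_lit 1], .rel (nat_lit 81) (nat_lit 1) [nat_lit 1, nat_lit 1, nat_lit 4, nat_lit 3, nat_lit 1, nat_lit 1, nat_lit 2], .rel (nat_lit 84) (nat_lit 3) [nat_lit 7, nat_lit 4, nat_lit 7, nat_lit 2, nat_lit 0, nat_lit 0, nat_lit 2], .rel (nat_lit 97) (nat_lit 0) [nat_lit 0, nat_lit 4, nat_lit 3, nat_lit 0, nat_lit 2, nat_lit 1, nat_lit 1], .rel (nat_lit 102) (nat_lit 5) [nat_lit 2, nat_lit 7, nat_lit 0, nat_lit 0, nat_lit 3, nat_lit 4, nat_lit 6], .rel (nat_lit 108) (nat_lit 3) [nat_lit 7, nat_lit 3, nat_lit 5, nat_lit 7, nat_lit 0, nat_lit 0, nat_lit 3], .rel (nat_lit 118) (nat_lit 6) [nat_lit 5, nat_lit 0, nat_lit 0, nat_lit 4, nat_lit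 4, nat_lit 0, nat_lit 0], .rel (nat_lit 118) (nat_lit 7) [nat_lit 0, nat_lit 0, nat_lit 4, nat_lit 4, nat_lit 0, nat_lit 0, nat_lit 5], .rel (nat_lit 128) (nat_lit 2) [nat_lit 1, nat_lit 7, nat_lit 0, nat_lit 7, nat_lit 4, nat_lit 0, nat_lit 0], .rel (nat_lit 136) (nat_lit 2) [nat_lit 6, nat_lit 0, nat_lit 6, nat_lit 1, nat_lit 4, nat_lit 0, nat_lit 0], .rel (nat_lit 141) (nat_lit 0) [nat_lit 6, nat_lit 3, nat_lit 5, nat_lit 2, nat_lit 7, nat_lit 1, nat_lit 1], .rel (nat_lit 154) (nat_lit 5) [nat_lit 1, nat_lit 3, nat_lit 0, nat_lit 2, nat_lit 0, nat_lit 4, nat_lit 0], .rel (nat_lit 162) (nat_lit 5) [nat_lit 0, nat_lit 3, nat_lit 0, nat_lit 2, nat_lit 1, nat_lit 4, nat_lit 0], .rel (nat_lit 184) (nat_lit 2) [nat_lit 0, nat_lit 6, nat_lit 4, nat_lit 3, nat_lit 7, nat_lit 0, nat_lit 2], .rel (nat_lit 189) (nat_lit 3) [nat_lit 0, nat_lit 4, nat_lit 3, nat_lit 1, nat_lit 6, nat_lit 3, nat_lit 6], .rel (nat_lit 206) (nat_lit 3) [nat_lit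 0, nat_lit 6, nat_lit 4, nat_lit 2, nat_lit 0, nat_lit 2, nat_lit 6], .rel (nat_lit 214) (nat_lit 3) [nat_lit 1, nat_lit 4, nat_lit 1, nat_lit 2, nat_lit 0, nat_lit 3, nat_lit 0], .rel (nat_lit 225) (nat_lit 3) [nat_lit 2, nat_lit 5, nat_lit 2, nat_lit 1, nat_lit 7, nat_lit 1, nat_lit 6], .rel (nat_lit 234) (nat_lit 7) [nat_lit 0, nat_lit 3, nat_lit 5, nat_lit 0, nat_lit 7, nat_lit 2, nat_lit 7], .rel (nat_lit 244) (nat_lit 5) [nat_lit 6, nat_lit 2, nat_lit 0, nat_lit 3, nat_lit 7, nat_lit 4, nat_lit 0], .rel (nat_lit 251) (nat_lit 1) [nat_lit 6, nat_lit 1, nat_lit 7, nat_lit 2, nat_lit 5, nat_lit 1, nat_lit 2], .rel (nat_lit 251) (nat_lit 6) [nat_lit 1, nat_lit 2, nat_lit 5, nat_lit 6, nat_lit 1, nat_lit 7, nat_lit 2], .rel (nat_lit 277) (nat_lit 4) [nat_lit 3, nat_lit 1, nat_lit 9, nat_lit 3, nat_lit 4, nat_lit 9], .rel (nat_lit 282) (nat_lit 7) [nat_lit 8, nat_lit 2, nat_lit 6, nat_lit 3, nat_lit 9, nat_lit 4, nat_lit 7], .rel (nat_lit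 285) (nat_lit 7) [nat_lit 9, nat_lit 0, nat_lit 2, nat_lit 1, nat_lit 3, nat_lit 7, nat_lit 8, nat_lit 2]],
  [.rel (nat_lit 12) (nat_lit 0) [nat_lit 7], .rel (nat_lit 313) (nat_lit 3) [nat_lit 11, nat_lit 1, nat_lit 3, nat_lit 5, nat_lit 11], .defn, .rel (nat_lit 39) (nat_lit 3) [nat_lit 3, nat_lit 1, nat_lit 7, nat_lit 1, nat_lit 3], .rel (nat_lit 28) (nat_lit 1) [nat_lit 2, nat_lit 6, nat_lit 2], .rel (nat_lit 274) (nat_lit 5) [nat_lit 0, nat_lit 8, nat_lit 1, nat_lit 6, nat_lit 9], .rel (nat_lit 298) (nat_lit 4) [nat_lit 8, nat_lit 4, nat_lit 4, nat_lit 6, nat_lit 9], .rel (nat_lit 35) (nat_lit 0) [nat_lit 1, nat_lit 1, nat_lit 7, nat_lit 1, nat_lit 1], .rel (nat_lit 48) (nat_lit 4) [nat_lit 6, nat_lit 2, nat_lit 5, nat_lit 2, nat_lit 5], .rel (nat_lit 38) (nat_lit 5) [nat_lit 0, nat_lit 2, nat_lit 7, nat_lit 2, nat_lit 0], .rel (nat_lit 32) (nat_lit 0) [nat_lit 6, nat_lit 6, nat_lit 6], .rel (nat_lit 46) (nat_lit 4) [nat_lit 4,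 nat_lit 2, nat_lit 4, nat_lit 2, nat_lit 6], .rel (nat_lit 50) (nat_lit 2) [nat_lit 4, nat_lit 4, nat_lit 7, nat_lit 4, nat_lit 4], .rel (nat_lit 296) (nat_lit 2) [nat_lit 10, nat_lit 4, nat_lit 10, nat_lit 2, nat_lit 4], .rel (nat_lit 42) (nat_lit 2) [nat_lit 1, nat_lit 6, nat_lit 6, nat_lit 0, nat_lit 6], .rel (nat_lit 51) (nat_lit 0) [nat_lit 5, nat_lit 5, nat_lit 7, nat_lit 5, nat_lit 5], .rel (nat_lit 274) (nat_lit 3) [nat_lit 9, nat_lit 6, nat_lit 0, nat_lit 8, nat_lit 1], .rel (nat_lit 42) (nat_lit 1) [nat_lit 6, nat_lit 1, nat_lit 6, nat_lit 6, nat_lit 0], .rel (nat_lit 34) (nat_lit 2) [nat_lit 0, nat_lit 0, nat_lit 7, nat_lit 0, nat_lit 0], .rel (nat_lit 270) (nat_lit 5) [nat_lit 0, nat_lit 3, nat_lit 8, nat_lit 8, nat_lit 5], .rel (nat_lit 301) (nat_lit 4) [nat_lit 10, nat_lit 1, nat_lit 9, nat_lit 2, nat_lit 9, nat_lit 10], .rel (nat_lit 294) (nat_lit 1) [nat_lit 8, nat_lit 7, nat_lit 1, nat_lit 9, nat_lit 0], .rel (nat_lit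 42) (nat_lit 4) [nat_lit 6, nat_lit 0, nat_lit 6, nat_lit 6, nat_lit 1], .rel (nat_lit 41) (nat_lit 0) [nat_lit 1, nat_lit 2, nat_lit 7, nat_lit 2, nat_lit 1], .rel (nat_lit 42) (nat_lit 5) [nat_lit 0, nat_lit 6, nat_lit 6, nat_lit 1, nat_lit 6], .rel (nat_lit 46) (nat_lit 3) [nat_lit 6, nat_lit 4, nat_lit 2, nat_lit 4, nat_lit 2], .rel (nat_lit 48) (nat_lit 5) [nat_lit 2, nat_lit 5, nat_lit 2, nat_lit 5, nat_lit 6], .rel (nat_lit 295) (nat_lit 2) [nat_lit 9, nat_lit 7, nat_lit 1, nat_lit 8, nat_lit 0], .rel (nat_lit 325) (nat_lit 0) [nat_lit 4, nat_lit 3, nat_lit 11, nat_lit 2, nat_lit 1, nat_lit 3, nat_lit 11], .rel (nat_lit 298) (nat_lit 2) [nat_lit 9, nat_lit 6, nat_lit 8, nat_lit 4, nat_lit 4], .rel (nat_lit 310) (nat_lit 6) [nat_lit 2, nat_lit 8, nat_lit 1, nat_lit 10, nat_lit 9, nat_lit 4, nat_lit 8, nat_lit 10, nat_lit 8], .rel (nat_lit 319) (nat_lit 2) [nat_lit 5, nat_lit 11, nat_lit 5, nat_lit 3, nat_lit 11, nat_lit 4], .sub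 (nat_lit 12) [] [], .rel (nat_lit 58) (nat_lit 4) [nat_lit 1, nat_lit 6, nat_lit 3, nat_lit 0, nat_lit 0, nat_lit 2, nat_lit 0], .rel (nat_lit 88) (nat_lit 3) [nat_lit 5, nat_lit 2, nat_lit 6, nat_lit 5, nat_lit 0, nat_lit 0, nat_lit 2], .rel (nat_lit 110) (nat_lit 3) [nat_lit 5, nat_lit 7, nat_lit 2, nat_lit 5, nat_lit 0, nat_lit 0, nat_lit 3], .rel (nat_lit 282) (nat_lit 2) [nat_lit 3, nat_lit 9, nat_lit 4, nat_lit 7, nat_lit 5, nat_lit 8, nat_lit 2]],
  [.rel (nat_lit 12) (nat_lit 1) [nat_lit 6], .rel (nat_lit 312) (nat_lit 2) [nat_lit 11, nat_lit 4, nat_lit 2, nat_lit 0, nat_lit 11], .rel (nat_lit 33) (nat_lit 0) [nat_lit 7, nat_lit 7, nat_lit 7], .rel (nat_lit 29) (nat_lit 0) [nat_lit 3, nat_lit 7, nat_lit 3], .defn, .rel (nat_lit 275) (nat_lit 2) [nat_lit 0, nat_lit 9, nat_lit 1, nat_lit 7, nat_lit 8], .rel (nat_lit 38) (nat_lit 2) [nat_lit 2, nat_lit 0, nat_lit 6, nat_lit 0, nat_lit 2], .rel (nat_lit 295) (nat_lit 4) [nat_lit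 1, nat_lit 8, nat_lit 0, nat_lit 6, nat_lit 9], .rel (nat_lit 297) (nat_lit 3) [nat_lit 5, nat_lit 3, nat_lit 10, nat_lit 5, nat_lit 10], .rel (nat_lit 299) (nat_lit 1) [nat_lit 8, nat_lit 7, nat_lit 5, nat_lit 5, nat_lit 9], .rel (nat_lit 35) (nat_lit 3) [nat_lit 1, nat_lit 1, nat_lit 6, nat_lit 1, nat_lit 1], .rel (nat_lit 47) (nat_lit 1) [nat_lit 7, nat_lit 3, nat_lit 5, nat_lit 3, nat_lit 5], .rel (nat_lit 40) (nat_lit 5) [nat_lit 0, nat_lit 3, nat_lit 6, nat_lit 3, nat_lit 0], .rel (nat_lit 50) (nat_lit 5) [nat_lit 4, nat_lit 4, nat_lit 6, nat_lit 4, nat_lit 4], .rel (nat_lit 49) (nat_lit 1) [nat_lit 4, nat_lit 3, nat_lit 4, nat_lit 3, nat_lit 7], .rel (nat_lit 34) (nat_lit 5) [nat_lit 0, nat_lit 0, nat_lit 6, nat_lit 0, nat_lit 0], .rel (nat_lit 51) (nat_lit 3) [nat_lit 5, nat_lit 5, nat_lit 6, nat_lit 5, nat_lit 5], .rel (nat_lit 294) (nat_lit 3) [nat_lit 1, nat_lit 9, nat_lit 0, nat_lit 6, nat_lit 8], .rel (nat_lit 43) (nat_lit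 3) [nat_lit 7, nat_lit 1, nat_lit 7, nat_lit 7, nat_lit 0], .rel (nat_lit 271) (nat_lit 0) [nat_lit 4, nat_lit 9, nat_lit 9, nat_lit 2, nat_lit 1], .rel (nat_lit 275) (nat_lit 0) [nat_lit 8, nat_lit 7, nat_lit 0, nat_lit 9, nat_lit 1], .rel (nat_lit 300) (nat_lit 2) [nat_lit 10, nat_lit 8, nat_lit 3, nat_lit 8, nat_lit 0, nat_lit 10], .rel (nat_lit 43) (nat_lit 0) [nat_lit 7, nat_lit 0, nat_lit 7, nat_lit 7, nat_lit 1], .rel (nat_lit 39) (nat_lit 0) [nat_lit 1, nat_lit 3, nat_lit 6, nat_lit 3, nat_lit 1], .rel (nat_lit 299) (nat_lit 3) [nat_lit 5, nat_lit 5, nat_lit 9, nat_lit 7, nat_lit 8], .rel (nat_lit 43) (nat_lit 4) [nat_lit 1, nat_lit 7, nat_lit 7, nat_lit 0, nat_lit 7], .rel (nat_lit 47) (nat_lit 2) [nat_lit 3, nat_lit 5, nat_lit 3, nat_lit 5, nat_lit 7], .rel (nat_lit 311) (nat_lit 3) [nat_lit 9, nat_lit 10, nat_lit 9, nat_lit 5, nat_lit 8, nat_lit 10, nat_lit 0, nat_lit 9, nat_lit 3], .sub (nat_lit 14) [] [], .rel (nat_lit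 41) (nat_lit 3) [nat_lit 2, nat_lit 1, nat_lit 6, nat_lit 1, nat_lit 2], .rel (nat_lit 43) (nat_lit 1) [nat_lit 0, nat_lit 7, nat_lit 7, nat_lit 1, nat_lit 7], .rel (nat_lit 49) (nat_lit 0) [nat_lit 7, nat_lit 4, nat_lit 3, nat_lit 4, nat_lit 3], .rel (nat_lit 76) (nat_lit 5) [nat_lit 4, nat_lit 6, nat_lit 0, nat_lit 0, nat_lit 2, nat_lit 4, nat_lit 3], .rel (nat_lit 84) (nat_lit 4) [nat_lit 4, nat_lit 7, nat_lit 2, nat_lit 0, nat_lit 0, nat_lit 2, nat_lit 5], .rel (nat_lit 201) (nat_lit 5) [nat_lit 3, nat_lit 1, nat_lit 4, nat_lit 6, nat_lit 5, nat_lit 1, nat_lit 2], .rel (nat_lit 227) (nat_lit 4) [nat_lit 5, nat_lit 2, nat_lit 1, nat_lit 7, nat_lit 3, nat_lit 4, nat_lit 1], .rel (nat_lit 262) (nat_lit 2) [nat_lit 4, nat_lit 0, nat_lit 7, nat_lit 2, nat_lit 2, nat_lit 0, nat_lit 5], .rel (nat_lit 266) (nat_lit 3) [nat_lit 2, nat_lit 7, nat_lit 5, nat_lit 5, nat_lit 2, nat_lit 4, nat_lit 4], .rel (nat_lit 283) (nat_lit 5) [nat_lit 3,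 nat_lit 9, nat_lit 4, nat_lit 6, nat_lit 5, nat_lit 8, nat_lit 2], .rel (nat_lit 318) (nat_lit 4) [nat_lit 5, nat_lit 11, nat_lit 2, nat_lit 4, nat_lit 11, nat_lit 4]],
  [.rel (nat_lit 16) (nat_lit 0) [nat_lit 9], .defn, .rel (nat_lit 290) (nat_lit 0) [nat_lit 8, nat_lit 8, nat_lit 8], .rel (nat_lit 322) (nat_lit 1) [nat_lit 11, nat_lit 5, nat_lit 9, nat_lit 4, nat_lit 9, nat_lit 1, nat_lit 11], .rel (nat_lit 270) (nat_lit 3) [nat_lit 5, nat_lit 6, nat_lit 0, nat_lit 3, nat_lit 8], .rel (nat_lit 272) (nat_lit 1) [nat_lit 1, nat_lit 4, nat_lit 4, nat_lit 9, nat_lit 0], .rel (nat_lit 270) (nat_lit 2) [nat_lit 8, nat_lit 5, nat_lit 6, nat_lit 0, nat_lit 3], .rel (nat_lit 273) (nat_lit 0) [nat_lit 5, nat_lit 5, nat_lit 0, nat_lit 9, nat_lit 1], .rel (nat_lit 275) (nat_lit 1) [nat_lit 7, nat_lit 0, nat_lit 9, nat_lit 1, nat_lit 7], .rel (nat_lit 294) (nat_lit 2) [nat_lit 7, nat_lit 1, nat_lit 9, nat_lit 0, nat_lit 6], .rel (nat_lit 274)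 (nat_lit 1) [nat_lit 1, nat_lit 6, nat_lit 9, nat_lit 6, nat_lit 0], .rel (nat_lit 295) (nat_lit 0) [nat_lit 0, nat_lit 6, nat_lit 9, nat_lit 7, nat_lit 1], .rel (nat_lit 298) (nat_lit 5) [nat_lit 4, nat_lit 4, nat_lit 6, nat_lit 9, nat_lit 6], .rel (nat_lit 300) (nat_lit 4) [nat_lit 3, nat_lit 8, nat_lit 0, nat_lit 10, nat_lit 7, nat_lit 10], .rel (nat_lit 328) (nat_lit 2) [nat_lit 3, nat_lit 11, nat_lit 1, nat_lit 5, nat_lit 8, nat_lit 5, nat_lit 1, nat_lit 11, nat_lit 2], .rel (nat_lit 323) (nat_lit 3) [nat_lit 4, nat_lit 11, nat_lit 9, nat_lit 11, nat_lit 0, nat_lit 8, nat_lit 5], .rel (nat_lit 328) (nat_lit 7) [nat_lit 5, nat_lit 1, nat_lit 11, nat_lit 2, nat_lit 8, nat_lit 3, nat_lit 11, nat_lit 1, nat_lit 5], .rel (nat_lit 276) (nat_lit 6) [nat_lit 0, nat_lit 2, nat_lit 4, nat_lit 8, nat_lit 5, nat_lit 2], .rel (nat_lit 279) (nat_lit 0) [nat_lit 4, nat_lit 2, nat_lit 8, nat_lit 4, nat_lit 3, nat_lit 1], .rel (nat_lit 306) (nat_lit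 3) [nat_lit 10, nat_lit 3, nat_lit 9, nat_lit 6, nat_lit 5, nat_lit 10, nat_lit 0, nat_lit 10], .rel (nat_lit 276) (nat_lit 3) [nat_lit 5, nat_lit 2, nat_lit 8, nat_lit 0, nat_lit 2, nat_lit 4], .rel (nat_lit 302) (nat_lit 3) [nat_lit 4, nat_lit 8, nat_lit 2, nat_lit 1, nat_lit 10, nat_lit 2, nat_lit 10], .rel (nat_lit 279) (nat_lit 3) [nat_lit 4, nat_lit 3, nat_lit 1, nat_lit 8, nat_lit 4, nat_lit 2], .rel (nat_lit 304) (nat_lit 5) [nat_lit 5, nat_lit 2, nat_lit 9, nat_lit 10, nat_lit 0, nat_lit 2, nat_lit 1, nat_lit 10], .rel (nat_lit 316) (nat_lit 4) [nat_lit 8, nat_lit 11, nat_lit 0, nat_lit 11, nat_lit 2, nat_lit 2], .sub (nat_lit 16) [] [], .rel (nat_lit 282) (nat_lit 0) [nat_lit 2, nat_lit 6, nat_lit 3, nat_lit 9, nat_lit 4, nat_lit 7, nat_lit 5], .rel (nat_lit 299) (nat_lit 2) [nat_lit 7, nat_lit 5, nat_lit 5, nat_lit 9, nat_lit 7], .rel (nat_lit 302) (nat_lit 5) [nat_lit 2, nat_lit 1, nat_lit 10, nat_lit 2, nat_lit 10, nat_lit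 8, nat_lit 4], .rel (nat_lit 307) (nat_lit 2) [nat_lit 2, nat_lit 10, nat_lit 9, nat_lit 10, nat_lit 1, nat_lit 10, nat_lit 4, nat_lit 7], .rel (nat_lit 309) (nat_lit 2) [nat_lit 2, nat_lit 8, nat_lit 10, nat_lit 0, nat_lit 5, nat_lit 1, nat_lit 10, nat_lit 0, nat_lit 2], .rel (nat_lit 310) (nat_lit 3) [nat_lit 10, nat_lit 8, nat_lit 6, nat_lit 2, nat_lit 8, nat_lit 1, nat_lit 10, nat_lit 9, nat_lit 4], .rel (nat_lit 310) (nat_lit 5) [nat_lit 6, nat_lit 2, nat_lit 8, nat_lit 1, nat_lit 10, nat_lit 9, nat_lit 4, nat_lit 8, nat_lit 10], .rel (nat_lit 311) (nat_lit 8) [nat_lit 10, nat_lit 0, nat_lit 9, nat_lit 3, nat_lit 7, nat_lit 9, nat_lit 10, nat_lit 9, nat_lit 5], .rel (nat_lit 323) (nat_lit 1) [nat_lit 5, nat_lit 8, nat_lit 4, nat_lit 11, nat_lit 9, nat_lit 11, nat_lit 0]],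
  [.rel (nat_lit 16) (nat_lit 1) [nat_lit 8], .rel (nat_lit 291) (nat_lit 0) [nat_lit 9, nat_lit 9, nat_lit 9], .defn, .rel (nat_lit 323) (nat_lit 6) [nat_lit 11, nat_lit 0, nat_lit 8, nat_lit 5, nat_lit 8, nat_lit 4, nat_lit 11], .rel (nat_lit 274) (nat_lit 4) [nat_lit 6, nat_lit 0, nat_lit 8, nat_lit 1, nat_lit 6], .rel (nat_lit 273) (nat_lit 4) [nat_lit 1, nat_lit 8, nat_lit 5, nat_lit 5, nat_lit 0], .rel (nat_lit 299) (nat_lit 0) [nat_lit 7, nat_lit 8, nat_lit 7, nat_lit 5, nat_lit 5], .rel (nat_lit 294) (nat_lit 5) [nat_lit 0, nat_lit 6, nat_lit 8, nat_lit 7, nat_lit 1], .rel (nat_lit 271) (nat_lit 2) [nat_lit 9, nat_lit 2, nat_lit 1, nat_lit 7, nat_lit 4], .rel (nat_lit 271) (nat_lit 3) [nat_lit 2, nat_lit 1, nat_lit 7, nat_lit 4, nat_lit 9], .rel (nat_lit 275) (nat_lit 4) [nat_lit 1, nat_lit 7, nat_lit 8, nat_lit 7, nat_lit 0], .rel (nat_lit 295) (nat_lit 3) [nat_lit 7, nat_lit 1, nat_lit 8, nat_lit 0, nat_lit 6], .rel (nat_lit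 272) (nat_lit 5) [nat_lit 0, nat_lit 8, nat_lit 1, nat_lit 4, nat_lit 4], .rel (nat_lit 298) (nat_lit 3) [nat_lit 6, nat_lit 8, nat_lit 4, nat_lit 4, nat_lit 6], .rel (nat_lit 322) (nat_lit 4) [nat_lit 4, nat_lit 9, nat_lit 1, nat_lit 11, nat_lit 8, nat_lit 11, nat_lit 5], .rel (nat_lit 329) (nat_lit 7) [nat_lit 3, nat_lit 11, nat_lit 0, nat_lit 4, nat_lit 9, nat_lit 4, nat_lit 0, nat_lit 11, nat_lit 2], .rel (nat_lit 303) (nat_lit 2) [nat_lit 5, nat_lit 9, nat_lit 10, nat_lit 3, nat_lit 10, nat_lit 0, nat_lit 3], .rel (nat_lit 317) (nat_lit 1) [nat_lit 9, nat_lit 3, nat_lit 3, nat_lit 11, nat_lit 1, nat_lit 11], .rel (nat_lit 329) (nat_lit 2) [nat_lit 4, nat_lit 0, nat_lit 11, nat_lit 2, nat_lit 9, nat_lit 3, nat_lit 11, nat_lit 0, nat_lit 4], .rel (nat_lit 278) (nat_lit 3) [nat_lit 3, nat_lit 5, nat_lit 9, nat_lit 0, nat_lit 2, nat_lit 5], .rel (nat_lit 301) (nat_lit 0) [nat_lit 2, nat_lit 9, nat_lit 10, nat_lit 6, nat_lit 10, nat_lit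 1], .rel (nat_lit 301) (nat_lit 2) [nat_lit 10, nat_lit 6, nat_lit 10, nat_lit 1, nat_lit 9, nat_lit 2], .rel (nat_lit 307) (nat_lit 5) [nat_lit 10, nat_lit 1, nat_lit 10, nat_lit 4, nat_lit 7, nat_lit 8, nat_lit 2, nat_lit 10], .rel (nat_lit 280) (nat_lit 3) [nat_lit 5, nat_lit 5, nat_lit 3, nat_lit 3, nat_lit 8, nat_lit 3, nat_lit 3], .rel (nat_lit 281) (nat_lit 7) [nat_lit 2, nat_lit 2, nat_lit 4, nat_lit 4, nat_lit 8, nat_lit 2, nat_lit 2], .rel (nat_lit 282) (nat_lit 4) [nat_lit 4, nat_lit 7, nat_lit 5, nat_lit 8, nat_lit 2, nat_lit 6, nat_lit 3], .rel (nat_lit 310) (nat_lit 1) [nat_lit 4, nat_lit 8, nat_lit 10, nat_lit 8, nat_lit 6, nat_lit 2, nat_lit 8, nat_lit 1, nat_lit 10], .rel (nat_lit 311) (nat_lit 4) [nat_lit 10, nat_lit 9, nat_lit 5, nat_lit 8, nat_lit 10, nat_lit 0, nat_lit 9, nat_lit 3, nat_lit 7], .sub (nat_lit 18) [] [], .rel (nat_lit 277) (nat_lit 0) [nat_lit 3, nat_lit 4, nat_lit 9, nat_lit 5, nat_lit 3, nat_lit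 1], .rel (nat_lit 278) (nat_lit 6) [nat_lit 0, nat_lit 2, nat_lit 5, nat_lit 9, nat_lit 3, nat_lit 5], .rel (nat_lit 283) (nat_lit 7) [nat_lit 4, nat_lit 6, nat_lit 5, nat_lit 8, nat_lit 2, nat_lit 7, nat_lit 3], .rel (nat_lit 284) (nat_lit 3) [nat_lit 6, nat_lit 2, nat_lit 0, nat_lit 3, nat_lit 1, nat_lit 8, nat_lit 4, nat_lit 3], .rel (nat_lit 289) (nat_lit 8) [nat_lit 3, nat_lit 9, nat_lit 0, nat_lit 2, nat_lit 4, nat_lit 7, nat_lit 8, nat_lit 2, nat_lit 8, nat_lit 1], .rel (nat_lit 304) (nat_lit 8) [nat_lit 10, nat_lit 0, nat_lit 2, nat_lit 1, nat_lit 10, nat_lit 8, nat_lit 5, nat_lit 2], .rel (nat_lit 305) (nat_lit 3) [nat_lit 10, nat_lit 0, nat_lit 3, nat_lit 1, nat_lit 10, nat_lit 8, nat_lit 3, nat_lit 4], .rel (nat_lit 306) (nat_lit 6) [nat_lit 6, nat_lit 5, nat_lit 10, nat_lit 0, nat_lit 10, nat_lit 8, nat_lit 10, nat_lit 3], .rel (nat_lit 308) (nat_lit 5) [nat_lit 3, nat_lit 9, nat_lit 3, nat_lit 1, nat_lit 10, nat_lit 0,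 nat_lit 4, nat_lit 1, nat_lit 10], .rel (nat_lit 308) (nat_lit 7) [nat_lit 3, nat_lit 1, nat_lit 10, nat_lit 0, nat_lit 4, nat_lit 1, nat_lit 10, nat_lit 9, nat_lit 3], .rel (nat_lit 322) (nat_lit 6) [nat_lit 1, nat_lit 11, nat_lit 8, nat_lit 11, nat_lit 5, nat_lit 9, nat_lit 4]],
  [.rel (nat_lit 20) (nat_lit 0) [nat_lit 10], .defn, .rel (nat_lit 297) (nat_lit 2) [nat_lit 7, nat_lit 5, nat_lit 3, nat_lit 10, nat_lit 5], .rel (nat_lit 293) (nat_lit 0) [nat_lit 5, nat_lit 5, nat_lit 10, nat_lit 1, nat_lit 1], .rel (nat_lit 293) (nat_lit 3) [nat_lit 1, nat_lit 1, nat_lit 10, nat_lit 5, nat_lit 5], .rel (nat_lit 292) (nat_lit 2) [nat_lit 4, nat_lit 4, nat_lit 10, nat_lit 0, nat_lit 0], .rel (nat_lit 292) (nat_lit 5) [nat_lit 0, nat_lit 0, nat_lit 10, nat_lit 4, nat_lit 4], .rel (nat_lit 296) (nat_lit 3) [nat_lit 4, nat_lit 10, nat_lit 2, nat_lit 4, nat_lit 6], .rel (nat_lit 297) (nat_lit 0) [nat_lit 5, nat_lit 10, nat_lit 7, nat_lit 5,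 nat_lit 3], .rel (nat_lit 296) (nat_lit 5) [nat_lit 2, nat_lit 4, nat_lit 6, nat_lit 10, nat_lit 4], .rel (nat_lit 307) (nat_lit 6) [nat_lit 1, nat_lit 10, nat_lit 4, nat_lit 7, nat_lit 8, nat_lit 2, nat_lit 10, nat_lit 9], .rel (nat_lit 334) (nat_lit 1) [nat_lit 11, nat_lit 10, nat_lit 11, nat_lit 10, nat_lit 11, nat_lit 10, nat_lit 11, nat_lit 10, nat_lit 11, nat_lit 10, nat_lit 11, nat_lit 10, nat_lit 11, nat_lit 10, nat_lit 11], .rel (nat_lit 306) (nat_lit 4) [nat_lit 3, nat_lit 9, nat_lit 6, nat_lit 5, nat_lit 10, nat_lit 0, nat_lit 10, nat_lit 8], .rel (nat_lit 307) (nat_lit 4) [nat_lit 9, nat_lit 10, nat_lit 1, nat_lit 10, nat_lit 4, nat_lit 7, nat_lit 8, nat_lit 2], .rel (nat_lit 301) (nat_lit 3) [nat_lit 6, nat_lit 10, nat_lit 1, nat_lit 9, nat_lit 2, nat_lit 9], .rel (nat_lit 303) (nat_lit 7) [nat_lit 0, nat_lit 3, nat_lit 9, nat_lit 5, nat_lit 9, nat_lit 10, nat_lit 3], .rel (nat_lit 300) (nat_lit 3) [nat_lit 8, nat_lit 3,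 nat_lit 8, nat_lit 0, nat_lit 10, nat_lit 7], .rel (nat_lit 302) (nat_lit 2) [nat_lit 8, nat_lit 4, nat_lit 8, nat_lit 2, nat_lit 1, nat_lit 10, nat_lit 2], .rel (nat_lit 304) (nat_lit 0) [nat_lit 0, nat_lit 2, nat_lit 1, nat_lit 10, nat_lit 8, nat_lit 5, nat_lit 2, nat_lit 9], .rel (nat_lit 302) (nat_lit 0) [nat_lit 2, nat_lit 10, nat_lit 8, nat_lit 4, nat_lit 8, nat_lit 2, nat_lit 1], .rel (nat_lit 305) (nat_lit 8) [nat_lit 8, nat_lit 3, nat_lit 4, nat_lit 9, nat_lit 10, nat_lit 0, nat_lit 3, nat_lit 1], .rel (nat_lit 303) (nat_lit 5) [nat_lit 3, nat_lit 10, nat_lit 0, nat_lit 3, nat_lit 9, nat_lit 5, nat_lit 9], .rel (nat_lit 301) (nat_lit 5) [nat_lit 1, nat_lit 9, nat_lit 2, nat_lit 9, nat_lit 10, nat_lit 6], .rel (nat_lit 305) (nat_lit 4) [nat_lit 0, nat_lit 3, nat_lit 1, nat_lit 10, nat_lit 8, nat_lit 3, nat_lit 4, nat_lit 9], .rel (nat_lit 306) (nat_lit 2) [nat_lit 8, nat_lit 10, nat_lit 3, nat_lit 9, nat_lit 6, nat_lit 5, nat_lit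 10, nat_lit 0], .rel (nat_lit 300) (nat_lit 1) [nat_lit 7, nat_lit 10, nat_lit 8, nat_lit 3, nat_lit 8, nat_lit 0], .rel (nat_lit 307) (nat_lit 8) [nat_lit 4, nat_lit 7, nat_lit 8, nat_lit 2, nat_lit 10, nat_lit 9, nat_lit 10, nat_lit 1], .rel (nat_lit 306) (nat_lit 0) [nat_lit 0, nat_lit 10, nat_lit 8, nat_lit 10, nat_lit 3, nat_lit 9, nat_lit 6, nat_lit 5], .rel (nat_lit 309) (nat_lit 5) [nat_lit 0, nat_lit 5, nat_lit 1, nat_lit 10, nat_lit 0, nat_lit 2, nat_lit 8, nat_lit 2, nat_lit 8], .rel (nat_lit 310) (nat_lit 4) [nat_lit 8, nat_lit 6, nat_lit 2, nat_lit 8, nat_lit 1, nat_lit 10, nat_lit 9, nat_lit 4, nat_lit 8], .sub (nat_lit 20) [] [], .rel (nat_lit 304) (nat_lit 4) [nat_lit 8, nat_lit 5, nat_lit 2, nat_lit 9, nat_lit 10, nat_lit 0, nat_lit 2, nat_lit 1], .rel (nat_lit 308) (nat_lit 0) [nat_lit 0, nat_lit 4, nat_lit 1, nat_lit 10, nat_lit 9, nat_lit 3, nat_lit 9, nat_lit 3, nat_lit 1], .rel (nat_lit 308) (nat_lit 4) [nat_lit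 9, nat_lit 3, nat_lit 9, nat_lit 3, nat_lit 1, nat_lit 10, nat_lit 0, nat_lit 4, nat_lit 1], .rel (nat_lit 310) (nat_lit 0) [nat_lit 9, nat_lit 4, nat_lit 8, nat_lit 10, nat_lit 8, nat_lit 6, nat_lit 2, nat_lit 8, nat_lit 1], .rel (nat_lit 311) (nat_lit 5) [nat_lit 9, nat_lit 5, nat_lit 8, nat_lit 10, nat_lit 0, nat_lit 9, nat_lit 3, nat_lit 7, nat_lit 9], .rel (nat_lit 311) (nat_lit 9) [nat_lit 0, nat_lit 9, nat_lit 3, nat_lit 7, nat_lit 9, nat_lit 10, nat_lit 9, nat_lit 5, nat_lit 8]],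
  [.rel (nat_lit 22) (nat_lit 0) [nat_lit 11], .defn, .rel (nat_lit 312) (nat_lit 1) [nat_lit 7, nat_lit 11, nat_lit 4, nat_lit 2, nat_lit 0], .rel (nat_lit 312) (nat_lit 3) [nat_lit 4, nat_lit 2, nat_lit 0, nat_lit 11, nat_lit 7], .rel (nat_lit 313) (nat_lit 2) [nat_lit 6, nat_lit 11, nat_lit 1, nat_lit 3, nat_lit 5], .rel (nat_lit 313) (nat_lit 4) [nat_lit 1, nat_lit 3, nat_lit 5, nat_lit 11, nat_lit 6], .rel (nat_lit 330) (nat_lit 2) [nat_lit 3, nat_lit 11, nat_lit 9, nat_lit 1, nat_lit 9, nat_lit 5, nat_lit 1, nat_lit 1, nat_lit 11, nat_lit 2], .rel (nat_lit 334) (nat_lit 0) [nat_lit 10, nat_lit 11, nat_lit 10, nat_lit 11, nat_lit 10, nat_lit 11, nat_lit 10, nat_lit 11, nat_lit 10, nat_lit 11, nat_lit 10, nat_lit 11, nat_lit 10, nat_lit 11, nat_lit 10], .rel (nat_lit 315) (nat_lit 2) [nat_lit 0, nat_lit 11, nat_lit 3, nat_lit 1, nat_lit 7, nat_lit 4], .rel (nat_lit 318) (nat_lit 2) [nat_lit 4, nat_lit 7, nat_lit 5, nat_lit 11, nat_lit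 2, nat_lit 4], .rel (nat_lit 314) (nat_lit 2) [nat_lit 1, nat_lit 11, nat_lit 5, nat_lit 6, nat_lit 0, nat_lit 2], .rel (nat_lit 315) (nat_lit 4) [nat_lit 3, nat_lit 1, nat_lit 7, nat_lit 4, nat_lit 11, nat_lit 0], .rel (nat_lit 322) (nat_lit 2) [nat_lit 5, nat_lit 9, nat_lit 4, nat_lit 9, nat_lit 1, nat_lit 11, nat_lit 8], .rel (nat_lit 323) (nat_lit 5) [nat_lit 9, nat_lit 11, nat_lit 0, nat_lit 8, nat_lit 5, nat_lit 8, nat_lit 4], .rel (nat_lit 331) (nat_lit 6) [nat_lit 2, nat_lit 11, nat_lit 3, nat_lit 11, nat_lit 0, nat_lit 0, nat_lit 4, nat_lit 8, nat_lit 0, nat_lit 8], .rel (nat_lit 322) (nat_lit 0) [nat_lit 8, nat_lit 11, nat_lit 5, nat_lit 9, nat_lit 4, nat_lit 9, nat_lit 1], .rel (nat_lit 316) (nat_lit 1) [nat_lit 2, nat_lit 2, nat_lit 8, nat_lit 8, nat_lit 11, nat_lit 0], .rel (nat_lit 316) (nat_lit 6) [nat_lit 0, nat_lit 11, nat_lit 2, nat_lit 2, nat_lit 8, nat_lit 8], .rel (nat_lit 319) (nat_lit 4) [nat_lit 5, nat_lit 3,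 nat_lit 11, nat_lit 4, nat_lit 6, nat_lit 5], .rel (nat_lit 323) (nat_lit 7) [nat_lit 0, nat_lit 8, nat_lit 5, nat_lit 8, nat_lit 4, nat_lit 11, nat_lit 9], .rel (nat_lit 330) (nat_lit 0) [nat_lit 2, nat_lit 11, nat_lit 3, nat_lit 11, nat_lit 9, nat_lit 1, nat_lit 9, nat_lit 5, nat_lit 1, nat_lit 1], .rel (nat_lit 330) (nat_lit 4) [nat_lit 9, nat_lit 1, nat_lit 9, nat_lit 5, nat_lit 1, nat_lit 1, nat_lit 11, nat_lit 2, nat_lit 11, nat_lit 3], .rel (nat_lit 331) (nat_lit 10) [nat_lit 0, nat_lit 0, nat_lit 4, nat_lit 8, nat_lit 0, nat_lit 8, nat_lit 11, nat_lit 2, nat_lit 11, nat_lit 3], .rel (nat_lit 314) (nat_lit 4) [nat_lit 5, nat_lit 6, nat_lit 0, nat_lit 2, nat_lit 11, nat_lit 1], .rel (nat_lit 317) (nat_lit 0) [nat_lit 9, nat_lit 9, nat_lit 3, nat_lit 3, nat_lit 11, nat_lit 1], .rel (nat_lit 320) (nat_lit 0) [nat_lit 4, nat_lit 3, nat_lit 11, nat_lit 4, nat_lit 1, nat_lit 2, nat_lit 1], .rel (nat_lit 321) (nat_lit 4) [nat_lit 2,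 nat_lit 5, nat_lit 11, nat_lit 0, nat_lit 3, nat_lit 0, nat_lit 5], .rel (nat_lit 321) (nat_lit 7) [nat_lit 0, nat_lit 3, nat_lit 0, nat_lit 5, nat_lit 11, nat_lit 2, nat_lit 5], .rel (nat_lit 324) (nat_lit 0) [nat_lit 2, nat_lit 0, nat_lit 3, nat_lit 11, nat_lit 2, nat_lit 5, nat_lit 7], .rel (nat_lit 326) (nat_lit 4) [nat_lit 5, nat_lit 1, nat_lit 1, nat_lit 3, nat_lit 11, nat_lit 2, nat_lit 6, nat_lit 3], .rel (nat_lit 327) (nat_lit 8) [nat_lit 2, nat_lit 0, nat_lit 0, nat_lit 4, nat_lit 11, nat_lit 2, nat_lit 7, nat_lit 3], .rel (nat_lit 318) (nat_lit 6) [nat_lit 2, nat_lit 4, nat_lit 11, nat_lit 4, nat_lit 7, nat_lit 5], .rel (nat_lit 319) (nat_lit 0) [nat_lit 4, nat_lit 6, nat_lit 5, nat_lit 11, nat_lit 5, nat_lit 3], .rel (nat_lit 320) (nat_lit 3) [nat_lit 4, nat_lit 1, nat_lit 2, nat_lit 1, nat_lit 11, nat_lit 4, nat_lit 3], .rel (nat_lit 324) (nat_lit 4) [nat_lit 2, nat_lit 5, nat_lit 7, nat_lit 11, nat_lit 2, nat_lit 0, nat_lit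 3], .rel (nat_lit 325) (nat_lit 7) [nat_lit 6, nat_lit 4, nat_lit 3, nat_lit 11, nat_lit 2, nat_lit 1, nat_lit 3], .rel (nat_lit 326) (nat_lit 0) [nat_lit 2, nat_lit 6, nat_lit 3, nat_lit 11, nat_lit 5, nat_lit 1, nat_lit 1, nat_lit 3], .rel (nat_lit 329) (nat_lit 9) [nat_lit 0, nat_lit 4, nat_lit 9, nat_lit 4, nat_lit 0, nat_lit 11, nat_lit 2, nat_lit 9, nat_lit 3], .rel (nat_lit 331) (nat_lit 8) [nat_lit 3, nat_lit 11, nat_lit 0, nat_lit 0, nat_lit 4, nat_lit 8, nat_lit 0, nat_lit 8, nat_lit 11, nat_lit 2], .rel (nat_lit 332) (nat_lit 0) [nat_lit 3, nat_lit 3, nat_lit 11, nat_lit 5, nat_lit 2, nat_lit 4, nat_lit 3, nat_lit 1], .rel (nat_lit 333) (nat_lit 8) [nat_lit 0, nat_lit 2, nat_lit 5, nat_lit 3, nat_lit 4, nat_lit 11, nat_lit 2, nat_lit 2]]]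
noncomputable def c7 : TCert2 := ⟨1755, 1755, 1776, 12, 2047, 32767, 1, T7, I7, D7, E7, J7, W7, [[nat_lit 0],
  [nat_lit 1],
  [nat_lit 2],
  [nat_lit 3],
  [nat_lit 4],
  [nat_lit 5],
  [nat_lit 6],
  [nat_lit 7],
  [nat_lit 8],
  [nat_lit 9],
  [nat_lit 10]], RL7⟩
noncomputable def T8d : List BT := [T8d0, T8d1, T8d2, T8d3, T8d4, T8d5, T8d6, T8d7, T8d8, T8d9, T8d10, T8d11, T8d12, T8d13, T8d14]
noncomputable def T8 (k u : ℕ) : ℕ := force (Nat.shiftRight u (nat_lit 7)) fun j => Nat.land (Nat.shiftRight ((nth (BT.leaf (nat_lit 0)) T8d k).get j) (Nat.mul (Nat.land u (nat_lit 127)) (nat_lit 22))) (nat_lit 4194303)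
noncomputable def I8d0 : BT := (.node (.node (.node (.node (.leaf (nat_lit 0x2c3000660000000408034001800200083020000000000080208000045c4801260400400001800040011210018025c30002600813a3802b000409a0024008000408100040010004008020000a0000014000000900000810008081000000030044ad16000181644081002c0000000e810a680000088001000400102040000200401000000000761910000001a200018000408002044820000000026088102240483a20001020000002040220004081020408102040000020080000000000000113000000020008000040a00400081060020102001000000000020008100445800a0009d0000001027400000000801218000020000100040090c00081124430002000060000080021848002044850c240000200000000401e0c00001000400000000810044000000408014008800000080023c0001800081023c009001400018000810200300000c0000000081004c00500000040004081000000022005000000007143000200085020000180040018a00200020000100000820004000000c0040030002000604383000018100000001000100000c080346800010000010200000000009602240812c000000204480ba00000004aa80000048b001cc36740053b))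 (.leaf (nat_lit 0x30006004000000018000000000000000000000000000000000000000000000014000002860000000000000000004c0000000000000000000000000000000002c000000000014082000000005000000014a000000c400000300000020000000000000000000028000180050c180058000000001808021000006400340000000000000000000300000000000))) (.leaf (nat_lit 0x4000500000000d00005002c2800001800000000000060000500000000a28100000800a1e002100c30000140000500009050000100000c386000138f001cf0c18000000000011002c0000a2800c000c0010d40280000c6001a0020002022000000200240000300005cf2614780180050204002050e00000200310b00306000010389000080f360000c18006851a00082000000000000000000014144828006340000000180060018200000020000000203c0160044002000098024080030e1808d0a082800028580000002a00000000800905000000000142850a082803200007008402f0000000000c0001800982005000400100030e184800240780002400c18301111a00004000c386121400a203c000000060c183460d0000c8e0c0038106000001400183003000008041002800200000000400000000000000004c0033a0c6050044002005000208002000e000070000e1f0000000060000c000090028101040a08002000000006000000ed899a3e000000000000000c00018000120050004000c1000400185140018000383000064000006800000000000000000060000b184800300108902e0410028080020430004000c00208001800400000001d507)))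 (.node (.leaf (nat_lit 0x14000000c000000000100002a8002080f006cb99039c00000200020e001000c00a800414608080018004140000000a0008002001c000110000080000078d00080003400000000000006045850000000000a9001a1c05640009800016500203c4000008200053400b000000b0204080060000100000000c000002a0000008000000000008001001a3238000000000c361001600000000000100000c9071010003000000e000000000000022c00400006cd101e005800000d82085cc800094015000000000200002000000002800004100020000400000800016002000000400000001400541001000000103400208000000a00280000000000004040068953000040000d40001000000000000000000000000001000000000c80000000024204018b9600280000000900080000400004000c002002070016004801604081000000102040800002a000054700000028a000000000000001138000347c000004800000000800800000000000000480000000003003c00000001800000a0010000001c08008000000001240806a01c80000000e203c58052000003601e173200580026c0950000a801000100202400f000000f1c007002a040000400000)) (.leaf (nat_lit 0x70e180003818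00000000000000000000000000344000024007000068b04003980408002000000b004078000380000a2800e000000000180002203280120018000000070c000004e4ca00000c0060000000223400a2e642804a7400016241000a00a005e000001c64593000050200100000e100000e0000e00003140a2c00e002c00300000000000000000000000349053240782001400c1600002002405a00000162201f101e00000221868000080080060a8206000101e2800500000002c0080e000000000586901c2018000000071a1838d005c010265098014000000c0000000000020000000180000000000000000100000cd862200b0a00003001644100300800730489800600786000000000000041c00000010400d00380150000000001c6800000000000000000000000000b0000140000000000000000000000000018000008c000008c309000c0000000b800002b8d0a000031c2da0000000005860c800000000002801e00000002000805002c496380000204400000000013663c368080000000004841e000000000000002800000001801800000001800000003802e3c000000000000005800625480140000d1a000100000b001000500)))) (.node (.node (.leaf (nat_lit 0x8000022810014001000208000000018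000200001a54100020010000342010a00080000000814000021001405000040014080010400401000000800000000208000000010000000000400000000000010000000094c8000000083404001005c0080000002000408100140000000000000010010000820800000000090002040080004001000000800048800400081020400000000034c0400100000000200285000000100480460000000100000002089000a0001a00200000000000000c8810004000000000100142800000000000018a02000940000000100401b0a0000000000003e0018002000800000001046c180000000000700010000000000c50100040000000080360018100040003200080000018a0200080000008000200800a000000024089020004c00000070000d0044000a10200700000400a000018a0f1401a00000800200200000400000080000000007020000044280800200480000400a0000011060458000000000000e084600d00445c0a10200f0000000001004000140010022550003c00c0000240810000080280008102000000000008020005f3c00013002400100040010c000001601f890000000284c08002000000004000)) (.leaf (nat_lit 0x140000052000380e00300240000000188800000003001828000000001a2ca80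000058006006e600000000002d8a007400000000000000000240001800000000000b0e1a00000000000000000000020b1f6400b14001058906000062e0188000340000a2800d0000b990044000001c000002c0002694e80278c0162600000000000008680000000000000000018000000000000000060d1800000002c00c000061c7458006000038a0c2400000000000c24000260008a000000014000000000000000088000000000028000000000000180060000000003830018288001200000000088a380c0001200000000080516000000600309000060066480000030000000000a140000000000000000000011c0001c180000e20000001c00000246000e28080000c0000000007000002c007400000000000000280000003800000002a24000001040000640081a0000010000180c00280000c000000038100584800030380000000000000000000002040000000480030600000000000c6e006000000000201800b0000000000000000002801e1800400006131a00680000000f004c0000000021000000008008000000600002460c0000680003c89904000000000000))) (.node (.leaf (nat_lit 0xe04000006c000220308004001800000d8c004011500207840000005001c00000000007a0000000000030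01c8000000d842400002002080000103810800780007c9070e00000002044200000002400180000001b1e309000400a0c080018200000020008000000800508007a3204ca9f4800580000000010000030600000000000500000030098000180db80000000022340822a00a0000001001808200001c08006187060000380000828700000800004080180000526000083800580363ca800000a80001008000503820000200184820006080000800182000c000045c2820010005020000f1c0003014000000e140010068f000000000000050000000001000000001001b0840000000008000200002a000150010000061c00000000005a9070b00003804c340000178011120c000000028000004003201a0010100150014902000000208200020000002006c100320800100000080e0000000000000410584000011a000c6000000180000010400000080200b8000180000a001000050f00005801426001040a0000800e4000000d20d1c2d5800a0000d004c10400001000000780000000000004800000027000c00b000018010380003800000000000c)) (.leaf (nat_lit 0x40000004001400000000000000000000000000000000028000000000081122448516183060c386800c2458e000828b1c2c9060e1020b001068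51a64009081080d080038600000110010005002c68922004801a00780045c009040058904007060e003890c18007000000000004801e0010012240062e642800c084802e0c28000100071c3858b00003000c0030e0e407862200400000080f0c005890000000000038a1c184800e18004001c2001400686000c01c16002000c0000700003001400100002cb0e002400028000000c3870000240000410880000010004000000c000001e004040c1c00e001c707160000e00242800000700002ca8d0402e000410100001c0000e1c687120000000000002e003000e0000e000000000001000c01711001c1000008300000070a002470b1a00000280058000b800004000002638000163488e000028000000032400280000000200500060e00100040010404100090c000130600000005c9801428b17000000000000070400040240048f000000700000000000000000050e0000700140068b0000005000019c000c0000000380000048000180000000018040010000243862c0000a3c0000000146800000380)))))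
noncomputable def I8d1 : BT := (.node (.node (.node (.node (.leaf (nat_lit 0x140170074003000c1800004000060019000000000000080060401008544800074000000001d000ce832614016060038000581832c00039000c800000c080000c183320c18306540800602a1800000092e5800300000033a1000326000002c0c1801a001961a24187000000f0000b8300380000200283060c183060c003060400300040030a58a0900000038c00000000c196060c99400000000658203060002d48001830000000060c0802a0c183060c183060c00002001800200000000000900000000600180000c1800000183120000306580000000000060018300100050a00196000000306580000800180121c1000600003000c0090e08183120038206000070408180001c782060c4800e006020600007000c01e000810300000021c081830000001040c180001c4810408180003000e04081830030000000011204081832ce001402000820208183000000f0004080040c19600000001e0400100040080408604001008400040120004000001c0100200800001070026000001e040000000001000800000040030810001000c0000200180000000100000030600000000018506001830a00002060c00700080020438019000848d0000e800000035))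 (.leaf (nat_lit 0x8000000000000000000008020004400000000000000000000000000000240000000000000000000560000000000810000000010000000000000000080000000000000000002000020434000000000000107000000000000000000080000060000020000000000000000580000000002000120000002000068038000000000080000000000000000008000000008004480000000000))) (.leaf (nat_lit 0x2e00000040000a0408007000000200080020200080014c03102006000000201161000218082910e005810204080020480000082000200407000100c2800f12240010b00041030034001004000002000200e04002160011014002811e00386020008000040800000680120010020000840808280100c580226c00000489020014400000c88c0000a12240450014041900001900400240000040800240013002810102040010004004061830402081812231493005c60400001080840080101c18a00100000028682005408116ac0800a2880000081020000000001000b34183080400880000430b0200000941800002000050414080101c4a0064460f0000012240450014000050200407120058222300300064912242890a160cd0a0e3c40300040010004010040030b0a2c00100002810018305000148100000800c000800208006000000002000000a00280009c0080804d8002001010000c810c000010000205004001002000810000306100062500f800100003000200000001802302000050200200200400006040000c0038f0c68000040003b00040000c040010038995001808000380112a2cb810010004080020502009101c0400120000010a21600)))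 (.node (.leaf (nat_lit 0x402810000615020000026000831000000666088c0000a9a060069402000100000812000000008000100a0400008000001c040001c002800000b801804a14000400a00000002a04880003c001000c70000008000000000145c18000c800b000002622300000010a00080000d001800d060c182004de80060c0800a0000000d858100000210000080000cc15006800000000020014e0000000001c00005020000008380801c6c00000000011c2004d8e04000005cd91180068000a13840054d002400000006000002000002200080000000000387190004000000000900002800804000740008000002010004281002858400180100a0188f00200000e0400e2204b8000040030000001000001200002051800000001000300000003800000000001700000001e3c008000000000007030038005000000002000001a004801a0c183044c0030600181005000000007800000000000000010000010000180380000000000001c000000a7000000002000000003a0100801c00a210004010006c001007c0000e100800000000000018708011005000200223068068000284e1071534006800600a0000000010000203222400c000000c001800d062030a0800000)) (.leaf (nat_lit 0x80043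08001c30e363c00f04340020c081010408100004c20d283c008001050d003441d004c1000a00b8d00446000c0000800288000050100001c1060008000000400104181080e0800f262400502001020c08106263428a2a00000007400000000000004008000858502000090408284000010600140000008100000038f0000300000008004005810008100000010700009980044605000010504441042e2400b0054480000401118000000000004003400000580000000011181030d000810200008800e00002040051100000000408100141c000042c0010000781002c11e0e003011830305161400100001000c0010204002001c840000044080040038000002002c000070000000120800088001000c0828b00000000014b0004000000408086002050004a00000e00106000808232540005e00101040808020181020000301001c09104001060400389020010f0000000003c000000012000780010400000000000200040820028025000000222005cc0a3448802100000044004000000c00640001608582040058e180108b0c2c9851e08000000030224180010000108040040036300020400380000068100000001408d00000801104540000004001)))) (.node (.node (.leaf (nat_lit 0x141010028000000000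215060070e0000d800200006140d5013e0000000280030804000001008000001800018184000400008100035404000080008000140001600212000001300005800010fa3004c00100003000000a000000080380c414007008006007041c0c18300000000600900000000100001801c0000000016801820080000c4001e0008000300000800408182000020000803c0c0031c0000006080000008003001070000000010000000060021f000001c020000002008000200003000c700000008304000000000000000400006001800000001000c1180000000000119c00040000600180100000304600001800003006c00338004890200003000c80000001823000003000c00234001800004000060c180000018002001820000000000018006001cb00000081238001002c1800600000000e0800000488110c0000200180060c000000c00000400000000417060000100001800600280000e1003800000000c00312200000600d800038001000018006100000000001000c01200002000051b800000e8000000031c0048100001800600000000008006000043c640890000183000c68300000001a01e1700400010000180060cc80000c080)) (.leaf (nat_lit 0x20810b001815700001061c1812b001c79e0c19f82001c00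0040839900344022000681004c500000078002300001674994000410000080020000102282c380401c5800009480166c2800008000020001e000832b000000000000070000200042805200000000000a9a0200001002048100007800000b0b002c00000081020408100026cd0500000860000086040058a1608000200858a24001242400001042c112000000700080010e2408200800000e24100040000004040000000102004460600080000208006000010104080020400007020058200003800404088160008100003001a00900000400200040001a007991c00389020058200940001e48100022468226085800014181000000204001021408281104810102201012c24900000000b0201280004c2800000000009000b0000092040002116080000000a00004c0300014a04226808000140010000000002c0000028003020040000009951208403482c00100000023a0011008081221a2c09b00002800604000000808c024878c221c001000000004042040000002181c28204000021400500240050c000005802040001600119001c8800e00900004c91200005590030006080cc000004080))) (.node (.leaf (nat_lit 0x100c000165cbae1e0400b20040000000c133e00000020000504006000020013000400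00024080000008000208814400c050000000020000500140030a449810000208104c10002547800004006000400000880181804f8000040000a04010020c0001c000810c002800a4460022505804c286801e1c7800030600003c00000040000c080800488918267c084001490a0000180000400000382050210280280018100000071e00400001000800010af040018100000000400080260069e30303810018000241418002000042400700021028100100000a040100200608003d38000140000014000012404e001c7800020003024c980002498100000100000001000400002000170a4468000001a302000000814000021400100001960860001009800f1e3c000000000000005800030080002c0000004000341c0004414014120000408000040a000040a004040060200661028046000800000010080001f0200005280081b02000040a0401f000020e000008006000103c00000000498502000081e14080000020e000c50500000010059300000170f000040a0e0000e00000019e00600060058000000010000000020000d2804001541038000000000000000)) (.leaf (nat_lit 0x8000000000400000000000000000020000000000c00312244801a1c3870e285010e2468a001000d1434207101428d02145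0000680800a1488a0a004070a040090c0000000345091e08480141860908540890800689080050710004090e0000800186000000486180420012243002600006004c4862a680001a143081428680040438e0e0438a104460700040020c0088c261468900001021400407001c481101c00502202821408514020071b1a002800e084080e6438000002080e340140c2400100183000e2850d1c2410208384812e0020408000000e0000118040050e2030a0e200081a0000000180000c5c2060034a0a0000905081420702200072e20508120000600002862a00380100000a00000060c007820419600002020500100000c000001a00500004c00000041022b140020800380100000600280003214000160010200000020c340000200000001c200000020526140090000100000000004340000a3400c0c081050a005880038051000000c000000800200130000000040828000180041e0000000241000c00e000200880040800f00144800000000000001d08002051a24400160030a080010200200090408c86)))))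
noncomputable def I8d2 : BT := (.node (.node (.node (.node (.leaf (nat_lit 0x1a450c00340000000001021c28302047ac0200000006118000400000800009161c0000008d8004000001a0000500200001000018082810e0a00080000218014040660204c0000383b70400ea00000005181c00230001001a0c100000068000000141600400181c0981a300000e34001000000080b4001020008120008001cd91810e00e87000000500000001a0880000000000400683361c2810000380301c10000340810204000000028026040810204000000000002000800200020000000e00000000e00110000800006441001a0c00020001911e00400001409808005800000c000000f01300000b007800000000000e14007b40000000000000a5000000280000a00080000080000282800000a80005c0000000c00000000000000000018001020000422000010000005080000000000000800001020000b00000000000001020000000001810200001020000b0000081000408100005803e0000102040080000003000c90300000010600001000c2040000286360058a081c08006243060010400012803e00243011c9869020002005a0008b0e10380002040210200000408c0a1428d982800f0036040003c002800000001000401a046001e04340c2))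 (.leaf (nat_lit 0x1f00000000000000000000000000000000000000000000000000000000013000000000000000000000000000000090000011000006700000000000000005c00000000000030000000000000000000000a80000000000000000000000120000038000000000000000001f00000000000000000000000900000000016000000000000000000000000048000004000000000))) (.leaf (nat_lit 0xa0008380e4000822000500041820048180002a0001f00000050c00180000c0000a00011000400908004860000184040018012184000000000000001300000000224029004c0000020081121800f00382000010287000400900000000000000000048600000000a0000700000030780006000828000005802a6c000000001a0000204002c00400180000000083102010626040000000000000c300080000012243090c24303020810300006800a0000b00000030008000060c4860000000000c3081000b8000000000000000000018608500000018306000c300100000300572800000041121802800000801218200000048600007001e000002a000000000007001008f124c2801c0008a000000b00c08050000000000040a00381800070000000030050000000004009001000000000000001700000000026002060010000121c080120000300000001000003001000000000040c00a0016041890000180000c00324000090c00000073800000000000e08000081800400000001200000121818006243000024311002800e00000000000000001c38200240130c0140c0000006e003a002604209000c0030600180121800300482120600000003c004)))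 (.node (.leaf (nat_lit 0x900000210013b803a104801c500001a0c0000000980020011a12006830000200060010d06180032e0000d00180800000016000800200000190000880302410020100050c241002664380000000604080970020002001c0b80014000060c400081050c163c0160000a170000a0b1e04001020180000000810000c9416007040200005000001016023930a00000126400100007050000204005c0121218017081c9041200001000c30902000009a24308015c2910a5060000000000844286023c005005c0000044b082220482045010d00140030024002000000000080160000301001a200043400000000000600684000000700003831c1c080062400004000190000b01a01c00900087010c00000000000b2a003814c0c0050a5c0070a00000221003600b8500016058900004851e100055618b0000000902000710200060102040001600580022c00500a85800e1818100000000000000280008000142040000004000008022440060c0110000000020074000005800444000011b88000000400000484860405100001800d00448001e00e84000000700200000e4420000008000218b053400838000001022184051400805140050b00200000608008)) (.leaf (nat_lit 0x3c2400000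0020000000070e00d0000000003418d08000c5060000100283450c0008400060c103100810c040800024005800400002160130d1a007801e000001c28a000038000004800f2c007000c00680000038000001002214004005801300000000c243080024006142c0000000005141c3801000b80000000d0034000140000a360000000240002a142820c082002e006802c00280200001c0000100001d88500008000c0098000007800008503000c00004000101a1c00700005802600000002000a0038008003c025143000042100080000000000031100007002010000001020000280001e0098238000631200021001c010000002006402000e3400b00009800a0c7851a0c00d1a88000160030e0000785002c380000832938005800600000003c50000b000700082000402309000000000000000000002000c00000002040000280000080c000000e120000000a468c000000014140000000000248402f0a0000600000060001f110ae80000000a8000303950000c83be440001400806002c01300000000c000040a5402f0010006000001500002054e01586000000000084290014000007800008345890c000000000284140102700549800044705)))) (.node (.node (.leaf (nat_lit 0x280048004180070c080000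0100010a0240000007820c340000200003040001600000800000000040800900000a17a000000e1810000000010019a23040000200100010000180042400000180850001d00000098000001aa004000004051009240310044810312081020428000000809601bc010643c4000e08102080003c00000000404b000001980002188058001020408007001090425040000600005000000a10000000200080000000046000000a05d811000011008c0020a0008e24100007a000000014000049450836000000a4800000000040000287683c0200a0000000000001048205000000b760028004dc50800200001000000000000e0010100000001900140133a280070414000000000100000000014000060028064cc02b001410000084020000380002000600002005a0009900000000000d6b14202800c00000000008e0000000000091d001850c00000000000e85000008000483800a0002a004c50c0000600000000c00380080204480000008e01900000a00755002c400ec4901418000180000680003800002000000a000010000c9800025870020e800a0038200001000400000100000818007001a0428000240810204c882000d00)) (.leaf (nat_lit 0x400980000000010000040a00002000000412000000000000014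8000002c00500005890c0000000243802400000000098000003800000200004808d0000000004c2800002980000098000242251203c00000000000346070434500000001538000030c00406005c00512037090418380002c3845c00280084c0002600384500028000102002a00000000288100d49000a145170000000000001000007800a0c0000200a0001580000000005000020000000000818000000000e002800000000001601a800000e00000000000002ea0a0020000001000000004084c00526192800000594000000a000000400000121600008380000001678851e105001c00000000000910000001e0010602bd21c00000001400e0010003001220000421c000000000324000002e00f8c121800200fc1a5003c000001099f00000150000014161c1000000000221400000000000002a0500002000000073240000d180068b0e1040d000400016000000a00003060000f301c00548000000e000090a00006000020122000172a18014080180000008000a0008002080000004000016c000002c000120001f040000600340000038015281c00000000010014010063400b0000084))) (.node (.leaf (nat_lit 0x3c08000005803e040260018001140400000049800e00000020028f10006000002f0e01702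80001020000008890004011000008012000000c0040d06002890c3c000000421f00005803c0400f0010a07183c0000a00001001c300000030324000030a0c000000c001000028a180000f00286000000000000400000005803c183820e1c0000068004000090300013800e0c080000000004001860a0c3002c2000906202001c0840a000c30000000390200009000838002002060200601001402400000000001e000000400000c407000c200000c28300000002210000061c8030618108020c0000430780000070a01b008102000001600001001c0800400704d004000241008022443000a0008000181000018b8000002800028085282c003000368b0000407082800000040800038004001c0003200a0108002000000880000000000240000000b830c000034e101801e0c201083000610081060608b00060010036001861200006000030000100001a14900023800306000060c00180240c0000000486320000700040000a480030014000083000008c42801658000003420901002807ee40810000700002050b001008028100010a0004f02282000014000)) (.leaf (nat_lit 0x174000000000000000000114000000000000000000000000000010002040010e1c38618000000028009003860a000c30c142c180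100000c120000600144870000880002040000241070e0040c00300070e003800008287064448706006070600500100040700001030408282002038226481800e3c1002214100003038404140001800008142860c0024000004800a10002801c24000040088500006070c0810028004000a00705000000012201000000500241001118080000000400002000214001800030780000001208084020028a0c000000006003830008183060010d00000000a2430f00000000000508180028a00382002400009103000006440000600180000000004202080e5410004000072200004103400000000070008a0c0040180004c008040c3882420000183ca0b0024a88281c600100c780000800200000000400004000021500083842b84000040000312185001c0018f06081880600107000000c0e286072434688002c005360001600400000008400060078f000000000440000000580000038a001c50c0e0050c000000f040020034100750a0028200003800000114000810d060018f041c380002811114302001a000070000786)))))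
noncomputable def I8d3 : BT := (.node (.node (.node (.node (.leaf (nat_lit 0x498900500000000102000000304001820410209020000000d800000000060000004120cb0e0658a001c000050000080003801800181802800100000400000080000408215020230000116990200204140000300001801c0018428007001c08c0e140000012000180024080003800200000010200002040c10214100000000f02019400616000170200000160c000000cb0006007000000280305000230001800a2c10204000000200000000810204080000000c0052081005a080000000a4b02000000038191020c88000100001c0000300000040002b000214118000050100080001804002000158a02009800004000001418016001000200000001808400000010000100000400c00080080200000002c281000000002005800238080001c0020444087000810022040000e100001c000800c1018200000000210100001c10200000800a5c0000410102041000002000000e081022f0800100003820408100000010004001002414402001440200601000400002000020200001000000002000128510088803414402000058000080000184104001400000000030600000000000600180002204000000000100000050000682100820006000000000043))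 (.leaf (nat_lit 0x1c000000000000000000000000001000000000000000000000000000000120e0000700acf000000000000000000000000000005000006a0000080000000000002008428080000000000240000000000000000000000070000000000058000000000a0000000000000000000007c0800e0000000000000000000000000000bc00b000000000000000000000000000000000000000000))) (.leaf (nat_lit 0x5008c000c38000040000004600061c0040400000009c0800000000200000000000001e00684020010504002887a00008000003a0a200010000800222c0000e0000020141e4d22408010005000040109020040200002800000000004808000006000a2c2900000900001c0110800006000400800ac12000589010000002000001d00282002200602003c6801a881002010602402861202000170c004000034b820a14407101440004000000a080000000980020001d000c2000000288000410d000001000185000000000000000500080080000380044000000000000000000040011e0200002002000b002c1010a04000040028800040160010016000400200006801a1c1000a2000100000000800b000000000000278d040800602000181808f050410400160000000080000200000002800004000023c040070008208000800000000000a0000000000000808680180820c0a1c0001000012000800526000000000a800a00003200060000c81050e78087360c002004000000001000a4c0000a200040014400160c8040e180800000000043c21e021c00300141042000009000028800000000008000260000000b80000a20000001440500280000200004)))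 (.node (.leaf (nat_lit 0x1a0020504006800a201004b48280002c01b1c0000f0088000040000a0000700060005308001800040100140000e0020105160000e160c0030c9801a025c10d54181800000100080018a00680050000600060c2800001803000010068f0080064005c0024989140000e000030a000030a04080020008e1f0000a8700000060c2c000040000000000001608b0416000040068602005c217020000000000000a2000000002880400d0200005000400025000000000000041e004da0000000001078604000152274080200000408002810618180002c15100000031d6c112000c00e0000000002800006a0000000800000340004a0868008000213400101020030006003000200002a0bc586000c002000019900000620000002000000506000004c005000801900020000054009000000000001402f0000726000000014000001400482040011c3e000000e000046800000000000206a02000004000062811600000002e0030004001022ec400a160400000080030200000042c68000000020000400001c00dd000000060b00000ec1006e180000000000000000000000540000000000000104000003a040100400000080000f0604c0f180060a0600000120c004)) (.leaf (nat_lit 0x140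00000428600005000604000001400700005000230309020018018503092a0c0140000000003c189061000c0e1850106000061400a9428040002800981000068700000000200005180050c262428500143870034006083c6000000a8a0200000101c80000000042628080240000026000070000501000000098500800cd401312046883a003851200003100c0001400015001060c0000180000019500005801600200007df190018e810000300140000100000000000204183090c00103802a000060200000002c0800c2408000140000004c00000c00810040000600000020000000000000030003001c005100c480000000000776b30012203003800a020000000000000000c8b1c1c0001404700061c0050c280002000205543050100000000fac3000000280020c180001c0000e0050100003800800000000000a00015001c04380000038400000800a2000008000090200580180038300000070e0000b0000580000000300013002e6808700589000024000163d80608106010c104846400600000c21900007000a48000000001b30000120200d0036000001c04000160c000083c08300000801610505108c18e060c70d18e8b800018e81001c008)))) (.node (.node (.leaf (nat_lit 0x18000000024003000c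0042a080020034000000000000380000402b8b060000e000010000000581a0c700000c1001754000002418e00000021601c00060000300000020002f00021c00e00001000000000000000000d00800200041060800030000060200000000c183060109a020c10000025000000000000c183040108b0200001000ae80302c000000c2044e00183060c000000028808082800000200060061308000000400100000000052000000008002000000000a418078041050a20000100c0000800083000c30400000210800400040000000108c7700000b22100040000080100040004000990010000000030400100003200000000008000000020000000084c000144c40006000000000002161440004c4003341000172000800044184000c2030800000000000014640001aec108000000408000000c00003120060000001000230d0022000000a00309000000b1c00000003c1000000000000c003000030900100002c00000000000004081051a00100000000008040299208037001000416040160010700003c00004000c8000010400001000004039002800b00440030800180061000000040001200a00000804e820010004080000801683)) (.leaf (nat_lit 0xc00006296ee01b0000000058300040400a1403d1c044000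0000000c2808400005051054680001800600012000000900001c68b0000011361000001986b558107800000001081020100002b600000001e0000006004800038601060000300018bf1000000000020f0811405c6000000c48004000038400113800000000001c28000005952400307000402e00002d900006000200b8d36000002200580148118001006010000000020000500500060200000088ca0d06002a00018184000001c0004000000000000002005c0010000f8301001c00200540800000004008c880043c0001404d9302012020004013140400400440800a4020b00009810044b00160000600100003e0c000040008e162c0000c00000008c0040a00000480000000005bf0a2000000b000000400030055ab6080010002cc0000e1c60018000001400180000009a083c21500016001000000000060000000280a40000120001200000000a0000000300008a08000000000000003870800900001c00400000000000d800804380003c004161060c58033801e04000000c2001a0068708000060c640960a000000004000000000c020029100000000000687400008000046120214000))) (.node (.leaf (nat_lit 0x301000470501000038200004192600000000800d000000b041000000004800008e0a020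000704000000400205001008000041000a18000000068244102800000000029c10004705010000380040068012003801e00000000050000144000a0400d000028200000240010286120400000184810004001180af842e700010000383000000304001000000009042cd8000001000200000061400004000001c001002010301000c01300004000000a800400000360c00004402102e00482003c08000001000000100003400018009000000000000038024000000a40200000000000001800488200002400000040130000000041479c3e000004800100080400a00080800a0010600104820034100000418200000000a0000020001000000080000030002000000018000000011c020028706001336000019080400202005010000000001469200000000c0800036008802824002002400b1a0c1800c0c7000a4818000080000a20000161440000340002c00010040058000046800c000000000100002c01016000800008022000001020000050024080100078024100010038000000078042026800070007001060a0a0010a2230000001808004100010000802)) (.leaf (nat_lit 0x1800408002000000812040810218005020048600004090c2800100000090a006881a3c380000020d0000681001418000000090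02400000000001a0c78000102801400480000030100000000204400080078300000001e000050000001083c0000224000083c08012000000c18489001408002140860010001001c680000020f0200480000c0000c0c0010c0400000046800a0000000003010000000120c000020000002000840c0400102240060200080200c003021830902000000c00000560c000000001402000071e1c80002000110200300120000602004010000301002408d00100010000000000008106006830000180083c0000800080005000602008000000a800000004020000006000000e003011200892021400720140000000201000c280023008006340060200400000c000000030000000001e400010004000000c00000181800c0400900184800050a0b2228080180000c1800000000000d000020f1404000001000b0030501020001302003090000989020000300005010e00001000000000580000c04c91180c18e0000000060000002180000c2438128000000000000)))))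
noncomputable def I8d4 : BT := (.node (.node (.node (.node (.leaf (nat_lit 0xb140000000001020c00100000000004000060244c000400e800004c80004400406000061210000142020000180800064780000048400081023004000000010f000800002443d504700332a209800c4400d000000b140000b003c00f00000110c005860c1c00b22180901600000040879c04086820408124000030400081022e01f800600000000078b0024000002400612000071e10000002890f001c48b008010204080002e00102140810204080000058000040810134d5a0200000000600500160008000040000c40a800048900000c814021000f16000000000500003c0000000d800070010006c7800004c00160000b0000020020078006000801e000010000780400001800000000048d121e00001003c0020200000000808700487800400080000002000040050400780040008000000020400010020000500000000400000000010204000020400010020000000001020000d80360000200080040000000000000010200002c00000060c00000003000634300002000306000000000000000801e34000004844045b808d0600001061aa0fcfca2c009022c78b160000000007800000d800000000360000000036002800596122c7ed1e0803e))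 (.leaf (nat_lit 0x1b000000f00000010038000000000000000000000000004801000000000000061000000500000000014000000000c000000000000000000000000000000000000000000001800000000000000400000000000000000a000000000000120002200000000000000000000000000000000000000000000000000000000000000000000000000000000000000000000000000))) (.leaf (nat_lit 0x1e00000000488400281000600000000030508000000028007000008600000001c34000260000e020000c0000600000000000000910004201000000000049000014280000000400e00802c140000e0000b00000000000000080840c06197000a0108000080002c0004a00008940a1410000084000800000000080124100000c202000000000004008000000000001000082c78034080100000000002c0002200000183000c001400010142800014380000000001443000024000000028008040000000004000050000085000e00000000038000000801800000000000016142840c0c000000029c0024002001400000000081a00180080439c000000020049000000000000010800002010e6c0000000010024830000000000000580021c20006700030004000040028d100000000004000014284040189c00000060a7000038000050a14f84000028010003830800584348400000f400000000000a023800014008060000701c4001002c28509380000000000002428f0000002000011e0000008180000a000058300348800a000870a1019b0000c0000000090a3000000a400600006000e2029830000000034000000000800010801c0000700004000024584)))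 (.node (.leaf (nat_lit 0x30000440c008000050322a800206900000e00000000000a0478706010418012246800000491000000b00500061c0000000500001024400000c829021c0000000480000010348004830018f800e08b00122460000019090000100306400000340001a340100c2840d000000a000c00a0408002040000734000022a00000140090004000130058a00120850e5600f14060000200009000000626000c68000000032c0000000013000644000000c000000000d005800e00000012e00b070600c800403800003400000000011c006090c0030000280000c1c0094a00000200040a00000000000000000000000080000000b8018000000018300545c1033c000081218f1a380000c06040000024b803400300000000036014822a00000000128000000000000010001c01c000080000000000000180000050000005802000180140010204080000000002040000e0000900d6000022c000802c00881582416f00000161a3800000001000060000204a10c4c0818b9362d00000001e003400c1400000003000056300072a00011560c1000200000017800001303075a1800058001806000000040000e0c00f8078206001c5c2130000013001400a122c2800020780)) (.leaf (nat_lit 0xe3028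4160450000008100a18284000068500140040a0000a021c300000000a0624200002838016008061200000000050000500002000a010004680000001122300000a00284020d115000030100000000a0028008001801c34089000000a021c0080030004161458000340070014580001c30000003000e14000061c083000c4802c040000a14180061401a00003850014280200000170002800084000161c690e85051300034800000781000000010184110e00008061c18000008000e00000004c68000445000a00000000000700647040004216002c000001c0000110605020028802200100a043a21a0108c00009810c100082000e870003a800010010021c30b002800b142c700220018034000000000a8000580800000c001a008000000000002c0050a00500024000000340000000680620000400000000818000120c28006048800a0c000001c0921802907000000600000030024bba0000000000000006000000028000340001400005e83000027061838b001918a00382200000500002801b0a2028000000000018b8000000030c00000001c2800000685000400000242061c640850a000801a4030c0000000000031500180800000307e400000)))) (.node (.node (.leaf (nat_lit 0x40b1e4000b123c30800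3444d0000800000000000000000400000020040000000043c021872a240000054100001e30b240009f060000250400001e0000100a00020004f00021439300601000898000003800000000003800007120920000000001c142924e0048e020cf0302001000000056003c02500240091a34f2502703821e0800018c80001e7028000ece0000700000028000000000022007192a00000083cf9f18001000218000000000000000020054f480000000000c018000000010000001c6408100a80041e00000320000700600800038000000019d0010184000c0001400000000c08a0038c800c9400b1e1000f080c00000a409f000000014000001c002003a0000b121018f000000000000000060f800438c8100bc00000004840624209080c78300100000000600000010c0000000000002d001018f160030600001161e01200000001d503400a003c7850000880000c100000860b0000d1d004c00d141018f083c20a1e101870408180005010c000030b00000000e0059a0039a001a0438006105001e2c0035e64080000000000080000006f80002c0392600509000c70b022c18f080c0000c3c0000450000004c10c00501180004180)) (.leaf (nat_lit 0xe2a0000f080c080001400006009000a18003000400014005bd00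28080000c3000000000260038000200000000001000000000025e70a18000f0813864600c806671e630000b11220050000000000058380005400012000000000800001c0230000880461c707306918500103800028380000001c0001381005800000001800060580422c612000000c000018000680000000680000398600007000000000300000100000000000000460408000003000600000020000000000000000000001cd801b980000000000040000000740010000000000008314000162e44005442c1801404000020000000100002000014000000000001800000001240000800531000001d8000000062600100000108000000000800000181000a001c3360001d23140c100149800600001070000080264c00a000000600000104041b80005d38b064800a3064a000000987a636b82006c00b301000014002000c001860e0020000000002a5405d2e00000000001700380000000d37220280000000003a000141c0418a0c001000600006286f5022604000b22401600000060000000004008018000000004000015000002480000048e0030000080e00012001c0100000000))) (.node (.leaf (nat_lit 0x163c0000000000365cb8016380020008e80000800000000080060c890010680c808006006c00604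00708000070c000b70000001000e0000806202023a38c80065458b01dc01a000039a36000000000e800c001000000005000060010300000e00400001c000060000228380002c0088900005000e0420000080020000000002c10900005800400135000000600200000a000000200a0012001800000403400010000000000e242000600484600000004030000024897040c000000030200000000618005002010000002131a004033028400003400a0000a00001c003022018000484834400a0000003000004380090039b04000000e40000005c1121c04f8e3a10680180011d00483000003b1e000000000200080e20187002c7190034000000000d021c2121800000006c100006c00034001000038002263400200003000000000443800a0000184160018400580000000402001802c0824a80000050000004880658f8000000071a0000006003080000380000c407000c300000c5000e0010306000000600008000068000006801a00000002801100002000c4c000000000908009806c001020000380225400a00341030002d823a0018004006800030300)) (.leaf (nat_lit 0x4800c081020e1c3850c04081020000c021c3000600006002800108204061820000004c6071020700101020100304870a202060618007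0e1438300249870038607000c3070000001160c217020448412149800610b8526300000e5c2811c0040302183851c640030c2018400003060a3008302000800838c800e300050a0c71902203070024485000c001000038c080400e00104050014000180040e0c244000214204022808e00040030018a80021c08a002418a0200006024828500043830624000000c180020008c2630008021020002100040c0c00000480030a4000508180800850201002000306100812a100042e0c48012000803018083080018000001850a000060014a94022c508120018322100010c1000d000c18400002810818a01002418300000852a34a8000000030a2400506000050a0018000000010e04003140028b000048700042860000507005c00100400072a00020021c284002022e0000a000c040040010583000080100008800014010241001002009032c0080002000051800989062000000044800224aa0140050b2a1c000000088000400002e100172e14205)))))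
noncomputable def I8d5 : BT := (.node (.node (.node (.node (.leaf (nat_lit 0x800020380000010200080000400000481c00000000b20000ab80000681000000500000110000000001828020141900e00000340400500081001c0008e0c08102040838006000ac3c000090010a000000000010000034040003440000340001a000001a000000034004800e000010400000040800204081360e340000008102180000000009000000807be000080c0001a00000000016c8000006000030007000010204080003c0010210081020408380020000058080000008102000008000449800e00000000001800000000000000006002420140800e0000700040090c00014020e98000000801270800040c0000ebc00700400020600800040418000001030000800040c780000010106246800000103104000206000000008180160008004041801600002020cb000000800043418000000000434080122800804000000404189160000b000080004000801200000000010200040093800002040868500028800400400161050000105021e000000000000000058224001002a105000058004080800046000022c2000000080001000100bc00781021c000001c8070e000010004800020ce8b0000083380000d04080020008000000001d000003c))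 (.leaf (nat_lit 0x3600000000000000000000000000000000000005c08300000000030000000000000000040002e80000019c00000000000000020000f00000000000000000000000000000000000000000008004800000000080000100000000000000000000000000000000000000000000640000000000000000000000000000000000020000000000000000))) (.leaf (nat_lit 0x4a58001004c408001000000340801c00000040000000004800000024000000002000001a0030e0600000000020a001800a000000010282830044b8d020088b100003b0010080020000800006c5082800012440000000000000030474000009600000140020a000400024001020000580018c3040a0001650040000000000001828000000000200480040000400000000a1cf0b0000080002400032005000400004081050414105000400001087800000000801224000c438000240020a0a0c10014005000c04000002400112000000c0040a000048d002850a14045120e000053c941010610000082800e0000105086c00600184070a0c78800006810000005040000c00080060e002831f980170000080000000000000000000381063c280000008404100021a000000c0828400043020e000050000000020c20000002005a000000820005000090016003000a00385006d7a7000000400587000009f04002400b00009111200100081c0000a00c8c00041800000002080000000841610800006082800d00105000410207000418f001401c0000001060000000001040801d800084000001800e3e080003600000112838b0828080001050000003020000385)))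 (.node (.leaf (nat_lit 0x598320000b0e10400248420000005000010212045400004807000000c081c00000000018010280870000000002800000005001600000100000006000002c1068300001000c100002400789003400a0000100066000006001041c34000002112b1c0008000185800000080000008004080020008000007058200240010000000040000c0200004000a486100400800040020048000000002000004001028000005020a0400019000000404004352c105000000d8e0004008042558000386810400000020018f00000001c1c200000400e0c00100005400000001004c0030006105001e2c000065440414090860010f00000818002140000030100021050600010443e2448200000040000002000e4000e000000000a02005c0144c00e80040098012000802e0000300040231c1802500000000028e8008280010000001000000204080000000e550800000005802d2e000024090001006c006080011f0d6c0803e0008000001002e0270100000004009180000020000040200000402000001b000801500002011c00000400011d40880020000000004800000001002c88004000403f0400000005498b00480071c3018d020000d0200080001c003002c000)) (.leaf (nat_lit 0x8210005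0e0c0000004027000000500000081c000051000080003c0000200080120028400000180e00000000000100040030000001002400c5c0c00002000831e0000016000050600c80341400000280001a000110a00000260001b0024080063c48014105050e00980020018f002c38002300000e000031e2c01a000018f0200001000000d000000000000000000000000000034000002a50000005c0010030000121801418000000004003120008000000050c34c003c300000004009000c000ce007011244000000000000004800000c05000c28b3e1c018102488000000000600280000001a00007800010c80080000000148800c014283a000000000080063c0000000787001c0000000e01000c000000000802006001a0c48616040030c00200101c08000e8000060000028c2b0d08040091e3000000000000a00fc70024c00000c000165c00d0000411000401a0c000000638680020000002008800000c990000000000001b0ed721328000111c0402a000060066010800038287020180002004aa1000000081c40000000002a00000000008012000070000000000c01600002801c341800068180000000414014801c000000200f0000000001200006)))) (.node (.node (.leaf (nat_lit 0x2005802000007004000b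0018002001c70016040061e7458404000260e88300001140000002000000b8814012110000210000000000105020020043000030000000020000000001058d00001220000000220058b0002e003e004800008000000020000540000000000008401d0624100100000000400001800000009800000000020008000000260020000000074000000000024005ac0008010000070d00000010a4000000001210080710080000b00004020040000001000000001001604002004c0221c341804624085200001800600800400000004c04d080001e02140052000012000590004000000038680000008720140100a0001d248818f020400200000002600180000400700140000200002442e30004000000838683a0040002a0400500002800a008000014007002008000dc100200090e1a4d18002000100000000080010a3600000000150000000800a408070684000004811400000000001180200008014000000a00000200000704080000800100005f000000c89b02003800000481000c7800000d10201c000040800d02001000038013100008b200000028040000e0000700000100a000070040000040010000001000001e800000008)) (.leaf (nat_lit 0xd8000000290a941800000000000c78008d0000002000000000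100200180000000414200000004600000000900040005400000000000000000000000000001000100015800004000000040008280000200000000000c260000800003000001131000000000700140001084001461002006004e0068000000093a000540600000000000100244802600000006c00000c00001200000ae5800000b4000002400024000830200281063c0000024001063c0000000000000000000040000000016002401556540000000000220040000000830a000000a0400000000071e0000000000010024c010604004001400100244800004411002000020000831e00402303cd0000000010000e002800019320000202000000a000000814980003031802000310000f000000000000410900000380c00000005dc9c00340800094000003000100004061c3400900240114e0000724700000014db10058280001c000180028036000000024e8010008040000014000041200040093800019000000000000001c0c000000058800000001270000280001500386800000000000000d02001da0800000000c0000024681104400002440810000000100041101600800610000))) (.node (.leaf (nat_lit 0xe0010000040031e100020e10200020800032080000c012060c386800e580000000000003c00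00458000040070052080170064100160000010182822e386800000000000010004000031e2c009040020200a41000000c8200100000c105120000300003048000005822e4ca01000000000040031e0c0070008102000400938100002e08004040013700000000018017005c10506000001c0400b00005805c000080e1c088102028100485520e000890404065000060b0428000047c0000034400000000200181000000280004859500005802e00000001051812006801000780001800572000140200007000c7819e1c89504001000000e0028301161c0c8b42a08f80000010000000000001400846c000240000600180000078a0d02000000000080063c28c2c040000008100003c000003012000000021a0030200200031e000003208000000000500000001800000000058200005800a009800000780007c006002c00b082800f1010506000000030480090c00595360c00614000000024000100020a000800b00084000004000005000802008800020284009800b00000042c1c680020012f00008990400080002810002000000004008040400e0000000)) (.leaf (nat_lit 0x50000005000000200000000000019800000000000001900000000008002183060a000c1830604184063c001000050002000030a18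3000818000003420c0c187000c142830c1070c1818280000018c1800600000068c003820c000000c00000830e0028c060c5051c0068e00148801a4400022300032650580060000c1c34000001800502040000a1018006001810a540032200000000098d061800c00103060278383020c7800a0c006081430b0600083082830000003000600285061c180020c0000600001063c400001400006040801254285002c600004c000000000006001802810906061428106140850000001063c08908000840a001800a4c003000000000141830014009180000b26001801c141800068001063c00008000800010013061c00b000000000140830014080060000502200000a0000300380000e0418c0000001063c0000000000009c080000001208280831e0c0000000007002c00c020c000180400c00b8005020018f000001a003c0000000280006c01400003050c140003004003240000106300801814080063ca800004000003000600000000000000020c7010600880002c0061c3068106040000200000001408c2a18292)))))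
noncomputable def I8d6 : BT := (.node (.node (.node (.node (.leaf (nat_lit 0x1048f2424d1100442800000000002400500007000000000340000000009891e00000140001f0068000100002e000010000600003e28000001400000083000a14000000000e003c28500006800000480120000e1c20000101c1800044f9112000181a440001a0c89a303410300004850a00483000000500142850024000001428500000000024000000088000000000000000000000022000000000000000c01a007c285002400e000000000142800a1400000000090a14280001428700004800000011002418e000c000180010000300000600000220001100600003000600000000000540000060000005400500080910000880120028004047051c281010014702020400562081810014010040c0810014000020028000000800a0010102040050000101020028514001800004005004c00000000050a4c000005008000040050a000000c7400000042850a4c00000040000214285260000000040000000080020008700000070018580181858010000070220380001c000002400d00000050000006161400000000004e004800014000000028800001800000180000089a0068780005888000000010000b0e1c000810200200100038f004c000000022c))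 (.leaf (nat_lit 0x8100009000000000000000000000002400012000000000000010048080020400000000060000000004c016000000000000000000000320400002340000200000001c00000000000000000000000000000000c0000000000000000000000000000800000000001020000000000000000000000000e000048000000000000b8100000000000084))) (.leaf (nat_lit 0x1602000040004080000048000480010000000660800200000802800381001c001120400004000060000314008c39400003800c2c0020014109140018100040800018005140000328000000c2c005040ca00000008108000060a340030c00001020030b0018000065000002040070e000140000000000000000000000000000002001314004800004201080028700002803000800000c013001ca0100100800c185861618587000408700000000000000043800700000800e1c30b0008004283000000280000000010720c01000103940200081020000000300002604000000000000640802e000000000000002c080000030b000818000009800000000000420100380000c2c0020608009004c00000000000210084080098a00002050000119005c000000000000000001604000000400000000000000c920000b8000000000204300002c08700040080000000000000e2a7001700003002a000001604380101c0070c04006160000000200001c2c0153c000002e000000000000002c0800c2c3810e1858800185800228000001000000007020054e000018017000000d000030b00000800000000161c0870e883800c2c08700185860e000000034000)))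 (.node (.leaf (nat_lit 0x81c0060a202000c2c000007030000bca01000001300000130a0000d0000487000060118000033c5008000185800e50080005c0030000d8d140061200540840018004003000000180000e90180000400000000080000c80089400000000007018000004c000001c008000050000005130a0000500000120a651001e0400000244800a00809143c000001420026587806a540000800013040031e00200000c2c0060e0030b00313801c080000000000000000002000002640000000000c00009800a00009143c8030001900000030000107800e00015000001a0000000003c0002a000121800b8e000c0150000000001000c00002000000000000000004000001e0000000000000000000003c0000000000000000000002051c00000000000800180000000000000000d000078900300000e0040000004800000010000001600000050a0000500001801200480120000800000053e00028001000000202800000b0c040001c00000050000a80000c0003c14004002430b00000074e185800000000000020000000000014000004800000580000001480004c0000000000000000026000000a0000906001850000000006c1890008009148cb0900000840e00d00)) (.leaf (nat_lit 0x1018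08004080800000000020490000000840204080020000f000c000000050900000260e30007000030d0000980022478000100001e0008000080811e048020618901020408004040154a000020c48081020008100100000000e000060500000060028185800804008000000002040071424001000120006040000094100000000a00083120204081100408002000810804084120000000500810004000000c01a000000e400030026002000000500003001b0800380000da00260000000040810000000000008002242000000100020008008080040200c000000000000408104040810004000000018610004810204001000060000000000001b80100000000003804c3000c0000002000400000000810004000000000102c0004000000002040800024501020009b04000811224000005800006000890210200000400102000810008081020008102001030c480890238f8d0400008144400000080060200080020468102040810611d80000c00000000000034180000000000000091404018004c11602040810000000120000000040811680000000008100040000008080023c000004c1000000101022068616040000804004000400042400000600001)))) (.node (.node (.leaf (nat_lit 0x81c0007a1039a0800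600101c0052c000000000001082400024101000610004000000400000020800000000001c0018591081c0000000000000058000100000030000000000300042001800283080000000ac084000000f003cb80000000000d8000220420c50000001c2400000002900000000000000c000000300000000000e8008012000000000000c0840010003063c0033c0030b0000680000000e000000a004440018002800000480000008400000050010d80000000108200150c2c00012000000038000000050022001800018580002018c000070000ac0001400400222018000185800a0c20c000070000008002200411000000300001030c74005000000000380000058583008441110001800e185800a00d0000007000000d800040000100000000208802224400000000000000000000f004200000148440000140000c0001c00000001c00000020048000448800a00000000000000002801c0000000005001600411000080822000030a0000008302a908004801c000000000180000000a000019a00000000024008001c1063a7800000302800000000000000012381800020480000001100008801a449000a00f00000029500000001c00000)) (.leaf (nat_lit 0x4080000403c00000000004080100018102000000008a010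200000143c10100206861604200002818100040000000000000008902740010000080000018d0001100080000000000000600e00000000900000040000683000c802000060000000002800000000000e0000019040001114000014650c004401502540400000040004000000000008102000010030c200000000080400400040800000200020008000000000000000040c0810000210000c0810004020023808840000800000000000000000000000200081000020100000000200300002800100000800600004000000a000808a040008100000101e0818000401030c0408000005000600001080c0000200000066000100000002404000140400000000010c00000006c00046000000048000080000000000000000180002490000e8000000000000000001e0c19b100011c0000000000000000001a6000000000100000048516000000d000400500000000000d8016000070e00080000000000000000000000009008102000010008080066000000000000000001120808000000800804200020008914001000c58080400000100000001e0000514000010204201004c11b0e6c8000418080))) (.node (.leaf (nat_lit 0xa00002400000640000e5c000080000000000000020000000070d00000000a0000000180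12001c0000010006000000000000000000080100000000007061634000000000000000000000001005c0001a000041200000000058000185870c040000000b8110300000001090001000f344038000080000000000000000200000000214b80000000000000000200084020000004009080000600321c00000000063a00800000800a121ca0000002800000000240018b002000000246810024100100000002000000054007001c008001c006161c08c00185870c2c088000040700000090a000210000680000000a00000050a0000000000152a0c29200b4d800000003320000000007803c1028000000001800400000041700000092000206100000000000030028000001400004000120000000000000012080000000002065000c0000207000040000004000200380121c000003400800000000e3c480180000010046000c2c00000185800000380141c30b0024007002020000246000c2c00e00000001000380000000012000083800004000000028000041200380002438600004800a094004200000020080f0c2c0001400005084010000000000654e00)) (.leaf (nat_lit 0x8ca8000000000000001000000000000000000000000000024000000a04285060c1941a081020428206040c68a101ca0d143c3820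00000d0c002140824303000000400000020018003020000d1034203060418808004830e003030e20683182050200200030408000000448010001811264388060c0800088a000434181004c4881a00000142868d0210100046410a00009823618e8102200220400683100000114100022c080060008000320000108048020c740001a00008040400004001000000380043400a040c10624000800428500000c081180018000000070e0000004201061254900040000a04005001e00410040ca08023080100340040000000180038800001020000200060000100201010000008007c010040c401029080102041000000380001c00002005021a0080f040400e141808100000020e0000004281010010210040ca0302000810020001008c40c0400502000839c0e006000e00303200008d0040783027c49d203c0030204089040c0001800000181000e1e0c000000040010007800204000000400f060050f000c0800200000324808000040001000188003c00004000260000380000c0000400084003c08130005030204001)))))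
noncomputable def I8d7 : BT := (.node (.node (.node (.node (.leaf (nat_lit 0x3499030781000000b0012000000218000040800004000000000000000800020000190000c8000080083c2401e000018000789192e30e803c580020400000001400c008410004002850a2000034000002000000320018d001c01900480202e00c9e00000171e000193c0018000000050a0000000006850a742850000002041428018002800c000100401000000c4001200010060000e2400000187800018000006a002850a00100000c03700142850a14100000010c0a140030a000030400000040c0120000188000c1000e00e8006384831a006802400b9200000003c2c01c140011700000003a5c0000000005000c0923200900000028d0604005003018100141830204f851a0c5011a1401306280810014000020028d00000800a5c18102040050000181020028018005000004005000000000000050a0060a00440800004285004c00a080000000040050000000000400002142850000000000400000000880200087001c0072c1058004105800000007000070000000000e5401a00000004200a84160010e121058000000000000711082c00000084000008000100091924004130000003260dc0100480000000081020000000003903e00433000002d))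 (.leaf (nat_lit 0x40000000000000000000000000008001000058000000000000000000001a300001800000000000001006000000000010000004000000004000220000000000000000000032800001003c0a30000000001c48004000000004000000000000000000800000002c000000000000000000000000000008100000002c00081000000c0000000000000000000000000d8000000000000000))) (.leaf (nat_lit 0x110000000060004080140000100000010000100060c00300000802200380001c0010004482060008400182110c003910000380082c4030000000000000000040800010000180000a2218000082c005000088000000810c004840a0000a0800001020020b044c000144400002040070e00491100000004000000000000002440006001000000c0000043010c002871020280340001a0628200461c881021808608105841610587000408708000000400980062800700000800e1c20b100c00622380081000800001430006012800000391020008100440000038000000400040141000050000082c00000000063608089002420b100c5000008000000c00002043010c18009082c403140c000040000000000000218086000000c0000019002401400005800800000120031b0404480120400900002803400a18020000b0000a0002040003608087120448010004800a00100380000016000000000a1b0404389001c00708040041624080001400200000000000000002c00000002003600089082c3810e10580001058900300000000005000800000700800010000160000f000020b0024082040001b001c0870e00389082c08712105840e004801200000)))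 (.node (.leaf (nat_lit 0xc1c4840a00309082c00000082010058000000010002001000a0010f000800700003801c541100e4400e00105800e440000010580120c88f003470206100062a1000618000001a1000000344000000a80000000006380000c9c29b040002400000000400000201c486000061000006000a0000104000000a000000400100000c0000a00000067c00b0614002000003d0070000162410000284800000709082c890005420b0000000200068000000036c00003006ca82004c000000000e12080000a501800648003003400804002001e180000e2400e122c880000000e364c48200500001c00003180000000000001618007000030012000000000000000000900400000600000760c4800034000000000000000000001385000010000400020870000000800000002003200810241c4920e543000000e80000000c4a0000000000050a0800500341800000000003480000000050000100061840d2800283040070e00015000a002802a0000d220da0000700001c0020b000030000105850008d0b22008061c7000b00149990034000062c00000008800400000000c00000f000200000000a000000034c800a0000004280002618000180400032080860e24408)) (.leaf (nat_lit 0x1008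8060c082040000002040010004080020408002386000628000008c6001e000210e58000000000f0008000024c80000183801a000802e0c08100043031410c010204088000401b2e00080082c0810204080001800d0400000005c00000000002210580000400026011800204407000000108247800004000005c1801800000000ca180200080140008002000800c000000008017480008000000022c2800000581004801902000000014106002c00100120000f502800200100060004001000011800280800200302002868a02040800c0c0060200b8200001290004081060408002040170000504000000100040000220000060000d2c08000440000200280085038008001c100060400000000890204009000050102010a21200000020008102006010200080060c080000008002009001444081020000000040800000081000c0000200001020018a0860097020000006340001800400000000102000001a000810204000001810000001000508100000050f0000000040801d1804000000000002040810024309003c40002000800000000289808100000811e0c00000004170400e80005c181020078416050000c040060c0400200300001400001)))) (.node (.node (.leaf (nat_lit 0xc1ca8000183990cb070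9001c880000000000001810cc00000000700001848000680001c3420b0c0800000000020600f9f0c1c40d000000000c40005618480001c0053e3400006043160e08290003c0000000086009c70d062820002000000020000320430e2c0c680000000006602808000780000040e000c003000002a060c0000000000001c000060c086121818200200001c2420b00003830000100260010c10480001c10280003800000000862c38885000000000001810c0801c082c00042480000400e8000346082400b002a105800034680000800000640011820008240088000105800a09580000802c00689882420012100000c007018a080018500300020400000004cc000400012000018038105800a08000000801d0a140001a30f88000041f100090024000082c001000000080000000200000000020000101400000680800c141020000000000061010480080a0048000000800400002001800000240103020012100010024081000a0010000002800c001820064000000c0000000000200c10200201000000080000018416bc02100000020008000002078000101021000003042051200009021e800000a00e0000002800a002820048000)) (.leaf (nat_lit 0xc0400100000c400341810204000000c0000200080000c8810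2040001840001000078416043204c30511000000004000004c00081000000000000000c00500002c0007e0000308306801410000146118001041a4000078a0000983200001a001800d308040d0000100340000400000000000301000000200e4000000408602041002a0800032000000004081000000000000000004086300000002000000200080405c60302041800628081160000c060000102040220200080003000000080060000001020400000000810018000000060000040000030500000000d0000080000018c040c00c060488000003130000500000018a080400006640000000000000001a00080002e0000000604000000000180000010040000821481002800e0004714002c001000800f082c0020000500000030000000000400002000000c002800000241800000d804400b1a010c0281c080000000015082c102002058014004000008002001400000000070e000800000002000002600001250000e000200001040c000000000000080002a00001007400002000800c0030f0418300184000108000064a180800000100000000018100800204300000000a0e141000610080))) (.node (.leaf (nat_lit 0x2800016500000c445810c0000000040162800009020800000000030a000000000018000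000b001810400000092200080360809600244001208004000000000000000000000280000100345801e00000000000000500002a1058e0804a87001c0010000485120800020180000000000000c000000000200000000000000001400b00000000000007022400002180000650000000070d001ca80000001b2c00980000040c0000880000028002000143000511000000b00187800000e9c0000001002400034084070038b00001c484161c0071210587082c0001c2410700341000a24100004003e000000c0000d050a080001a001800000280047c00d161418328002941208680001828014087811c5800908240041600080264033a000000a000040a003000000140800000000009008600005810000a0000246831444007000030700000001a000000200381001c481003ca02103c0000e000001c58789000000d082c00e0010580000038000380220200480020c008220001536000080e000002400380000038000008043c0800600000001a000061e00389027838400000000a0028200002800000002080128418000000c4c00a02b81030070000)) (.leaf (nat_lit 0xa0028514285111e0c1830630304062878c001c8901840383102448f08243110c0020a122410612204032a1000a022400f003c30014045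000c0000a0e08a0a1c0078a1c00603280040a000c08000040000000501000038014280830400580063c50104000001e240881830790021018d0610180100801d14100010200100065478a00000011800688260c504100010908204810c04303082ca821e00a8004044080620182180c380000000c06281841600000063061000000811c0050014083870e0001e06001840010589062040c06206081e0001306288800220201083c50600080030e00380008c00300203001440581000000104001800000013062810102080010204002060038d003868f020c00000009900604808001008100001031c0800000000011e18013062889002000812000001008c100082c60314000000e00389005400a180c08f000068a0200b800000000020409706280080e00400005810020004881200008000080a02040000604990140061006280800200800082c08002040000034500183401806909a10e34700042800606300862640081002000a0204401)))))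
noncomputable def I8d8 : BT := (.node (.node (.node (.node (.leaf (nat_lit 0x1020400c80000000000401000428002049c602004c00002307071a0030000001020c0818200041063a082000400102000c10202080010400000163400000001020408300000020000000000c00000040000230005820e080020008100000010000001020000300040068200001000000005200800204081020408102041098000d43800000102001810202181010008b000408002420800204100020000102000410204180000e14802000810204081020408102102000004080000060102040000204081070010102000021104080040408a820448102040000600081025268f820409480347c10200000020408102040810000001020000000040988000001020000005040800c00000090408000000810200005020408d050228102040001b0a0810008380050000102042c3051414102042c48004000000a00102041000012280070a0010204001001000d801408102000010204141800000000002000000002800824300000030d06002801a0000508000050000384000000030000060014080020000000000800000001001828100040000c300020c0000004080000400102000050a040800000980050a016000014000000042c0040a3f))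 (.leaf (nat_lit 0x14000001c580000050000000000a00000000000006000030000000000000100000000000000000000900000000000000000000000000000000000000000000000000000005000038000000000000000000000000a0000000000000002850090000000000000000000000000000000002000000000000000000000000000000014000000000000000000000))) (.leaf (nat_lit 0x7604188061c2801e00286006c0000e0028000c800000010800a2438c0614017280050018c40810c00b082e1440300000032c0000b100c006001000800000000000015002003d000c006003400a100c283000018000140000000080080038600000000000400240870000000050000080000008a020001d0000030340001600040800000003122c00a000000000002800001d800400042000448a0000185001800510200890620180000000010001010e2c1000018000001c00000004800018280060018000000000008280160848a02000030a28007000c080060018000000001200008000000d12000000a00680160c481000400a021800000000001c01c85061400300580010028086020800000003801e100000a18280002c0000c0000c04000801a24000001400502340000024080021000100000000400280003448000002801004680000450008240a8000008000000800000689001c0050000000000000400002801000008000400000000000008405000c00d12040000a000000000481122800000201800a20001000c300002c50000000000000000002068900000800a044030a058870e34000000000000340040028280082400800140010201007)))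 (.node (.leaf (nat_lit 0x2090000001002828000003000004080000c08c000400c0000a80001c600004400d0010f07000c38008003800000680080438002000800a9400300000000e0000600009800000604000000000000001870680220018e0c00283000080010300000e2c0000000007003c0003c000000400100060000204080800000036000000800000002a380000608707160000080200020004003100420000000080004187000000000000000200200000c880000000f0000081160001e00001800800000000038e0000000000001e0e0040c00000000000000400400088000000800084000418000100000000009060000100040000000880003c0000088001000018100e00001c24185060020000000810044000160000000000020000c8b02040001020000001d1c60c8c18000000000000000001020008002002804780000000000081021a001000408133000000008000000e2000d000000c220060000641030e2c0001e004030020100020040400640230001d000000000000000032005000e00080003400f00000800e00000000c000000000028200040004000003c000100020000000331a00380004800b041c00e0e0000b0e0000b06001802244001001070c)) (.leaf (nat_lit 0x6200800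c184001c000001200080022000900000000000000000000000400000010000000008008205800e1c5881200000060000b00180252000189080d6800e2450000000000c202884a0000400040000204000000c4000e2c18706dc3350000004080000054003810000200060020000044861c040040004000081c3010000380021848a0000400002000114000000678006081c0010000005000048008024005c0002f000178306002100000000080020402000042004080060008000295000028080000002100000000000300360008400180001400800000000306000800c000000a1478000040000a002800820503000000402000000000000001008044000000000200260022508042000200500020400102380001404180020000012004000600000000440000040000c040000e84006000c000180132d322400800a44080c100800010009000048b100c78100001830f0c500000000002d860a060028a0a2058000000000800e871620087000063c00180800600200080040000282000000000000000606040000e011050014007240000024000000a0419b0010a05081c0040e2c000141030a0018008060c0001802588080000700000000028713)))) (.node (.node (.leaf (nat_lit 0x2001c0c00006000040000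00500000040200000021000000300000000084000400000000800200100000000002000000001100000000000040001e00080040000008440032220002000000400000000000000001000000000091c00000000000022000000800eab0000000180c0035c000000000000083800000000001c3c00008141210000006184400000100000000000001c00000340000000001000018a04000020000680220008000700000400000020000000000000000000000000000000000000100000c502160000000000000a008800e0000100000000008382220170000000150030000003c00000000820000000081803a00000000c18a8000700000018000001000238002230034c8000000380010000000008200000000000000001c107040008016080000400086000068100000000008200180868000000000cf400400001040000680000038004d0100040000000100040000007540000000000000808dab041c00000081800400006002c000000000102001000c3001300000070000c02020800000340150000e000c9c00118004000000002001c980000400004000020008080040000200004ca04000800000288380012b0000200)) (.leaf (nat_lit 0x2e00607000000000400000a00000003831810000000c101890a5c2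95001800a0a000090630003202000a00001800020204000050b0a1400c0a000000010080000000b000000000380060c0c281020060034f000c0000001001000700000030000004001c0000010004000120b00000000000180000c5801c007803e1c28014013000200180001060300000050e00b80009038400002800a00280000000500b00051000000000070100000002401f010004b09005c7033614907063000000005000800000180028a005c003265c018028848614016851c100030a5800e00013094800580020c28072c8000001000006003000a000801200005180004c60143800000700002801f000000b00000000000380000c28a00140001000003000029200000000000080000000000680036e00000000000000bc009001400200083000c0408a0c04000603808008000010248180001000106000000008010182c20a02000042e00081040810000142800058b020c0008301240a99a0028314001850a982800e1800200c82800000004087c0131618280001c2800004001001050b001c00b10145040a005000068000007c2840000000060c024002c00600003881c24280))) (.node (.leaf (nat_lit 0x2000000000002043018d00000000601380140000702042811204000000000204002020400d8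01a000000000388002d401000c00000000010604000020000000000070008000000010904040801a000000000000160050d000038002005000014080000040006002000200581021808006000060c1838000000000010000047000300340010000580000c2800a04003000000000000003c000040e002200e000080000006002c0000e001870000080000800506000001a00481000c002002c3000000000000400000040000a00200160020014000000824000000008100000002600900020000b020401500180000004102000c5020408100000068000600000000000109c023021c000060c00000000000010181002418806002800004080283e0840c180008a00782040800904080030000680020000216000023a0400602282800a1400008000000000000100c000200020000a0200003000d000020d0000001080000000180000018005086000108000000a003800a00600000c0001200280001008100140003200003002000020000000001a0606800800604004001c000003c580000800000081000038003100c6800024002000002002040060020500)) (.leaf (nat_lit 0x280000000000000000000000000028000040000004000028000006000000102020408300183060c003080c0400000001800000006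00040801004003002c401020438002000060220700020440000003010000080000058100384010000001000000602000800c181800e205870010080162000002040010e2c18000000010e2c1800004000000000000203010020200001c580062018000007000c0400106240830024706061820100184811204080000c006123008018000800c000000c3008700180000c00006001830806000040800600020408000040001004000000c0100000189162018100000000c001800004380080418012040081004300001c30600100001000306000000400201800e004090e0c000004008000040001204003062000700380041200009100030400000000c240040024000080000600004000000581000000a0818180101c000000418012000001004006011c000001c00400105801800000060c0040294000001030002000040c004800004709001091a08f808002001810200001000000b0c0400000200870004003000c004120c001001060000040000618000002850e001000100000000000000000000020187000000009)))))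
noncomputable def I8d9 : BT := (.node (.node (.node (.node (.leaf (nat_lit 0x10001800e001000000788000400002001000008002040810204844000000000001c08200801060208b020000100040000206001020024102000000004080830e00780000010d040000004080221000000000000204001021604102000030000096090c0800c0c04100001800804001890200102020400200080000408102040010200004080004007162c102000811c00081060408001040800204000020400302000010200001020408081001000200001020408102040810200210800408007042c10204ac102060810e02001020404002040008004086020400102042430000081027c6cf820408000367c1020230082040810204081010000102020000104080000000102020000004080800000085040808c00081020204282040800a0010102040c0040e0810100000000000102041c0841400102041c08100002001400102046c1000a00000000010204283090400500060810200041020410180140000612007011c04001000000e020000e000020108140801a04000020038000000001e040000a0078000303801e000000c00000160000f00005800008102040810204081090400102122090004080813a11504000000002000860c00380000803c))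 (.leaf (nat_lit 0x2800000000010000000020000005000000000080000000000000600003000000000000000000000000000000000050000000000000000000005200001000000000000000018000001022100040000000000000000000000000000000000000000040010200000000000000000000000000000000000000000000209080000000000000000000000048000000000000000))) (.leaf (nat_lit 0x4001800000500440000200005830030000000048a00000000600000061008400040000e00000004c0050010003000008900000810a0c0000000000160c04900140000814489041c08016100000a0c380000000e1a10001000000500244870024005020028300000800c0000400142010230003004800000301801a0000000000000200005160008000003030c3800100000000000001100c58a0e0448010003840014180061418008000810a01300002c38000342010800000020428000000060604000000430000500000c0018a00100891600180420c183060400000000000000002000430e000c207080070b000c2800000283000c00c5200000000008000103030c1c2000a0c00000080000e0c102040000708182060000009001400016000001c001810010004003800006140200018000140010004082000c3800300002000000709000c501001400d00000001000000020070006240040000000280008006042010a04005060030000080000008104060c30e000c180080000000002800a00081021418d34141800c2400000000020000002003000c0c147000600006080028308000000038580060408102100800a0c201000018500100000001900)))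 (.node (.leaf (nat_lit 0x400500180000a0c0420000000000002a82d0007380008700000800000781000c08e000000f020000100040000000001000000000000010000080000000000004001e000000000000100040000000001000208000400000401000034b920000000001c001000400f0200486000048604000001a0010204087001000000000078500040000005c000000480002440000000020000007140000300000800200180020008000040005604003024000000040801200000160000b000000100005801c2c000001c08006507870000281022401a0200201000001c2204000000000002000000000306003c08000000000c00a810000180000c00000200000200000003c000000000b000000c1800780000c000160020000000022000020400000000006800200600000c50020000116c0400f0200b81000000118000000e040190c08102001c00204081000004c170e808952201c8e0000c00040808006b402400004801a00a800040103011438000000001000880100008600d401c0000000000000000007a710000000010782000020f0200030000008000000000000003000400d0c300001c000020008000003c00700040070000007120448680200000200008)) (.leaf (nat_lit 0x140000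0002810000007000000000000050a0008b00004880000000008c00000000af02040010000680720058300240080628089100002302002801e0000006001810004000001400026054800a286800a000011004280001c1800020000000008006000082a000001834007000000102000030000400000000f0000000003000000000000014007021463a060003a14003011a003ae002c0840010181000002710004001400000000000000044810004000000c08000002870e0000694000051a000000004083000008010000010200000000048014005000000003060001a0200001000040002b0005080182100000001420080008840000004001a1448000000811404008000400f1e00500001819600000000600001140018a000c0000000000062048100002a30e2c0010000400000c0000028000026401a4814d1300000000000001000000500000000a0c0001658006160038018000000054000000020a060000002040074c0c0000e00001000240800000002c00001000000812980000249688000058a00000001a008043c10380008d20020c40000001500001c008002c031001c00000bc00a0a005851464000000000c0030080162c6001a10000)))) (.node (.node (.leaf (nat_lit 0x1204000042808b0608080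2a040000e000000030000004800000404001600012000038a100000000009000000280000030b1004414000000000000000400002862000400000000614000100000f4e000000000000083c580000838000000020200680000400100044000400400042800f04040000008101000000000000000008580000000202000000000080020000000080000200083000040002000060420183002800f100000f060000000306001e2000e0000400000080c000040000000041e6008000180021000186000000800040001c3c00000003a5020841406083060200a88000462c0848f080000f021050182040c002000020010000000000e0000000800004100280c000040830c0000788000459d080000c000068b060010800001020c081010418600040000b1e000000a5c0000400000000801406181810000400000000004000000c08700100000b00040006c20001000000f3c00000000801410000010034182160818004080000020000021c08800000000c080000e0800e0020000000c38200080333c2c000100010100f40000000000002c003040c7000600382051c002040830204001070c000002e00003020070004000000008714)) (.leaf (nat_lit 0x20b1828380000400c000000100000000a58016000018500002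010e000052a440051400300000c18910100091400022240068708004812c741803e58001006400c00000007600000001018000300000620380166000000480353658009060000024000030200300000400002000000030000000c000000068032102010000000002800800001b300000040020018020000036100060095800000000b0e8c20414200070000000000c00000000030030000060000d060c500760418400006870000c832c6820a0200500080000a00000000000d1d00000000800000006400008000001200201160038008140110000004020061f0aa800000040001a1c0041088181007c6a81a0458006000040000000121020400102010a005000604500040c0800a00000002000c002c00104940003e2c00700000000000486060002800000090000000002c60306200110c4000402000101a00400222c0000e31480000002e002851b000000d26100010200500000000000000153200200061c004081000d000001d060000100000002aa0007160020408000070c2830000dc007622c0000a00037000c0041200180002019c0024000060c304001c002029c600221400a))) (.node (.leaf (nat_lit 0x80890008102043818e0200180121c0000638000000c000000038d0200109040000922000001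c00000000000500000000028700000c0001a0000100006800034301005c009000010200383811c0c1800c000180e1020e000018000141810a1000100042810c0400200006892e240033c243030000000040000a060010204380030a381830e041180810001000022b12040091600189063808000040002634105071048000000090004001020130800084841a300031c200030424600101c00416102000000000065000008040100804005020450100000010a0020600000010800800000000d125c000000018900001120000682040010000bc7010004038060c0000a3020300003001400700225c08002004800e00805060010d12007800000000000c000002400200087020408000062470000740040e040800000600002800106102810000680001068112d008026040000604025000400402008800200000641c080000c001001c18000000001e045a4080000000000800600080000c00002000000010080200000016fd6810600000020000b14046800000080003c28502243800000000000810400004860a287080604280002408800003000214500)) (.leaf (nat_lit 0x6000000000000000000000800000080080008e0004000000800200000030c00000002400500003090204186121808000000060a0030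30c1c00000000060000000001400100000060218000002c001120c38002002800004300020448000040001200180001438002140060e000800000300001c0000018000001c1810c00000122430600000000000009000038006301800018007000030006040001200000140000500006000a000000004000000c0000e0000600000000200000002c0810018009000000006000060000486000000000000810200081020001300342850e0018006000030a005000c0038000001800a000050a18009020000002000800a000000000300180000000340050000006024c00730000010a185800e14080000008002045000a00013180058000143000014000000000002004850000000003030700001800a0008c00000000a0c081000048000000800200080020038306b80061424300004c988000000d000000000002800200000020001b0c1c0000000180142434600000070000500100000000000000c004090a280800200006020000c06003800600007020008000000030000081121800026204800000005)))))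
noncomputable def I8d10 : BT := (.node (.node (.node (.node (.leaf (nat_lit 0x44013002000b002c7235a8800008480000800104002c2160628011221c00026280000a0c100000000012042051600498080058200001800e102040408022121168008102040400204400c080004402e260000000140000a200000b2039e002c20412000004e005800000000081000e1830002440000424002043000000081020016c80112200e00080002c000c000200000006002000010000000060b048400410000000000f1e04080093c1020008102040010200081000bb6000110810013081001c08101840800204001529c0800000001000d06102020810584095c51a3460200000000b081008100000040804080081000408002044e04004080000100102000204e040800001381020810280819010200000820400003470811581000320408180060070204001c0000c0400408240060000004080132632280060004284081c00d0a1c30000027040800c995604000020c20400a8cab320030600003000c003000c0000000140060000706002c3000c142801200386001430b160038600000050e004000a0028010d89000a003800a0000e0014117c0081830000003017c580162400b2cb97818e0251a00040060c00000000000706c02840000004))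 (.leaf (nat_lit 0x44000000000000000000000001c000021800000183050c18300000123e00000000018180000002a0a00001020000000003000c00000000000a00000010c0000000000000a000000c0c306000000000000001400000000008a0000006100030000003000000000004000000000000c1998600000000000012))) (.leaf (nat_lit 0x608045020c0000c00302040000106140000028689000000200043000e180010c0030112040080000305021828702180070c040000a1c00000020807a00480000000100140952e0048000040800a1c00e766800100000000000185000929a000000a0000287002802500000000a003000004187000c00000000000028001000c0070e0000076000000000000000408000000001c0000000000000c0038600005060a1400500283800c180800a00200000000e00003000c0c201000050000000000000000000000a1400000000048000180070c0000502000000000000120800300540011400501001c00000003000a1c0030000280000011472000070a2400a200000000040030a1c0000408000000004500280000000000020048000081800000a800200000000000010180050e0018000285000010d002ec40000218000000000000103000a1c000000018000000030000000000008000000000018a050e0000300080000a000050e0000a120000000000000000501000000000003210a1c0080a1c006001400000143800a00000142448000000000e00000001430000000000000107000020810180050e003000000008000000000002850000400100c780)))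 (.node (.leaf (nat_lit 0x500140000e1c009000000000000040000605080038500004030000700060c000000018000000000f0c28e001c00012140000a0c283000000200280000000180800000d003c18000141050000200060c00900000030054000960c0082ed8180000010020000005600000160000708100000000004080000000004020ad47000c01c0900000000a10000000161d00000040014205001405308000050a15480840038000000040400b00080001d00b00000800008040001d08240050e1c4800c001000000002000c0001008283060018000140051e080030000000680c080103c7801000280064d6801e0311600000000018000000c4800008202003c0030001a820000180120028000001000000294820001a480c000005c1057ee0003005000000301a66a006000000056000029f001c000001c00066000070a300050000204000000008f4200000000000d010004b8280000040000001000a0020004000003abc2821c002000200280001021d18100000a24105081404c001c380243800000000000a6000406004803a1c008180078400002000e00000000020000146070544000000090200001008620e8210001890000589000400906080800004182)) (.leaf (nat_lit 0x8e0000080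10380280200301021808102040830aa868018141002e000090008037020818d0c141801a2048002007002600000000808200003011c040020414381020408002180030a05930001c080020008000003800000503166c00304280000e283824a180860001c05020400600000810c000020a000024a080800040080060028702043010618000000000100040800020480760008002181aa000000b004400200000081200100040000b00080002ce5380040800812001820a0408106002801800307020000d0000034020000c00000000200d88120810a000408100180810205f1b02000050004081020408102303804c080000000000006c00200080001c001003602c80000058004083010204000a0086000c0070001101000000301020000000000910200080060030300005140600081020408162180810200301b00030600380010008402001c0800005b89000c0000e90000bc0000002180000200081001808600000070000003100010222000241c00185342063a00181800064000020408100000000031180000430300000000030000140008000000800e0c00000006810c3c006000000000010000004100000400812140020028001)))) (.node (.node (.leaf (nat_lit 0x5030600003000c00a3e14280000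000f12001800048600000000006000803a000000e002840002a0028000000000003000000e1851480100028506000030000000000038f06040001800000001c004080c000007ca80000800510100000010b000000000000c183064c000001c20a000000f1e8018000080000039304040110812100000000b2c0000080005c00000003180014287001048000000000004000380000000000000000a04080c30000006000000380081000001680050a1c0041200e80300000014014a90018f8c0a003800820007001418000780803800000000000c00143800800007220002000000000008780000000000000020a1ca841200392000c0000000b49060000000000070e003bc082000024001801e20f0100000000008000001400a001cb003e00000440021200102030080080187000000b800c0400205001020004819000044600042c0003e304a24480200008420000000800044000262c00b0460000162c1000630000000822d000020500000040878100004488100002800a00500164c31518140000ef02000010200040828000000000a00003005819c06000000000000000c4003e00000000020900842000801900)) (.leaf (nat_lit 0x20400100180a020083060028007020000002180810000006000408000002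800200080000001e1c0000002058001a6c00000280800204301001830006e805d00008000000587360800010000030a001090a08000064c00206000001ae8100720028c0e000001a00b0814086059e00000001c00006c0d8812004030a184810204000000002a00080060c18000000000020000023404380001c00600000000008000018c3800000000040830000380000000086001920002183130000086022048332004810c180810c18081020430600003870000080000038600180000c000010c34000140c00000183010c0c0000000306020000200040000000085020000100001000034483501140000000000000000000000100003060a003010c0800d0c00000000018000000000e0000000000160018000000040b10240050064c80001410020000461040000001400a0e00300208c3850000103141c8041a00208000001a3620480000c20d1218080000408a0c000050a00001000000000000000c000011000000106c000003400018000001200200000c0000000000003001000041810a00380000c080080000000180461e000000000001040140000000051a28300))) (.node (.leaf (nat_lit 0xc800e200010000000000000a0018580000000b0c082831200a80080038062200000c00000080018546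00000000030b0a0000300080000020280000c00242080020000a00200040102000000a002000a000060000380162d4800a0000000002801a000001048180000000316000001408121060000000282800e000000218000008c20000000000014000000030b00303890618100000858226200000e20015420c10006003801210200000410000006870c00000000000000140000000000000c023001c000000800900000000a0000000000000a1c00d04140000800189000010300001e10001b0000000040000000009000000003001000100001004200002000014b8408003170a00180006000500000000000309000000028000022e08000000858000100006200000000c30e220048606000040014005041c00000000002a004800028683000000000140060000000000c186000c7000a0018300001bf0a1400000004000e003981c5400000002820000005000c185000005504009932400014300000026001000e200000400a8000001000638000000000500504840800005003400000029000a1c0000020004000002f08000000400100)) (.leaf (nat_lit 0x1980004800000000000000012000001200183060e181800c0138004081070000000000000504080000000380000800000041800a0c00500405021a0c40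006180000014182020c1800e000000004100000c80200205020a00002000000004000020000183060448300201010a2800004080804e00183000010110000000a0c08000000070228103001400002204800028001021c6820034002000c181002800000040050000000140818100040000a1c18a00000070a04000000800d00000030008180000000a0e0c083060000700080811a00000000c000000c0000400005122838304000000a0000500026800008380020000100001001e181020a20000000000100080030408000061460100241010638600000008602001010204180000410204341140c000001a000060004000801408100bc300040c18700000010400180000838302083010170001021828000000100000283040c00200001800000080040028202000070000002020408004a030d000c000120010000000011a340000400015020400000040020000000040808f02000000a1c0060204486000c100005018000140370c3418006000000018300000808000280020204381)))))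
noncomputable def I8d11 : BT := (.node (.node (.node (.node (.leaf (nat_lit 0x1810000004011804000012800002000000031c00020400100a4106000c0001a000000004600027c00000000800204012020008100000a20000ab20204000660400116141810204080000430200000020001c00000008300000800004000000410000040800400083000000002004001600001000400100005850204001020008c0200106000010204340800004600160400002b000202040010200001020008100000802a0008102040010c0400c020408102040810204601000800000cc1030034c010200081000408000000800000001020000b0204001020008100011000004080000000102000000000081000c081020008100040800608081000418102040000204081000008102040010004081020400104040800401a810200083020408100040829204080027c08100040810005100008408100040810204a010204081000408102040810204081000408102040ba020408002040810204081020408302040b102c40800600101700c10100200820200001000018100ac080100850100e418600040150ad4501000028000045850028080001400a0000000000400102000820208081040804300059d03a0000008024da000000006ac0000200081))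 (.leaf (nat_lit 0xac000000000000000000010000000c000000000000000000000000000000000000000000000000000200000000000000000000000000000000000000000000000000000000000000000000000000000000000000000000000000000000000000000400000001c000000000000000000000000000000000001000000000008c000000000000000000000000000000000000000000000))) (.leaf (nat_lit 0x400037200dd00080618300000100698201000081060000010800180044010000017000010103069800000000020800100000000300001800008003000004e32040004c080002024c0106007a90009d8000080800808183360000000741010010000060010005300d00001d0400001820050000000020002a0000540810006006a10000000000c104300c1030400002060c08000100800000180000000000000d60000100040010200000020400000048ce800000000300c00400080020e000020408103060800006002455400080040002400117290008102040c10e0000000000000044040280000200007810936000004c0c0000008100000800054bc084000002e0000a03060068204000000204e8004a8080020c08308040000000000015801106001002ac8081000849200040004200030320c01a00000810000482080801e00d80092400082000c000060410000080009e0008004001810208892000410000001032e08000000c00000000290000001020c0190024225a8784872400000000000104000000000002000c000000000038000420004080000000912110800078002060000306700120000080000c000000c080060019704040040001189)))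 (.node (.leaf (nat_lit 0x440c000020018000000802a141010000101000018002180000000400004400e060000004816000000083000c00000000820a0c180000d1b10000005040009a000818200001800a0810000000006a040020000080060828000000070600023062478a0000003003c38000200031000000020400002040815400f001000183000800002002800400000000568a140858000140011208180004818002005000008080400c000020003d008028002000030a54000021800300581000200500000c0240020282000c0030008000060c41a0000000001c08b00000000002c8700080000000000001410304000027204880000801100000032c000000009e801a7cf801800005060050000000000000007000c1054e00000002c001060018000153a306241000000000220800f8008023000000000000000008000000800204200030404000000009d000408102008830a00000460000100140000008603040022d009c100100000500000a4480000200142823400000140000a00000001600881000012236040031a140242c040001e0008000140010018000002800700000801400000002800a021c28000001800401a833600603064c180000010004083800400182)) (.leaf (nat_lit 0xc00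0000124006009b3040da80000c00078bc0030031083001c10b04001000000000000c180060000d000c01a8824009000800204001000001880000010000000034a00980000002500000008c0800000fc18000000020001b1b0400003002000004081244e0000006001a600001800000f0006001000c00b0000001800400003000070000bc0030000003000898000a0000000c1800039a0e240c0020000003000c9a4000cc00000800004081080000003040010b000001800094c2000000f00790800600b00040802b00441002c000005e0003c0000006000c10e011802100541250078000000152538781003ce0016280018000d8003052df80000010300800000001183005c18000004036e0c0001e00c004e0001542480004a0900036d00100000000aa000000002a80660000f000c1800634004012020000025806800002000004806023800001119060c0002a00000000c000001c0000400000005810e000010000fc180263c1830000000000c18300000000008002000c9801c84800000818004f0780000000000010142a6078e6e001802e0c00000012a5000001c20081800400e9f5e0000b0000000069800000d000004d0400780019300e8000)))) (.node (.node (.leaf (nat_lit 0x1eb8003340000c40080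020095901001c300007d800000058202006c118000001e00083000000070080000c0c086000c18004000002a6c1000444102180000c003c001000c0050000000220008010082d314206800000180000850a000402c060000a004c1831800602000010500000801880280140c003160800c2200180000000a000400c000000a0030041040c000240c0002ac86809a0400016c818c0000102000000022000800000053000000d0000281000c180480000062004801224001000c0050600000540010000000006400500020000b0a0018648c0300040000002000000ee4017020000b0a00180001810c02000000000000001c0031a28c81000000000080100c0800000000010000015012800602001800a0c0000001800000812c000161f1a00000180c002005000014ec08000180000600300040800006005b20000080000028004b4e070018103580518300000000000080002c58006015020c1810300b000018440000004029005400014800801018283000c180440009d561830206000030008001000008000000a714c40800200001060000000000020008002060008000080000200083000000800001000010080342c0003e00300)) (.leaf (nat_lit 0x4128004d004d000111000007030008000000000000741802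200000007400028000030148100000802f000090706017a7469d680000c0000008a00000001600001bb00000300009f0006e5300000810004a8b00000018004001200400180000c39e04ec002060000000000000460003000000018000005a001006e0c017384000038500020000100308481a2c0c00300000371ad57022e720800001a0e0000f8400001002a95f448408c47000004c0608052000000000000003008810051140204000000001304780080038002001c0010b209a20300000000001403004c000043c000040038004007482808003767011c0808182061130e6c000003a081000000000000c037011d983505139c003871c04387100664080000ca3d00002031a0010000000000000000000000d3a0000200fca03000164200b81466c001820600000000c10d30017a8043c18300008007c0c03900b810000000000008000000c188006198304c000000002020400000005c003002c3000008c8400640000e10e0306008001a000190010080000010e0000204860e184000010400f9680027400000127002e0140000001802c0003e0034c990008100000cc580400100000c000))) (.node (.leaf (nat_lit 0x420000000d100780280000480045c481020040200b4180020c00000000000000e800004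081000000208081800e00103000020836080830000199120c00906004802604080000008000000003268119001d3090004019000000000000002e040007a007000000100000c1003400000220000200000130068d01020008000a400300ea002001cb890205e800000f960304108060000006780030608000000808300180002a00182003400000000800208002000c00f0200000000800012002810004081020000f0044180220000002000030602780060c103006db0000000000400180026818000b400000241021200000000005100000810200008060000000101870000002066c003000808f1208180560c00000000008000080040c013000018044081801008400000001d02040810e0800f0a00000001c001000c10024080005200187000400006040000e9015400001841e0000b060c19604000016200000000400300000ab560c180000000d000c027020000202000020400002340008000000000004000000500600080000000b0504000000008000000000000000001e20000360000100040031c001000000080055c0000a0100d000810b0000001)) (.leaf (nat_lit 0xf800001100000000000003000000300000000000000000000000000000000000000008100000000200081020400180060000000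0010204000000000182000c0000400187000018000000000000000040c000040c10000000000000100000018000001830600008000c0000000100000018e2408000000000324501000000003040800006001800000002060c017000c1800000180000c000000c1820400183040000e060c103280c00000081143600000220c0000020183002c003040010000001830000000040c000000810300000030008000000c102000000000000000000000000c00200000030000002040000000001000600193060c1000600000000c000000c10000000000000000060c0000600002000000000000030600103000c19700000000000180001c000040000000000000600180060c000000c0000000003040840000000000000002000001424080000000000006c1800024000040c00004080025c000000000180003c000004c003000c180060890004080000400000000c000004cd803e00100000c10052080000e009022e20000000c1020000000000000200001800000003060071300084000000000000c1800084000)))))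
noncomputable def I8d12 : BT := (.node (.node (.node (.node (.leaf (nat_lit 0x182800008081024408102040800004081020408102040810200e8b16081a72cc40010e040af0204281040008002044810200081001408106040810204081120008102040810204081020401d0010000ac0000102f8081062c081620418106040820404080000c0810024100020c00102040810204000020408102040810204081020000200000000a4c08106040856c0408002040030204181020068102000810a000010204081020408118000810204081020408102040810000001020c282060c00102040817c04080000008100441010201e020204081020408102e4f9314040801400001020400014000810200001020408102040810000081021400002040800000081020000002040854a000000204080000408100000010204280000008102141000004081005c2800000081021c0000000081021e58004100000000081024cb8000100000000081021c003040000000040810e000081400200000000100000010004001020000002100000204001000408002040800204001020008002040800c000810218080020408002000810200001020408102040810204081020408003380819ad8000020428014000000002880020008102040800204445))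 (.leaf (nat_lit 0xc0000a0000000000001a000800000002000000000000000000000000000003006800000000000010000000000000000000000012041c000000000000009000000000000000000000000000000000000d041c00400000000000000000000000000000000000003400700000000010000000000000000000000000000000000000000008000004c000000000000000000000000))) (.leaf (nat_lit 0x3080000000000000c0019f800a000001a3810700ac50200100000800280000000008002040000004000020300000040000000000400600000070e14000000000000040280a0c2800800000080700a4c1020000000000000001940150000000000000000300c00076100000000005000020108f000c041c0000a00000000030300001070800000000000000000000205d00002018570081070004200000c0002200180060018000000000a18006041c005001c001000000002000030018006060c180061400000a44050e001050c000800000000000c183060c180080000400d432200000000000000000000000000020000100081800000083800024500000000000000000204008000c000041c0030028000000000000002850c00200001800000000000000000000000000000800200005bc0000844300000000100000000000000000000005060008004000013c1810700000040000000000000000000810000000000000102040000ac43020e884000004000080000000000000000001060820000000000004001001430b001c3d51008380040000000000010000000000000000000000000000000000100000810408005000000000000000204000)))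 (.node (.leaf (nat_lit 0x20408000080810658006020400004040000004300000400000040010004080020000000000810800001021408100180010000081000048100040041200001020008602140000200481086c28000000800a2c003000008110040010200081020408300005807e00001000400002000040200008041c00a002a3900200003000c289000408002000810000001020408100040000200081020408100000810a0c0070204b0300040804a04080009c0810214001000408300000010000081020c00000040810204081020408004000010220081000000102000010210001020400108000000204000020448500000800018000000000102040c900000050200000000400000003800004080000008008000812c00004001c08000180810204081020408100200000000001300000602241010424089100008300000800004000040408116083801406804200400000015b91630200020400102000010210001020408102040810204001000408102040810200b8102042850000081020c1800004080000040002040810000000020400002040000604081060c00100040030204085060000100040810204081020440104000870a180070a0028902200050800080)) (.leaf (nat_lit 0x4200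0001e18005040028000000000000000000000000000021010380003c307460c00f000000000000000608385002c0000818003004802e3c1800012000008000200000000000000000000005001000000000000018000081018004381800e1401506001803000000000230000001000a140000a081bb0000003016c0000a8c00028480040000000ae0003200440000c00007060838000100000000000080001100000040c012020e2c3920e2c28014780000a3c02732000020e200120000000141811f061c000002c302003428700000000c0000600247820e0c000080000000000000000504014800000000000000000000c03308083020010205006420900001881e5d0051e0000000003800098000000010870000000010f060000e2000000000000280006800200b400000000000001a00381000000000001600000002c0000c00000000c0000000000001001900002070000380062801a08002800000000000000000000001418002004c000041000464001901e26e030008003000000e000c20a0000000be683060e00000000000022180002a3400000000000a2c0000000000041c0000000380000000006001300c02c060a000020e01a121400200)))) (.node (.node (.leaf (nat_lit 0x102c00002180010c0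40020220100000008102040800004180000408102180010600001020408100000880000001020408000000010600000020408102000000200000080008102000010000000000408102040000004048102400004004010204080020000008080000e04081001000002040800004100180000000040070000100160000102040810220006041000000000010204000000008102040810200305020158100000000004081020400002000000e000810204080000418500000000004081020408100182810000081020000000040810204081020401d0a04181006c085040000800000810204081007428100040000208001020400000026000204081020408000000010004000000008102000140004081020408102040800c00481001808802000000004d80020c0000e000050204081020401d0a0400900042000070006020408102040060000280020000002000050000001020408102040000000000000418002080d32204000020000008000010204081020408102040000c0000504bcc0136057803e00001020408102240010204081020408102040060000181026c081020428002000810004000020408100000010204081020401d)) (.leaf (nat_lit 0x590e00000000000000180000000000340020000000320a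0018000000000600182081400000003a804000150a0000000000000000000001cd8344100052ed40071e00400000000000200070601d07000040218000000038f8a1c214800104006003438000010000e08109300028068107020ea418000000000001706100839200000000000000000c7060e3400028000000000000000030000000000c00806000018600080002a003050000000000000600000000c1c0000008380040000000000000000000000000000102800000000061000000000000000000000000506000051200000004c3030000000000168000000001200013000000000001a81a083a10400000080000000000000a0000000000000400000000c000003801400000000c00a064c0c00400000420001b979e00002041c000b4000243024e000e08002041400000005000e5000e1214c001c004800e1c100000004100000071c0838800cce000000000000000000186820e01000140000000000000000000040401c04b83001a0828028084000014000000000002002000028307000000000000000c20000001c113100000304000000000000001c00008001800014000))) (.node (.leaf (nat_lit 0x8040000c00500140080000043802200080000000102040030094080080028000180000028200000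00810000087000000300000010000000220c0800804081020000012040020c0001714008000018000020000102000000204000020000000000800000000000c0800204081020408102140051c0008102544020e0050014008030000080000000100000000004001000400100040010000080000428002000010204180000000002003010200ab010280000004384000008100040800004080100000000080000004080000418100040800e00001220000200000050004080000008100040010204000005818000101a10c083800000502200002400000810200001020400100040800004001000408002040aa0e000870004001020408102041870c20300022408004844000428210020000102040800204000000008102040010000001020018100004800004080040408002040830204080020408002040000000081020000102042800800016000c000001c0830024001000400004300000014000000001600000010204081020408b8400400000400000040000004000020438014c04020e00000200418400100010204080020408100040810204080)) (.leaf (nat_lit 0x2a140000014000000008000000000000000000300183060c14000000000600001800a00006000000000003000c1c00904001060000006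0000000000000300003060c000000c0038000089000000284000028000000000c00600000038008300000e000000000000041c200100c000001c5800800000081400300100000c00306000838010002000000607100800000000000a001060a00000000c002000c0000c00280001002c000c100000000200103020a2c20510006051620200060000000144020c0000000000005400000000000f00b00000e001800000000000828400b42851600208001000006002060c080000030000000040200003040000200008c180041c0000400005000d98000000000000202260000400002000078300008c2001001600000000004101000000200000c0000018005000020b000c0002a00200000000000002800c20a80000000000140001020008062c2800064c84000030000000087a00003001400600001040000280041003d0a2029200003000600003100c000000000300101000010000000048000000000a1c000340000f003000000000051000006160000032020190000000)))))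
noncomputable def I8d13 : BT := (.node (.node (.node (.node (.leaf (nat_lit 0x600100100000a0400081020408b02a02000080006000000000049880e00002042c280102800b1400580000000b0000d0a00000000000000160408100000812c040000400009000000000009090050402060000a00005001668000000000a000000000000080e0c5000048000002400102005000204b01220070022003203c0408a00049810020000000000000280000a2800014000000000580002018000000000000081020400000000812c0408a000401b082101e000450002040850204102000040000205000000000240c5000068000000000500000000000000000001a00000010a0018000040000600100160400000000000000000020010012040800000001020410000040890400581020448102000010604000020c3810000081020408002040800004001020408102000801600087000000016040810204081020450002040810000081020408002040810204081020400102040810204081020408002040800200082040010110080010a0008402303011218001002008300000011838680000400b000040118386000c0470800000801c340011000008000050000000000000000002c98522000810204b81021558100040021400c8814000af))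 (.leaf (nat_lit 0x2800000000000000000000000040000000000000000000000000000000000000000000000000000000000000000002000000000000000000000000000000000000000000))) (.leaf (nat_lit 0x61400744007804601200040018000000000048001000078900140000e1c000000030712041000a4000326001840058007020058006000050000003001401b041c000020c0001000600100c3800008300000000004540000000003002020000080000000180000001700043800000780000000700000090e0000000002002800000000001b120038000004040c042000000a001a000001200009000038f4600481060c000082800042000000804001000c0084c4800800089000800500001420608001800010500002c484361c002000000700000811a00000000020100003000a20002000c300060002e00a0b00062c2000014500001400016001870a000173e00404100000000000050020000060100400007800014388000800400000001058085020c201020038500280001624001000030002000010010006040418438002000a04080006400012003860000000000400600143830008080003cd0014240000e1000000c818a0000197004000100080000c20181000079c008009200642070600017000c0050200500001c0001600090001400200a4386000c09f00000064c4418400001800010000140038008100000610180120c002001c0040400000)))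 (.node (.leaf (nat_lit 0xc0c00302182000600283247400900000040608009000000902540063000003000000f001400026000800e0c008300000710180000a0000608340000a00282000c4851a00002060040800340000a302801020006000068004000880a582801600000001c000120000d00005000000300020002b1224d0002000800400482000000302380000820180005cb0000080003c00001000000000001060c1838c000030800300062a0c0010684380020029500501000e000000010000000000c000030202380090e00200000080000000000c0030c0000183180800018000820a0028d0000001043400204242000c041020000004001001534003303a00080420c00510340000a08100043838004200010080a8000000000c840010008008000c0000e2cb0000043800e00000003400c000c49002001030000000000000000000200c04001020408510040810200080003040918000011c00004100801f00000802238000005418c14000950010000040c02404046001c44003020028e2200003000000000046042a3400700040001c1c0891c0000104080040024008000008204003870000002023800910000000434180002c0000014000002000900000000008000)) (.leaf (nat_lit 0x180c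1800014104000c004001800000001950008180064820800102000800208042001e00000020020f860e1c48400104000e00002000000b16140001614107000000900180000a0000000003000000000260c01c0000006100838800640030a000000e0c2000000004080010000140000000009000000000149080c2c28008000003e000000e00380280030046000000c003000001687001c0070000000000000000004000014180000051400502000c1810000241001600182000019e001400a00004043a0038006080070820e85000c18006140080a0000012000070045100000c000000800700443a20000019000049c000000000012924e000020000026002430000201000e0000016000000010391067c10f08201060008000101041d3a001830c00000060038b000098c001418000440001000e000e9c00000200190078003520018000000030a2c004060920b060c806001c006081000308281022600200166400600000020000608040c0000000000161800012000020000000000002a08000001a00003320040300080000000480000c12c00006802e003970c1038f00000020a24100002c38706004030008a040000580080000044005051201380)))) (.node (.node (.leaf (nat_lit 0x24d0a000000000002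800004a81000000c001050b1601106020001b000000500180980044382002048e4a000800e08d00062c00200000010030002000028000043811a7800c002c588021c08c0000000000000b000000d0a0008126046852a301021400002000040000580000a4c080145400046080130020008020001b0a1408100040001c1c0001400480002400000000000234001003c0001c000090008004002840a02000870000680000058012040010000a0c0000c0b00000870804281002811b0024280121c2001400001000008002000040c004800000000080028014200810e00093020050e000048a2608200140040a001400002000000804b01004072c00245000010000100028a0000281000008002000080000485001000000104001224008002c50014004000004001020009a0038e801200193080000a001c080025808020540021200400002c1000000500020400102000a8000000012000000008100100000a002800014000000004001020008c00386801200000042800726009800000000160000a14000010204001020009d3038380121410a000008900105880000500000058a000050000000000204181022c08d005c300121800b)) (.leaf (nat_lit 0xa00000000030000000280014c80101400900000000000007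0e00000000000f00180030000300001000000080030e280000070004004400000100071800006380000000000230010400001c89e06182000800300002c004000020000200000a0892a0e00000580000900440003e0000008000000e00991004c005043481c4a2800200000020000b8704580000008890121800000884060608100082c00f1020000002c00028000100008000000c52d0a100132800000361400000000001e700000600000000050000000000e3c380001000000b8007001400000000001e240180400007120000204000131a00211003c0110000002001c0190000300060020006001041600e0200000001214000002019908005000024c0006000000000800001c9000000f8d0a504080000000080000210081800000080003c000162c00000000000000294100000900000060a000002448180120010048000000a0000600000000000982040c0070204004000000a000018c340011d00c42860000180065d3890000000000008c006c2000000009120060f0c0088310003070000300001c2900624000082c480042c3840c000000e00100421c303002460f002c0060008000))) (.node (.leaf (nat_lit 0x2000500000000000022000c212043c8000004000000000004004800000080020048002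040040e081800e00003141c800000c08000007870e0000a00004800000000000400800007800000480020c0000c28610321c30100001010000103000000602002010018000001440310000000000007000000002000800000080000018000941842429210000000036001820c080000a001020008303021800016000000000200002400000100000004000023028102180180214c00020030120242800c1c78000008950000000000810000003840060008040000012086880000002000800002200080024000040000200000011400000000400000000000014483300028500283900034181021009200003000a000000e000000000089000000000000000020000000000100040800205080040008e040c207121450020004000008004020030000182800018400002010400000011c18002001800100204870034300040002100080020e080000010000160000212100021e083000e000080624180001c184140400000042880008300000000508600000e2800300200050000200000048100980000c040010200208062400c080000110102800210600040c307)) (.leaf (nat_lit 0x400000000000000070c142850a102830a002840c0038608200030000006060c3070c2418000000060000005000c0000000000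0c180000000005080048000001800018300001020000180000a1438006004800c00000000c006000000500000000a0018000183860c000000800306000c0000a0c2840000005120c30600200090a1c300000c00008000000808003001430006000000a1410000100000c240060a00000000029d080000000180040a0000900000060a102060014000001c0000800000000000b0a00000120c1000a000040a002000c24484080038006001030018002000000900001030000285000030000003800a24000000028600100040a0800006000080c0cf002400400120090028002050c0000000180000000300001890000000000010000002048400000070c1c00600002000000302001020500000070000280000030008142860410400062c58008001090000000280000008000000c0c000060080004004800a1c3800a0018400002080000000002400056100040c002000000003100038008002040a2000b000000000000040a10002080000016001000000003)))))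
noncomputable def I8d14 : BT := (.node (.node (.node (.node (.leaf (nat_lit 0x1600000000858000000000800000040868504140000c0000000101940a0010000001000400002001000000008000004000001800000000040008102121450000081001008303066c00e0000000001410200000000008000000000000001000400202000020000080060c1010200080020400005245c002040010200003000800000120c2805a08216040800004000020000002002c000000010006181000608004085410204080000a0c50000081000408000180c10404080090000000040811504081002a08007040000000080020410100080810000041000008002040810204001020408100040810204080020400100040800204001020008002040030200081000408002041810200081020408102000810004001020008100040810204080020400002040010204081020408002044c002040800204501020000102040800204081020408102044c00204081020408102040010204081020408102040810104081010404101000038200040023c24100040058200000022000100120d602000000726081802648082162000000083001438100241c18a1c0c000000c00000004800010000001000c0000004042010204080820208010001c0080028102))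 (.leaf (nat_lit 0x15c000009000000000000000000000c00000000000000000000000000000000004005000000000000000000024000000098000000000000000000000000000000000000000000000000000000000028000000000000006000000000000000000000000028000000000000000))) (.leaf (nat_lit 0x38000023000000080000000000001800006ca4020400434001800800080620c00100000000e0000078c800400082043200082000008500000000c10582000004b001000002002000088549060000100002000020000000000003b40030200019ce2c2000822381026691b2a0000402000000601980000c3002a00019180000000040000000285001c0800200081000000000000800c540020400300000428000000800c002010200001000001806180810000c000002100020400000154010c0400006180008af4680000820106341801a00000301808500043000000000001800102bc447020048800001000600000a2040010014181d208000001030200000850204080000008506011834a001000000001000420100140040a0c020020020c020432a1c000000104001001000002000010058022020000016000841000082a603580000000400080000208080120000006000010201c0000000030000200000c0010200100000418006000212e0010c2a00580021000800000000000004001008b080000002000000010283001400000a0000040018010015010200001000000404040090008001000408402082000000904000003e02000000000080)))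 (.node (.leaf (nat_lit 0x20000004000800000200000020006001821c04480000400000240000004001000000206300000018100084000700181060000000000000008003800a280010010001000010500180000e0018a00002040000100020c000020000002500010a28000020018500040000024200000020000080020408102058410200000001600000040c00008000000008083000000906000021000001000090522001801c01580080c00904204661800004001808800103090038008001000300387010000406000000408002830000000000c00000100002800000180000002040000c00000000406a000030f00004010201d80000000b08000800000000000c00c061030000000000aec04c000020000000020c048000000000000000200040000000009149801a7c00780080c000004c000005040000002001e006d40018804000060e00001020008104000ed83000000000444910604000000400402141801c001000a18000000030600241001c18000040c0000010480000030004180800c0c0020a0088000080010c300000008301060410506000023e381033e00000005c12502080072210006042438300141810024203000c0000c144800814200000c1810000000)) (.leaf (nat_lit 0x3001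400000040050000000005802d003c0000e000000a0c0010800200000020000200060a0000000003000000001000408600180030014000001420700000c8060c3900002d0008140000000032006400000040003e0000008100122200280080020000000000900004000c086020018508000860a18280dc0028408000060000001000040100c8000000000000000010000000004800002000000600009020100000000000618003060020022000800605600060c20502100050614000000000400001880000012081000000000800214281000000000141df02000000a0001d000612900000240024019001800000000030e1c0af002833800002000a0c18000440000e242805200080001408000000080800005d80001a00000800e1c0000200219020040000000090000300001b1070000000000000022182800005088080da24061d4080600283000020050180010e00000000000f0c45b010000000017402e00e40e0000401c080038000040060004185001800000000040800000000630000003000000019a00030068700000ee80040010180000ce0052140000600001000038000000002a00000000c00502f000b08c000000180050600005)))) (.node (.node (.leaf (nat_lit 0x81000000001800000000022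c002000038c000000302240800404280000c0000000101067830a00000002c001001818000060000002140020000604001428020180022034200000018702001031a4c000000018300047800a0c50100081811e187170000000000000000000800a0010c06101261c00013060000000040000a0c5000008283007930e0000006000c00000000010000001000800d100000000142800a00201002c1001a184003c0000c020028200001882e0000c000008000040020600000080c18010000000000a030200080040018000101804c00400000000600000170004000042468300000000014000000c0800a0400100002830e00002040000000000080a000000000000000000028040800408000003c20006100000a0000000000000800000000001536083002e00100024cf0006001800000000000010300001003000100060000000000160000000020800014001000050100060020510003000c0008000000000000016000830a14001021a00105061830000001800000000080011b0000000000000000082800000102021440000000000000285025440008000060010000020c0000c0011600080120000110003c1090000005)) (.leaf (nat_lit 0x1000400000b83800000000000408000c43803a140030600000000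00050000300000008040000080073290020030500640000201d1c0605593000c0830000794161400000000040001091000c0000c00ea0015408000fc3060000000000000008000040000000003c00000a808000000000000000004801100000000000000001c00500a400000016802e00000b80c2059c00001081d800000c004de0005100003010acce81800dcab00000860004000013e701004c23d02120810000a0000000030000000072450034000000600000000000b001805202005940020043021000300001840a1408109900030c042a30ed4000448e800013c04a2a1c281001c0000a01080001c78000dc0237000000085008002001800004001240dc80078c0000018004001828f00200000600000000008000013de00003000e9c0000018000000008000002830000280000040706140800004000000c04d0006680008c0890000000001419b00d910102000000062b00004800100000011200008040c00100140000004d009600387020002f001510812004000010083021800010183000000006020001f001c0000401d4a08000802ad00802e00380081c0010004000))) (.node (.leaf (nat_lit 0x485360000200080000600000026868000004810001a89004d380000000000003000000005860c000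8a00000000068700000090000000000000002000000000d030000004040811602080006e00080000000d0030010120000012243010200001380408006108000200301021c0000210086001418000001250008005040810000080006e0010d0000000000030100040090a000000084180001060000001030a002000000006000401b0a01001041020000009000244c00540400100003000a0028600001000604080000c003000020420041000024000020410706180800004000000400f1e000007e0020600001021a0800b2030000000c00300141800008c03000010d0e00000080400002000000c38000140000f00015804e043801424000080000312102800008006000000300000030000702001400200140810c000041c0008022000000310180043430202000020000000020002c0c00002000000000000090c01a8324180000004188000039d000c000661c08608000060e000010600180000828000082811a3c00306000002c00003000000100000030000080001400000041002c0000000000253e041000828002020000004100000c0000b)) (.leaf (nat_lit 0x800a000000000000000000000000000000000000000000000000408000060c18002142850a100800a0c0840204201080c0850000001000008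4020c003060000100000850200003020000102000830614181020000302040030004083080420506040830a14000000000002000000c00081060c00502100000a0018002002810000001081008006002800a002840000005060008000040000a000800000005080020502001810214080000c000020c305024000302000010a001830a0c28108140800a000040e14280020008000103000a0c383000c180260008102000030a0028000003000a04184000420302140040a0c2090600305000428100000050c000870a04285000c0800600003001800002002010000004020038000003000a000060a0038000100000000205000c2000a000000120085000000506000000010280000400003600000000183011008300103840200200001400006000000210001081c18606100030000000080400000000000a000070000081081c006021420000003870c100850a0cd050a0c20406142010a0c0000018483000c00000000000a0018108000010e00000060000000041840a18001080c00500002030014180)))))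
noncomputable def I8d : List BT := [I8d0, I8d1, I8d2, I8d3, I8d4, I8d5, I8d6, I8d7, I8d8, I8d9, I8d10, I8d11, I8d12, I8d13, I8d14]
noncomputable def I8 (k u : ℕ) : ℕ := force (Nat.shiftRight u (nat_lit 9)) fun j => Nat.land (Nat.shiftRight ((nth (BT.leaf (nat_lit 0)) I8d k).get j) (Nat.mul (Nat.land u (nat_lit 511)) (nat_lit 7))) (nat_lit 127)
noncomputable def D8 (u : ℕ) : ℕ := force (Nat.shiftRight u (nat_lit 7)) fun j => Nat.land (Nat.shiftRight (D8d.get j) (Nat.mul (Nat.land u (nat_lit 127)) (nat_lit 20))) (nat_lit 1048575)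
noncomputable def E8td : ℕ := nat_lit 0x1f241092aa9222b8c8e57e222b6c889be27a7b4b89be28ab0104a641ea249026182ea578ba958359f1cf496b401994e29bf2ea334ae9792ea1750243942246cbe90f3aa438b49d63f0f8d2457e299ec50a99332a5211887d311d3cf8492411871106ab462278d27d63c9a38c873a371f18e87dc351ab1467fc2f1f150a7633e9c80e2620569cd57249b540db9603755c1891663c25c12694e3885a08996421b5b961170627588881722085d0f91762775c88cd783265d0c99762de579afd741bb341a9d702155c8cd97427a5d095d743b55c925172493000001743115e01e95c4d65a14a9741085d8295744c45b0bad742de5c8b15725875c8969743b65c82f1683735a1315723405b86756e2355c8475724f35f972d5035c568f157420c5c13f9724f45595f55240060119170559588b85661a05a130d6e585580665723cf5c85695e5725c84e5723a85d1215744ad5c8385720cf000000000005d8440000005c895d722586491f56e0fe5888f17449e5d83996e17b5d09ddc22c35a13197031270932d723da5e8505741945d0245b04865d8a3d7039f5d0a95723355c82157417a858dcd742f95d06e1682335a0d51780c25b0db17415e5d0441702df5b8d65741205d03b17609d6b8b6d7018e6e87b1c21e35c0d55c43335c84f9723545c0b29c03425c8c45ea2a05b8b95d83aa5c0b19d23b35c0c59761406b8ed5700b55d07c97017f5d84f6241a77d0c96181795c831e12282898c41fa20a5d05f1642495c03a57420b5a8515661c15b88e57210b5d87c57613c5c055d74149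
noncomputable def E8t (u : ℕ) : ℕ := Nat.land (Nat.shiftRight E8td (Nat.mul u (nat_lit 22))) (nat_lit 4194303)
noncomputable def J8td : ℕ := nat_lit 0x10d8982057fb769b0b3040470661a28597f21a4101470ce12874a836701e834cfc074c34349166b6215fc86e8100ec33876a6e0c02cac009419d6f4168109d2940e582c0140304f00c00c06007032028050070180240280200e0000100e0900041000c0120240500800a0100000700e0180f8070140140380200c020048090000240400a00c01c0100010c01c27800000004f18931462904201f0080280500501406405009012020030070000000180000c0051d00c1260100000100605c058000e8011768070141a00000a0100200600719e01c030020060180000c01801c0500600c0281c00c0528c4031db014008060b00043a8051bb000158048071aa0080000a0005d87a8d10107301d976018000048070180240080100c00400803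
noncomputable def J8t (u : ℕ) : ℕ := Nat.land (Nat.shiftRight J8td (Nat.mul u (nat_lit 11))) (nat_lit 2047)
noncomputable def W8td : ℕ := nat_lit 0x855aaa55c657e853a6fa14b0a4851c2891250a04af4278f8f09c84da6fe13297984b90e612a90f849a7587c70903d8c23929087d3a7924a1126ab8439f5a10a73a8419f70d587fc3e2c1f8e4107c83dc1ea0f237583b8f0893507411341c8b0862711041ba0db06c835c1aa0d3068833c198d4e215831c18a0c306082fc17800105c82d9358a5505882b93120ab054829c14a0a3050827c13a09b04c825c12a093048823c11878b044821c10a083040232156607a1a0261c0ea07303881bc0da06b034819c0ca063030000000205a000815c0a88fa0fe813c09a04b024811c08a043020265c07828301c80d921a03239f80bc05810b0141b9c04a0222331aa403a01a15e088402a013008803c0185b618e801878e0030007ffbff9ffaffc7fdbfe9ff23aa7fb8ecc62cff41dabfc9fe2ff07f7bfb9fda1797f58a0862020a0be3f99fcafe47f18704472fe07efbf79fbafdc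
noncomputable def W8t (u : ℕ) : ℕ := Nat.land (Nat.shiftRight W8td (Nat.mul u (nat_lit 13))) (nat_lit 8191)
@[irreducible] noncomputable def E8 (a : ℕ) : ℕ := force (Nat.sub a (nat_lit 4060)) E8t
@[irreducible] noncomputable def J8 (a : ℕ) : ℕ := force (Nat.sub a (nat_lit 4060)) J8t
@[irreducible] noncomputable def W8 (a : ℕ) : ℕ := force (Nat.sub a (nat_lit 4060)) W8t
noncomputable def RL8 : List (List Rule) := [[.rel (nat_lit 0) (nat_lit 0) [nat_lit 1], .defn, .rel (nat_lit 278) (nat_lit 0) [nat_lit 8, nat_lit 1, nat_lit 4, nat_lit 4, nat_lit 9], .rel (nat_lit 40) (nat_lit 1) [nat_lit 6, nat_lit 0, nat_lit 0, nat_lit 7, nat_lit 0], .rel (nat_lit 339) (nat_lit 1) [nat_lit 6, nat_lit 9, nat_lit 7, nat_lit 1, nat_lit 8], .rel (nat_lit 30) (nat_lit 0) [nat_lit 0, nat_lit 0, nat_lit 0], .rel (nat_lit 43) (nat_lit 2) [nat_lit 5, nat_lit 3, nat_lit 1, nat_lit 5, nat_lit 3], .rel (nat_lit 336) (nat_lit 0) [nat_lit 0, nat_lit 13, nat_lit 4,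 nat_lit 4, nat_lit 13], .rel (nat_lit 336) (nat_lit 1) [nat_lit 13, nat_lit 4, nat_lit 4, nat_lit 13, nat_lit 0], .rel (nat_lit 44) (nat_lit 4) [nat_lit 6, nat_lit 0, nat_lit 2, nat_lit 7, nat_lit 2], .rel (nat_lit 388) (nat_lit 0) [nat_lit 12, nat_lit 10, nat_lit 0, nat_lit 12, nat_lit 10], .rel (nat_lit 42) (nat_lit 0) [nat_lit 2, nat_lit 4, nat_lit 1, nat_lit 2, nat_lit 4], .rel (nat_lit 371) (nat_lit 3) [nat_lit 12, nat_lit 3, nat_lit 1, nat_lit 7, nat_lit 4, nat_lit 12], .rel (nat_lit 296) (nat_lit 0) [nat_lit 6, nat_lit 0, nat_lit 10, nat_lit 6, nat_lit 10], .rel (nat_lit 279) (nat_lit 3) [nat_lit 9, nat_lit 1, nat_lit 8, nat_lit 5, nat_lit 5], .rel (nat_lit 40) (nat_lit 3) [nat_lit 0, nat_lit 7, nat_lit 0, nat_lit 0, nat_lit 6], .rel (nat_lit 40) (nat_lit 0) [nat_lit 0, nat_lit 6, nat_lit 0, nat_lit 0, nat_lit 7], .rel (nat_lit 368) (nat_lit 0) [nat_lit 12, nat_lit 7, nat_lit 12, nat_lit 4, nat_lit 2], .rel (nat_lit 338) (nat_lit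 0) [nat_lit 6, nat_lit 8, nat_lit 7, nat_lit 1, nat_lit 9], .rel (nat_lit 296) (nat_lit 2) [nat_lit 10, nat_lit 6, nat_lit 10, nat_lit 0, nat_lit 6], .rel (nat_lit 40) (nat_lit 4) [nat_lit 7, nat_lit 0, nat_lit 0, nat_lit 6, nat_lit 0], .rel (nat_lit 46) (nat_lit 4) [nat_lit 7, nat_lit 0, nat_lit 3, nat_lit 6, nat_lit 3], .rel (nat_lit 276) (nat_lit 0) [nat_lit 3, nat_lit 8, nat_lit 8, nat_lit 5, nat_lit 6], .rel (nat_lit 46) (nat_lit 0) [nat_lit 3, nat_lit 6, nat_lit 3, nat_lit 0, nat_lit 7], .rel (nat_lit 324) (nat_lit 1) [nat_lit 11, nat_lit 2, nat_lit 9, nat_lit 2, nat_lit 10, nat_lit 0, nat_lit 11], .rel (nat_lit 44) (nat_lit 0) [nat_lit 2, nat_lit 7, nat_lit 2, nat_lit 0, nat_lit 6], .rel (nat_lit 281) (nat_lit 3) [nat_lit 9, nat_lit 1, nat_lit 7, nat_lit 8, nat_lit 7], .rel (nat_lit 298) (nat_lit 3) [nat_lit 10, nat_lit 5, nat_lit 7, nat_lit 0, nat_lit 2, nat_lit 10], .rel (nat_lit 49) (nat_lit 2) [nat_lit 7, nat_lit 7, nat_lit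 1, nat_lit 7, nat_lit 7], .rel (nat_lit 394) (nat_lit 2) [nat_lit 11, nat_lit 12, nat_lit 3, nat_lit 8, nat_lit 3, nat_lit 10, nat_lit 12, nat_lit 11], .rel (nat_lit 48) (nat_lit 0) [nat_lit 6, nat_lit 6, nat_lit 1, nat_lit 6, nat_lit 6], .rel (nat_lit 280) (nat_lit 0) [nat_lit 8, nat_lit 1, nat_lit 6, nat_lit 9, nat_lit 6], .rel (nat_lit 348) (nat_lit 0) [nat_lit 11, nat_lit 10, nat_lit 4, nat_lit 9, nat_lit 11, nat_lit 3], .rel (nat_lit 366) (nat_lit 3) [nat_lit 9, nat_lit 4, nat_lit 7, nat_lit 1, nat_lit 14, nat_lit 13, nat_lit 11], .rel (nat_lit 422) (nat_lit 1) [nat_lit 3, nat_lit 14, nat_lit 4, nat_lit 14, nat_lit 5, nat_lit 0], .rel (nat_lit 331) (nat_lit 0) [nat_lit 8, nat_lit 2, nat_lit 10, nat_lit 9, nat_lit 3, nat_lit 10, nat_lit 11, nat_lit 7, nat_lit 11], .rel (nat_lit 353) (nat_lit 0) [nat_lit 11, nat_lit 9, nat_lit 6, nat_lit 11, nat_lit 6, nat_lit 13, nat_lit 10, nat_lit 13], .rel (nat_lit 361) (nat_lit 6) [nat_lit 10,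 nat_lit 1, nat_lit 13, nat_lit 3, nat_lit 8, nat_lit 11, nat_lit 3, nat_lit 10, nat_lit 13], .rel (nat_lit 367) (nat_lit 0) [nat_lit 6, nat_lit 5, nat_lit 8, nat_lit 1, nat_lit 11, nat_lit 13, nat_lit 14], .rel (nat_lit 327) (nat_lit 0) [nat_lit 2, nat_lit 1, nat_lit 3, nat_lit 5, nat_lit 11, nat_lit 3, nat_lit 11], .rel (nat_lit 372) (nat_lit 0) [nat_lit 12, nat_lit 2, nat_lit 2, nat_lit 8, nat_lit 8, nat_lit 12], .rel (nat_lit 432) (nat_lit 1) [nat_lit 14, nat_lit 1, nat_lit 14, nat_lit 4, nat_lit 2, nat_lit 5, nat_lit 3, nat_lit 1, nat_lit 14], .rel (nat_lit 62) (nat_lit 3) [nat_lit 4, nat_lit 2, nat_lit 1, nat_lit 4, nat_lit 0, nat_lit 0, nat_lit 2], .rel (nat_lit 63) (nat_lit 1) [nat_lit 3, nat_lit 5, nat_lit 1, nat_lit 3, nat_lit 1, nat_lit 1, nat_lit 5], .rel (nat_lit 72) (nat_lit 1) [nat_lit 2, nat_lit 1, nat_lit 7, nat_lit 0, nat_lit 7, nat_lit 3, nat_lit 0], .rel (nat_lit 74) (nat_lit 1) [nat_lit 2, nat_lit 2, nat_lit 0, nat_lit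 0, nat_lit 3, nat_lit 3, nat_lit 0], .rel (nat_lit 156) (nat_lit 2) [nat_lit 2, nat_lit 0, nat_lit 3, nat_lit 0, nat_lit 3, nat_lit 0, nat_lit 2], .rel (nat_lit 163) (nat_lit 3) [nat_lit 4, nat_lit 1, nat_lit 3, nat_lit 1, nat_lit 4, nat_lit 0, nat_lit 3], .rel (nat_lit 238) (nat_lit 3) [nat_lit 4, nat_lit 4, nat_lit 3, nat_lit 4, nat_lit 0, nat_lit 3, nat_lit 5], .rel (nat_lit 284) (nat_lit 0) [nat_lit 2, nat_lit 5, nat_lit 9, nat_lit 3, nat_lit 5, nat_lit 9], .rel (nat_lit 319) (nat_lit 3) [nat_lit 5, nat_lit 10, nat_lit 2, nat_lit 1, nat_lit 3, nat_lit 10, nat_lit 0, nat_lit 0, nat_lit 5], .rel (nat_lit 321) (nat_lit 4) [nat_lit 10, nat_lit 2, nat_lit 9, nat_lit 3, nat_lit 10, nat_lit 0, nat_lit 5, nat_lit 9, nat_lit 5], .rel (nat_lit 324) (nat_lit 7) [nat_lit 11, nat_lit 0, nat_lit 11, nat_lit 2, nat_lit 9, nat_lit 2, nat_lit 10], .rel (nat_lit 359) (nat_lit 6) [nat_lit 5, nat_lit 1, nat_lit 13, nat_lit 0, nat_lit 2, nat_lit 8,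 nat_lit 2, nat_lit 8, nat_lit 13], .rel (nat_lit 377) (nat_lit 2) [nat_lit 5, nat_lit 12, nat_lit 2, nat_lit 5, nat_lit 12, nat_lit 0, nat_lit 3], .rel (nat_lit 407) (nat_lit 0) [nat_lit 9, nat_lit 0, nat_lit 0, nat_lit 12, nat_lit 11, nat_lit 8, nat_lit 10, nat_lit 11, nat_lit 3, nat_lit 12], .rel (nat_lit 426) (nat_lit 1) [nat_lit 4, nat_lit 1, nat_lit 14, nat_lit 1, nat_lit 4, nat_lit 0, nat_lit 14], .rel (nat_lit 427) (nat_lit 4) [nat_lit 5, nat_lit 1, nat_lit 14, nat_lit 1, nat_lit 5, nat_lit 0, nat_lit 14], .rel (nat_lit 430) (nat_lit 1) [nat_lit 10, nat_lit 1, nat_lit 14, nat_lit 2, nat_lit 1, nat_lit 10, nat_lit 0, nat_lit 3, nat_lit 14], .sub (nat_lit 0) [] [], .rel (nat_lit 58) (nat_lit 4) [nat_lit 7, nat_lit 2, nat_lit 7, nat_lit 0, nat_lit 0, nat_lit 2, nat_lit 0], .rel (nat_lit 60) (nat_lit 0) [nat_lit 0, nat_lit 2, nat_lit 0, nat_lit 3, nat_lit 4, nat_lit 1, nat_lit 5], .rel (nat_lit 60) (nat_lit 1) [nat_lit 2, nat_lit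 0, nat_lit 3, nat_lit 4, nat_lit 1, nat_lit 5, nat_lit 0], .rel (nat_lit 60) (nat_lit 3) [nat_lit 3, nat_lit 4, nat_lit 1, nat_lit 5, nat_lit 0, nat_lit 0, nat_lit 2], .rel (nat_lit 64) (nat_lit 0) [nat_lit 0, nat_lit 2, nat_lit 0, nat_lit 6, nat_lit 1, nat_lit 6, nat_lit 3], .rel (nat_lit 86) (nat_lit 4) [nat_lit 0, nat_lit 4, nat_lit 3, nat_lit 0, nat_lit 0, nat_lit 2, nat_lit 5], .rel (nat_lit 98) (nat_lit 6) [nat_lit 4, nat_lit 0, nat_lit 0, nat_lit 3, nat_lit 0, nat_lit 2, nat_lit 5], .rel (nat_lit 103) (nat_lit 1) [nat_lit 4, nat_lit 3, nat_lit 0, nat_lit 2, nat_lit 1, nat_lit 1, nat_lit 5], .rel (nat_lit 103) (nat_lit 4) [nat_lit 2, nat_lit 1, nat_lit 1, nat_lit 5, nat_lit 0, nat_lit 4, nat_lit 3], .rel (nat_lit 110) (nat_lit 0) [nat_lit 0, nat_lit 3, nat_lit 5, nat_lit 0, nat_lit 0, nat_lit 4, nat_lit 2], .rel (nat_lit 116) (nat_lit 0) [nat_lit 0, nat_lit 3, nat_lit 6, nat_lit 5, nat_lit 7, nat_lit 2, nat_lit 5], .rel (nat_lit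 122) (nat_lit 5) [nat_lit 7, nat_lit 5, nat_lit 0, nat_lit 0, nat_lit 4, nat_lit 1, nat_lit 7], .rel (nat_lit 124) (nat_lit 1) [nat_lit 4, nat_lit 4, nat_lit 0, nat_lit 0, nat_lit 5, nat_lit 5, nat_lit 0], .rel (nat_lit 142) (nat_lit 0) [nat_lit 0, nat_lit 5, nat_lit 6, nat_lit 0, nat_lit 6, nat_lit 1, nat_lit 4], .rel (nat_lit 152) (nat_lit 0) [nat_lit 0, nat_lit 7, nat_lit 4, nat_lit 7, nat_lit 3, nat_lit 3, nat_lit 5], .rel (nat_lit 172) (nat_lit 3) [nat_lit 2, nat_lit 2, nat_lit 6, nat_lit 6, nat_lit 0, nat_lit 2, nat_lit 2], .rel (nat_lit 180) (nat_lit 0) [nat_lit 2, nat_lit 2, nat_lit 1, nat_lit 4, nat_lit 6, nat_lit 5, nat_lit 7], .rel (nat_lit 183) (nat_lit 1) [nat_lit 5, nat_lit 6, nat_lit 4, nat_lit 3, nat_lit 3, nat_lit 1, nat_lit 7], .rel (nat_lit 193) (nat_lit 4) [nat_lit 4, nat_lit 3, nat_lit 1, nat_lit 4, nat_lit 7, nat_lit 7, nat_lit 3], .rel (nat_lit 206) (nat_lit 4) [nat_lit 4, nat_lit 7, nat_lit 5, nat_lit 0, nat_lit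 2, nat_lit 6, nat_lit 3], .rel (nat_lit 214) (nat_lit 0) [nat_lit 2, nat_lit 7, nat_lit 5, nat_lit 0, nat_lit 2, nat_lit 7, nat_lit 5], .rel (nat_lit 221) (nat_lit 1) [nat_lit 5, nat_lit 0, nat_lit 4, nat_lit 1, nat_lit 2, nat_lit 1, nat_lit 3], .rel (nat_lit 282) (nat_lit 0) [nat_lit 2, nat_lit 4, nat_lit 8, nat_lit 5, nat_lit 2, nat_lit 8], .rel (nat_lit 298) (nat_lit 0) [nat_lit 2, nat_lit 10, nat_lit 0, nat_lit 10, nat_lit 5, nat_lit 7], .rel (nat_lit 312) (nat_lit 0) [nat_lit 8, nat_lit 10, nat_lit 9, nat_lit 4, nat_lit 2, nat_lit 10], .rel (nat_lit 318) (nat_lit 2) [nat_lit 3, nat_lit 10, nat_lit 4, nat_lit 1, nat_lit 4, nat_lit 1, nat_lit 1, nat_lit 10, nat_lit 2], .rel (nat_lit 346) (nat_lit 0) [nat_lit 13, nat_lit 7, nat_lit 13, nat_lit 8, nat_lit 3, nat_lit 8], .rel (nat_lit 351) (nat_lit 0) [nat_lit 3, nat_lit 9, nat_lit 5, nat_lit 9, nat_lit 13, nat_lit 3, nat_lit 13], .rel (nat_lit 354) (nat_lit 1) [nat_lit 2, nat_lit 1,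 nat_lit 13, nat_lit 8, nat_lit 5, nat_lit 2, nat_lit 9, nat_lit 13], .rel (nat_lit 355) (nat_lit 5) [nat_lit 3, nat_lit 1, nat_lit 13, nat_lit 8, nat_lit 3, nat_lit 4, nat_lit 9, nat_lit 13], .rel (nat_lit 359) (nat_lit 0) [nat_lit 2, nat_lit 8, nat_lit 2, nat_lit 8, nat_lit 13, nat_lit 0, nat_lit 5, nat_lit 1, nat_lit 13], .rel (nat_lit 363) (nat_lit 6) [nat_lit 11, nat_lit 1, nat_lit 13, nat_lit 7, nat_lit 9, nat_lit 3, nat_lit 10, nat_lit 11, nat_lit 13], .rel (nat_lit 377) (nat_lit 0) [nat_lit 3, nat_lit 0, nat_lit 5, nat_lit 12, nat_lit 2, nat_lit 5, nat_lit 12], .rel (nat_lit 380) (nat_lit 2) [nat_lit 3, nat_lit 12, nat_lit 2, nat_lit 5, nat_lit 7, nat_lit 12, nat_lit 2], .rel (nat_lit 383) (nat_lit 1) [nat_lit 0, nat_lit 4, nat_lit 12, nat_lit 2, nat_lit 7, nat_lit 3, nat_lit 12, nat_lit 2], .rel (nat_lit 387) (nat_lit 1) [nat_lit 4, nat_lit 8, nat_lit 0, nat_lit 8, nat_lit 12, nat_lit 2, nat_lit 12, nat_lit 3, nat_lit 12, nat_lit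 0], .rel (nat_lit 397) (nat_lit 0) [nat_lit 3, nat_lit 4, nat_lit 12, nat_lit 2, nat_lit 11, nat_lit 2, nat_lit 11, nat_lit 12], .rel (nat_lit 407) (nat_lit 3) [nat_lit 12, nat_lit 11, nat_lit 8, nat_lit 10, nat_lit 11, nat_lit 3, nat_lit 12, nat_lit 0, nat_lit 9, nat_lit 0], .rel (nat_lit 409) (nat_lit 1) [nat_lit 11, nat_lit 7, nat_lit 12, nat_lit 11, nat_lit 12, nat_lit 3, nat_lit 12, nat_lit 11, nat_lit 12, nat_lit 5], .rel (nat_lit 427) (nat_lit 2) [nat_lit 14, nat_lit 0, nat_lit 5, nat_lit 1, nat_lit 14, nat_lit 1, nat_lit 5], .rel (nat_lit 429) (nat_lit 6) [nat_lit 3, nat_lit 1, nat_lit 14, nat_lit 10, nat_lit 6, nat_lit 3, nat_lit 5, nat_lit 10, nat_lit 14], .rel (nat_lit 430) (nat_lit 8) [nat_lit 3, nat_lit 14, nat_lit 0, nat_lit 10, nat_lit 1, nat_lit 14, nat_lit 2, nat_lit 1, nat_lit 10], .rel (nat_lit 435) (nat_lit 0) [nat_lit 10, nat_lit 4, nat_lit 0, nat_lit 10, nat_lit 2, nat_lit 14, nat_lit 0, nat_lit 7, nat_lit 1, nat_lit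 14], .rel (nat_lit 435) (nat_lit 3) [nat_lit 10, nat_lit 2, nat_lit 14, nat_lit 0, nat_lit 7, nat_lit 1, nat_lit 14, nat_lit 0, nat_lit 10, nat_lit 4], .rel (nat_lit 438) (nat_lit 10) [nat_lit 12, nat_lit 2, nat_lit 10, nat_lit 3, nat_lit 12, nat_lit 1, nat_lit 10, nat_lit 3, nat_lit 10, nat_lit 2]],
  [.rel (nat_lit 0) (nat_lit 1) [nat_lit 0], .rel (nat_lit 31) (nat_lit 0) [nat_lit 1, nat_lit 1, nat_lit 1], .rel (nat_lit 389) (nat_lit 2) [nat_lit 10, nat_lit 12, nat_lit 1, nat_lit 10, nat_lit 12], .defn, .rel (nat_lit 279) (nat_lit 5) [nat_lit 8, nat_lit 5, nat_lit 5, nat_lit 0, nat_lit 9], .rel (nat_lit 278) (nat_lit 2) [nat_lit 4, nat_lit 4, nat_lit 9, nat_lit 0, nat_lit 8], .rel (nat_lit 369) (nat_lit 5) [nat_lit 3, nat_lit 5, nat_lit 12, nat_lit 6, nat_lit 12], .rel (nat_lit 43) (nat_lit 5) [nat_lit 5, nat_lit 3, nat_lit 0, nat_lit 5, nat_lit 3], .rel (nat_lit 337) (nat_lit 4) [nat_lit 1, nat_lit 13, nat_lit 5, nat_lit 5, nat_lit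 13], .rel (nat_lit 47) (nat_lit 5) [nat_lit 6, nat_lit 1, nat_lit 2, nat_lit 7, nat_lit 2], .rel (nat_lit 297) (nat_lit 3) [nat_lit 7, nat_lit 1, nat_lit 10, nat_lit 7, nat_lit 10], .rel (nat_lit 297) (nat_lit 5) [nat_lit 10, nat_lit 7, nat_lit 10, nat_lit 1, nat_lit 7], .rel (nat_lit 41) (nat_lit 1) [nat_lit 1, nat_lit 7, nat_lit 1, nat_lit 1, nat_lit 6], .rel (nat_lit 42) (nat_lit 3) [nat_lit 2, nat_lit 4, nat_lit 0, nat_lit 2, nat_lit 4], .rel (nat_lit 280) (nat_lit 2) [nat_lit 6, nat_lit 9, nat_lit 6, nat_lit 0, nat_lit 8], .rel (nat_lit 277) (nat_lit 5) [nat_lit 7, nat_lit 4, nat_lit 9, nat_lit 9, nat_lit 2], .rel (nat_lit 281) (nat_lit 5) [nat_lit 7, nat_lit 8, nat_lit 7, nat_lit 0, nat_lit 9], .rel (nat_lit 41) (nat_lit 4) [nat_lit 1, nat_lit 6, nat_lit 1, nat_lit 1, nat_lit 7], .rel (nat_lit 370) (nat_lit 3) [nat_lit 12, nat_lit 5, nat_lit 6, nat_lit 0, nat_lit 2, nat_lit 12], .rel (nat_lit 41) (nat_lit 5) [nat_lit 6, nat_lit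 1, nat_lit 1, nat_lit 7, nat_lit 1], .rel (nat_lit 45) (nat_lit 5) [nat_lit 7, nat_lit 1, nat_lit 3, nat_lit 6, nat_lit 3], .rel (nat_lit 45) (nat_lit 1) [nat_lit 3, nat_lit 6, nat_lit 3, nat_lit 1, nat_lit 7], .rel (nat_lit 325) (nat_lit 6) [nat_lit 11, nat_lit 1, nat_lit 10, nat_lit 3, nat_lit 8, nat_lit 3, nat_lit 11], .rel (nat_lit 337) (nat_lit 5) [nat_lit 13, nat_lit 5, nat_lit 5, nat_lit 13, nat_lit 1], .rel (nat_lit 299) (nat_lit 3) [nat_lit 10, nat_lit 3, nat_lit 1, nat_lit 6, nat_lit 4, nat_lit 10], .rel (nat_lit 41) (nat_lit 2) [nat_lit 7, nat_lit 1, nat_lit 1, nat_lit 6, nat_lit 1], .rel (nat_lit 47) (nat_lit 1) [nat_lit 2, nat_lit 7, nat_lit 2, nat_lit 1, nat_lit 6], .rel (nat_lit 49) (nat_lit 5) [nat_lit 7, nat_lit 7, nat_lit 0, nat_lit 7, nat_lit 7], .rel (nat_lit 338) (nat_lit 4) [nat_lit 9, nat_lit 0, nat_lit 6, nat_lit 8, nat_lit 7], .rel (nat_lit 349) (nat_lit 6) [nat_lit 2, nat_lit 11, nat_lit 8, nat_lit 5, nat_lit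 10, nat_lit 11], .rel (nat_lit 48) (nat_lit 3) [nat_lit 6, nat_lit 6, nat_lit 0, nat_lit 6, nat_lit 6], .rel (nat_lit 373) (nat_lit 6) [nat_lit 12, nat_lit 9, nat_lit 9, nat_lit 3, nat_lit 3, nat_lit 12], .rel (nat_lit 408) (nat_lit 9) [nat_lit 4, nat_lit 12, nat_lit 11, nat_lit 12, nat_lit 2, nat_lit 12, nat_lit 11, nat_lit 12, nat_lit 6, nat_lit 11], .rel (nat_lit 347) (nat_lit 6) [nat_lit 9, nat_lit 2, nat_lit 9, nat_lit 13, nat_lit 6, nat_lit 13], .rel (nat_lit 433) (nat_lit 8) [nat_lit 14, nat_lit 0, nat_lit 2, nat_lit 4, nat_lit 3, nat_lit 5, nat_lit 14, nat_lit 0, nat_lit 14], .rel (nat_lit 313) (nat_lit 6) [nat_lit 10, nat_lit 3, nat_lit 5, nat_lit 8, nat_lit 10, nat_lit 9], .rel (nat_lit 395) (nat_lit 6) [nat_lit 11, nat_lit 12, nat_lit 10, nat_lit 2, nat_lit 9, nat_lit 2, nat_lit 12, nat_lit 11], .rel (nat_lit 339) (nat_lit 5) [nat_lit 8, nat_lit 0, nat_lit 6, nat_lit 9, nat_lit 7], .rel (nat_lit 357) (nat_lit 7) [nat_lit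 13, nat_lit 4, nat_lit 7, nat_lit 8, nat_lit 2, nat_lit 13, nat_lit 9, nat_lit 13], .rel (nat_lit 360) (nat_lit 3) [nat_lit 13, nat_lit 10, nat_lit 2, nat_lit 11, nat_lit 9, nat_lit 2, nat_lit 13, nat_lit 0, nat_lit 10], .rel (nat_lit 362) (nat_lit 3) [nat_lit 13, nat_lit 11, nat_lit 10, nat_lit 2, nat_lit 8, nat_lit 6, nat_lit 13, nat_lit 0, nat_lit 11], .rel (nat_lit 63) (nat_lit 7) [nat_lit 5, nat_lit 0, nat_lit 3, nat_lit 5, nat_lit 1, nat_lit 3, nat_lit 1], .rel (nat_lit 367) (nat_lit 4) [nat_lit 11, nat_lit 13, nat_lit 14, nat_lit 0, nat_lit 6, nat_lit 5, nat_lit 8], .rel (nat_lit 376) (nat_lit 5) [nat_lit 2, nat_lit 1, nat_lit 12, nat_lit 4, nat_lit 3, nat_lit 12, nat_lit 4], .rel (nat_lit 61) (nat_lit 4) [nat_lit 3, nat_lit 1, nat_lit 1, nat_lit 4, nat_lit 0, nat_lit 5, nat_lit 2], .rel (nat_lit 71) (nat_lit 1) [nat_lit 3, nat_lit 5, nat_lit 0, nat_lit 3, nat_lit 1, nat_lit 1, nat_lit 5], .rel (nat_lit 99) (nat_lit 1) [nat_lit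 4, nat_lit 3, nat_lit 1, nat_lit 2, nat_lit 1, nat_lit 1, nat_lit 5], .rel (nat_lit 158) (nat_lit 4) [nat_lit 5, nat_lit 1, nat_lit 4, nat_lit 0, nat_lit 2, nat_lit 0, nat_lit 3], .rel (nat_lit 247) (nat_lit 3) [nat_lit 6, nat_lit 4, nat_lit 2, nat_lit 1, nat_lit 7, nat_lit 3, nat_lit 5], .rel (nat_lit 249) (nat_lit 7) [nat_lit 4, nat_lit 6, nat_lit 2, nat_lit 0, nat_lit 4, nat_lit 7, nat_lit 2], .rel (nat_lit 304) (nat_lit 6) [nat_lit 5, nat_lit 1, nat_lit 10, nat_lit 5, nat_lit 3, nat_lit 10, nat_lit 6, nat_lit 5], .rel (nat_lit 325) (nat_lit 0) [nat_lit 10, nat_lit 3, nat_lit 8, nat_lit 3, nat_lit 11, nat_lit 1, nat_lit 11], .rel (nat_lit 432) (nat_lit 3) [nat_lit 14, nat_lit 4, nat_lit 2, nat_lit 5, nat_lit 3, nat_lit 1, nat_lit 14, nat_lit 0, nat_lit 14], .sub (nat_lit 2) [] [], .rel (nat_lit 59) (nat_lit 3) [nat_lit 1, nat_lit 3, nat_lit 1, nat_lit 1, nat_lit 6, nat_lit 3, nat_lit 6], .rel (nat_lit 59) (nat_lit 6) [nat_lit 1,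 nat_lit 6, nat_lit 3, nat_lit 6, nat_lit 1, nat_lit 1, nat_lit 3], .rel (nat_lit 59) (nat_lit 7) [nat_lit 6, nat_lit 3, nat_lit 6, nat_lit 1, nat_lit 1, nat_lit 3, nat_lit 1], .rel (nat_lit 61) (nat_lit 7) [nat_lit 4, nat_lit 0, nat_lit 5, nat_lit 2, nat_lit 1, nat_lit 3, nat_lit 1], .rel (nat_lit 62) (nat_lit 6) [nat_lit 4, nat_lit 0, nat_lit 0, nat_lit 2, nat_lit 0, nat_lit 4, nat_lit 2], .rel (nat_lit 65) (nat_lit 6) [nat_lit 1, nat_lit 2, nat_lit 7, nat_lit 0, nat_lit 7, nat_lit 1, nat_lit 3], .rel (nat_lit 68) (nat_lit 3) [nat_lit 3, nat_lit 4, nat_lit 0, nat_lit 5, nat_lit 0, nat_lit 0, nat_lit 2], .rel (nat_lit 69) (nat_lit 6) [nat_lit 1, nat_lit 4, nat_lit 1, nat_lit 5, nat_lit 2, nat_lit 0, nat_lit 3], .rel (nat_lit 70) (nat_lit 3) [nat_lit 4, nat_lit 2, nat_lit 0, nat_lit 4, nat_lit 0, nat_lit 0, nat_lit 2], .rel (nat_lit 87) (nat_lit 6) [nat_lit 1, nat_lit 2, nat_lit 5, nat_lit 1, nat_lit 1, nat_lit 4, nat_lit 3], .rel (nat_lit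 97) (nat_lit 6) [nat_lit 1, nat_lit 7, nat_lit 2, nat_lit 7, nat_lit 1, nat_lit 1, nat_lit 2], .rel (nat_lit 99) (nat_lit 6) [nat_lit 1, nat_lit 5, nat_lit 1, nat_lit 4, nat_lit 3, nat_lit 1, nat_lit 2], .rel (nat_lit 103) (nat_lit 6) [nat_lit 1, nat_lit 5, nat_lit 0, nat_lit 4, nat_lit 3, nat_lit 0, nat_lit 2], .rel (nat_lit 115) (nat_lit 6) [nat_lit 1, nat_lit 6, nat_lit 4, nat_lit 2, nat_lit 6, nat_lit 4, nat_lit 2], .rel (nat_lit 126) (nat_lit 6) [nat_lit 5, nat_lit 0, nat_lit 0, nat_lit 4, nat_lit 6, nat_lit 0, nat_lit 6], .rel (nat_lit 157) (nat_lit 1) [nat_lit 2, nat_lit 1, nat_lit 3, nat_lit 1, nat_lit 3, nat_lit 1, nat_lit 2], .rel (nat_lit 159) (nat_lit 7) [nat_lit 5, nat_lit 0, nat_lit 4, nat_lit 0, nat_lit 2, nat_lit 1, nat_lit 3], .rel (nat_lit 160) (nat_lit 6) [nat_lit 3, nat_lit 0, nat_lit 2, nat_lit 0, nat_lit 4, nat_lit 0, nat_lit 5], .rel (nat_lit 161) (nat_lit 7) [nat_lit 2, nat_lit 0, nat_lit 4, nat_lit 1, nat_lit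 5, nat_lit 1, nat_lit 3], .rel (nat_lit 162) (nat_lit 6) [nat_lit 5, nat_lit 0, nat_lit 2, nat_lit 0, nat_lit 5, nat_lit 1, nat_lit 2], .rel (nat_lit 173) (nat_lit 7) [nat_lit 7, nat_lit 7, nat_lit 3, nat_lit 3, nat_lit 1, nat_lit 3, nat_lit 3], .rel (nat_lit 179) (nat_lit 4) [nat_lit 3, nat_lit 3, nat_lit 1, nat_lit 3, nat_lit 6, nat_lit 2, nat_lit 7], .rel (nat_lit 180) (nat_lit 3) [nat_lit 4, nat_lit 6, nat_lit 5, nat_lit 7, nat_lit 0, nat_lit 2, nat_lit 2], .rel (nat_lit 227) (nat_lit 4) [nat_lit 5, nat_lit 2, nat_lit 1, nat_lit 7, nat_lit 7, nat_lit 5, nat_lit 2], .rel (nat_lit 242) (nat_lit 3) [nat_lit 2, nat_lit 7, nat_lit 5, nat_lit 7, nat_lit 0, nat_lit 3, nat_lit 5], .rel (nat_lit 259) (nat_lit 7) [nat_lit 5, nat_lit 2, nat_lit 4, nat_lit 2, nat_lit 0, nat_lit 5, nat_lit 5], .rel (nat_lit 283) (nat_lit 6) [nat_lit 9, nat_lit 3, nat_lit 4, nat_lit 9, nat_lit 5, nat_lit 3], .rel (nat_lit 285) (nat_lit 6) [nat_lit 8, nat_lit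 4, nat_lit 2, nat_lit 8, nat_lit 4, nat_lit 3], .rel (nat_lit 295) (nat_lit 7) [nat_lit 9, nat_lit 3, nat_lit 9, nat_lit 0, nat_lit 2, nat_lit 4, nat_lit 7, nat_lit 8, nat_lit 2, nat_lit 8], .rel (nat_lit 318) (nat_lit 6) [nat_lit 4, nat_lit 1, nat_lit 1, nat_lit 10, nat_lit 2, nat_lit 0, nat_lit 3, nat_lit 10, nat_lit 4], .rel (nat_lit 319) (nat_lit 7) [nat_lit 3, nat_lit 10, nat_lit 0, nat_lit 0, nat_lit 5, nat_lit 0, nat_lit 5, nat_lit 10, nat_lit 2], .rel (nat_lit 384) (nat_lit 9) [nat_lit 12, nat_lit 2, nat_lit 8, nat_lit 3, nat_lit 12, nat_lit 1, nat_lit 5, nat_lit 8, nat_lit 5], .rel (nat_lit 406) (nat_lit 10) [nat_lit 12, nat_lit 2, nat_lit 11, nat_lit 10, nat_lit 9, nat_lit 11, nat_lit 12, nat_lit 1, nat_lit 1, nat_lit 8], .rel (nat_lit 427) (nat_lit 0) [nat_lit 5, nat_lit 0, nat_lit 14, nat_lit 0, nat_lit 5, nat_lit 1, nat_lit 14], .rel (nat_lit 430) (nat_lit 3) [nat_lit 14, nat_lit 2, nat_lit 1, nat_lit 10, nat_lit 0, nat_lit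 3, nat_lit 14, nat_lit 0, nat_lit 10], .rel (nat_lit 489) (nat_lit 3) [nat_lit 12, nat_lit 6, nat_lit 14, nat_lit 1, nat_lit 12, nat_lit 6, nat_lit 14, nat_lit 1, nat_lit 12, nat_lit 6, nat_lit 14, nat_lit 1, nat_lit 12, nat_lit 6, nat_lit 14, nat_lit 1, nat_lit 12, nat_lit 6, nat_lit 14, nat_lit 1, nat_lit 12, nat_lit 6, nat_lit 14, nat_lit 1, nat_lit 12, nat_lit 6, nat_lit 14]],
  [.rel (nat_lit 4) (nat_lit 0) [nat_lit 3], .defn, .rel (nat_lit 418) (nat_lit 3) [nat_lit 14, nat_lit 4, nat_lit 2, nat_lit 5, nat_lit 14], .rel (nat_lit 277) (nat_lit 4) [nat_lit 1, nat_lit 7, nat_lit 4, nat_lit 9, nat_lit 9], .rel (nat_lit 44) (nat_lit 1) [nat_lit 7, nat_lit 2, nat_lit 0, nat_lit 6, nat_lit 0], .rel (nat_lit 34) (nat_lit 0) [nat_lit 6, nat_lit 2, nat_lit 6], .rel (nat_lit 42) (nat_lit 1) [nat_lit 4, nat_lit 1, nat_lit 2, nat_lit 4, nat_lit 0], .rel (nat_lit 32) (nat_lit 0) [nat_lit 2, nat_lit 2, nat_lit 2], .rel (nat_lit 340) (nat_lit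 0) [nat_lit 4, nat_lit 6, nat_lit 13, nat_lit 4, nat_lit 13], .rel (nat_lit 42) (nat_lit 4) [nat_lit 4, nat_lit 0, nat_lit 2, nat_lit 4, nat_lit 1], .rel (nat_lit 50) (nat_lit 0) [nat_lit 2, nat_lit 4, nat_lit 2, nat_lit 2, nat_lit 5], .rel (nat_lit 52) (nat_lit 2) [nat_lit 6, nat_lit 6, nat_lit 4, nat_lit 2, nat_lit 4], .rel (nat_lit 50) (nat_lit 3) [nat_lit 2, nat_lit 5, nat_lit 2, nat_lit 2, nat_lit 4], .rel (nat_lit 326) (nat_lit 1) [nat_lit 11, nat_lit 4, nat_lit 2, nat_lit 0, nat_lit 3, nat_lit 1, nat_lit 11], .rel (nat_lit 50) (nat_lit 1) [nat_lit 4, nat_lit 2, nat_lit 2, nat_lit 5, nat_lit 2], .rel (nat_lit 420) (nat_lit 0) [nat_lit 10, nat_lit 14, nat_lit 10, nat_lit 3, nat_lit 14], .rel (nat_lit 50) (nat_lit 4) [nat_lit 5, nat_lit 2, nat_lit 2, nat_lit 4, nat_lit 2], .rel (nat_lit 44) (nat_lit 3) [nat_lit 0, nat_lit 6, nat_lit 0, nat_lit 2, nat_lit 7], .rel (nat_lit 47) (nat_lit 2) [nat_lit 7, nat_lit 2, nat_lit 1, nat_lit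 6, nat_lit 1], .rel (nat_lit 47) (nat_lit 4) [nat_lit 1, nat_lit 6, nat_lit 1, nat_lit 2, nat_lit 7], .rel (nat_lit 54) (nat_lit 2) [nat_lit 5, nat_lit 6, nat_lit 6, nat_lit 2, nat_lit 5], .rel (nat_lit 368) (nat_lit 5) [nat_lit 0, nat_lit 12, nat_lit 7, nat_lit 12, nat_lit 4], .rel (nat_lit 324) (nat_lit 3) [nat_lit 9, nat_lit 2, nat_lit 10, nat_lit 0, nat_lit 11, nat_lit 0, nat_lit 11], .rel (nat_lit 52) (nat_lit 0) [nat_lit 4, nat_lit 2, nat_lit 6, nat_lit 6, nat_lit 4], .rel (nat_lit 350) (nat_lit 1) [nat_lit 13, nat_lit 8, nat_lit 4, nat_lit 8, nat_lit 2, nat_lit 1, nat_lit 13], .rel (nat_lit 287) (nat_lit 5) [nat_lit 2, nat_lit 9, nat_lit 2, nat_lit 2, nat_lit 4, nat_lit 4, nat_lit 8], .rel (nat_lit 418) (nat_lit 0) [nat_lit 5, nat_lit 14, nat_lit 2, nat_lit 14, nat_lit 4], .rel (nat_lit 54) (nat_lit 0) [nat_lit 5, nat_lit 2, nat_lit 5, nat_lit 6, nat_lit 6], .rel (nat_lit 374) (nat_lit 0) [nat_lit 4, nat_lit 12, nat_lit 4, nat_lit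 7, nat_lit 5, nat_lit 12], .rel (nat_lit 347) (nat_lit 1) [nat_lit 9, nat_lit 13, nat_lit 6, nat_lit 13, nat_lit 1, nat_lit 9], .rel (nat_lit 372) (nat_lit 3) [nat_lit 8, nat_lit 8, nat_lit 12, nat_lit 0, nat_lit 12, nat_lit 2], .rel (nat_lit 437) (nat_lit 7) [nat_lit 12, nat_lit 0, nat_lit 2, nat_lit 5, nat_lit 3, nat_lit 4, nat_lit 12, nat_lit 2], .rel (nat_lit 324) (nat_lit 5) [nat_lit 10, nat_lit 0, nat_lit 11, nat_lit 0, nat_lit 11, nat_lit 2, nat_lit 9], .rel (nat_lit 349) (nat_lit 0) [nat_lit 11, nat_lit 8, nat_lit 5, nat_lit 10, nat_lit 11, nat_lit 1], .rel (nat_lit 287) (nat_lit 6) [nat_lit 9, nat_lit 2, nat_lit 2, nat_lit 4, nat_lit 4, nat_lit 8, nat_lit 2], .rel (nat_lit 354) (nat_lit 2) [nat_lit 1, nat_lit 13, nat_lit 8, nat_lit 5, nat_lit 2, nat_lit 9, nat_lit 13, nat_lit 0], .rel (nat_lit 377) (nat_lit 5) [nat_lit 5, nat_lit 12, nat_lit 0, nat_lit 3, nat_lit 0, nat_lit 5, nat_lit 12], .rel (nat_lit 392) (nat_lit 3) [nat_lit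 9, nat_lit 11, nat_lit 12, nat_lit 9, nat_lit 12, nat_lit 11, nat_lit 8], .rel (nat_lit 360) (nat_lit 9) [nat_lit 13, nat_lit 0, nat_lit 10, nat_lit 1, nat_lit 13, nat_lit 10, nat_lit 2, nat_lit 11, nat_lit 9], .rel (nat_lit 372) (nat_lit 2) [nat_lit 2, nat_lit 8, nat_lit 8, nat_lit 12, nat_lit 0, nat_lit 12], .rel (nat_lit 384) (nat_lit 1) [nat_lit 8, nat_lit 3, nat_lit 12, nat_lit 1, nat_lit 5, nat_lit 8, nat_lit 5, nat_lit 1, nat_lit 12], .rel (nat_lit 397) (nat_lit 6) [nat_lit 11, nat_lit 12, nat_lit 0, nat_lit 3, nat_lit 4, nat_lit 12, nat_lit 2, nat_lit 11], .rel (nat_lit 282) (nat_lit 5) [nat_lit 8, nat_lit 0, nat_lit 2, nat_lit 4, nat_lit 8, nat_lit 5], .rel (nat_lit 284) (nat_lit 1) [nat_lit 5, nat_lit 9, nat_lit 3, nat_lit 5, nat_lit 9, nat_lit 0], .rel (nat_lit 285) (nat_lit 2) [nat_lit 8, nat_lit 4, nat_lit 3, nat_lit 1, nat_lit 8, nat_lit 4], .rel (nat_lit 298) (nat_lit 1) [nat_lit 10, nat_lit 0, nat_lit 10, nat_lit 5,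 nat_lit 7, nat_lit 0], .rel (nat_lit 312) (nat_lit 5) [nat_lit 10, nat_lit 0, nat_lit 8, nat_lit 10, nat_lit 9, nat_lit 4], .rel (nat_lit 401) (nat_lit 5) [nat_lit 11, nat_lit 4, nat_lit 11, nat_lit 12, nat_lit 9, nat_lit 5, nat_lit 10, nat_lit 3, nat_lit 12], .rel (nat_lit 411) (nat_lit 2) [nat_lit 7, nat_lit 12, nat_lit 11, nat_lit 8, nat_lit 5, nat_lit 9, nat_lit 11, nat_lit 12, nat_lit 8, nat_lit 5], .rel (nat_lit 423) (nat_lit 4) [nat_lit 1, nat_lit 1, nat_lit 4, nat_lit 14, nat_lit 5, nat_lit 14], .rel (nat_lit 60) (nat_lit 2) [nat_lit 0, nat_lit 3, nat_lit 4, nat_lit 1, nat_lit 5, nat_lit 0, nat_lit 0], .rel (nat_lit 61) (nat_lit 3) [nat_lit 1, nat_lit 3, nat_lit 1, nat_lit 1, nat_lit 4, nat_lit 0, nat_lit 5], .rel (nat_lit 62) (nat_lit 2) [nat_lit 0, nat_lit 4, nat_lit 2, nat_lit 1, nat_lit 4, nat_lit 0, nat_lit 0], .rel (nat_lit 74) (nat_lit 3) [nat_lit 0, nat_lit 0, nat_lit 3, nat_lit 3, nat_lit 0, nat_lit 0, nat_lit 2], .rel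 (nat_lit 75) (nat_lit 1) [nat_lit 1, nat_lit 1, nat_lit 3, nat_lit 3, nat_lit 1, nat_lit 1, nat_lit 2], .rel (nat_lit 162) (nat_lit 1) [nat_lit 0, nat_lit 5, nat_lit 1, nat_lit 2, nat_lit 1, nat_lit 5, nat_lit 0], .rel (nat_lit 162) (nat_lit 5) [nat_lit 1, nat_lit 5, nat_lit 0, nat_lit 2, nat_lit 0, nat_lit 5, nat_lit 1], .rel (nat_lit 232) (nat_lit 6) [nat_lit 6, nat_lit 0, nat_lit 3, nat_lit 4, nat_lit 6, nat_lit 0, nat_lit 5], .rel (nat_lit 288) (nat_lit 1) [nat_lit 6, nat_lit 3, nat_lit 9, nat_lit 4, nat_lit 7, nat_lit 5, nat_lit 8], .rel (nat_lit 289) (nat_lit 4) [nat_lit 7, nat_lit 3, nat_lit 9, nat_lit 4, nat_lit 6, nat_lit 5, nat_lit 8], .rel (nat_lit 314) (nat_lit 5) [nat_lit 5, nat_lit 9, nat_lit 10, nat_lit 4, nat_lit 3, nat_lit 10, nat_lit 8], .rel (nat_lit 354) (nat_lit 7) [nat_lit 9, nat_lit 13, nat_lit 0, nat_lit 2, nat_lit 1, nat_lit 13, nat_lit 8, nat_lit 5], .rel (nat_lit 362) (nat_lit 7) [nat_lit 8, nat_lit 6, nat_lit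 13, nat_lit 0, nat_lit 11, nat_lit 1, nat_lit 13, nat_lit 11, nat_lit 10], .rel (nat_lit 396) (nat_lit 7) [nat_lit 1, nat_lit 12, nat_lit 11, nat_lit 3, nat_lit 11, nat_lit 3, nat_lit 12, nat_lit 5], .rel (nat_lit 428) (nat_lit 2) [nat_lit 1, nat_lit 14, nat_lit 10, nat_lit 4, nat_lit 2, nat_lit 7, nat_lit 10, nat_lit 14, nat_lit 0], .rel (nat_lit 437) (nat_lit 6) [nat_lit 2, nat_lit 12, nat_lit 0, nat_lit 2, nat_lit 5, nat_lit 3, nat_lit 4, nat_lit 12], .sub (nat_lit 4) [] [], .rel (nat_lit 66) (nat_lit 6) [nat_lit 6, nat_lit 0, nat_lit 0, nat_lit 2, nat_lit 0, nat_lit 7, nat_lit 1], .rel (nat_lit 73) (nat_lit 0) [nat_lit 6, nat_lit 1, nat_lit 6, nat_lit 0, nat_lit 3, nat_lit 1, nat_lit 1], .rel (nat_lit 74) (nat_lit 2) [nat_lit 2, nat_lit 0, nat_lit 0, nat_lit 3, nat_lit 3, nat_lit 0, nat_lit 0], .rel (nat_lit 75) (nat_lit 0) [nat_lit 2, nat_lit 1, nat_lit 1, nat_lit 3, nat_lit 3, nat_lit 1, nat_lit 1], .rel (nat_lit 78) (nat_lit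 2) [nat_lit 2, nat_lit 4, nat_lit 6, nat_lit 5, nat_lit 6, nat_lit 0, nat_lit 0], .rel (nat_lit 80) (nat_lit 2) [nat_lit 2, nat_lit 7, nat_lit 4, nat_lit 7, nat_lit 5, nat_lit 0, nat_lit 0], .rel (nat_lit 84) (nat_lit 5) [nat_lit 4, nat_lit 7, nat_lit 0, nat_lit 0, nat_lit 2, nat_lit 4, nat_lit 7], .rel (nat_lit 86) (nat_lit 2) [nat_lit 5, nat_lit 0, nat_lit 0, nat_lit 4, nat_lit 3, nat_lit 0, nat_lit 0], .rel (nat_lit 107) (nat_lit 5) [nat_lit 1, nat_lit 1, nat_lit 3, nat_lit 4, nat_lit 1, nat_lit 1, nat_lit 5], .rel (nat_lit 108) (nat_lit 6) [nat_lit 7, nat_lit 0, nat_lit 0, nat_lit 3, nat_lit 4, nat_lit 6, nat_lit 5], .rel (nat_lit 113) (nat_lit 2) [nat_lit 7, nat_lit 4, nat_lit 2, nat_lit 1, nat_lit 1, nat_lit 7, nat_lit 4], .rel (nat_lit 129) (nat_lit 3) [nat_lit 7, nat_lit 5, nat_lit 1, nat_lit 1, nat_lit 2, nat_lit 7, nat_lit 5], .rel (nat_lit 132) (nat_lit 5) [nat_lit 5, nat_lit 7, nat_lit 0, nat_lit 0, nat_lit 4, nat_lit 7,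 nat_lit 2], .rel (nat_lit 150) (nat_lit 4) [nat_lit 7, nat_lit 3, nat_lit 5, nat_lit 0, nat_lit 0, nat_lit 6, nat_lit 4], .rel (nat_lit 155) (nat_lit 0) [nat_lit 4, nat_lit 6, nat_lit 2, nat_lit 4, nat_lit 6, nat_lit 1, nat_lit 1], .rel (nat_lit 160) (nat_lit 1) [nat_lit 0, nat_lit 4, nat_lit 0, nat_lit 5, nat_lit 1, nat_lit 3, nat_lit 0], .rel (nat_lit 161) (nat_lit 0) [nat_lit 0, nat_lit 4, nat_lit 1, nat_lit 5, nat_lit 1, nat_lit 3, nat_lit 1], .rel (nat_lit 166) (nat_lit 3) [nat_lit 0, nat_lit 3, nat_lit 1, nat_lit 3, nat_lit 0, nat_lit 2, nat_lit 1], .rel (nat_lit 172) (nat_lit 2) [nat_lit 0, nat_lit 2, nat_lit 2, nat_lit 6, nat_lit 6, nat_lit 0, nat_lit 2], .rel (nat_lit 174) (nat_lit 1) [nat_lit 2, nat_lit 0, nat_lit 3, nat_lit 5, nat_lit 2, nat_lit 5, nat_lit 0], .rel (nat_lit 185) (nat_lit 0) [nat_lit 2, nat_lit 1, nat_lit 6, nat_lit 6, nat_lit 3, nat_lit 3, nat_lit 1], .rel (nat_lit 186) (nat_lit 7) [nat_lit 0, nat_lit 2,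 nat_lit 4, nat_lit 7, nat_lit 1, nat_lit 5, nat_lit 7], .rel (nat_lit 190) (nat_lit 1) [nat_lit 5, nat_lit 0, nat_lit 6, nat_lit 4, nat_lit 3, nat_lit 7, nat_lit 0], .rel (nat_lit 210) (nat_lit 1) [nat_lit 6, nat_lit 4, nat_lit 1, nat_lit 5, nat_lit 2, nat_lit 7, nat_lit 0], .rel (nat_lit 210) (nat_lit 6) [nat_lit 7, nat_lit 0, nat_lit 2, nat_lit 6, nat_lit 4, nat_lit 1, nat_lit 5], .rel (nat_lit 223) (nat_lit 3) [nat_lit 1, nat_lit 2, nat_lit 2, nat_lit 1, nat_lit 7, nat_lit 7, nat_lit 2], .rel (nat_lit 224) (nat_lit 5) [nat_lit 6, nat_lit 3, nat_lit 0, nat_lit 3, nat_lit 3, nat_lit 0, nat_lit 7], .rel (nat_lit 227) (nat_lit 3) [nat_lit 1, nat_lit 5, nat_lit 2, nat_lit 1, nat_lit 7, nat_lit 7, nat_lit 5], .rel (nat_lit 229) (nat_lit 6) [nat_lit 1, nat_lit 5, nat_lit 5, nat_lit 3, nat_lit 5, nat_lit 1, nat_lit 5], .rel (nat_lit 243) (nat_lit 6) [nat_lit 1, nat_lit 6, nat_lit 4, nat_lit 6, nat_lit 3, nat_lit 0, nat_lit 4], .rel (nat_lit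 264) (nat_lit 3) [nat_lit 0, nat_lit 7, nat_lit 2, nat_lit 5, nat_lit 0, nat_lit 4, nat_lit 6], .rel (nat_lit 264) (nat_lit 6) [nat_lit 5, nat_lit 0, nat_lit 4, nat_lit 6, nat_lit 2, nat_lit 0, nat_lit 7], .rel (nat_lit 282) (nat_lit 1) [nat_lit 4, nat_lit 8, nat_lit 5, nat_lit 2, nat_lit 8, nat_lit 0], .rel (nat_lit 287) (nat_lit 0) [nat_lit 2, nat_lit 4, nat_lit 4, nat_lit 8, nat_lit 2, nat_lit 2, nat_lit 9], .rel (nat_lit 301) (nat_lit 0) [nat_lit 4, nat_lit 3, nat_lit 5, nat_lit 10, nat_lit 2, nat_lit 2, nat_lit 10], .rel (nat_lit 301) (nat_lit 5) [nat_lit 2, nat_lit 10, nat_lit 2, nat_lit 4, nat_lit 3, nat_lit 5, nat_lit 10], .rel (nat_lit 301) (nat_lit 6) [nat_lit 10, nat_lit 2, nat_lit 4, nat_lit 3, nat_lit 5, nat_lit 10, nat_lit 2], .rel (nat_lit 303) (nat_lit 6) [nat_lit 5, nat_lit 10, nat_lit 0, nat_lit 2, nat_lit 1, nat_lit 3, nat_lit 7, nat_lit 10], .rel (nat_lit 305) (nat_lit 6) [nat_lit 4, nat_lit 10, nat_lit 0, nat_lit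 4, nat_lit 0, nat_lit 4, nat_lit 7, nat_lit 10], .rel (nat_lit 308) (nat_lit 3) [nat_lit 10, nat_lit 3, nat_lit 10, nat_lit 4, nat_lit 2, nat_lit 5, nat_lit 10, nat_lit 2, nat_lit 10], .rel (nat_lit 318) (nat_lit 1) [nat_lit 0, nat_lit 3, nat_lit 10, nat_lit 4, nat_lit 1, nat_lit 4, nat_lit 1, nat_lit 1, nat_lit 10], .rel (nat_lit 320) (nat_lit 1) [nat_lit 8, nat_lit 3, nat_lit 10, nat_lit 1, nat_lit 4, nat_lit 8, nat_lit 4, nat_lit 1, nat_lit 10], .rel (nat_lit 331) (nat_lit 2) [nat_lit 10, nat_lit 9, nat_lit 3, nat_lit 10, nat_lit 11, nat_lit 7, nat_lit 11, nat_lit 0, nat_lit 8], .rel (nat_lit 350) (nat_lit 6) [nat_lit 1, nat_lit 13, nat_lit 2, nat_lit 13, nat_lit 8, nat_lit 4, nat_lit 8], .rel (nat_lit 359) (nat_lit 3) [nat_lit 8, nat_lit 13, nat_lit 0, nat_lit 5, nat_lit 1, nat_lit 13, nat_lit 0, nat_lit 2, nat_lit 8], .rel (nat_lit 380) (nat_lit 1) [nat_lit 0, nat_lit 3, nat_lit 12, nat_lit 2, nat_lit 5, nat_lit 7, nat_lit 12],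 .rel (nat_lit 381) (nat_lit 4) [nat_lit 1, nat_lit 3, nat_lit 12, nat_lit 6, nat_lit 4, nat_lit 3, nat_lit 12], .rel (nat_lit 395) (nat_lit 1) [nat_lit 9, nat_lit 2, nat_lit 12, nat_lit 11, nat_lit 1, nat_lit 11, nat_lit 12, nat_lit 10], .rel (nat_lit 395) (nat_lit 3) [nat_lit 12, nat_lit 11, nat_lit 1, nat_lit 11, nat_lit 12, nat_lit 10, nat_lit 2, nat_lit 9], .rel (nat_lit 397) (nat_lit 4) [nat_lit 11, nat_lit 2, nat_lit 11, nat_lit 12, nat_lit 0, nat_lit 3, nat_lit 4, nat_lit 12], .rel (nat_lit 398) (nat_lit 1) [nat_lit 12, nat_lit 3, nat_lit 12, nat_lit 10, nat_lit 5, nat_lit 3, nat_lit 10, nat_lit 3, nat_lit 12], .rel (nat_lit 399) (nat_lit 0) [nat_lit 10, nat_lit 2, nat_lit 4, nat_lit 10, nat_lit 12, nat_lit 2, nat_lit 12, nat_lit 3, nat_lit 12], .rel (nat_lit 400) (nat_lit 6) [nat_lit 10, nat_lit 4, nat_lit 8, nat_lit 12, nat_lit 11, nat_lit 5, nat_lit 11, nat_lit 3, nat_lit 12], .rel (nat_lit 430) (nat_lit 5) [nat_lit 1, nat_lit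 10, nat_lit 0, nat_lit 3, nat_lit 14, nat_lit 0, nat_lit 10, nat_lit 1, nat_lit 14]],
  [.rel (nat_lit 4) (nat_lit 1) [nat_lit 2], .rel (nat_lit 33) (nat_lit 0) [nat_lit 3, nat_lit 3, nat_lit 3], .defn, .rel (nat_lit 419) (nat_lit 2) [nat_lit 14, nat_lit 4, nat_lit 3, nat_lit 5, nat_lit 14], .rel (nat_lit 35) (nat_lit 1) [nat_lit 7, nat_lit 3, nat_lit 7], .rel (nat_lit 45) (nat_lit 2) [nat_lit 6, nat_lit 3, nat_lit 1, nat_lit 7, nat_lit 1], .rel (nat_lit 43) (nat_lit 1) [nat_lit 0, nat_lit 5, nat_lit 3, nat_lit 1, nat_lit 5], .rel (nat_lit 369) (nat_lit 0) [nat_lit 5, nat_lit 12, nat_lit 6, nat_lit 12, nat_lit 1], .rel (nat_lit 46) (nat_lit 1) [nat_lit 6, nat_lit 3, nat_lit 0, nat_lit 7, nat_lit 0], .rel (nat_lit 51) (nat_lit 1) [nat_lit 3, nat_lit 5, nat_lit 3, nat_lit 3, nat_lit 4], .rel (nat_lit 55) (nat_lit 3) [nat_lit 4, nat_lit 3, nat_lit 7, nat_lit 7, nat_lit 4], .rel (nat_lit 51) (nat_lit 5) [nat_lit 4, nat_lit 3, nat_lit 3,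 nat_lit 5, nat_lit 3], .rel (nat_lit 43) (nat_lit 4) [nat_lit 1, nat_lit 5, nat_lit 3, nat_lit 0, nat_lit 5], .rel (nat_lit 420) (nat_lit 4) [nat_lit 14, nat_lit 2, nat_lit 10, nat_lit 14, nat_lit 10], .rel (nat_lit 327) (nat_lit 6) [nat_lit 11, nat_lit 0, nat_lit 2, nat_lit 1, nat_lit 3, nat_lit 5, nat_lit 11], .rel (nat_lit 45) (nat_lit 4) [nat_lit 1, nat_lit 7, nat_lit 1, nat_lit 3, nat_lit 6], .rel (nat_lit 276) (nat_lit 1) [nat_lit 8, nat_lit 8, nat_lit 5, nat_lit 6, nat_lit 0], .rel (nat_lit 53) (nat_lit 5) [nat_lit 5, nat_lit 7, nat_lit 7, nat_lit 3, nat_lit 5], .rel (nat_lit 55) (nat_lit 5) [nat_lit 7, nat_lit 7, nat_lit 4, nat_lit 3, nat_lit 4], .rel (nat_lit 51) (nat_lit 4) [nat_lit 3, nat_lit 4, nat_lit 3, nat_lit 3, nat_lit 5], .rel (nat_lit 348) (nat_lit 6) [nat_lit 0, nat_lit 11, nat_lit 10, nat_lit 4, nat_lit 9, nat_lit 11], .rel (nat_lit 341) (nat_lit 5) [nat_lit 13, nat_lit 5, nat_lit 13, nat_lit 7, nat_lit 5], .rel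 (nat_lit 51) (nat_lit 2) [nat_lit 5, nat_lit 3, nat_lit 3, nat_lit 4, nat_lit 3], .rel (nat_lit 46) (nat_lit 3) [nat_lit 0, nat_lit 7, nat_lit 0, nat_lit 3, nat_lit 6], .rel (nat_lit 351) (nat_lit 6) [nat_lit 13, nat_lit 0, nat_lit 3, nat_lit 9, nat_lit 5, nat_lit 9, nat_lit 13], .rel (nat_lit 53) (nat_lit 3) [nat_lit 5, nat_lit 3, nat_lit 5, nat_lit 7, nat_lit 7], .rel (nat_lit 346) (nat_lit 5) [nat_lit 8, nat_lit 0, nat_lit 13, nat_lit 7, nat_lit 13, nat_lit 8], .rel (nat_lit 436) (nat_lit 1) [nat_lit 3, nat_lit 12, nat_lit 5, nat_lit 2, nat_lit 4, nat_lit 3, nat_lit 1, nat_lit 12], .rel (nat_lit 375) (nat_lit 6) [nat_lit 12, nat_lit 4, nat_lit 6, nat_lit 5, nat_lit 12, nat_lit 5], .rel (nat_lit 419) (nat_lit 5) [nat_lit 5, nat_lit 14, nat_lit 3, nat_lit 14, nat_lit 4], .rel (nat_lit 184) (nat_lit 7) [nat_lit 0, nat_lit 2, nat_lit 2, nat_lit 7, nat_lit 7, nat_lit 0, nat_lit 3], .rel (nat_lit 376) (nat_lit 2) [nat_lit 12, nat_lit 4,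 nat_lit 1, nat_lit 2, nat_lit 1, nat_lit 12, nat_lit 4], .rel (nat_lit 396) (nat_lit 4) [nat_lit 12, nat_lit 5, nat_lit 2, nat_lit 1, nat_lit 12, nat_lit 11, nat_lit 3, nat_lit 11], .rel (nat_lit 283) (nat_lit 5) [nat_lit 1, nat_lit 9, nat_lit 3, nat_lit 4, nat_lit 9, nat_lit 5], .rel (nat_lit 299) (nat_lit 5) [nat_lit 1, nat_lit 6, nat_lit 4, nat_lit 10, nat_lit 1, nat_lit 10], .rel (nat_lit 394) (nat_lit 5) [nat_lit 8, nat_lit 3, nat_lit 10, nat_lit 12, nat_lit 11, nat_lit 0, nat_lit 11, nat_lit 12], .rel (nat_lit 397) (nat_lit 1) [nat_lit 4, nat_lit 12, nat_lit 2, nat_lit 11, nat_lit 2, nat_lit 11, nat_lit 12, nat_lit 0], .rel (nat_lit 283) (nat_lit 1) [nat_lit 4, nat_lit 9, nat_lit 5, nat_lit 3, nat_lit 1, nat_lit 9], .rel (nat_lit 313) (nat_lit 1) [nat_lit 5, nat_lit 8, nat_lit 10, nat_lit 9, nat_lit 1, nat_lit 10], .rel (nat_lit 314) (nat_lit 2) [nat_lit 10, nat_lit 8, nat_lit 2, nat_lit 5, nat_lit 9, nat_lit 10, nat_lit 4], .rel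 (nat_lit 325) (nat_lit 4) [nat_lit 11, nat_lit 1, nat_lit 11, nat_lit 1, nat_lit 10, nat_lit 3, nat_lit 8], .rel (nat_lit 355) (nat_lit 6) [nat_lit 1, nat_lit 13, nat_lit 8, nat_lit 3, nat_lit 4, nat_lit 9, nat_lit 13, nat_lit 0], .rel (nat_lit 356) (nat_lit 5) [nat_lit 9, nat_lit 6, nat_lit 5, nat_lit 13, nat_lit 0, nat_lit 13, nat_lit 8, nat_lit 13], .rel (nat_lit 373) (nat_lit 4) [nat_lit 12, nat_lit 1, nat_lit 12, nat_lit 9, nat_lit 9, nat_lit 3], .rel (nat_lit 394) (nat_lit 7) [nat_lit 10, nat_lit 12, nat_lit 11, nat_lit 0, nat_lit 11, nat_lit 12, nat_lit 3, nat_lit 8], .rel (nat_lit 409) (nat_lit 7) [nat_lit 12, nat_lit 11, nat_lit 12, nat_lit 5, nat_lit 0, nat_lit 11, nat_lit 7, nat_lit 12, nat_lit 11, nat_lit 12], .rel (nat_lit 109) (nat_lit 1) [nat_lit 4, nat_lit 7, nat_lit 5, nat_lit 2, nat_lit 1, nat_lit 1, nat_lit 6], .rel (nat_lit 284) (nat_lit 4) [nat_lit 5, nat_lit 9, nat_lit 0, nat_lit 2, nat_lit 5, nat_lit 9], .rel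 (nat_lit 286) (nat_lit 1) [nat_lit 3, nat_lit 9, nat_lit 5, nat_lit 5, nat_lit 3, nat_lit 3, nat_lit 8], .rel (nat_lit 289) (nat_lit 6) [nat_lit 9, nat_lit 4, nat_lit 6, nat_lit 5, nat_lit 8, nat_lit 2, nat_lit 7], .rel (nat_lit 300) (nat_lit 2) [nat_lit 10, nat_lit 4, nat_lit 2, nat_lit 5, nat_lit 3, nat_lit 10, nat_lit 3], .rel (nat_lit 321) (nat_lit 8) [nat_lit 10, nat_lit 0, nat_lit 5, nat_lit 9, nat_lit 5, nat_lit 0, nat_lit 10, nat_lit 2, nat_lit 9], .rel (nat_lit 355) (nat_lit 1) [nat_lit 4, nat_lit 9, nat_lit 13, nat_lit 0, nat_lit 3, nat_lit 1, nat_lit 13, nat_lit 8], .rel (nat_lit 385) (nat_lit 8) [nat_lit 12, nat_lit 0, nat_lit 4, nat_lit 9, nat_lit 4, nat_lit 0, nat_lit 12, nat_lit 2, nat_lit 9], .rel (nat_lit 393) (nat_lit 4) [nat_lit 9, nat_lit 11, nat_lit 12, nat_lit 8, nat_lit 12, nat_lit 11, nat_lit 8], .rel (nat_lit 86) (nat_lit 7) [nat_lit 0, nat_lit 0, nat_lit 2, nat_lit 5, nat_lit 0, nat_lit 0, nat_lit 4], .rel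 (nat_lit 98) (nat_lit 2) [nat_lit 0, nat_lit 2, nat_lit 5, nat_lit 0, nat_lit 4, nat_lit 0, nat_lit 0], .rel (nat_lit 163) (nat_lit 2) [nat_lit 0, nat_lit 4, nat_lit 1, nat_lit 3, nat_lit 1, nat_lit 4, nat_lit 0], .rel (nat_lit 230) (nat_lit 3) [nat_lit 4, nat_lit 7, nat_lit 0, nat_lit 6, nat_lit 0, nat_lit 3, nat_lit 4], .rel (nat_lit 285) (nat_lit 5) [nat_lit 1, nat_lit 8, nat_lit 4, nat_lit 2, nat_lit 8, nat_lit 4], .rel (nat_lit 288) (nat_lit 3) [nat_lit 9, nat_lit 4, nat_lit 7, nat_lit 5, nat_lit 8, nat_lit 2, nat_lit 6], .rel (nat_lit 373) (nat_lit 3) [nat_lit 3, nat_lit 12, nat_lit 1, nat_lit 12, nat_lit 9, nat_lit 9], .rel (nat_lit 380) (nat_lit 3) [nat_lit 12, nat_lit 2, nat_lit 5, nat_lit 7, nat_lit 12, nat_lit 2, nat_lit 0], .rel (nat_lit 384) (nat_lit 3) [nat_lit 12, nat_lit 1, nat_lit 5, nat_lit 8, nat_lit 5, nat_lit 1, nat_lit 12, nat_lit 2, nat_lit 8], .rel (nat_lit 396) (nat_lit 2) [nat_lit 11, nat_lit 3, nat_lit 12,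 nat_lit 5, nat_lit 2, nat_lit 1, nat_lit 12, nat_lit 11], .rel (nat_lit 429) (nat_lit 7) [nat_lit 1, nat_lit 14, nat_lit 10, nat_lit 6, nat_lit 3, nat_lit 5, nat_lit 10, nat_lit 14, nat_lit 0], .rel (nat_lit 436) (nat_lit 2) [nat_lit 12, nat_lit 5, nat_lit 2, nat_lit 4, nat_lit 3, nat_lit 1, nat_lit 12, nat_lit 3], .sub (nat_lit 6) [] [], .rel (nat_lit 59) (nat_lit 1) [nat_lit 6, nat_lit 1, nat_lit 1, nat_lit 3, nat_lit 1, nat_lit 1, nat_lit 6], .rel (nat_lit 60) (nat_lit 4) [nat_lit 4, nat_lit 1, nat_lit 5, nat_lit 0, nat_lit 0, nat_lit 2, nat_lit 0], .rel (nat_lit 61) (nat_lit 5) [nat_lit 1, nat_lit 1, nat_lit 4, nat_lit 0, nat_lit 5, nat_lit 2, nat_lit 1], .rel (nat_lit 63) (nat_lit 5) [nat_lit 1, nat_lit 1, nat_lit 5, nat_lit 0, nat_lit 3, nat_lit 5, nat_lit 1], .rel (nat_lit 65) (nat_lit 5) [nat_lit 1, nat_lit 1, nat_lit 2, nat_lit 7, nat_lit 0, nat_lit 7, nat_lit 1], .rel (nat_lit 75) (nat_lit 5) [nat_lit 1, nat_lit 1, nat_lit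 2, nat_lit 2, nat_lit 1, nat_lit 1, nat_lit 3], .rel (nat_lit 82) (nat_lit 4) [nat_lit 7, nat_lit 4, nat_lit 6, nat_lit 0, nat_lit 0, nat_lit 2, nat_lit 4], .rel (nat_lit 89) (nat_lit 5) [nat_lit 1, nat_lit 1, nat_lit 6, nat_lit 4, nat_lit 7, nat_lit 2, nat_lit 4], .rel (nat_lit 91) (nat_lit 5) [nat_lit 1, nat_lit 1, nat_lit 3, nat_lit 6, nat_lit 5, nat_lit 6, nat_lit 4], .rel (nat_lit 93) (nat_lit 5) [nat_lit 1, nat_lit 1, nat_lit 2, nat_lit 0, nat_lit 7, nat_lit 1, nat_lit 7], .rel (nat_lit 101) (nat_lit 0) [nat_lit 7, nat_lit 0, nat_lit 7, nat_lit 1, nat_lit 2, nat_lit 1, nat_lit 1], .rel (nat_lit 106) (nat_lit 2) [nat_lit 4, nat_lit 0, nat_lit 0, nat_lit 5, nat_lit 2, nat_lit 0, nat_lit 0], .rel (nat_lit 133) (nat_lit 2) [nat_lit 3, nat_lit 6, nat_lit 5, nat_lit 1, nat_lit 1, nat_lit 6, nat_lit 4], .rel (nat_lit 144) (nat_lit 6) [nat_lit 3, nat_lit 0, nat_lit 0, nat_lit 5, nat_lit 6, nat_lit 4, nat_lit 6], .rel (nat_lit 156) (nat_lit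 5) [nat_lit 0, nat_lit 3, nat_lit 0, nat_lit 2, nat_lit 0, nat_lit 2, nat_lit 0], .rel (nat_lit 157) (nat_lit 4) [nat_lit 1, nat_lit 3, nat_lit 1, nat_lit 2, nat_lit 1, nat_lit 2, nat_lit 1], .rel (nat_lit 173) (nat_lit 5) [nat_lit 3, nat_lit 1, nat_lit 7, nat_lit 7, nat_lit 3, nat_lit 3, nat_lit 1], .rel (nat_lit 187) (nat_lit 0) [nat_lit 6, nat_lit 4, nat_lit 0, nat_lit 6, nat_lit 5, nat_lit 3, nat_lit 1], .rel (nat_lit 195) (nat_lit 1) [nat_lit 6, nat_lit 5, nat_lit 0, nat_lit 4, nat_lit 3, nat_lit 1, nat_lit 6], .rel (nat_lit 198) (nat_lit 3) [nat_lit 7, nat_lit 5, nat_lit 1, nat_lit 7, nat_lit 0, nat_lit 2, nat_lit 5], .rel (nat_lit 216) (nat_lit 7) [nat_lit 0, nat_lit 2, nat_lit 7, nat_lit 5, nat_lit 1, nat_lit 4, nat_lit 6], .rel (nat_lit 226) (nat_lit 1) [nat_lit 4, nat_lit 0, nat_lit 3, nat_lit 4, nat_lit 6, nat_lit 6, nat_lit 0], .rel (nat_lit 236) (nat_lit 4) [nat_lit 4, nat_lit 1, nat_lit 6, nat_lit 0, nat_lit 3, nat_lit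 4, nat_lit 7], .rel (nat_lit 244) (nat_lit 1) [nat_lit 5, nat_lit 6, nat_lit 1, nat_lit 7, nat_lit 4, nat_lit 2, nat_lit 0], .rel (nat_lit 254) (nat_lit 2) [nat_lit 0, nat_lit 6, nat_lit 4, nat_lit 3, nat_lit 6, nat_lit 0, nat_lit 4], .rel (nat_lit 286) (nat_lit 2) [nat_lit 9, nat_lit 5, nat_lit 5, nat_lit 3, nat_lit 3, nat_lit 8, nat_lit 3], .rel (nat_lit 286) (nat_lit 6) [nat_lit 3, nat_lit 8, nat_lit 3, nat_lit 3, nat_lit 9, nat_lit 5, nat_lit 5], .rel (nat_lit 286) (nat_lit 7) [nat_lit 8, nat_lit 3, nat_lit 3, nat_lit 9, nat_lit 5, nat_lit 5, nat_lit 3], .rel (nat_lit 291) (nat_lit 3) [nat_lit 7, nat_lit 8, nat_lit 2, nat_lit 5, nat_lit 9, nat_lit 0, nat_lit 2, nat_lit 1], .rel (nat_lit 302) (nat_lit 7) [nat_lit 1, nat_lit 10, nat_lit 4, nat_lit 3, nat_lit 10, nat_lit 6, nat_lit 2, nat_lit 0], .rel (nat_lit 316) (nat_lit 7) [nat_lit 10, nat_lit 2, nat_lit 2, nat_lit 10, nat_lit 4, nat_lit 2, nat_lit 5], .rel (nat_lit 317) (nat_lit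 6) [nat_lit 10, nat_lit 2, nat_lit 4, nat_lit 3, nat_lit 5, nat_lit 10, nat_lit 3], .rel (nat_lit 323) (nat_lit 0) [nat_lit 8, nat_lit 5, nat_lit 10, nat_lit 2, nat_lit 10, nat_lit 9, nat_lit 10, nat_lit 3, nat_lit 10], .rel (nat_lit 325) (nat_lit 2) [nat_lit 8, nat_lit 3, nat_lit 11, nat_lit 1, nat_lit 11, nat_lit 1, nat_lit 10], .rel (nat_lit 329) (nat_lit 0) [nat_lit 5, nat_lit 9, nat_lit 5, nat_lit 9, nat_lit 11, nat_lit 8, nat_lit 10, nat_lit 11], .rel (nat_lit 351) (nat_lit 1) [nat_lit 9, nat_lit 5, nat_lit 9, nat_lit 13, nat_lit 3, nat_lit 13, nat_lit 0], .rel (nat_lit 358) (nat_lit 6) [nat_lit 9, nat_lit 3, nat_lit 1, nat_lit 13, nat_lit 0, nat_lit 4, nat_lit 1, nat_lit 13, nat_lit 9], .rel (nat_lit 381) (nat_lit 6) [nat_lit 12, nat_lit 6, nat_lit 4, nat_lit 3, nat_lit 12, nat_lit 2, nat_lit 1], .rel (nat_lit 398) (nat_lit 3) [nat_lit 12, nat_lit 10, nat_lit 5, nat_lit 3, nat_lit 10, nat_lit 3, nat_lit 12, nat_lit 2, nat_lit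 12], .rel (nat_lit 398) (nat_lit 9) [nat_lit 12, nat_lit 2, nat_lit 12, nat_lit 3, nat_lit 12, nat_lit 10, nat_lit 5, nat_lit 3, nat_lit 10], .rel (nat_lit 400) (nat_lit 4) [nat_lit 12, nat_lit 2, nat_lit 10, nat_lit 4, nat_lit 8, nat_lit 12, nat_lit 11, nat_lit 5, nat_lit 11], .rel (nat_lit 401) (nat_lit 3) [nat_lit 12, nat_lit 2, nat_lit 11, nat_lit 4, nat_lit 11, nat_lit 12, nat_lit 9, nat_lit 5, nat_lit 10], .rel (nat_lit 443) (nat_lit 4) [nat_lit 14, nat_lit 6, nat_lit 12, nat_lit 14, nat_lit 3, nat_lit 14, nat_lit 6, nat_lit 12, nat_lit 14, nat_lit 3, nat_lit 14, nat_lit 6, nat_lit 12, nat_lit 14]],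
  [.rel (nat_lit 8) (nat_lit 0) [nat_lit 5], .rel (nat_lit 51) (nat_lit 0) [nat_lit 3, nat_lit 3, nat_lit 5, nat_lit 3, nat_lit 3], .defn, .rel (nat_lit 344) (nat_lit 0) [nat_lit 7, nat_lit 11, nat_lit 4, nat_lit 7, nat_lit 11], .rel (nat_lit 336) (nat_lit 3) [nat_lit 4, nat_lit 13, nat_lit 0, nat_lit 0, nat_lit 13], .rel (nat_lit 368) (nat_lit 4) [nat_lit 2, nat_lit 0, nat_lit 12, nat_lit 7, nat_lit 12], .rel (nat_lit 36) (nat_lit 0) [nat_lit 4, nat_lit 4, nat_lit 4], .rel (nat_lit 42) (nat_lit 2) [nat_lit 1, nat_lit 2, nat_lit 4, nat_lit 0, nat_lit 2], .rel (nat_lit 342) (nat_lit 0) [nat_lit 4, nat_lit 6, nat_lit 9, nat_lit 6, nat_lit 8], .rel (nat_lit 418) (nat_lit 5) [nat_lit 2, nat_lit 5, nat_lit 14, nat_lit 2, nat_lit 14], .rel (nat_lit 56) (nat_lit 1) [nat_lit 6, nat_lit 4, nat_lit 4, nat_lit 7, nat_lit 4], .rel (nat_lit 340) (nat_lit 4) [nat_lit 13, nat_lit 2, nat_lit 4, nat_lit 6, nat_lit 13], .rel (nat_lit 278) (nat_lit 3)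 [nat_lit 4, nat_lit 9, nat_lit 0, nat_lit 8, nat_lit 1], .rel (nat_lit 56) (nat_lit 4) [nat_lit 7, nat_lit 4, nat_lit 4, nat_lit 6, nat_lit 4], .rel (nat_lit 55) (nat_lit 2) [nat_lit 3, nat_lit 4, nat_lit 3, nat_lit 7, nat_lit 7], .rel (nat_lit 422) (nat_lit 4) [nat_lit 14, nat_lit 5, nat_lit 0, nat_lit 0, nat_lit 3, nat_lit 14], .rel (nat_lit 278) (nat_lit 4) [nat_lit 9, nat_lit 0, nat_lit 8, nat_lit 1, nat_lit 4], .rel (nat_lit 340) (nat_lit 1) [nat_lit 6, nat_lit 13, nat_lit 4, nat_lit 13, nat_lit 2], .rel (nat_lit 42) (nat_lit 5) [nat_lit 0, nat_lit 2, nat_lit 4, nat_lit 1, nat_lit 2], .rel (nat_lit 52) (nat_lit 5) [nat_lit 2, nat_lit 4, nat_lit 2, nat_lit 6, nat_lit 6], .rel (nat_lit 277) (nat_lit 1) [nat_lit 9, nat_lit 9, nat_lit 2, nat_lit 1, nat_lit 7], .rel (nat_lit 419) (nat_lit 4) [nat_lit 3, nat_lit 5, nat_lit 14, nat_lit 3, nat_lit 14], .rel (nat_lit 336) (nat_lit 4) [nat_lit 13, nat_lit 0, nat_lit 0, nat_lit 13, nat_lit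 4], .rel (nat_lit 50) (nat_lit 2) [nat_lit 2, nat_lit 2, nat_lit 5, nat_lit 2, nat_lit 2], .rel (nat_lit 56) (nat_lit 0) [nat_lit 4, nat_lit 6, nat_lit 4, nat_lit 4, nat_lit 7], .rel (nat_lit 56) (nat_lit 3) [nat_lit 4, nat_lit 7, nat_lit 4, nat_lit 4, nat_lit 6], .rel (nat_lit 342) (nat_lit 1) [nat_lit 6, nat_lit 9, nat_lit 6, nat_lit 8, nat_lit 4], .rel (nat_lit 374) (nat_lit 1) [nat_lit 12, nat_lit 4, nat_lit 7, nat_lit 5, nat_lit 12, nat_lit 2], .rel (nat_lit 55) (nat_lit 4) [nat_lit 3, nat_lit 7, nat_lit 7, nat_lit 4, nat_lit 3], .rel (nat_lit 348) (nat_lit 3) [nat_lit 9, nat_lit 11, nat_lit 3, nat_lit 0, nat_lit 11, nat_lit 10], .rel (nat_lit 364) (nat_lit 2) [nat_lit 8, nat_lit 13, nat_lit 8, nat_lit 6, nat_lit 2, nat_lit 8, nat_lit 1, nat_lit 13, nat_lit 9], .rel (nat_lit 52) (nat_lit 1) [nat_lit 2, nat_lit 6, nat_lit 6, nat_lit 4, nat_lit 2], .rel (nat_lit 401) (nat_lit 7) [nat_lit 11, nat_lit 12, nat_lit 9, nat_lit 5, nat_lit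 10, nat_lit 3, nat_lit 12, nat_lit 2, nat_lit 11], .rel (nat_lit 374) (nat_lit 3) [nat_lit 7, nat_lit 5, nat_lit 12, nat_lit 2, nat_lit 4, nat_lit 12], .rel (nat_lit 376) (nat_lit 1) [nat_lit 3, nat_lit 12, nat_lit 4, nat_lit 1, nat_lit 2, nat_lit 1, nat_lit 12], .rel (nat_lit 379) (nat_lit 4) [nat_lit 12, nat_lit 9, nat_lit 12, nat_lit 0, nat_lit 8, nat_lit 5, nat_lit 8], .rel (nat_lit 350) (nat_lit 4) [nat_lit 8, nat_lit 2, nat_lit 1, nat_lit 13, nat_lit 2, nat_lit 13, nat_lit 8], .rel (nat_lit 283) (nat_lit 2) [nat_lit 9, nat_lit 5, nat_lit 3, nat_lit 1, nat_lit 9, nat_lit 3], .rel (nat_lit 288) (nat_lit 5) [nat_lit 7, nat_lit 5, nat_lit 8, nat_lit 2, nat_lit 6, nat_lit 3, nat_lit 9], .rel (nat_lit 305) (nat_lit 7) [nat_lit 10, nat_lit 0, nat_lit 4, nat_lit 0, nat_lit 4, nat_lit 7, nat_lit 10, nat_lit 2], .rel (nat_lit 285) (nat_lit 1) [nat_lit 2, nat_lit 8, nat_lit 4, nat_lit 3, nat_lit 1, nat_lit 8], .rel (nat_lit 315) (nat_lit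 1) [nat_lit 3, nat_lit 9, nat_lit 10, nat_lit 2, nat_lit 5, nat_lit 10, nat_lit 8], .rel (nat_lit 285) (nat_lit 4) [nat_lit 3, nat_lit 1, nat_lit 8, nat_lit 4, nat_lit 2, nat_lit 8], .rel (nat_lit 357) (nat_lit 0) [nat_lit 7, nat_lit 8, nat_lit 2, nat_lit 13, nat_lit 9, nat_lit 13, nat_lit 1, nat_lit 13], .rel (nat_lit 426) (nat_lit 2) [nat_lit 1, nat_lit 14, nat_lit 1, nat_lit 4, nat_lit 0, nat_lit 14, nat_lit 0], .rel (nat_lit 68) (nat_lit 5) [nat_lit 0, nat_lit 5, nat_lit 0, nat_lit 0, nat_lit 2, nat_lit 1, nat_lit 3], .rel (nat_lit 95) (nat_lit 3) [nat_lit 7, nat_lit 3, nat_lit 1, nat_lit 1, nat_lit 4, nat_lit 7, nat_lit 3], .rel (nat_lit 171) (nat_lit 0) [nat_lit 1, nat_lit 3, nat_lit 0, nat_lit 4, nat_lit 0, nat_lit 3, nat_lit 1], .rel (nat_lit 197) (nat_lit 1) [nat_lit 0, nat_lit 5, nat_lit 3, nat_lit 4, nat_lit 3, nat_lit 1, nat_lit 4], .rel (nat_lit 234) (nat_lit 5) [nat_lit 1, nat_lit 7, nat_lit 0, nat_lit 3, nat_lit 4, nat_lit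 6, nat_lit 3], .rel (nat_lit 290) (nat_lit 1) [nat_lit 3, nat_lit 9, nat_lit 6, nat_lit 2, nat_lit 0, nat_lit 3, nat_lit 1, nat_lit 8], .rel (nat_lit 302) (nat_lit 1) [nat_lit 3, nat_lit 10, nat_lit 6, nat_lit 2, nat_lit 0, nat_lit 3, nat_lit 1, nat_lit 10], .rel (nat_lit 320) (nat_lit 8) [nat_lit 1, nat_lit 10, nat_lit 2, nat_lit 8, nat_lit 3, nat_lit 10, nat_lit 1, nat_lit 4, nat_lit 8], .rel (nat_lit 328) (nat_lit 5) [nat_lit 8, nat_lit 4, nat_lit 2, nat_lit 11, nat_lit 10, nat_lit 9, nat_lit 11, nat_lit 8], .rel (nat_lit 378) (nat_lit 5) [nat_lit 9, nat_lit 1, nat_lit 12, nat_lit 8, nat_lit 12, nat_lit 5, nat_lit 9], .rel (nat_lit 397) (nat_lit 2) [nat_lit 12, nat_lit 2, nat_lit 11, nat_lit 2, nat_lit 11, nat_lit 12, nat_lit 0, nat_lit 3], .rel (nat_lit 400) (nat_lit 8) [nat_lit 8, nat_lit 12, nat_lit 11, nat_lit 5, nat_lit 11, nat_lit 3, nat_lit 12, nat_lit 2, nat_lit 10], .rel (nat_lit 410) (nat_lit 3) [nat_lit 9, nat_lit 11,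 nat_lit 12, nat_lit 6, nat_lit 3, nat_lit 4, nat_lit 9, nat_lit 12, nat_lit 11, nat_lit 8], .rel (nat_lit 410) (nat_lit 9) [nat_lit 9, nat_lit 12, nat_lit 11, nat_lit 8, nat_lit 4, nat_lit 9, nat_lit 11, nat_lit 12, nat_lit 6, nat_lit 3], .rel (nat_lit 423) (nat_lit 0) [nat_lit 14, nat_lit 5, nat_lit 14, nat_lit 2, nat_lit 1, nat_lit 1], .rel (nat_lit 426) (nat_lit 6) [nat_lit 0, nat_lit 14, nat_lit 0, nat_lit 4, nat_lit 1, nat_lit 14, nat_lit 1], .rel (nat_lit 452) (nat_lit 3) [nat_lit 14, nat_lit 2, nat_lit 12, nat_lit 14, nat_lit 4, nat_lit 14, nat_lit 2, nat_lit 12, nat_lit 14, nat_lit 4, nat_lit 14, nat_lit 2, nat_lit 12, nat_lit 14], .sub (nat_lit 8) [] [], .rel (nat_lit 60) (nat_lit 5) [nat_lit 1, nat_lit 5, nat_lit 0, nat_lit 0, nat_lit 2, nat_lit 0, nat_lit 3], .rel (nat_lit 61) (nat_lit 0) [nat_lit 0, nat_lit 5, nat_lit 2, nat_lit 1, nat_lit 3, nat_lit 1, nat_lit 1], .rel (nat_lit 69) (nat_lit 0) [nat_lit 1, nat_lit 5, nat_lit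 2, nat_lit 0, nat_lit 3, nat_lit 1, nat_lit 1], .rel (nat_lit 79) (nat_lit 1) [nat_lit 7, nat_lit 5, nat_lit 3, nat_lit 3, nat_lit 1, nat_lit 1, nat_lit 7], .rel (nat_lit 81) (nat_lit 0) [nat_lit 6, nat_lit 5, nat_lit 6, nat_lit 3, nat_lit 3, nat_lit 1, nat_lit 1], .rel (nat_lit 84) (nat_lit 3) [nat_lit 7, nat_lit 2, nat_lit 4, nat_lit 7, nat_lit 0, nat_lit 0, nat_lit 2], .rel (nat_lit 86) (nat_lit 6) [nat_lit 3, nat_lit 0, nat_lit 0, nat_lit 2, nat_lit 5, nat_lit 0, nat_lit 0], .rel (nat_lit 90) (nat_lit 5) [nat_lit 7, nat_lit 2, nat_lit 0, nat_lit 0, nat_lit 2, nat_lit 5, nat_lit 7], .rel (nat_lit 98) (nat_lit 7) [nat_lit 0, nat_lit 0, nat_lit 3, nat_lit 0, nat_lit 2, nat_lit 5, nat_lit 0], .rel (nat_lit 107) (nat_lit 1) [nat_lit 1, nat_lit 1, nat_lit 5, nat_lit 2, nat_lit 1, nat_lit 1, nat_lit 3], .rel (nat_lit 108) (nat_lit 3) [nat_lit 6, nat_lit 5, nat_lit 2, nat_lit 7, nat_lit 0, nat_lit 0, nat_lit 3], .rel (nat_lit 109) (nat_lit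 2) [nat_lit 7, nat_lit 5, nat_lit 2, nat_lit 1, nat_lit 1, nat_lit 6, nat_lit 3], .rel (nat_lit 113) (nat_lit 4) [nat_lit 2, nat_lit 1, nat_lit 1, nat_lit 7, nat_lit 4, nat_lit 2, nat_lit 7], .rel (nat_lit 115) (nat_lit 1) [nat_lit 2, nat_lit 6, nat_lit 4, nat_lit 2, nat_lit 1, nat_lit 1, nat_lit 6], .rel (nat_lit 124) (nat_lit 2) [nat_lit 4, nat_lit 0, nat_lit 0, nat_lit 5, nat_lit 5, nat_lit 0, nat_lit 0], .rel (nat_lit 128) (nat_lit 2) [nat_lit 6, nat_lit 3, nat_lit 4, nat_lit 6, nat_lit 3, nat_lit 0, nat_lit 0], .rel (nat_lit 135) (nat_lit 5) [nat_lit 1, nat_lit 1, nat_lit 5, nat_lit 6, nat_lit 1, nat_lit 6, nat_lit 0], .rel (nat_lit 137) (nat_lit 5) [nat_lit 1, nat_lit 1, nat_lit 7, nat_lit 5, nat_lit 7, nat_lit 3, nat_lit 3], .rel (nat_lit 138) (nat_lit 6) [nat_lit 7, nat_lit 0, nat_lit 0, nat_lit 5, nat_lit 2, nat_lit 6, nat_lit 3], .rel (nat_lit 142) (nat_lit 7) [nat_lit 0, nat_lit 0, nat_lit 5, nat_lit 6, nat_lit 0, nat_lit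 6, nat_lit 1], .rel (nat_lit 144) (nat_lit 4) [nat_lit 6, nat_lit 3, nat_lit 3, nat_lit 0, nat_lit 0, nat_lit 5, nat_lit 6], .rel (nat_lit 146) (nat_lit 4) [nat_lit 2, nat_lit 7, nat_lit 4, nat_lit 0, nat_lit 0, nat_lit 6, nat_lit 3], .rel (nat_lit 159) (nat_lit 2) [nat_lit 0, nat_lit 2, nat_lit 1, nat_lit 3, nat_lit 1, nat_lit 5, nat_lit 0], .rel (nat_lit 160) (nat_lit 3) [nat_lit 0, nat_lit 5, nat_lit 1, nat_lit 3, nat_lit 0, nat_lit 2, nat_lit 0], .rel (nat_lit 163) (nat_lit 0) [nat_lit 0, nat_lit 3, nat_lit 0, nat_lit 4, nat_lit 1, nat_lit 3, nat_lit 1], .rel (nat_lit 163) (nat_lit 4) [nat_lit 1, nat_lit 3, nat_lit 1, nat_lit 4, nat_lit 0, nat_lit 3, nat_lit 0], .rel (nat_lit 169) (nat_lit 2) [nat_lit 1, nat_lit 5, nat_lit 0, nat_lit 3, nat_lit 1, nat_lit 2, nat_lit 1], .rel (nat_lit 187) (nat_lit 2) [nat_lit 0, nat_lit 6, nat_lit 5, nat_lit 3, nat_lit 1, nat_lit 3, nat_lit 6], .rel (nat_lit 189) (nat_lit 5) [nat_lit 3, nat_lit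 1, nat_lit 7, nat_lit 4, nat_lit 6, nat_lit 2, nat_lit 1], .rel (nat_lit 193) (nat_lit 0) [nat_lit 7, nat_lit 7, nat_lit 3, nat_lit 0, nat_lit 4, nat_lit 3, nat_lit 1], .rel (nat_lit 195) (nat_lit 5) [nat_lit 3, nat_lit 1, nat_lit 6, nat_lit 3, nat_lit 6, nat_lit 5, nat_lit 0], .rel (nat_lit 205) (nat_lit 0) [nat_lit 6, nat_lit 2, nat_lit 1, nat_lit 6, nat_lit 4, nat_lit 3, nat_lit 1], .rel (nat_lit 221) (nat_lit 4) [nat_lit 1, nat_lit 2, nat_lit 1, nat_lit 3, nat_lit 0, nat_lit 5, nat_lit 0], .rel (nat_lit 226) (nat_lit 2) [nat_lit 0, nat_lit 3, nat_lit 4, nat_lit 6, nat_lit 6, nat_lit 0, nat_lit 3], .rel (nat_lit 228) (nat_lit 2) [nat_lit 0, nat_lit 4, nat_lit 2, nat_lit 4, nat_lit 4, nat_lit 0, nat_lit 3], .rel (nat_lit 228) (nat_lit 7) [nat_lit 0, nat_lit 3, nat_lit 4, nat_lit 0, nat_lit 4, nat_lit 2, nat_lit 4], .rel (nat_lit 230) (nat_lit 2) [nat_lit 3, nat_lit 4, nat_lit 7, nat_lit 0, nat_lit 6, nat_lit 0, nat_lit 3], .rel (nat_lit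 236) (nat_lit 2) [nat_lit 7, nat_lit 3, nat_lit 4, nat_lit 1, nat_lit 6, nat_lit 0, nat_lit 3], .rel (nat_lit 250) (nat_lit 3) [nat_lit 0, nat_lit 5, nat_lit 6, nat_lit 2, nat_lit 0, nat_lit 3, nat_lit 7], .rel (nat_lit 254) (nat_lit 1) [nat_lit 3, nat_lit 0, nat_lit 6, nat_lit 4, nat_lit 3, nat_lit 6, nat_lit 0], .rel (nat_lit 260) (nat_lit 4) [nat_lit 4, nat_lit 7, nat_lit 7, nat_lit 0, nat_lit 4, nat_lit 4, nat_lit 1], .rel (nat_lit 282) (nat_lit 2) [nat_lit 8, nat_lit 5, nat_lit 2, nat_lit 8, nat_lit 0, nat_lit 2], .rel (nat_lit 287) (nat_lit 3) [nat_lit 8, nat_lit 2, nat_lit 2, nat_lit 9, nat_lit 2, nat_lit 2, nat_lit 4], .rel (nat_lit 292) (nat_lit 3) [nat_lit 9, nat_lit 3, nat_lit 9, nat_lit 1, nat_lit 5, nat_lit 1, nat_lit 8, nat_lit 2, nat_lit 8], .rel (nat_lit 295) (nat_lit 2) [nat_lit 7, nat_lit 8, nat_lit 2, nat_lit 8, nat_lit 1, nat_lit 9, nat_lit 3, nat_lit 9, nat_lit 0, nat_lit 2], .rel (nat_lit 314) (nat_lit 1) [nat_lit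 3, nat_lit 10, nat_lit 8, nat_lit 2, nat_lit 5, nat_lit 9, nat_lit 10], .rel (nat_lit 317) (nat_lit 1) [nat_lit 3, nat_lit 5, nat_lit 10, nat_lit 3, nat_lit 3, nat_lit 10, nat_lit 2], .rel (nat_lit 318) (nat_lit 5) [nat_lit 1, nat_lit 4, nat_lit 1, nat_lit 1, nat_lit 10, nat_lit 2, nat_lit 0, nat_lit 3, nat_lit 10], .rel (nat_lit 322) (nat_lit 7) [nat_lit 9, nat_lit 2, nat_lit 10, nat_lit 2, nat_lit 10, nat_lit 8, nat_lit 10, nat_lit 3, nat_lit 10], .rel (nat_lit 355) (nat_lit 2) [nat_lit 9, nat_lit 13, nat_lit 0, nat_lit 3, nat_lit 1, nat_lit 13, nat_lit 8, nat_lit 3], .rel (nat_lit 375) (nat_lit 1) [nat_lit 6, nat_lit 5, nat_lit 12, nat_lit 5, nat_lit 3, nat_lit 12], .rel (nat_lit 383) (nat_lit 3) [nat_lit 12, nat_lit 2, nat_lit 7, nat_lit 3, nat_lit 12, nat_lit 2, nat_lit 0, nat_lit 0], .rel (nat_lit 385) (nat_lit 1) [nat_lit 9, nat_lit 4, nat_lit 0, nat_lit 12, nat_lit 2, nat_lit 9, nat_lit 3, nat_lit 12, nat_lit 0], .rel (nat_lit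 408) (nat_lit 10) [nat_lit 12, nat_lit 11, nat_lit 12, nat_lit 2, nat_lit 12, nat_lit 11, nat_lit 12, nat_lit 6, nat_lit 11, nat_lit 1], .rel (nat_lit 412) (nat_lit 8) [nat_lit 10, nat_lit 7, nat_lit 11, nat_lit 12, nat_lit 2, nat_lit 11, nat_lit 9, nat_lit 12, nat_lit 11, nat_lit 12, nat_lit 6], .rel (nat_lit 460) (nat_lit 0) [nat_lit 14, nat_lit 12, nat_lit 4, nat_lit 14, nat_lit 12, nat_lit 4, nat_lit 14, nat_lit 12, nat_lit 4, nat_lit 14, nat_lit 12, nat_lit 4, nat_lit 14, nat_lit 12, nat_lit 4, nat_lit 14, nat_lit 12, nat_lit 4, nat_lit 14, nat_lit 12], .rel (nat_lit 462) (nat_lit 0) [nat_lit 12, nat_lit 14, nat_lit 4, nat_lit 12, nat_lit 14, nat_lit 4, nat_lit 12, nat_lit 14, nat_lit 4, nat_lit 12, nat_lit 14, nat_lit 4, nat_lit 12, nat_lit 14, nat_lit 4, nat_lit 12, nat_lit 14, nat_lit 4, nat_lit 12, nat_lit 14], .rel (nat_lit 473) (nat_lit 2) [nat_lit 1, nat_lit 12, nat_lit 14, nat_lit 4, nat_lit 1, nat_lit 12, nat_lit 14, nat_lit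 4, nat_lit 1, nat_lit 12, nat_lit 14, nat_lit 4, nat_lit 1, nat_lit 12, nat_lit 14, nat_lit 4, nat_lit 1, nat_lit 12, nat_lit 14, nat_lit 4, nat_lit 1, nat_lit 12, nat_lit 14, nat_lit 4, nat_lit 1, nat_lit 12, nat_lit 14]],
  [.rel (nat_lit 8) (nat_lit 1) [nat_lit 4], .rel (nat_lit 37) (nat_lit 0) [nat_lit 5, nat_lit 5, nat_lit 5], .defn, .rel (nat_lit 51) (nat_lit 3) [nat_lit 3, nat_lit 3, nat_lit 4, nat_lit 3, nat_lit 3], .rel (nat_lit 43) (nat_lit 0) [nat_lit 3, nat_lit 0, nat_lit 5, nat_lit 3, nat_lit 1], .rel (nat_lit 337) (nat_lit 1) [nat_lit 5, nat_lit 13, nat_lit 1, nat_lit 1, nat_lit 13], .rel (nat_lit 276) (nat_lit 4) [nat_lit 6, nat_lit 0, nat_lit 3, nat_lit 8, nat_lit 8], .rel (nat_lit 341) (nat_lit 1) [nat_lit 13, nat_lit 7, nat_lit 5, nat_lit 3, nat_lit 13], .rel (nat_lit 53) (nat_lit 0) [nat_lit 7, nat_lit 7, nat_lit 3, nat_lit 5, nat_lit 3], .rel (nat_lit 369) (nat_lit 1) [nat_lit 12, nat_lit 6, nat_lit 12, nat_lit 1,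 nat_lit 3], .rel (nat_lit 43) (nat_lit 3) [nat_lit 3, nat_lit 1, nat_lit 5, nat_lit 3, nat_lit 0], .rel (nat_lit 279) (nat_lit 1) [nat_lit 5, nat_lit 0, nat_lit 9, nat_lit 1, nat_lit 8], .rel (nat_lit 50) (nat_lit 5) [nat_lit 2, nat_lit 2, nat_lit 4, nat_lit 2, nat_lit 2], .rel (nat_lit 57) (nat_lit 1) [nat_lit 5, nat_lit 7, nat_lit 5, nat_lit 5, nat_lit 6], .rel (nat_lit 57) (nat_lit 4) [nat_lit 5, nat_lit 6, nat_lit 5, nat_lit 5, nat_lit 7], .rel (nat_lit 54) (nat_lit 1) [nat_lit 2, nat_lit 5, nat_lit 6, nat_lit 6, nat_lit 2], .rel (nat_lit 423) (nat_lit 2) [nat_lit 14, nat_lit 2, nat_lit 1, nat_lit 1, nat_lit 4, nat_lit 14], .rel (nat_lit 54) (nat_lit 3) [nat_lit 6, nat_lit 6, nat_lit 2, nat_lit 5, nat_lit 2], .rel (nat_lit 57) (nat_lit 2) [nat_lit 7, nat_lit 5, nat_lit 5, nat_lit 6, nat_lit 5], .rel (nat_lit 341) (nat_lit 4) [nat_lit 3, nat_lit 13, nat_lit 5, nat_lit 13, nat_lit 7], .rel (nat_lit 345) (nat_lit 2) [nat_lit 11, nat_lit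 6, nat_lit 5, nat_lit 11, nat_lit 6], .rel (nat_lit 418) (nat_lit 1) [nat_lit 14, nat_lit 2, nat_lit 14, nat_lit 4, nat_lit 2], .rel (nat_lit 279) (nat_lit 2) [nat_lit 0, nat_lit 9, nat_lit 1, nat_lit 8, nat_lit 5], .rel (nat_lit 343) (nat_lit 5) [nat_lit 9, nat_lit 7, nat_lit 8, nat_lit 7, nat_lit 5], .rel (nat_lit 57) (nat_lit 5) [nat_lit 6, nat_lit 5, nat_lit 5, nat_lit 7, nat_lit 5], .rel (nat_lit 375) (nat_lit 5) [nat_lit 3, nat_lit 12, nat_lit 4, nat_lit 6, nat_lit 5, nat_lit 12], .rel (nat_lit 400) (nat_lit 2) [nat_lit 11, nat_lit 3, nat_lit 12, nat_lit 2, nat_lit 10, nat_lit 4, nat_lit 8, nat_lit 12, nat_lit 11], .rel (nat_lit 337) (nat_lit 2) [nat_lit 13, nat_lit 1, nat_lit 1, nat_lit 13, nat_lit 5], .rel (nat_lit 377) (nat_lit 6) [nat_lit 12, nat_lit 0, nat_lit 3, nat_lit 0, nat_lit 5, nat_lit 12, nat_lit 2], .rel (nat_lit 314) (nat_lit 6) [nat_lit 9, nat_lit 10, nat_lit 4, nat_lit 3, nat_lit 10, nat_lit 8, nat_lit 2], .rel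 (nat_lit 419) (nat_lit 0) [nat_lit 14, nat_lit 3, nat_lit 14, nat_lit 4, nat_lit 3], .rel (nat_lit 53) (nat_lit 4) [nat_lit 3, nat_lit 5, nat_lit 7, nat_lit 7, nat_lit 3], .rel (nat_lit 365) (nat_lit 7) [nat_lit 8, nat_lit 13, nat_lit 0, nat_lit 9, nat_lit 3, nat_lit 7, nat_lit 9, nat_lit 13, nat_lit 9], .rel (nat_lit 282) (nat_lit 4) [nat_lit 2, nat_lit 8, nat_lit 0, nat_lit 2, nat_lit 4, nat_lit 8], .rel (nat_lit 351) (nat_lit 3) [nat_lit 9, nat_lit 13, nat_lit 3, nat_lit 13, nat_lit 0, nat_lit 3, nat_lit 9], .rel (nat_lit 284) (nat_lit 2) [nat_lit 9, nat_lit 3, nat_lit 5, nat_lit 9, nat_lit 0, nat_lit 2], .rel (nat_lit 343) (nat_lit 4) [nat_lit 5, nat_lit 9, nat_lit 7, nat_lit 8, nat_lit 7], .rel (nat_lit 315) (nat_lit 6) [nat_lit 10, nat_lit 8, nat_lit 4, nat_lit 3, nat_lit 9, nat_lit 10, nat_lit 2], .rel (nat_lit 354) (nat_lit 6) [nat_lit 2, nat_lit 9, nat_lit 13, nat_lit 0, nat_lit 2, nat_lit 1, nat_lit 13, nat_lit 8], .rel (nat_lit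 375) (nat_lit 3) [nat_lit 12, nat_lit 5, nat_lit 3, nat_lit 12, nat_lit 4, nat_lit 6], .rel (nat_lit 401) (nat_lit 1) [nat_lit 10, nat_lit 3, nat_lit 12, nat_lit 2, nat_lit 11, nat_lit 4, nat_lit 11, nat_lit 12, nat_lit 9], .rel (nat_lit 422) (nat_lit 6) [nat_lit 0, nat_lit 0, nat_lit 3, nat_lit 14, nat_lit 4, nat_lit 14], .rel (nat_lit 86) (nat_lit 3) [nat_lit 0, nat_lit 0, nat_lit 4, nat_lit 3, nat_lit 0, nat_lit 0, nat_lit 2], .rel (nat_lit 427) (nat_lit 1) [nat_lit 0, nat_lit 14, nat_lit 0, nat_lit 5, nat_lit 1, nat_lit 14, nat_lit 1], .rel (nat_lit 63) (nat_lit 0) [nat_lit 0, nat_lit 3, nat_lit 5, nat_lit 1, nat_lit 3, nat_lit 1, nat_lit 1], .rel (nat_lit 284) (nat_lit 5) [nat_lit 9, nat_lit 0, nat_lit 2, nat_lit 5, nat_lit 9, nat_lit 3], .rel (nat_lit 332) (nat_lit 5) [nat_lit 3, nat_lit 4, nat_lit 10, nat_lit 3, nat_lit 11, nat_lit 8, nat_lit 11, nat_lit 9, nat_lit 11], .rel (nat_lit 374) (nat_lit 5) [nat_lit 12, nat_lit 2, nat_lit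 4, nat_lit 12, nat_lit 4, nat_lit 7], .rel (nat_lit 379) (nat_lit 2) [nat_lit 8, nat_lit 4, nat_lit 12, nat_lit 9, nat_lit 12, nat_lit 0, nat_lit 8], .rel (nat_lit 384) (nat_lit 8) [nat_lit 1, nat_lit 12, nat_lit 2, nat_lit 8, nat_lit 3, nat_lit 12, nat_lit 1, nat_lit 5, nat_lit 8], .rel (nat_lit 196) (nat_lit 6) [nat_lit 5, nat_lit 0, nat_lit 2, nat_lit 5, nat_lit 2, nat_lit 4, nat_lit 1], .rel (nat_lit 216) (nat_lit 3) [nat_lit 1, nat_lit 4, nat_lit 6, nat_lit 3, nat_lit 0, nat_lit 2, nat_lit 7], .rel (nat_lit 227) (nat_lit 2) [nat_lit 2, nat_lit 1, nat_lit 5, nat_lit 2, nat_lit 1, nat_lit 7, nat_lit 7], .rel (nat_lit 283) (nat_lit 4) [nat_lit 3, nat_lit 1, nat_lit 9, nat_lit 3, nat_lit 4, nat_lit 9], .rel (nat_lit 293) (nat_lit 6) [nat_lit 9, nat_lit 3, nat_lit 9, nat_lit 0, nat_lit 4, nat_lit 0, nat_lit 8, nat_lit 2, nat_lit 8], .rel (nat_lit 304) (nat_lit 1) [nat_lit 3, nat_lit 10, nat_lit 6, nat_lit 5, nat_lit 1, nat_lit 5, nat_lit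 1, nat_lit 10], .rel (nat_lit 349) (nat_lit 3) [nat_lit 10, nat_lit 11, nat_lit 1, nat_lit 2, nat_lit 11, nat_lit 8], .rel (nat_lit 377) (nat_lit 3) [nat_lit 12, nat_lit 2, nat_lit 5, nat_lit 12, nat_lit 0, nat_lit 3, nat_lit 0], .rel (nat_lit 380) (nat_lit 6) [nat_lit 7, nat_lit 12, nat_lit 2, nat_lit 0, nat_lit 3, nat_lit 12, nat_lit 2], .rel (nat_lit 396) (nat_lit 6) [nat_lit 2, nat_lit 1, nat_lit 12, nat_lit 11, nat_lit 3, nat_lit 11, nat_lit 3, nat_lit 12], .sub (nat_lit 10) [] [], .rel (nat_lit 63) (nat_lit 3) [nat_lit 1, nat_lit 3, nat_lit 1, nat_lit 1, nat_lit 5, nat_lit 0, nat_lit 3], .rel (nat_lit 68) (nat_lit 7) [nat_lit 0, nat_lit 0, nat_lit 2, nat_lit 1, nat_lit 3, nat_lit 4, nat_lit 0], .rel (nat_lit 71) (nat_lit 3) [nat_lit 0, nat_lit 3, nat_lit 1, nat_lit 1, nat_lit 5, nat_lit 1, nat_lit 3], .rel (nat_lit 80) (nat_lit 7) [nat_lit 0, nat_lit 0, nat_lit 2, nat_lit 2, nat_lit 7, nat_lit 4, nat_lit 7], .rel (nat_lit 83)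 (nat_lit 4) [nat_lit 3, nat_lit 1, nat_lit 1, nat_lit 7, nat_lit 5, nat_lit 6, nat_lit 2], .rel (nat_lit 98) (nat_lit 5) [nat_lit 0, nat_lit 4, nat_lit 0, nat_lit 0, nat_lit 3, nat_lit 0, nat_lit 2], .rel (nat_lit 114) (nat_lit 3) [nat_lit 7, nat_lit 3, nat_lit 5, nat_lit 7, nat_lit 0, nat_lit 0, nat_lit 3], .rel (nat_lit 114) (nat_lit 6) [nat_lit 7, nat_lit 0, nat_lit 0, nat_lit 3, nat_lit 5, nat_lit 7, nat_lit 3], .rel (nat_lit 121) (nat_lit 5) [nat_lit 1, nat_lit 1, nat_lit 4, nat_lit 7, nat_lit 0, nat_lit 7, nat_lit 1], .rel (nat_lit 124) (nat_lit 6) [nat_lit 5, nat_lit 0, nat_lit 0, nat_lit 4, nat_lit 4, nat_lit 0, nat_lit 0], .rel (nat_lit 126) (nat_lit 7) [nat_lit 0, nat_lit 0, nat_lit 4, nat_lit 6, nat_lit 0, nat_lit 6, nat_lit 1], .rel (nat_lit 134) (nat_lit 2) [nat_lit 1, nat_lit 7, nat_lit 0, nat_lit 7, nat_lit 4, nat_lit 0, nat_lit 0], .rel (nat_lit 136) (nat_lit 2) [nat_lit 2, nat_lit 2, nat_lit 6, nat_lit 4, nat_lit 6,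 nat_lit 0, nat_lit 0], .rel (nat_lit 147) (nat_lit 0) [nat_lit 6, nat_lit 3, nat_lit 5, nat_lit 2, nat_lit 7, nat_lit 1, nat_lit 1], .rel (nat_lit 158) (nat_lit 5) [nat_lit 1, nat_lit 4, nat_lit 0, nat_lit 2, nat_lit 0, nat_lit 3, nat_lit 1], .rel (nat_lit 159) (nat_lit 0) [nat_lit 0, nat_lit 4, nat_lit 0, nat_lit 2, nat_lit 1, nat_lit 3, nat_lit 1], .rel (nat_lit 160) (nat_lit 5) [nat_lit 1, nat_lit 3, nat_lit 0, nat_lit 2, nat_lit 0, nat_lit 4, nat_lit 0], .rel (nat_lit 161) (nat_lit 4) [nat_lit 1, nat_lit 3, nat_lit 1, nat_lit 2, nat_lit 0, nat_lit 4, nat_lit 1], .rel (nat_lit 162) (nat_lit 7) [nat_lit 0, nat_lit 2, nat_lit 0, nat_lit 5, nat_lit 1, nat_lit 2, nat_lit 1], .rel (nat_lit 168) (nat_lit 5) [nat_lit 0, nat_lit 3, nat_lit 0, nat_lit 2, nat_lit 1, nat_lit 4, nat_lit 0], .rel (nat_lit 170) (nat_lit 7) [nat_lit 0, nat_lit 2, nat_lit 1, nat_lit 5, nat_lit 1, nat_lit 2, nat_lit 0], .rel (nat_lit 190) (nat_lit 2) [nat_lit 0,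 nat_lit 6, nat_lit 4, nat_lit 3, nat_lit 7, nat_lit 0, nat_lit 2], .rel (nat_lit 196) (nat_lit 2) [nat_lit 2, nat_lit 4, nat_lit 1, nat_lit 5, nat_lit 5, nat_lit 0, nat_lit 2], .rel (nat_lit 227) (nat_lit 5) [nat_lit 2, nat_lit 1, nat_lit 7, nat_lit 7, nat_lit 5, nat_lit 2, nat_lit 1], .rel (nat_lit 229) (nat_lit 0) [nat_lit 5, nat_lit 3, nat_lit 5, nat_lit 1, nat_lit 5, nat_lit 2, nat_lit 1], .rel (nat_lit 229) (nat_lit 5) [nat_lit 2, nat_lit 1, nat_lit 5, nat_lit 5, nat_lit 3, nat_lit 5, nat_lit 1], .rel (nat_lit 231) (nat_lit 3) [nat_lit 2, nat_lit 5, nat_lit 2, nat_lit 1, nat_lit 7, nat_lit 1, nat_lit 6], .rel (nat_lit 257) (nat_lit 1) [nat_lit 6, nat_lit 1, nat_lit 7, nat_lit 2, nat_lit 5, nat_lit 1, nat_lit 2], .rel (nat_lit 259) (nat_lit 5) [nat_lit 5, nat_lit 1, nat_lit 5, nat_lit 2, nat_lit 4, nat_lit 2, nat_lit 0], .rel (nat_lit 268) (nat_lit 1) [nat_lit 7, nat_lit 4, nat_lit 0, nat_lit 7, nat_lit 2, nat_lit 2, nat_lit 0],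 .rel (nat_lit 288) (nat_lit 7) [nat_lit 8, nat_lit 2, nat_lit 6, nat_lit 3, nat_lit 9, nat_lit 4, nat_lit 7], .rel (nat_lit 289) (nat_lit 2) [nat_lit 8, nat_lit 2, nat_lit 7, nat_lit 3, nat_lit 9, nat_lit 4, nat_lit 6], .rel (nat_lit 301) (nat_lit 3) [nat_lit 10, nat_lit 2, nat_lit 2, nat_lit 10, nat_lit 2, nat_lit 4, nat_lit 3], .rel (nat_lit 321) (nat_lit 1) [nat_lit 9, nat_lit 5, nat_lit 0, nat_lit 10, nat_lit 2, nat_lit 9, nat_lit 3, nat_lit 10, nat_lit 0], .rel (nat_lit 327) (nat_lit 4) [nat_lit 11, nat_lit 3, nat_lit 11, nat_lit 0, nat_lit 2, nat_lit 1, nat_lit 3], .rel (nat_lit 329) (nat_lit 1) [nat_lit 9, nat_lit 5, nat_lit 9, nat_lit 11, nat_lit 8, nat_lit 10, nat_lit 11, nat_lit 3], .rel (nat_lit 329) (nat_lit 3) [nat_lit 9, nat_lit 11, nat_lit 8, nat_lit 10, nat_lit 11, nat_lit 3, nat_lit 5, nat_lit 9], .rel (nat_lit 378) (nat_lit 3) [nat_lit 9, nat_lit 4, nat_lit 9, nat_lit 1, nat_lit 12, nat_lit 8, nat_lit 12], .rel (nat_lit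 409) (nat_lit 0) [nat_lit 0, nat_lit 11, nat_lit 7, nat_lit 12, nat_lit 11, nat_lit 12, nat_lit 3, nat_lit 12, nat_lit 11, nat_lit 12], .rel (nat_lit 415) (nat_lit 4) [nat_lit 12, nat_lit 11, nat_lit 8, nat_lit 7, nat_lit 9, nat_lit 11, nat_lit 12, nat_lit 8, nat_lit 4, nat_lit 7, nat_lit 10], .rel (nat_lit 436) (nat_lit 4) [nat_lit 2, nat_lit 4, nat_lit 3, nat_lit 1, nat_lit 12, nat_lit 3, nat_lit 3, nat_lit 12], .rel (nat_lit 461) (nat_lit 2) [nat_lit 12, nat_lit 14, nat_lit 5, nat_lit 12, nat_lit 14, nat_lit 5, nat_lit 12, nat_lit 14, nat_lit 5, nat_lit 12, nat_lit 14, nat_lit 5, nat_lit 12, nat_lit 14, nat_lit 5, nat_lit 12, nat_lit 14, nat_lit 5, nat_lit 12, nat_lit 14], .rel (nat_lit 497) (nat_lit 3) [nat_lit 10, nat_lit 12, nat_lit 14, nat_lit 5, nat_lit 10, nat_lit 12, nat_lit 14, nat_lit 5, nat_lit 10, nat_lit 12, nat_lit 14, nat_lit 5, nat_lit 10, nat_lit 12, nat_lit 14, nat_lit 5, nat_lit 10, nat_lit 12, nat_lit 14, nat_lit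 5, nat_lit 10, nat_lit 12, nat_lit 14, nat_lit 5, nat_lit 10, nat_lit 12, nat_lit 14]],
  [.rel (nat_lit 12) (nat_lit 0) [nat_lit 7], .rel (nat_lit 369) (nat_lit 3) [nat_lit 12, nat_lit 1, nat_lit 3, nat_lit 5, nat_lit 12], .rel (nat_lit 45) (nat_lit 3) [nat_lit 3, nat_lit 1, nat_lit 7, nat_lit 1, nat_lit 3], .rel (nat_lit 34) (nat_lit 1) [nat_lit 2, nat_lit 6, nat_lit 2], .rel (nat_lit 296) (nat_lit 4) [nat_lit 10, nat_lit 0, nat_lit 6, nat_lit 0, nat_lit 10], .defn, .rel (nat_lit 41) (nat_lit 0) [nat_lit 1, nat_lit 1, nat_lit 7, nat_lit 1, nat_lit 1], .rel (nat_lit 280) (nat_lit 5) [nat_lit 0, nat_lit 8, nat_lit 1, nat_lit 6, nat_lit 9], .rel (nat_lit 345) (nat_lit 1) [nat_lit 5, nat_lit 11, nat_lit 6, nat_lit 5, nat_lit 11], .rel (nat_lit 38) (nat_lit 0) [nat_lit 6, nat_lit 6, nat_lit 6], .rel (nat_lit 54) (nat_lit 4) [nat_lit 6, nat_lit 2, nat_lit 5, nat_lit 2, nat_lit 5], .rel (nat_lit 44) (nat_lit 5) [nat_lit 0, nat_lit 2, nat_lit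 7, nat_lit 2, nat_lit 0], .rel (nat_lit 342) (nat_lit 4) [nat_lit 8, nat_lit 4, nat_lit 4, nat_lit 6, nat_lit 9], .rel (nat_lit 56) (nat_lit 2) [nat_lit 4, nat_lit 4, nat_lit 7, nat_lit 4, nat_lit 4], .rel (nat_lit 52) (nat_lit 4) [nat_lit 4, nat_lit 2, nat_lit 4, nat_lit 2, nat_lit 6], .rel (nat_lit 340) (nat_lit 2) [nat_lit 13, nat_lit 4, nat_lit 13, nat_lit 2, nat_lit 4], .rel (nat_lit 57) (nat_lit 0) [nat_lit 5, nat_lit 5, nat_lit 7, nat_lit 5, nat_lit 5], .rel (nat_lit 424) (nat_lit 1) [nat_lit 14, nat_lit 7, nat_lit 10, nat_lit 2, nat_lit 10, nat_lit 3, nat_lit 14], .rel (nat_lit 48) (nat_lit 1) [nat_lit 6, nat_lit 1, nat_lit 6, nat_lit 6, nat_lit 0], .rel (nat_lit 48) (nat_lit 2) [nat_lit 1, nat_lit 6, nat_lit 6, nat_lit 0, nat_lit 6], .rel (nat_lit 40) (nat_lit 2) [nat_lit 0, nat_lit 0, nat_lit 7, nat_lit 0, nat_lit 0], .rel (nat_lit 280) (nat_lit 3) [nat_lit 9, nat_lit 6, nat_lit 0, nat_lit 8, nat_lit 1], .rel (nat_lit 276)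 (nat_lit 5) [nat_lit 0, nat_lit 3, nat_lit 8, nat_lit 8, nat_lit 5], .rel (nat_lit 47) (nat_lit 0) [nat_lit 1, nat_lit 2, nat_lit 7, nat_lit 2, nat_lit 1], .rel (nat_lit 402) (nat_lit 2) [nat_lit 11, nat_lit 12, nat_lit 9, nat_lit 2, nat_lit 7, nat_lit 10, nat_lit 3, nat_lit 12, nat_lit 11], .rel (nat_lit 48) (nat_lit 4) [nat_lit 6, nat_lit 0, nat_lit 6, nat_lit 6, nat_lit 1], .rel (nat_lit 347) (nat_lit 4) [nat_lit 13, nat_lit 1, nat_lit 9, nat_lit 2, nat_lit 9, nat_lit 13], .rel (nat_lit 52) (nat_lit 3) [nat_lit 6, nat_lit 4, nat_lit 2, nat_lit 4, nat_lit 2], .rel (nat_lit 338) (nat_lit 1) [nat_lit 8, nat_lit 7, nat_lit 1, nat_lit 9, nat_lit 0], .rel (nat_lit 296) (nat_lit 1) [nat_lit 0, nat_lit 10, nat_lit 6, nat_lit 10, nat_lit 0], .rel (nat_lit 339) (nat_lit 2) [nat_lit 9, nat_lit 7, nat_lit 1, nat_lit 8, nat_lit 0], .rel (nat_lit 330) (nat_lit 1) [nat_lit 11, nat_lit 10, nat_lit 2, nat_lit 8, nat_lit 10, nat_lit 3, nat_lit 9,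 nat_lit 1, nat_lit 11], .rel (nat_lit 390) (nat_lit 0) [nat_lit 12, nat_lit 10, nat_lit 12, nat_lit 6, nat_lit 10], .rel (nat_lit 54) (nat_lit 5) [nat_lit 2, nat_lit 5, nat_lit 2, nat_lit 5, nat_lit 6], .rel (nat_lit 48) (nat_lit 5) [nat_lit 0, nat_lit 6, nat_lit 6, nat_lit 1, nat_lit 6], .rel (nat_lit 390) (nat_lit 4) [nat_lit 10, nat_lit 6, nat_lit 12, nat_lit 10, nat_lit 12], .rel (nat_lit 342) (nat_lit 2) [nat_lit 9, nat_lit 6, nat_lit 8, nat_lit 4, nat_lit 4], .rel (nat_lit 353) (nat_lit 5) [nat_lit 13, nat_lit 10, nat_lit 13, nat_lit 0, nat_lit 11, nat_lit 9, nat_lit 6, nat_lit 11], .rel (nat_lit 405) (nat_lit 2) [nat_lit 10, nat_lit 6, nat_lit 12, nat_lit 11, nat_lit 12, nat_lit 10, nat_lit 11, nat_lit 12, nat_lit 10, nat_lit 11], .rel (nat_lit 364) (nat_lit 6) [nat_lit 2, nat_lit 8, nat_lit 1, nat_lit 13, nat_lit 9, nat_lit 4, nat_lit 8, nat_lit 13, nat_lit 8], .rel (nat_lit 425) (nat_lit 4) [nat_lit 14, nat_lit 7, nat_lit 14,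 nat_lit 2, nat_lit 10, nat_lit 3, nat_lit 10], .rel (nat_lit 353) (nat_lit 3) [nat_lit 11, nat_lit 6, nat_lit 13, nat_lit 10, nat_lit 13, nat_lit 0, nat_lit 11, nat_lit 9], .rel (nat_lit 382) (nat_lit 2) [nat_lit 3, nat_lit 12, nat_lit 5, nat_lit 1, nat_lit 1, nat_lit 3, nat_lit 12, nat_lit 2], .rel (nat_lit 448) (nat_lit 4) [nat_lit 2, nat_lit 14, nat_lit 12, nat_lit 14, nat_lit 6, nat_lit 2, nat_lit 14, nat_lit 12, nat_lit 14, nat_lit 6, nat_lit 2, nat_lit 14, nat_lit 12, nat_lit 14], .sub (nat_lit 12) [] [], .rel (nat_lit 46) (nat_lit 2) [nat_lit 3, nat_lit 0, nat_lit 7, nat_lit 0, nat_lit 3], .rel (nat_lit 73) (nat_lit 3) [nat_lit 0, nat_lit 3, nat_lit 1, nat_lit 1, nat_lit 2, nat_lit 6, nat_lit 1], .rel (nat_lit 81) (nat_lit 1) [nat_lit 5, nat_lit 6, nat_lit 3, nat_lit 3, nat_lit 1, nat_lit 1, nat_lit 4], .rel (nat_lit 81) (nat_lit 3) [nat_lit 3, nat_lit 3, nat_lit 1, nat_lit 1, nat_lit 4, nat_lit 6, nat_lit 5], .rel (nat_lit 112)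 (nat_lit 7) [nat_lit 0, nat_lit 0, nat_lit 3, nat_lit 5, nat_lit 6, nat_lit 3, nat_lit 5], .rel (nat_lit 115) (nat_lit 3) [nat_lit 4, nat_lit 2, nat_lit 1, nat_lit 1, nat_lit 6, nat_lit 4, nat_lit 2], .rel (nat_lit 144) (nat_lit 3) [nat_lit 4, nat_lit 6, nat_lit 3, nat_lit 3, nat_lit 0, nat_lit 0, nat_lit 5], .rel (nat_lit 165) (nat_lit 0) [nat_lit 1, nat_lit 3, nat_lit 1, nat_lit 6, nat_lit 1, nat_lit 3, nat_lit 1], .rel (nat_lit 210) (nat_lit 2) [nat_lit 4, nat_lit 1, nat_lit 5, nat_lit 2, nat_lit 7, nat_lit 0, nat_lit 2], .rel (nat_lit 237) (nat_lit 4) [nat_lit 5, nat_lit 2, nat_lit 1, nat_lit 7, nat_lit 0, nat_lit 5, nat_lit 2], .rel (nat_lit 270) (nat_lit 6) [nat_lit 4, nat_lit 0, nat_lit 6, nat_lit 0, nat_lit 7, nat_lit 5, nat_lit 6], .rel (nat_lit 356) (nat_lit 7) [nat_lit 5, nat_lit 13, nat_lit 0, nat_lit 13, nat_lit 8, nat_lit 13, nat_lit 3, nat_lit 9], .rel (nat_lit 375) (nat_lit 2) [nat_lit 5, nat_lit 12, nat_lit 5, nat_lit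 3, nat_lit 12, nat_lit 4], .rel (nat_lit 408) (nat_lit 7) [nat_lit 11, nat_lit 1, nat_lit 4, nat_lit 12, nat_lit 11, nat_lit 12, nat_lit 2, nat_lit 12, nat_lit 11, nat_lit 12], .rel (nat_lit 414) (nat_lit 9) [nat_lit 5, nat_lit 9, nat_lit 12, nat_lit 11, nat_lit 8, nat_lit 6, nat_lit 9, nat_lit 11, nat_lit 12, nat_lit 4, nat_lit 10], .rel (nat_lit 443) (nat_lit 1) [nat_lit 12, nat_lit 14, nat_lit 3, nat_lit 14, nat_lit 6, nat_lit 12, nat_lit 14, nat_lit 3, nat_lit 14, nat_lit 6, nat_lit 12, nat_lit 14, nat_lit 3, nat_lit 14], .rel (nat_lit 459) (nat_lit 1) [nat_lit 14, nat_lit 12, nat_lit 3, nat_lit 14, nat_lit 6, nat_lit 14, nat_lit 12, nat_lit 3, nat_lit 14, nat_lit 6, nat_lit 14, nat_lit 12, nat_lit 3, nat_lit 14]],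
  [.rel (nat_lit 12) (nat_lit 1) [nat_lit 6], .rel (nat_lit 368) (nat_lit 2) [nat_lit 12, nat_lit 4, nat_lit 2, nat_lit 0, nat_lit 12], .rel (nat_lit 39) (nat_lit 0) [nat_lit 7, nat_lit 7, nat_lit 7], .rel (nat_lit 35) (nat_lit 0) [nat_lit 3, nat_lit 7, nat_lit 3], .rel (nat_lit 41) (nat_lit 3) [nat_lit 1, nat_lit 1, nat_lit 6, nat_lit 1, nat_lit 1], .defn, .rel (nat_lit 297) (nat_lit 1) [nat_lit 10, nat_lit 1, nat_lit 7, nat_lit 1, nat_lit 10], .rel (nat_lit 339) (nat_lit 4) [nat_lit 1, nat_lit 8, nat_lit 0, nat_lit 6, nat_lit 9], .rel (nat_lit 341) (nat_lit 3) [nat_lit 5, nat_lit 3, nat_lit 13, nat_lit 5, nat_lit 13], .rel (nat_lit 281) (nat_lit 2) [nat_lit 0, nat_lit 9, nat_lit 1, nat_lit 7, nat_lit 8], .rel (nat_lit 44) (nat_lit 2) [nat_lit 2, nat_lit 0, nat_lit 6, nat_lit 0, nat_lit 2], .rel (nat_lit 46) (nat_lit 5) [nat_lit 0, nat_lit 3, nat_lit 6, nat_lit 3, nat_lit 0], .rel (nat_lit 53) (nat_lit 1) [nat_lit 7, nat_lit 3, nat_lit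 5, nat_lit 3, nat_lit 5], .rel (nat_lit 55) (nat_lit 1) [nat_lit 4, nat_lit 3, nat_lit 4, nat_lit 3, nat_lit 7], .rel (nat_lit 343) (nat_lit 1) [nat_lit 8, nat_lit 7, nat_lit 5, nat_lit 5, nat_lit 9], .rel (nat_lit 56) (nat_lit 5) [nat_lit 4, nat_lit 4, nat_lit 6, nat_lit 4, nat_lit 4], .rel (nat_lit 344) (nat_lit 1) [nat_lit 11, nat_lit 4, nat_lit 7, nat_lit 11, nat_lit 4], .rel (nat_lit 40) (nat_lit 5) [nat_lit 0, nat_lit 0, nat_lit 6, nat_lit 0, nat_lit 0], .rel (nat_lit 425) (nat_lit 6) [nat_lit 14, nat_lit 2, nat_lit 10, nat_lit 3, nat_lit 10, nat_lit 6, nat_lit 14], .rel (nat_lit 57) (nat_lit 3) [nat_lit 5, nat_lit 5, nat_lit 6, nat_lit 5, nat_lit 5], .rel (nat_lit 49) (nat_lit 0) [nat_lit 7, nat_lit 0, nat_lit 7, nat_lit 7, nat_lit 1], .rel (nat_lit 338) (nat_lit 3) [nat_lit 1, nat_lit 9, nat_lit 0, nat_lit 6, nat_lit 8], .rel (nat_lit 343) (nat_lit 3) [nat_lit 5, nat_lit 5, nat_lit 9, nat_lit 7, nat_lit 8], .rel (nat_lit 403)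 (nat_lit 7) [nat_lit 11, nat_lit 12, nat_lit 2, nat_lit 10, nat_lit 6, nat_lit 3, nat_lit 8, nat_lit 12, nat_lit 11], .rel (nat_lit 49) (nat_lit 3) [nat_lit 7, nat_lit 1, nat_lit 7, nat_lit 7, nat_lit 0], .rel (nat_lit 346) (nat_lit 2) [nat_lit 13, nat_lit 8, nat_lit 3, nat_lit 8, nat_lit 0, nat_lit 13], .rel (nat_lit 277) (nat_lit 0) [nat_lit 4, nat_lit 9, nat_lit 9, nat_lit 2, nat_lit 1], .rel (nat_lit 45) (nat_lit 0) [nat_lit 1, nat_lit 3, nat_lit 6, nat_lit 3, nat_lit 1], .rel (nat_lit 281) (nat_lit 0) [nat_lit 8, nat_lit 7, nat_lit 0, nat_lit 9, nat_lit 1], .rel (nat_lit 55) (nat_lit 0) [nat_lit 7, nat_lit 4, nat_lit 3, nat_lit 4, nat_lit 3], .rel (nat_lit 331) (nat_lit 8) [nat_lit 11, nat_lit 0, nat_lit 8, nat_lit 2, nat_lit 10, nat_lit 9, nat_lit 3, nat_lit 10, nat_lit 11], .rel (nat_lit 53) (nat_lit 2) [nat_lit 3, nat_lit 5, nat_lit 3, nat_lit 5, nat_lit 7], .rel (nat_lit 424) (nat_lit 3) [nat_lit 10, nat_lit 2, nat_lit 10,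 nat_lit 3, nat_lit 14, nat_lit 6, nat_lit 14], .rel (nat_lit 352) (nat_lit 5) [nat_lit 8, nat_lit 11, nat_lit 1, nat_lit 13, nat_lit 10, nat_lit 13, nat_lit 7, nat_lit 11], .rel (nat_lit 391) (nat_lit 1) [nat_lit 12, nat_lit 10, nat_lit 12, nat_lit 7, nat_lit 10], .rel (nat_lit 391) (nat_lit 5) [nat_lit 10, nat_lit 7, nat_lit 12, nat_lit 10, nat_lit 12], .rel (nat_lit 47) (nat_lit 3) [nat_lit 2, nat_lit 1, nat_lit 6, nat_lit 1, nat_lit 2], .rel (nat_lit 49) (nat_lit 1) [nat_lit 0, nat_lit 7, nat_lit 7, nat_lit 1, nat_lit 7], .rel (nat_lit 374) (nat_lit 4) [nat_lit 5, nat_lit 12, nat_lit 2, nat_lit 4, nat_lit 12, nat_lit 4], .rel (nat_lit 352) (nat_lit 3) [nat_lit 11, nat_lit 7, nat_lit 8, nat_lit 11, nat_lit 1, nat_lit 13, nat_lit 10, nat_lit 13], .rel (nat_lit 409) (nat_lit 3) [nat_lit 12, nat_lit 11, nat_lit 12, nat_lit 3, nat_lit 12, nat_lit 11, nat_lit 12, nat_lit 5, nat_lit 0, nat_lit 11], .rel (nat_lit 297) (nat_lit 4) [nat_lit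 1, nat_lit 10, nat_lit 7, nat_lit 10, nat_lit 1], .rel (nat_lit 365) (nat_lit 3) [nat_lit 9, nat_lit 13, nat_lit 9, nat_lit 5, nat_lit 8, nat_lit 13, nat_lit 0, nat_lit 9, nat_lit 3], .rel (nat_lit 457) (nat_lit 1) [nat_lit 14, nat_lit 12, nat_lit 3, nat_lit 14, nat_lit 7, nat_lit 14, nat_lit 12, nat_lit 3, nat_lit 14, nat_lit 7, nat_lit 14, nat_lit 12, nat_lit 3, nat_lit 14], .rel (nat_lit 458) (nat_lit 3) [nat_lit 14, nat_lit 2, nat_lit 12, nat_lit 14, nat_lit 7, nat_lit 14, nat_lit 2, nat_lit 12, nat_lit 14, nat_lit 7, nat_lit 14, nat_lit 2, nat_lit 12, nat_lit 14], .sub (nat_lit 14) [] [], .rel (nat_lit 65) (nat_lit 3) [nat_lit 1, nat_lit 3, nat_lit 1, nat_lit 1, nat_lit 2, nat_lit 7, nat_lit 0], .rel (nat_lit 109) (nat_lit 3) [nat_lit 5, nat_lit 2, nat_lit 1, nat_lit 1, nat_lit 6, nat_lit 3, nat_lit 4], .rel (nat_lit 113) (nat_lit 3) [nat_lit 4, nat_lit 2, nat_lit 1, nat_lit 1, nat_lit 7, nat_lit 4, nat_lit 2], .rel (nat_lit 137)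 (nat_lit 0) [nat_lit 5, nat_lit 7, nat_lit 3, nat_lit 3, nat_lit 4, nat_lit 1, nat_lit 1], .rel (nat_lit 143) (nat_lit 2) [nat_lit 1, nat_lit 7, nat_lit 4, nat_lit 1, nat_lit 1, nat_lit 5, nat_lit 0], .rel (nat_lit 178) (nat_lit 6) [nat_lit 2, nat_lit 0, nat_lit 2, nat_lit 2, nat_lit 0, nat_lit 6, nat_lit 3], .rel (nat_lit 207) (nat_lit 5) [nat_lit 3, nat_lit 1, nat_lit 4, nat_lit 6, nat_lit 5, nat_lit 1, nat_lit 2], .rel (nat_lit 240) (nat_lit 4) [nat_lit 2, nat_lit 7, nat_lit 5, nat_lit 0, nat_lit 3, nat_lit 5, nat_lit 0], .rel (nat_lit 260) (nat_lit 6) [nat_lit 7, nat_lit 0, nat_lit 4, nat_lit 4, nat_lit 1, nat_lit 4, nat_lit 4], .rel (nat_lit 266) (nat_lit 7) [nat_lit 0, nat_lit 4, nat_lit 6, nat_lit 6, nat_lit 5, nat_lit 6, nat_lit 0], .rel (nat_lit 268) (nat_lit 2) [nat_lit 4, nat_lit 0, nat_lit 7, nat_lit 2, nat_lit 2, nat_lit 0, nat_lit 5], .rel (nat_lit 271) (nat_lit 1) [nat_lit 7, nat_lit 4, nat_lit 6, nat_lit 1, nat_lit 7,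 nat_lit 1, nat_lit 5], .rel (nat_lit 271) (nat_lit 6) [nat_lit 1, nat_lit 5, nat_lit 7, nat_lit 7, nat_lit 4, nat_lit 6, nat_lit 1], .rel (nat_lit 288) (nat_lit 6) [nat_lit 5, nat_lit 8, nat_lit 2, nat_lit 6, nat_lit 3, nat_lit 9, nat_lit 4], .rel (nat_lit 289) (nat_lit 5) [nat_lit 3, nat_lit 9, nat_lit 4, nat_lit 6, nat_lit 5, nat_lit 8, nat_lit 2], .rel (nat_lit 291) (nat_lit 4) [nat_lit 8, nat_lit 2, nat_lit 5, nat_lit 9, nat_lit 0, nat_lit 2, nat_lit 1, nat_lit 3], .rel (nat_lit 298) (nat_lit 6) [nat_lit 0, nat_lit 2, nat_lit 10, nat_lit 0, nat_lit 10, nat_lit 5], .rel (nat_lit 305) (nat_lit 4) [nat_lit 10, nat_lit 2, nat_lit 4, nat_lit 10, nat_lit 0, nat_lit 4, nat_lit 0, nat_lit 4], .rel (nat_lit 307) (nat_lit 7) [nat_lit 3, nat_lit 10, nat_lit 0, nat_lit 0, nat_lit 4, nat_lit 7, nat_lit 4, nat_lit 10, nat_lit 2], .rel (nat_lit 383) (nat_lit 6) [nat_lit 3, nat_lit 12, nat_lit 2, nat_lit 0, nat_lit 0, nat_lit 4, nat_lit 12, nat_lit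 2], .rel (nat_lit 402) (nat_lit 7) [nat_lit 10, nat_lit 3, nat_lit 12, nat_lit 11, nat_lit 6, nat_lit 11, nat_lit 12, nat_lit 9, nat_lit 2], .rel (nat_lit 415) (nat_lit 2) [nat_lit 10, nat_lit 5, nat_lit 12, nat_lit 11, nat_lit 8, nat_lit 7, nat_lit 9, nat_lit 11, nat_lit 12, nat_lit 8, nat_lit 4], .rel (nat_lit 441) (nat_lit 1) [nat_lit 12, nat_lit 14, nat_lit 3, nat_lit 14, nat_lit 7, nat_lit 12, nat_lit 14, nat_lit 3, nat_lit 14, nat_lit 7, nat_lit 12, nat_lit 14, nat_lit 3, nat_lit 14]],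
  [.rel (nat_lit 16) (nat_lit 0) [nat_lit 9], .rel (nat_lit 334) (nat_lit 0) [nat_lit 8, nat_lit 8, nat_lit 8], .defn, .rel (nat_lit 278) (nat_lit 1) [nat_lit 1, nat_lit 4, nat_lit 4, nat_lit 9, nat_lit 0], .rel (nat_lit 276) (nat_lit 3) [nat_lit 5, nat_lit 6, nat_lit 0, nat_lit 3, nat_lit 8], .rel (nat_lit 378) (nat_lit 1) [nat_lit 12, nat_lit 5, nat_lit 9, nat_lit 4, nat_lit 9, nat_lit 1, nat_lit 12], .rel (nat_lit 276) (nat_lit 2) [nat_lit 8, nat_lit 5, nat_lit 6, nat_lit 0, nat_lit 3], .rel (nat_lit 281) (nat_lit 1) [nat_lit 7, nat_lit 0, nat_lit 9, nat_lit 1, nat_lit 7], .rel (nat_lit 279) (nat_lit 0) [nat_lit 5, nat_lit 5, nat_lit 0, nat_lit 9, nat_lit 1], .rel (nat_lit 339) (nat_lit 0) [nat_lit 0, nat_lit 6, nat_lit 9, nat_lit 7, nat_lit 1], .rel (nat_lit 280) (nat_lit 1) [nat_lit 1, nat_lit 6, nat_lit 9, nat_lit 6, nat_lit 0], .rel (nat_lit 338) (nat_lit 2) [nat_lit 7, nat_lit 1, nat_lit 9, nat_lit 0, nat_lit 6], .rel (nat_lit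 342) (nat_lit 5) [nat_lit 4, nat_lit 4, nat_lit 6, nat_lit 9, nat_lit 6], .rel (nat_lit 393) (nat_lit 0) [nat_lit 12, nat_lit 11, nat_lit 8, nat_lit 3, nat_lit 9, nat_lit 11, nat_lit 12], .rel (nat_lit 343) (nat_lit 2) [nat_lit 7, nat_lit 5, nat_lit 5, nat_lit 9, nat_lit 7], .rel (nat_lit 356) (nat_lit 3) [nat_lit 13, nat_lit 3, nat_lit 9, nat_lit 6, nat_lit 5, nat_lit 13, nat_lit 0, nat_lit 13], .rel (nat_lit 349) (nat_lit 2) [nat_lit 5, nat_lit 10, nat_lit 11, nat_lit 1, nat_lit 2, nat_lit 11], .rel (nat_lit 361) (nat_lit 1) [nat_lit 11, nat_lit 3, nat_lit 10, nat_lit 13, nat_lit 0, nat_lit 10, nat_lit 1, nat_lit 13, nat_lit 3], .rel (nat_lit 346) (nat_lit 4) [nat_lit 3, nat_lit 8, nat_lit 0, nat_lit 13, nat_lit 7, nat_lit 13], .rel (nat_lit 413) (nat_lit 8) [nat_lit 11, nat_lit 3, nat_lit 12, nat_lit 11, nat_lit 6, nat_lit 10, nat_lit 5, nat_lit 7, nat_lit 12, nat_lit 11, nat_lit 12], .rel (nat_lit 312) (nat_lit 1) [nat_lit 10, nat_lit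 9, nat_lit 4, nat_lit 2, nat_lit 10, nat_lit 0], .rel (nat_lit 313) (nat_lit 3) [nat_lit 10, nat_lit 9, nat_lit 1, nat_lit 10, nat_lit 3, nat_lit 5], .rel (nat_lit 407) (nat_lit 6) [nat_lit 10, nat_lit 11, nat_lit 3, nat_lit 12, nat_lit 0, nat_lit 9, nat_lit 0, nat_lit 0, nat_lit 12, nat_lit 11], .rel (nat_lit 416) (nat_lit 2) [nat_lit 12, nat_lit 9, nat_lit 11, nat_lit 12, nat_lit 2, nat_lit 8, nat_lit 11, nat_lit 9, nat_lit 3, nat_lit 12, nat_lit 11], .rel (nat_lit 329) (nat_lit 6) [nat_lit 10, nat_lit 11, nat_lit 3, nat_lit 5, nat_lit 9, nat_lit 5, nat_lit 9, nat_lit 11], .rel (nat_lit 346) (nat_lit 6) [nat_lit 0, nat_lit 13, nat_lit 7, nat_lit 13, nat_lit 8, nat_lit 3], .rel (nat_lit 379) (nat_lit 3) [nat_lit 4, nat_lit 12, nat_lit 9, nat_lit 12, nat_lit 0, nat_lit 8, nat_lit 5], .rel (nat_lit 406) (nat_lit 9) [nat_lit 1, nat_lit 12, nat_lit 2, nat_lit 11, nat_lit 10, nat_lit 9, nat_lit 11, nat_lit 12, nat_lit 1, nat_lit 1], .rel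 (nat_lit 287) (nat_lit 4) [nat_lit 2, nat_lit 2, nat_lit 9, nat_lit 2, nat_lit 2, nat_lit 4, nat_lit 4], .rel (nat_lit 314) (nat_lit 4) [nat_lit 2, nat_lit 5, nat_lit 9, nat_lit 10, nat_lit 4, nat_lit 3, nat_lit 10], .rel (nat_lit 354) (nat_lit 5) [nat_lit 5, nat_lit 2, nat_lit 9, nat_lit 13, nat_lit 0, nat_lit 2, nat_lit 1, nat_lit 13], .rel (nat_lit 384) (nat_lit 2) [nat_lit 3, nat_lit 12, nat_lit 1, nat_lit 5, nat_lit 8, nat_lit 5, nat_lit 1, nat_lit 12, nat_lit 2], .rel (nat_lit 282) (nat_lit 6) [nat_lit 0, nat_lit 2, nat_lit 4, nat_lit 8, nat_lit 5, nat_lit 2], .rel (nat_lit 285) (nat_lit 3) [nat_lit 4, nat_lit 3, nat_lit 1, nat_lit 8, nat_lit 4, nat_lit 2], .rel (nat_lit 350) (nat_lit 3) [nat_lit 4, nat_lit 8, nat_lit 2, nat_lit 1, nat_lit 13, nat_lit 2, nat_lit 13], .rel (nat_lit 364) (nat_lit 3) [nat_lit 13, nat_lit 8, nat_lit 6, nat_lit 2, nat_lit 8, nat_lit 1, nat_lit 13, nat_lit 9, nat_lit 4], .rel (nat_lit 372) (nat_lit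 5) [nat_lit 12, nat_lit 0, nat_lit 12, nat_lit 2, nat_lit 2, nat_lit 8], .rel (nat_lit 392) (nat_lit 2) [nat_lit 2, nat_lit 9, nat_lit 11, nat_lit 12, nat_lit 9, nat_lit 12, nat_lit 11], .rel (nat_lit 414) (nat_lit 2) [nat_lit 6, nat_lit 9, nat_lit 11, nat_lit 12, nat_lit 4, nat_lit 10, nat_lit 6, nat_lit 5, nat_lit 9, nat_lit 12, nat_lit 11], .rel (nat_lit 282) (nat_lit 3) [nat_lit 5, nat_lit 2, nat_lit 8, nat_lit 0, nat_lit 2, nat_lit 4], .rel (nat_lit 315) (nat_lit 0) [nat_lit 4, nat_lit 3, nat_lit 9, nat_lit 10, nat_lit 2, nat_lit 5, nat_lit 10], .rel (nat_lit 394) (nat_lit 6) [nat_lit 3, nat_lit 10, nat_lit 12, nat_lit 11, nat_lit 0, nat_lit 11, nat_lit 12, nat_lit 3], .rel (nat_lit 286) (nat_lit 0) [nat_lit 3, nat_lit 3, nat_lit 9, nat_lit 5, nat_lit 5, nat_lit 3, nat_lit 3], .rel (nat_lit 288) (nat_lit 0) [nat_lit 2, nat_lit 6, nat_lit 3, nat_lit 9, nat_lit 4, nat_lit 7, nat_lit 5], .rel (nat_lit 320) (nat_lit 2) [nat_lit 3,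 nat_lit 10, nat_lit 1, nat_lit 4, nat_lit 8, nat_lit 4, nat_lit 1, nat_lit 10, nat_lit 2], .rel (nat_lit 322) (nat_lit 3) [nat_lit 10, nat_lit 3, nat_lit 10, nat_lit 4, nat_lit 9, nat_lit 2, nat_lit 10, nat_lit 2, nat_lit 10], .rel (nat_lit 330) (nat_lit 5) [nat_lit 10, nat_lit 3, nat_lit 9, nat_lit 1, nat_lit 11, nat_lit 6, nat_lit 11, nat_lit 10, nat_lit 2], .rel (nat_lit 331) (nat_lit 1) [nat_lit 2, nat_lit 10, nat_lit 9, nat_lit 3, nat_lit 10, nat_lit 11, nat_lit 7, nat_lit 11, nat_lit 0], .rel (nat_lit 359) (nat_lit 4) [nat_lit 13, nat_lit 0, nat_lit 5, nat_lit 1, nat_lit 13, nat_lit 0, nat_lit 2, nat_lit 8, nat_lit 2], .rel (nat_lit 372) (nat_lit 4) [nat_lit 8, nat_lit 12, nat_lit 0, nat_lit 12, nat_lit 2, nat_lit 2], .rel (nat_lit 415) (nat_lit 7) [nat_lit 7, nat_lit 9, nat_lit 11, nat_lit 12, nat_lit 8, nat_lit 4, nat_lit 7, nat_lit 10, nat_lit 5, nat_lit 12, nat_lit 11], .rel (nat_lit 285) (nat_lit 0) [nat_lit 4, nat_lit 2,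 nat_lit 8, nat_lit 4, nat_lit 3, nat_lit 1], .rel (nat_lit 289) (nat_lit 3) [nat_lit 2, nat_lit 7, nat_lit 3, nat_lit 9, nat_lit 4, nat_lit 6, nat_lit 5], .rel (nat_lit 292) (nat_lit 0) [nat_lit 2, nat_lit 8, nat_lit 4, nat_lit 9, nat_lit 3, nat_lit 9, nat_lit 1, nat_lit 5, nat_lit 1], .rel (nat_lit 325) (nat_lit 3) [nat_lit 3, nat_lit 11, nat_lit 1, nat_lit 11, nat_lit 1, nat_lit 10, nat_lit 3], .rel (nat_lit 328) (nat_lit 4) [nat_lit 4, nat_lit 8, nat_lit 4, nat_lit 2, nat_lit 11, nat_lit 10, nat_lit 9, nat_lit 11], .rel (nat_lit 350) (nat_lit 5) [nat_lit 2, nat_lit 1, nat_lit 13, nat_lit 2, nat_lit 13, nat_lit 8, nat_lit 4], .rel (nat_lit 357) (nat_lit 2) [nat_lit 2, nat_lit 13, nat_lit 9, nat_lit 13, nat_lit 1, nat_lit 13, nat_lit 4, nat_lit 7], .rel (nat_lit 364) (nat_lit 8) [nat_lit 1, nat_lit 13, nat_lit 9, nat_lit 4, nat_lit 8, nat_lit 13, nat_lit 8, nat_lit 6, nat_lit 2], .rel (nat_lit 367) (nat_lit 3) [nat_lit 1, nat_lit 11,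 nat_lit 13, nat_lit 14, nat_lit 0, nat_lit 6, nat_lit 5], .rel (nat_lit 400) (nat_lit 9) [nat_lit 12, nat_lit 11, nat_lit 5, nat_lit 11, nat_lit 3, nat_lit 12, nat_lit 2, nat_lit 10, nat_lit 4], .rel (nat_lit 410) (nat_lit 2) [nat_lit 4, nat_lit 9, nat_lit 11, nat_lit 12, nat_lit 6, nat_lit 3, nat_lit 4, nat_lit 9, nat_lit 12, nat_lit 11], .rel (nat_lit 411) (nat_lit 0) [nat_lit 5, nat_lit 2, nat_lit 7, nat_lit 12, nat_lit 11, nat_lit 8, nat_lit 5, nat_lit 9, nat_lit 11, nat_lit 12], .sub (nat_lit 16) [] [], .rel (nat_lit 292) (nat_lit 2) [nat_lit 4, nat_lit 9, nat_lit 3, nat_lit 9, nat_lit 1, nat_lit 5, nat_lit 1, nat_lit 8, nat_lit 2], .rel (nat_lit 293) (nat_lit 3) [nat_lit 2, nat_lit 8, nat_lit 5, nat_lit 9, nat_lit 3, nat_lit 9, nat_lit 0, nat_lit 4, nat_lit 0], .rel (nat_lit 295) (nat_lit 6) [nat_lit 1, nat_lit 9, nat_lit 3, nat_lit 9, nat_lit 0, nat_lit 2, nat_lit 4, nat_lit 7, nat_lit 8, nat_lit 2], .rel (nat_lit 328) (nat_lit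 6) [nat_lit 4, nat_lit 2, nat_lit 11, nat_lit 10, nat_lit 9, nat_lit 11, nat_lit 8, nat_lit 4], .rel (nat_lit 352) (nat_lit 6) [nat_lit 11, nat_lit 1, nat_lit 13, nat_lit 10, nat_lit 13, nat_lit 7, nat_lit 11, nat_lit 7], .rel (nat_lit 355) (nat_lit 0) [nat_lit 3, nat_lit 4, nat_lit 9, nat_lit 13, nat_lit 0, nat_lit 3, nat_lit 1, nat_lit 13], .rel (nat_lit 362) (nat_lit 8) [nat_lit 6, nat_lit 13, nat_lit 0, nat_lit 11, nat_lit 1, nat_lit 13, nat_lit 11, nat_lit 10, nat_lit 2], .rel (nat_lit 364) (nat_lit 5) [nat_lit 6, nat_lit 2, nat_lit 8, nat_lit 1, nat_lit 13, nat_lit 9, nat_lit 4, nat_lit 8, nat_lit 13], .rel (nat_lit 379) (nat_lit 1) [nat_lit 5, nat_lit 8, nat_lit 4, nat_lit 12, nat_lit 9, nat_lit 12, nat_lit 0], .rel (nat_lit 384) (nat_lit 7) [nat_lit 5, nat_lit 1, nat_lit 12, nat_lit 2, nat_lit 8, nat_lit 3, nat_lit 12, nat_lit 1, nat_lit 5], .rel (nat_lit 387) (nat_lit 5) [nat_lit 12, nat_lit 2, nat_lit 12, nat_lit 3, nat_lit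 12, nat_lit 0, nat_lit 0, nat_lit 4, nat_lit 8, nat_lit 0], .rel (nat_lit 393) (nat_lit 3) [nat_lit 3, nat_lit 9, nat_lit 11, nat_lit 12, nat_lit 8, nat_lit 12, nat_lit 11], .rel (nat_lit 411) (nat_lit 6) [nat_lit 5, nat_lit 9, nat_lit 11, nat_lit 12, nat_lit 8, nat_lit 5, nat_lit 2, nat_lit 7, nat_lit 12, nat_lit 11], .rel (nat_lit 416) (nat_lit 8) [nat_lit 11, nat_lit 9, nat_lit 3, nat_lit 12, nat_lit 11, nat_lit 8, nat_lit 12, nat_lit 9, nat_lit 11, nat_lit 12, nat_lit 2]],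
  [.rel (nat_lit 16) (nat_lit 1) [nat_lit 8], .rel (nat_lit 335) (nat_lit 0) [nat_lit 9, nat_lit 9, nat_lit 9], .defn, .rel (nat_lit 279) (nat_lit 4) [nat_lit 1, nat_lit 8, nat_lit 5, nat_lit 5, nat_lit 0], .rel (nat_lit 379) (nat_lit 6) [nat_lit 12, nat_lit 0, nat_lit 8, nat_lit 5, nat_lit 8, nat_lit 4, nat_lit 12], .rel (nat_lit 338) (nat_lit 5) [nat_lit 0, nat_lit 6, nat_lit 8, nat_lit 7, nat_lit 1], .rel (nat_lit 277) (nat_lit 2) [nat_lit 9, nat_lit 2, nat_lit 1, nat_lit 7, nat_lit 4], .rel (nat_lit 280) (nat_lit 4) [nat_lit 6, nat_lit 0, nat_lit 8, nat_lit 1, nat_lit 6], .rel (nat_lit 277) (nat_lit 3) [nat_lit 2, nat_lit 1, nat_lit 7, nat_lit 4, nat_lit 9], .rel (nat_lit 343) (nat_lit 0) [nat_lit 7, nat_lit 8, nat_lit 7, nat_lit 5, nat_lit 5], .rel (nat_lit 281) (nat_lit 4) [nat_lit 1, nat_lit 7, nat_lit 8, nat_lit 7, nat_lit 0], .rel (nat_lit 339) (nat_lit 3) [nat_lit 7, nat_lit 1, nat_lit 8, nat_lit 0, nat_lit 6], .rel (nat_lit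 278) (nat_lit 5) [nat_lit 0, nat_lit 8, nat_lit 1, nat_lit 4, nat_lit 4], .rel (nat_lit 342) (nat_lit 3) [nat_lit 6, nat_lit 8, nat_lit 4, nat_lit 4, nat_lit 6], .rel (nat_lit 392) (nat_lit 7) [nat_lit 12, nat_lit 11, nat_lit 8, nat_lit 2, nat_lit 9, nat_lit 11, nat_lit 12], .rel (nat_lit 360) (nat_lit 8) [nat_lit 2, nat_lit 13, nat_lit 0, nat_lit 10, nat_lit 1, nat_lit 13, nat_lit 10, nat_lit 2, nat_lit 11], .rel (nat_lit 357) (nat_lit 5) [nat_lit 13, nat_lit 1, nat_lit 13, nat_lit 4, nat_lit 7, nat_lit 8, nat_lit 2, nat_lit 13], .rel (nat_lit 347) (nat_lit 2) [nat_lit 13, nat_lit 6, nat_lit 13, nat_lit 1, nat_lit 9, nat_lit 2], .rel (nat_lit 324) (nat_lit 4) [nat_lit 2, nat_lit 10, nat_lit 0, nat_lit 11, nat_lit 0, nat_lit 11, nat_lit 2], .rel (nat_lit 353) (nat_lit 2) [nat_lit 6, nat_lit 11, nat_lit 6, nat_lit 13, nat_lit 10, nat_lit 13, nat_lit 0, nat_lit 11], .rel (nat_lit 328) (nat_lit 2) [nat_lit 11, nat_lit 8, nat_lit 4, nat_lit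 8, nat_lit 4, nat_lit 2, nat_lit 11, nat_lit 10], .rel (nat_lit 286) (nat_lit 3) [nat_lit 5, nat_lit 5, nat_lit 3, nat_lit 3, nat_lit 8, nat_lit 3, nat_lit 3], .rel (nat_lit 412) (nat_lit 3) [nat_lit 12, nat_lit 11, nat_lit 12, nat_lit 6, nat_lit 4, nat_lit 10, nat_lit 7, nat_lit 11, nat_lit 12, nat_lit 2, nat_lit 11], .rel (nat_lit 312) (nat_lit 3) [nat_lit 4, nat_lit 2, nat_lit 10, nat_lit 0, nat_lit 8, nat_lit 10], .rel (nat_lit 313) (nat_lit 5) [nat_lit 1, nat_lit 10, nat_lit 3, nat_lit 5, nat_lit 8, nat_lit 10], .rel (nat_lit 392) (nat_lit 4) [nat_lit 11, nat_lit 12, nat_lit 9, nat_lit 12, nat_lit 11, nat_lit 8, nat_lit 2], .rel (nat_lit 315) (nat_lit 3) [nat_lit 10, nat_lit 2, nat_lit 5, nat_lit 10, nat_lit 8, nat_lit 4, nat_lit 3], .rel (nat_lit 378) (nat_lit 4) [nat_lit 4, nat_lit 9, nat_lit 1, nat_lit 12, nat_lit 8, nat_lit 12, nat_lit 5], .rel (nat_lit 284) (nat_lit 6) [nat_lit 0, nat_lit 2, nat_lit 5, nat_lit 9, nat_lit 3,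 nat_lit 5], .rel (nat_lit 348) (nat_lit 4) [nat_lit 11, nat_lit 3, nat_lit 0, nat_lit 11, nat_lit 10, nat_lit 4], .rel (nat_lit 364) (nat_lit 1) [nat_lit 4, nat_lit 8, nat_lit 13, nat_lit 8, nat_lit 6, nat_lit 2, nat_lit 8, nat_lit 1, nat_lit 13], .rel (nat_lit 395) (nat_lit 2) [nat_lit 2, nat_lit 12, nat_lit 11, nat_lit 1, nat_lit 11, nat_lit 12, nat_lit 10, nat_lit 2], .rel (nat_lit 314) (nat_lit 7) [nat_lit 10, nat_lit 4, nat_lit 3, nat_lit 10, nat_lit 8, nat_lit 2, nat_lit 5], .rel (nat_lit 373) (nat_lit 2) [nat_lit 3, nat_lit 3, nat_lit 12, nat_lit 1, nat_lit 12, nat_lit 9], .rel (nat_lit 393) (nat_lit 5) [nat_lit 11, nat_lit 12, nat_lit 8, nat_lit 12, nat_lit 11, nat_lit 8, nat_lit 3], .rel (nat_lit 416) (nat_lit 10) [nat_lit 3, nat_lit 12, nat_lit 11, nat_lit 8, nat_lit 12, nat_lit 9, nat_lit 11, nat_lit 12, nat_lit 2, nat_lit 8, nat_lit 11], .rel (nat_lit 289) (nat_lit 7) [nat_lit 4, nat_lit 6, nat_lit 5, nat_lit 8, nat_lit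 2, nat_lit 7, nat_lit 3], .rel (nat_lit 347) (nat_lit 0) [nat_lit 2, nat_lit 9, nat_lit 13, nat_lit 6, nat_lit 13, nat_lit 1], .rel (nat_lit 351) (nat_lit 2) [nat_lit 5, nat_lit 9, nat_lit 13, nat_lit 3, nat_lit 13, nat_lit 0, nat_lit 3], .rel (nat_lit 365) (nat_lit 6) [nat_lit 5, nat_lit 8, nat_lit 13, nat_lit 0, nat_lit 9, nat_lit 3, nat_lit 7, nat_lit 9, nat_lit 13], .rel (nat_lit 385) (nat_lit 7) [nat_lit 3, nat_lit 12, nat_lit 0, nat_lit 4, nat_lit 9, nat_lit 4, nat_lit 0, nat_lit 12, nat_lit 2], .rel (nat_lit 401) (nat_lit 0) [nat_lit 5, nat_lit 10, nat_lit 3, nat_lit 12, nat_lit 2, nat_lit 11, nat_lit 4, nat_lit 11, nat_lit 12], .rel (nat_lit 407) (nat_lit 1) [nat_lit 0, nat_lit 0, nat_lit 12, nat_lit 11, nat_lit 8, nat_lit 10, nat_lit 11, nat_lit 3, nat_lit 12, nat_lit 0], .rel (nat_lit 283) (nat_lit 0) [nat_lit 3, nat_lit 4, nat_lit 9, nat_lit 5, nat_lit 3, nat_lit 1], .rel (nat_lit 284) (nat_lit 3) [nat_lit 3, nat_lit 5, nat_lit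 9, nat_lit 0, nat_lit 2, nat_lit 5], .rel (nat_lit 288) (nat_lit 4) [nat_lit 4, nat_lit 7, nat_lit 5, nat_lit 8, nat_lit 2, nat_lit 6, nat_lit 3], .rel (nat_lit 323) (nat_lit 6) [nat_lit 10, nat_lit 3, nat_lit 10, nat_lit 3, nat_lit 8, nat_lit 5, nat_lit 10, nat_lit 2, nat_lit 10], .rel (nat_lit 332) (nat_lit 3) [nat_lit 11, nat_lit 5, nat_lit 3, nat_lit 4, nat_lit 10, nat_lit 3, nat_lit 11, nat_lit 8, nat_lit 11], .rel (nat_lit 373) (nat_lit 1) [nat_lit 9, nat_lit 3, nat_lit 3, nat_lit 12, nat_lit 1, nat_lit 12], .rel (nat_lit 385) (nat_lit 2) [nat_lit 4, nat_lit 0, nat_lit 12, nat_lit 2, nat_lit 9, nat_lit 3, nat_lit 12, nat_lit 0, nat_lit 4], .rel (nat_lit 287) (nat_lit 7) [nat_lit 2, nat_lit 2, nat_lit 4, nat_lit 4, nat_lit 8, nat_lit 2, nat_lit 2], .rel (nat_lit 292) (nat_lit 4) [nat_lit 3, nat_lit 9, nat_lit 1, nat_lit 5, nat_lit 1, nat_lit 8, nat_lit 2, nat_lit 8, nat_lit 4], .rel (nat_lit 331) (nat_lit 4) [nat_lit 3, nat_lit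 10, nat_lit 11, nat_lit 7, nat_lit 11, nat_lit 0, nat_lit 8, nat_lit 2, nat_lit 10], .rel (nat_lit 351) (nat_lit 4) [nat_lit 13, nat_lit 3, nat_lit 13, nat_lit 0, nat_lit 3, nat_lit 9, nat_lit 5], .rel (nat_lit 354) (nat_lit 8) [nat_lit 13, nat_lit 0, nat_lit 2, nat_lit 1, nat_lit 13, nat_lit 8, nat_lit 5, nat_lit 2], .rel (nat_lit 358) (nat_lit 5) [nat_lit 3, nat_lit 9, nat_lit 3, nat_lit 1, nat_lit 13, nat_lit 0, nat_lit 4, nat_lit 1, nat_lit 13], .rel (nat_lit 365) (nat_lit 1) [nat_lit 3, nat_lit 7, nat_lit 9, nat_lit 13, nat_lit 9, nat_lit 5, nat_lit 8, nat_lit 13, nat_lit 0], .rel (nat_lit 366) (nat_lit 4) [nat_lit 4, nat_lit 7, nat_lit 1, nat_lit 14, nat_lit 13, nat_lit 11, nat_lit 0], .rel (nat_lit 378) (nat_lit 6) [nat_lit 1, nat_lit 12, nat_lit 8, nat_lit 12, nat_lit 5, nat_lit 9, nat_lit 4], .rel (nat_lit 406) (nat_lit 4) [nat_lit 11, nat_lit 12, nat_lit 1, nat_lit 1, nat_lit 8, nat_lit 1, nat_lit 12, nat_lit 2, nat_lit 11,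 nat_lit 10], .sub (nat_lit 18) [] [], .rel (nat_lit 283) (nat_lit 3) [nat_lit 5, nat_lit 3, nat_lit 1, nat_lit 9, nat_lit 3, nat_lit 4], .rel (nat_lit 294) (nat_lit 6) [nat_lit 6, nat_lit 5, nat_lit 3, nat_lit 1, nat_lit 8, nat_lit 2, nat_lit 8, nat_lit 0, nat_lit 9, nat_lit 3], .rel (nat_lit 321) (nat_lit 7) [nat_lit 3, nat_lit 10, nat_lit 0, nat_lit 5, nat_lit 9, nat_lit 5, nat_lit 0, nat_lit 10, nat_lit 2], .rel (nat_lit 330) (nat_lit 8) [nat_lit 1, nat_lit 11, nat_lit 6, nat_lit 11, nat_lit 10, nat_lit 2, nat_lit 8, nat_lit 10, nat_lit 3], .rel (nat_lit 333) (nat_lit 8) [nat_lit 11, nat_lit 2, nat_lit 10, nat_lit 5, nat_lit 2, nat_lit 4, nat_lit 11, nat_lit 8, nat_lit 11], .rel (nat_lit 355) (nat_lit 3) [nat_lit 13, nat_lit 0, nat_lit 3, nat_lit 1, nat_lit 13, nat_lit 8, nat_lit 3, nat_lit 4], .rel (nat_lit 356) (nat_lit 6) [nat_lit 6, nat_lit 5, nat_lit 13, nat_lit 0, nat_lit 13, nat_lit 8, nat_lit 13, nat_lit 3], .rel (nat_lit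 363) (nat_lit 1) [nat_lit 3, nat_lit 10, nat_lit 11, nat_lit 13, nat_lit 0, nat_lit 11, nat_lit 1, nat_lit 13, nat_lit 7], .rel (nat_lit 365) (nat_lit 4) [nat_lit 13, nat_lit 9, nat_lit 5, nat_lit 8, nat_lit 13, nat_lit 0, nat_lit 9, nat_lit 3, nat_lit 7], .rel (nat_lit 386) (nat_lit 5) [nat_lit 1, nat_lit 9, nat_lit 5, nat_lit 1, nat_lit 1, nat_lit 12, nat_lit 2, nat_lit 12, nat_lit 3, nat_lit 12], .rel (nat_lit 410) (nat_lit 10) [nat_lit 12, nat_lit 11, nat_lit 8, nat_lit 4, nat_lit 9, nat_lit 11, nat_lit 12, nat_lit 6, nat_lit 3, nat_lit 4], .rel (nat_lit 411) (nat_lit 8) [nat_lit 11, nat_lit 12, nat_lit 8, nat_lit 5, nat_lit 2, nat_lit 7, nat_lit 12, nat_lit 11, nat_lit 8, nat_lit 5], .rel (nat_lit 414) (nat_lit 4) [nat_lit 11, nat_lit 12, nat_lit 4, nat_lit 10, nat_lit 6, nat_lit 5, nat_lit 9, nat_lit 12, nat_lit 11, nat_lit 8, nat_lit 6], .rel (nat_lit 416) (nat_lit 4) [nat_lit 11, nat_lit 12, nat_lit 2, nat_lit 8, nat_lit 11,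 nat_lit 9, nat_lit 3, nat_lit 12, nat_lit 11, nat_lit 8, nat_lit 12]],
  [.rel (nat_lit 20) (nat_lit 0) [nat_lit 10], .rel (nat_lit 388) (nat_lit 2) [nat_lit 0, nat_lit 12, nat_lit 10, nat_lit 0, nat_lit 12], .rel (nat_lit 420) (nat_lit 1) [nat_lit 14, nat_lit 10, nat_lit 3, nat_lit 14, nat_lit 2], .rel (nat_lit 420) (nat_lit 3) [nat_lit 3, nat_lit 14, nat_lit 2, nat_lit 10, nat_lit 14], .defn, .rel (nat_lit 297) (nat_lit 0) [nat_lit 7, nat_lit 10, nat_lit 1, nat_lit 7, nat_lit 1], .rel (nat_lit 390) (nat_lit 2) [nat_lit 12, nat_lit 6, nat_lit 10, nat_lit 6, nat_lit 12], .rel (nat_lit 296) (nat_lit 3) [nat_lit 6, nat_lit 10, nat_lit 0, nat_lit 6, nat_lit 0], .rel (nat_lit 297) (nat_lit 2) [nat_lit 1, nat_lit 7, nat_lit 1, nat_lit 10, nat_lit 7], .rel (nat_lit 296) (nat_lit 5) [nat_lit 0, nat_lit 6, nat_lit 0, nat_lit 10, nat_lit 6], .rel (nat_lit 389) (nat_lit 0) [nat_lit 12, nat_lit 1, nat_lit 10, nat_lit 12, nat_lit 1], .rel (nat_lit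 352) (nat_lit 1) [nat_lit 13, nat_lit 7, nat_lit 11, nat_lit 7, nat_lit 8, nat_lit 11, nat_lit 1, nat_lit 13], .rel (nat_lit 312) (nat_lit 2) [nat_lit 9, nat_lit 4, nat_lit 2, nat_lit 10, nat_lit 0, nat_lit 8], .rel (nat_lit 391) (nat_lit 0) [nat_lit 7, nat_lit 12, nat_lit 10, nat_lit 12, nat_lit 7], .rel (nat_lit 348) (nat_lit 2) [nat_lit 4, nat_lit 9, nat_lit 11, nat_lit 3, nat_lit 0, nat_lit 11], .rel (nat_lit 298) (nat_lit 2) [nat_lit 0, nat_lit 10, nat_lit 5, nat_lit 7, nat_lit 0, nat_lit 2], .rel (nat_lit 390) (nat_lit 5) [nat_lit 6, nat_lit 12, nat_lit 10, nat_lit 12, nat_lit 6], .rel (nat_lit 329) (nat_lit 7) [nat_lit 11, nat_lit 3, nat_lit 5, nat_lit 9, nat_lit 5, nat_lit 9, nat_lit 11, nat_lit 8], .rel (nat_lit 313) (nat_lit 4) [nat_lit 9, nat_lit 1, nat_lit 10, nat_lit 3, nat_lit 5, nat_lit 8], .rel (nat_lit 328) (nat_lit 1) [nat_lit 9, nat_lit 11, nat_lit 8, nat_lit 4, nat_lit 8, nat_lit 4, nat_lit 2, nat_lit 11], .rel (nat_lit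 298) (nat_lit 4) [nat_lit 5, nat_lit 7, nat_lit 0, nat_lit 2, nat_lit 10, nat_lit 0], .rel (nat_lit 349) (nat_lit 4) [nat_lit 11, nat_lit 1, nat_lit 2, nat_lit 11, nat_lit 8, nat_lit 5], .rel (nat_lit 299) (nat_lit 2) [nat_lit 1, nat_lit 10, nat_lit 3, nat_lit 1, nat_lit 6, nat_lit 4], .rel (nat_lit 299) (nat_lit 4) [nat_lit 3, nat_lit 1, nat_lit 6, nat_lit 4, nat_lit 10, nat_lit 1], .rel (nat_lit 353) (nat_lit 7) [nat_lit 13, nat_lit 0, nat_lit 11, nat_lit 9, nat_lit 6, nat_lit 11, nat_lit 6, nat_lit 13], .rel (nat_lit 400) (nat_lit 7) [nat_lit 4, nat_lit 8, nat_lit 12, nat_lit 11, nat_lit 5, nat_lit 11, nat_lit 3, nat_lit 12, nat_lit 2], .rel (nat_lit 401) (nat_lit 2) [nat_lit 3, nat_lit 12, nat_lit 2, nat_lit 11, nat_lit 4, nat_lit 11, nat_lit 12, nat_lit 9, nat_lit 5], .rel (nat_lit 404) (nat_lit 2) [nat_lit 12, nat_lit 11, nat_lit 12, nat_lit 7, nat_lit 10, nat_lit 7, nat_lit 11, nat_lit 10, nat_lit 12, nat_lit 11], .rel (nat_lit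 428) (nat_lit 9) [nat_lit 14, nat_lit 0, nat_lit 2, nat_lit 1, nat_lit 14, nat_lit 10, nat_lit 4, nat_lit 2, nat_lit 7], .rel (nat_lit 363) (nat_lit 3) [nat_lit 11, nat_lit 13, nat_lit 0, nat_lit 11, nat_lit 1, nat_lit 13, nat_lit 7, nat_lit 9, nat_lit 3], .rel (nat_lit 429) (nat_lit 0) [nat_lit 6, nat_lit 3, nat_lit 5, nat_lit 10, nat_lit 14, nat_lit 0, nat_lit 3, nat_lit 1, nat_lit 14], .rel (nat_lit 362) (nat_lit 6) [nat_lit 2, nat_lit 8, nat_lit 6, nat_lit 13, nat_lit 0, nat_lit 11, nat_lit 1, nat_lit 13, nat_lit 11], .rel (nat_lit 428) (nat_lit 5) [nat_lit 4, nat_lit 2, nat_lit 7, nat_lit 10, nat_lit 14, nat_lit 0, nat_lit 2, nat_lit 1, nat_lit 14], .rel (nat_lit 314) (nat_lit 0) [nat_lit 4, nat_lit 3, nat_lit 10, nat_lit 8, nat_lit 2, nat_lit 5, nat_lit 9], .rel (nat_lit 430) (nat_lit 2) [nat_lit 1, nat_lit 14, nat_lit 2, nat_lit 1, nat_lit 10, nat_lit 0, nat_lit 3, nat_lit 14, nat_lit 0], .rel (nat_lit 315) (nat_lit 4) [nat_lit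 2, nat_lit 5, nat_lit 10, nat_lit 8, nat_lit 4, nat_lit 3, nat_lit 9], .rel (nat_lit 438) (nat_lit 2) [nat_lit 3, nat_lit 12, nat_lit 1, nat_lit 10, nat_lit 3, nat_lit 10, nat_lit 2, nat_lit 0, nat_lit 12, nat_lit 2], .rel (nat_lit 317) (nat_lit 7) [nat_lit 2, nat_lit 4, nat_lit 3, nat_lit 5, nat_lit 10, nat_lit 3, nat_lit 3], .rel (nat_lit 322) (nat_lit 0) [nat_lit 2, nat_lit 10, nat_lit 8, nat_lit 10, nat_lit 3, nat_lit 10, nat_lit 4, nat_lit 9, nat_lit 2], .rel (nat_lit 391) (nat_lit 3) [nat_lit 12, nat_lit 7, nat_lit 10, nat_lit 7, nat_lit 12], .rel (nat_lit 413) (nat_lit 2) [nat_lit 5, nat_lit 7, nat_lit 12, nat_lit 11, nat_lit 12, nat_lit 8, nat_lit 11, nat_lit 3, nat_lit 12, nat_lit 11, nat_lit 6], .rel (nat_lit 429) (nat_lit 4) [nat_lit 14, nat_lit 0, nat_lit 3, nat_lit 1, nat_lit 14, nat_lit 10, nat_lit 6, nat_lit 3, nat_lit 5], .rel (nat_lit 438) (nat_lit 8) [nat_lit 2, nat_lit 0, nat_lit 12, nat_lit 2, nat_lit 10, nat_lit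 3, nat_lit 12, nat_lit 1, nat_lit 10, nat_lit 3], .rel (nat_lit 300) (nat_lit 3) [nat_lit 4, nat_lit 2, nat_lit 5, nat_lit 3, nat_lit 10, nat_lit 3, nat_lit 3], .rel (nat_lit 301) (nat_lit 4) [nat_lit 2, nat_lit 2, nat_lit 10, nat_lit 2, nat_lit 4, nat_lit 3, nat_lit 5], .rel (nat_lit 312) (nat_lit 6) [nat_lit 0, nat_lit 8, nat_lit 10, nat_lit 9, nat_lit 4, nat_lit 2], .rel (nat_lit 313) (nat_lit 0) [nat_lit 3, nat_lit 5, nat_lit 8, nat_lit 10, nat_lit 9, nat_lit 1], .rel (nat_lit 331) (nat_lit 3) [nat_lit 9, nat_lit 3, nat_lit 10, nat_lit 11, nat_lit 7, nat_lit 11, nat_lit 0, nat_lit 8, nat_lit 2], .rel (nat_lit 360) (nat_lit 5) [nat_lit 2, nat_lit 11, nat_lit 9, nat_lit 2, nat_lit 13, nat_lit 0, nat_lit 10, nat_lit 1, nat_lit 13], .rel (nat_lit 394) (nat_lit 8) [nat_lit 12, nat_lit 11, nat_lit 0, nat_lit 11, nat_lit 12, nat_lit 3, nat_lit 8, nat_lit 3], .rel (nat_lit 405) (nat_lit 8) [nat_lit 11, nat_lit 12, nat_lit 10, nat_lit 11,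 nat_lit 6, nat_lit 10, nat_lit 6, nat_lit 12, nat_lit 11, nat_lit 12], .rel (nat_lit 303) (nat_lit 8) [nat_lit 0, nat_lit 2, nat_lit 1, nat_lit 3, nat_lit 7, nat_lit 10, nat_lit 2, nat_lit 5], .rel (nat_lit 314) (nat_lit 3) [nat_lit 8, nat_lit 2, nat_lit 5, nat_lit 9, nat_lit 10, nat_lit 4, nat_lit 3], .rel (nat_lit 322) (nat_lit 6) [nat_lit 4, nat_lit 9, nat_lit 2, nat_lit 10, nat_lit 2, nat_lit 10, nat_lit 8, nat_lit 10, nat_lit 3], .rel (nat_lit 325) (nat_lit 1) [nat_lit 3, nat_lit 8, nat_lit 3, nat_lit 11, nat_lit 1, nat_lit 11, nat_lit 1], .rel (nat_lit 330) (nat_lit 3) [nat_lit 2, nat_lit 8, nat_lit 10, nat_lit 3, nat_lit 9, nat_lit 1, nat_lit 11, nat_lit 6, nat_lit 11], .rel (nat_lit 330) (nat_lit 6) [nat_lit 3, nat_lit 9, nat_lit 1, nat_lit 11, nat_lit 6, nat_lit 11, nat_lit 10, nat_lit 2, nat_lit 8], .rel (nat_lit 404) (nat_lit 10) [nat_lit 12, nat_lit 11, nat_lit 10, nat_lit 12, nat_lit 11, nat_lit 12, nat_lit 7, nat_lit 10,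 nat_lit 7, nat_lit 11], .rel (nat_lit 406) (nat_lit 3) [nat_lit 9, nat_lit 11, nat_lit 12, nat_lit 1, nat_lit 1, nat_lit 8, nat_lit 1, nat_lit 12, nat_lit 2, nat_lit 11], .rel (nat_lit 415) (nat_lit 3) [nat_lit 5, nat_lit 12, nat_lit 11, nat_lit 8, nat_lit 7, nat_lit 9, nat_lit 11, nat_lit 12, nat_lit 8, nat_lit 4, nat_lit 7], .rel (nat_lit 305) (nat_lit 8) [nat_lit 0, nat_lit 4, nat_lit 0, nat_lit 4, nat_lit 7, nat_lit 10, nat_lit 2, nat_lit 4], .rel (nat_lit 306) (nat_lit 4) [nat_lit 5, nat_lit 6, nat_lit 5, nat_lit 1, nat_lit 1, nat_lit 10, nat_lit 2, nat_lit 6, nat_lit 3], .rel (nat_lit 308) (nat_lit 2) [nat_lit 2, nat_lit 10, nat_lit 3, nat_lit 10, nat_lit 4, nat_lit 2, nat_lit 5, nat_lit 10, nat_lit 2], .rel (nat_lit 315) (nat_lit 7) [nat_lit 8, nat_lit 4, nat_lit 3, nat_lit 9, nat_lit 10, nat_lit 2, nat_lit 5], .rel (nat_lit 317) (nat_lit 4) [nat_lit 3, nat_lit 3, nat_lit 10, nat_lit 2, nat_lit 4, nat_lit 3, nat_lit 5], .rel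 (nat_lit 318) (nat_lit 4) [nat_lit 4, nat_lit 1, nat_lit 4, nat_lit 1, nat_lit 1, nat_lit 10, nat_lit 2, nat_lit 0, nat_lit 3], .rel (nat_lit 323) (nat_lit 7) [nat_lit 3, nat_lit 10, nat_lit 3, nat_lit 8, nat_lit 5, nat_lit 10, nat_lit 2, nat_lit 10, nat_lit 9], .rel (nat_lit 360) (nat_lit 2) [nat_lit 1, nat_lit 13, nat_lit 10, nat_lit 2, nat_lit 11, nat_lit 9, nat_lit 2, nat_lit 13, nat_lit 0], .rel (nat_lit 402) (nat_lit 8) [nat_lit 3, nat_lit 12, nat_lit 11, nat_lit 6, nat_lit 11, nat_lit 12, nat_lit 9, nat_lit 2, nat_lit 7], .rel (nat_lit 403) (nat_lit 1) [nat_lit 6, nat_lit 3, nat_lit 8, nat_lit 12, nat_lit 11, nat_lit 7, nat_lit 11, nat_lit 12, nat_lit 2], .rel (nat_lit 414) (nat_lit 8) [nat_lit 6, nat_lit 5, nat_lit 9, nat_lit 12, nat_lit 11, nat_lit 8, nat_lit 6, nat_lit 9, nat_lit 11, nat_lit 12, nat_lit 4], .rel (nat_lit 424) (nat_lit 4) [nat_lit 2, nat_lit 10, nat_lit 3, nat_lit 14, nat_lit 6, nat_lit 14, nat_lit 7], .rel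 (nat_lit 513) (nat_lit 2) [nat_lit 14, nat_lit 5, nat_lit 12, nat_lit 14, nat_lit 10, nat_lit 14, nat_lit 5, nat_lit 12, nat_lit 14, nat_lit 10, nat_lit 14, nat_lit 5, nat_lit 12, nat_lit 14, nat_lit 10, nat_lit 14, nat_lit 5, nat_lit 12, nat_lit 14, nat_lit 10, nat_lit 14, nat_lit 5, nat_lit 12, nat_lit 14, nat_lit 10, nat_lit 14, nat_lit 5, nat_lit 12, nat_lit 14], .rel (nat_lit 300) (nat_lit 0) [nat_lit 3, nat_lit 3, nat_lit 10, nat_lit 4, nat_lit 2, nat_lit 5, nat_lit 3], .rel (nat_lit 302) (nat_lit 3) [nat_lit 6, nat_lit 2, nat_lit 0, nat_lit 3, nat_lit 1, nat_lit 10, nat_lit 4, nat_lit 3], .rel (nat_lit 304) (nat_lit 3) [nat_lit 6, nat_lit 5, nat_lit 1, nat_lit 5, nat_lit 1, nat_lit 10, nat_lit 5, nat_lit 3], .rel (nat_lit 305) (nat_lit 5) [nat_lit 2, nat_lit 4, nat_lit 10, nat_lit 0, nat_lit 4, nat_lit 0, nat_lit 4, nat_lit 7], .rel (nat_lit 307) (nat_lit 5) [nat_lit 2, nat_lit 7, nat_lit 3, nat_lit 10, nat_lit 0, nat_lit 0,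 nat_lit 4, nat_lit 7, nat_lit 4], .rel (nat_lit 308) (nat_lit 0) [nat_lit 2, nat_lit 10, nat_lit 2, nat_lit 10, nat_lit 3, nat_lit 10, nat_lit 4, nat_lit 2, nat_lit 5], .rel (nat_lit 308) (nat_lit 4) [nat_lit 3, nat_lit 10, nat_lit 4, nat_lit 2, nat_lit 5, nat_lit 10, nat_lit 2, nat_lit 10, nat_lit 2], .rel (nat_lit 308) (nat_lit 6) [nat_lit 4, nat_lit 2, nat_lit 5, nat_lit 10, nat_lit 2, nat_lit 10, nat_lit 2, nat_lit 10, nat_lit 3], .rel (nat_lit 318) (nat_lit 0) [nat_lit 2, nat_lit 0, nat_lit 3, nat_lit 10, nat_lit 4, nat_lit 1, nat_lit 4, nat_lit 1, nat_lit 1], .rel (nat_lit 320) (nat_lit 4) [nat_lit 1, nat_lit 4, nat_lit 8, nat_lit 4, nat_lit 1, nat_lit 10, nat_lit 2, nat_lit 8, nat_lit 3], .rel (nat_lit 321) (nat_lit 5) [nat_lit 2, nat_lit 9, nat_lit 3, nat_lit 10, nat_lit 0, nat_lit 5, nat_lit 9, nat_lit 5, nat_lit 0], .rel (nat_lit 322) (nat_lit 2) [nat_lit 8, nat_lit 10, nat_lit 3, nat_lit 10, nat_lit 4, nat_lit 9, nat_lit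 2, nat_lit 10, nat_lit 2], .rel (nat_lit 322) (nat_lit 4) [nat_lit 3, nat_lit 10, nat_lit 4, nat_lit 9, nat_lit 2, nat_lit 10, nat_lit 2, nat_lit 10, nat_lit 8], .rel (nat_lit 323) (nat_lit 3) [nat_lit 2, nat_lit 10, nat_lit 9, nat_lit 10, nat_lit 3, nat_lit 10, nat_lit 3, nat_lit 8, nat_lit 5], .rel (nat_lit 323) (nat_lit 9) [nat_lit 3, nat_lit 8, nat_lit 5, nat_lit 10, nat_lit 2, nat_lit 10, nat_lit 9, nat_lit 10, nat_lit 3], .rel (nat_lit 331) (nat_lit 6) [nat_lit 11, nat_lit 7, nat_lit 11, nat_lit 0, nat_lit 8, nat_lit 2, nat_lit 10, nat_lit 9, nat_lit 3], .rel (nat_lit 332) (nat_lit 8) [nat_lit 3, nat_lit 11, nat_lit 8, nat_lit 11, nat_lit 9, nat_lit 11, nat_lit 5, nat_lit 3, nat_lit 4], .rel (nat_lit 361) (nat_lit 4) [nat_lit 13, nat_lit 0, nat_lit 10, nat_lit 1, nat_lit 13, nat_lit 3, nat_lit 8, nat_lit 11, nat_lit 3], .rel (nat_lit 405) (nat_lit 0) [nat_lit 11, nat_lit 6, nat_lit 10, nat_lit 6, nat_lit 12, nat_lit 11, nat_lit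 12, nat_lit 10, nat_lit 11, nat_lit 12], .rel (nat_lit 405) (nat_lit 3) [nat_lit 6, nat_lit 12, nat_lit 11, nat_lit 12, nat_lit 10, nat_lit 11, nat_lit 12, nat_lit 10, nat_lit 11, nat_lit 6], .rel (nat_lit 412) (nat_lit 9) [nat_lit 7, nat_lit 11, nat_lit 12, nat_lit 2, nat_lit 11, nat_lit 9, nat_lit 12, nat_lit 11, nat_lit 12, nat_lit 6, nat_lit 4], .rel (nat_lit 424) (nat_lit 6) [nat_lit 3, nat_lit 14, nat_lit 6, nat_lit 14, nat_lit 7, nat_lit 10, nat_lit 2], .rel (nat_lit 425) (nat_lit 3) [nat_lit 6, nat_lit 14, nat_lit 7, nat_lit 14, nat_lit 2, nat_lit 10, nat_lit 3], .rel (nat_lit 430) (nat_lit 7) [nat_lit 0, nat_lit 3, nat_lit 14, nat_lit 0, nat_lit 10, nat_lit 1, nat_lit 14, nat_lit 2, nat_lit 1], .rel (nat_lit 434) (nat_lit 9) [nat_lit 1, nat_lit 14, nat_lit 0, nat_lit 6, nat_lit 1, nat_lit 14, nat_lit 3, nat_lit 10, nat_lit 1, nat_lit 5], .rel (nat_lit 435) (nat_lit 1) [nat_lit 4, nat_lit 0, nat_lit 10, nat_lit 2, nat_lit 14,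 nat_lit 0, nat_lit 7, nat_lit 1, nat_lit 14, nat_lit 0], .rel (nat_lit 439) (nat_lit 2) [nat_lit 2, nat_lit 10, nat_lit 0, nat_lit 12, nat_lit 2, nat_lit 10, nat_lit 3, nat_lit 12, nat_lit 1, nat_lit 3], .rel (nat_lit 512) (nat_lit 2) [nat_lit 14, nat_lit 12, nat_lit 4, nat_lit 14, nat_lit 10, nat_lit 14, nat_lit 12, nat_lit 4, nat_lit 14, nat_lit 10, nat_lit 14, nat_lit 12, nat_lit 4, nat_lit 14, nat_lit 10, nat_lit 14, nat_lit 12, nat_lit 4, nat_lit 14, nat_lit 10, nat_lit 14, nat_lit 12, nat_lit 4, nat_lit 14, nat_lit 10, nat_lit 14, nat_lit 12, nat_lit 4, nat_lit 14]],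
  [.rel (nat_lit 22) (nat_lit 0) [nat_lit 11], .defn, .rel (nat_lit 345) (nat_lit 0) [nat_lit 6, nat_lit 5, nat_lit 11, nat_lit 6, nat_lit 5], .rel (nat_lit 344) (nat_lit 2) [nat_lit 4, nat_lit 7, nat_lit 11, nat_lit 4, nat_lit 7], .rel (nat_lit 404) (nat_lit 1) [nat_lit 10, nat_lit 12, nat_lit 11, nat_lit 12, nat_lit 7, nat_lit 10, nat_lit 7, nat_lit 11, nat_lit 10, nat_lit 12], .rel (nat_lit 361) (nat_lit 2) [nat_lit 3, nat_lit 10, nat_lit 13, nat_lit 0, nat_lit 10, nat_lit 1, nat_lit 13, nat_lit 3, nat_lit 8], .rel (nat_lit 332) (nat_lit 2) [nat_lit 9, nat_lit 11, nat_lit 5, nat_lit 3, nat_lit 4, nat_lit 10, nat_lit 3, nat_lit 11, nat_lit 8], .rel (nat_lit 348) (nat_lit 5) [nat_lit 3, nat_lit 0, nat_lit 11, nat_lit 10, nat_lit 4, nat_lit 9], .rel (nat_lit 366) (nat_lit 2) [nat_lit 0, nat_lit 9, nat_lit 4, nat_lit 7, nat_lit 1, nat_lit 14, nat_lit 13], .rel (nat_lit 349) (nat_lit 5) [nat_lit 1, nat_lit 2, nat_lit 11, nat_lit 8, nat_lit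 5, nat_lit 10], .rel (nat_lit 362) (nat_lit 2) [nat_lit 1, nat_lit 13, nat_lit 11, nat_lit 10, nat_lit 2, nat_lit 8, nat_lit 6, nat_lit 13, nat_lit 0], .rel (nat_lit 367) (nat_lit 5) [nat_lit 13, nat_lit 14, nat_lit 0, nat_lit 6, nat_lit 5, nat_lit 8, nat_lit 1], .rel (nat_lit 360) (nat_lit 7) [nat_lit 9, nat_lit 2, nat_lit 13, nat_lit 0, nat_lit 10, nat_lit 1, nat_lit 13, nat_lit 10, nat_lit 2], .rel (nat_lit 349) (nat_lit 1) [nat_lit 8, nat_lit 5, nat_lit 10, nat_lit 11, nat_lit 1, nat_lit 2], .rel (nat_lit 394) (nat_lit 1) [nat_lit 0, nat_lit 11, nat_lit 12, nat_lit 3, nat_lit 8, nat_lit 3, nat_lit 10, nat_lit 12], .rel (nat_lit 328) (nat_lit 3) [nat_lit 8, nat_lit 4, nat_lit 8, nat_lit 4, nat_lit 2, nat_lit 11, nat_lit 10, nat_lit 9], .rel (nat_lit 395) (nat_lit 7) [nat_lit 12, nat_lit 10, nat_lit 2, nat_lit 9, nat_lit 2, nat_lit 12, nat_lit 11, nat_lit 1], .rel (nat_lit 348) (nat_lit 1) [nat_lit 10, nat_lit 4, nat_lit 9, nat_lit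 11, nat_lit 3, nat_lit 0], .rel (nat_lit 362) (nat_lit 5) [nat_lit 10, nat_lit 2, nat_lit 8, nat_lit 6, nat_lit 13, nat_lit 0, nat_lit 11, nat_lit 1, nat_lit 13], .rel (nat_lit 392) (nat_lit 5) [nat_lit 12, nat_lit 9, nat_lit 12, nat_lit 11, nat_lit 8, nat_lit 2, nat_lit 9], .rel (nat_lit 400) (nat_lit 1) [nat_lit 5, nat_lit 11, nat_lit 3, nat_lit 12, nat_lit 2, nat_lit 10, nat_lit 4, nat_lit 8, nat_lit 12], .rel (nat_lit 329) (nat_lit 5) [nat_lit 8, nat_lit 10, nat_lit 11, nat_lit 3, nat_lit 5, nat_lit 9, nat_lit 5, nat_lit 9], .rel (nat_lit 325) (nat_lit 7) [nat_lit 1, nat_lit 10, nat_lit 3, nat_lit 8, nat_lit 3, nat_lit 11, nat_lit 1], .rel (nat_lit 392) (nat_lit 1) [nat_lit 8, nat_lit 2, nat_lit 9, nat_lit 11, nat_lit 12, nat_lit 9, nat_lit 12], .rel (nat_lit 394) (nat_lit 3) [nat_lit 12, nat_lit 3, nat_lit 8, nat_lit 3, nat_lit 10, nat_lit 12, nat_lit 11, nat_lit 0], .rel (nat_lit 404) (nat_lit 4) [nat_lit 12, nat_lit 7, nat_lit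 10, nat_lit 7, nat_lit 11, nat_lit 10, nat_lit 12, nat_lit 11, nat_lit 10, nat_lit 12], .rel (nat_lit 329) (nat_lit 8) [nat_lit 3, nat_lit 5, nat_lit 9, nat_lit 5, nat_lit 9, nat_lit 11, nat_lit 8, nat_lit 10], .rel (nat_lit 352) (nat_lit 7) [nat_lit 1, nat_lit 13, nat_lit 10, nat_lit 13, nat_lit 7, nat_lit 11, nat_lit 7, nat_lit 8], .rel (nat_lit 395) (nat_lit 5) [nat_lit 1, nat_lit 11, nat_lit 12, nat_lit 10, nat_lit 2, nat_lit 9, nat_lit 2, nat_lit 12], .rel (nat_lit 408) (nat_lit 5) [nat_lit 12, nat_lit 6, nat_lit 11, nat_lit 1, nat_lit 4, nat_lit 12, nat_lit 11, nat_lit 12, nat_lit 2, nat_lit 12], .rel (nat_lit 413) (nat_lit 9) [nat_lit 3, nat_lit 12, nat_lit 11, nat_lit 6, nat_lit 10, nat_lit 5, nat_lit 7, nat_lit 12, nat_lit 11, nat_lit 12, nat_lit 8], .rel (nat_lit 327) (nat_lit 5) [nat_lit 3, nat_lit 11, nat_lit 0, nat_lit 2, nat_lit 1, nat_lit 3, nat_lit 5], .rel (nat_lit 328) (nat_lit 0) [nat_lit 10, nat_lit 9, nat_lit 11,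 nat_lit 8, nat_lit 4, nat_lit 8, nat_lit 4, nat_lit 2], .rel (nat_lit 325) (nat_lit 5) [nat_lit 1, nat_lit 11, nat_lit 1, nat_lit 10, nat_lit 3, nat_lit 8, nat_lit 3], .rel (nat_lit 326) (nat_lit 0) [nat_lit 2, nat_lit 11, nat_lit 4, nat_lit 2, nat_lit 0, nat_lit 3, nat_lit 1], .rel (nat_lit 326) (nat_lit 2) [nat_lit 4, nat_lit 2, nat_lit 0, nat_lit 3, nat_lit 1, nat_lit 11, nat_lit 2], .rel (nat_lit 353) (nat_lit 1) [nat_lit 9, nat_lit 6, nat_lit 11, nat_lit 6, nat_lit 13, nat_lit 10, nat_lit 13, nat_lit 0], .rel (nat_lit 393) (nat_lit 2) [nat_lit 8, nat_lit 3, nat_lit 9, nat_lit 11, nat_lit 12, nat_lit 8, nat_lit 12], .rel (nat_lit 402) (nat_lit 1) [nat_lit 6, nat_lit 11, nat_lit 12, nat_lit 9, nat_lit 2, nat_lit 7, nat_lit 10, nat_lit 3, nat_lit 12], .rel (nat_lit 327) (nat_lit 7) [nat_lit 0, nat_lit 2, nat_lit 1, nat_lit 3, nat_lit 5, nat_lit 11, nat_lit 3], .rel (nat_lit 403) (nat_lit 8) [nat_lit 12, nat_lit 2, nat_lit 10, nat_lit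 6, nat_lit 3, nat_lit 8, nat_lit 12, nat_lit 11, nat_lit 7], .rel (nat_lit 408) (nat_lit 1) [nat_lit 12, nat_lit 2, nat_lit 12, nat_lit 11, nat_lit 12, nat_lit 6, nat_lit 11, nat_lit 1, nat_lit 4, nat_lit 12], .rel (nat_lit 412) (nat_lit 2) [nat_lit 9, nat_lit 12, nat_lit 11, nat_lit 12, nat_lit 6, nat_lit 4, nat_lit 10, nat_lit 7, nat_lit 11, nat_lit 12, nat_lit 2], .rel (nat_lit 332) (nat_lit 4) [nat_lit 5, nat_lit 3, nat_lit 4, nat_lit 10, nat_lit 3, nat_lit 11, nat_lit 8, nat_lit 11, nat_lit 9], .rel (nat_lit 352) (nat_lit 4) [nat_lit 7, nat_lit 8, nat_lit 11, nat_lit 1, nat_lit 13, nat_lit 10, nat_lit 13, nat_lit 7], .rel (nat_lit 363) (nat_lit 4) [nat_lit 13, nat_lit 0, nat_lit 11, nat_lit 1, nat_lit 13, nat_lit 7, nat_lit 9, nat_lit 3, nat_lit 10], .rel (nat_lit 396) (nat_lit 1) [nat_lit 3, nat_lit 11, nat_lit 3, nat_lit 12, nat_lit 5, nat_lit 2, nat_lit 1, nat_lit 12], .rel (nat_lit 401) (nat_lit 8) [nat_lit 12, nat_lit 9, nat_lit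 5, nat_lit 10, nat_lit 3, nat_lit 12, nat_lit 2, nat_lit 11, nat_lit 4], .rel (nat_lit 332) (nat_lit 0) [nat_lit 8, nat_lit 11, nat_lit 9, nat_lit 11, nat_lit 5, nat_lit 3, nat_lit 4, nat_lit 10, nat_lit 3], .rel (nat_lit 333) (nat_lit 5) [nat_lit 8, nat_lit 11, nat_lit 9, nat_lit 11, nat_lit 2, nat_lit 10, nat_lit 5, nat_lit 2, nat_lit 4], .rel (nat_lit 353) (nat_lit 4) [nat_lit 6, nat_lit 13, nat_lit 10, nat_lit 13, nat_lit 0, nat_lit 11, nat_lit 9, nat_lit 6], .rel (nat_lit 402) (nat_lit 3) [nat_lit 12, nat_lit 9, nat_lit 2, nat_lit 7, nat_lit 10, nat_lit 3, nat_lit 12, nat_lit 11, nat_lit 6], .rel (nat_lit 414) (nat_lit 5) [nat_lit 12, nat_lit 4, nat_lit 10, nat_lit 6, nat_lit 5, nat_lit 9, nat_lit 12, nat_lit 11, nat_lit 8, nat_lit 6, nat_lit 9], .rel (nat_lit 324) (nat_lit 0) [nat_lit 0, nat_lit 11, nat_lit 2, nat_lit 9, nat_lit 2, nat_lit 10, nat_lit 0], .rel (nat_lit 396) (nat_lit 3) [nat_lit 3, nat_lit 12, nat_lit 5, nat_lit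 2, nat_lit 1, nat_lit 12, nat_lit 11, nat_lit 3], .rel (nat_lit 401) (nat_lit 6) [nat_lit 4, nat_lit 11, nat_lit 12, nat_lit 9, nat_lit 5, nat_lit 10, nat_lit 3, nat_lit 12, nat_lit 2], .rel (nat_lit 324) (nat_lit 2) [nat_lit 2, nat_lit 9, nat_lit 2, nat_lit 10, nat_lit 0, nat_lit 11, nat_lit 0], .rel (nat_lit 333) (nat_lit 7) [nat_lit 9, nat_lit 11, nat_lit 2, nat_lit 10, nat_lit 5, nat_lit 2, nat_lit 4, nat_lit 11, nat_lit 8], .rel (nat_lit 403) (nat_lit 6) [nat_lit 7, nat_lit 11, nat_lit 12, nat_lit 2, nat_lit 10, nat_lit 6, nat_lit 3, nat_lit 8, nat_lit 12], .rel (nat_lit 405) (nat_lit 9) [nat_lit 12, nat_lit 10, nat_lit 11, nat_lit 6, nat_lit 10, nat_lit 6, nat_lit 12, nat_lit 11, nat_lit 12, nat_lit 10], .rel (nat_lit 406) (nat_lit 5) [nat_lit 12, nat_lit 1, nat_lit 1, nat_lit 8, nat_lit 1, nat_lit 12, nat_lit 2, nat_lit 11, nat_lit 10, nat_lit 9], .rel (nat_lit 409) (nat_lit 5) [nat_lit 12, nat_lit 3, nat_lit 12, nat_lit 11,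 nat_lit 12, nat_lit 5, nat_lit 0, nat_lit 11, nat_lit 7, nat_lit 12], .rel (nat_lit 416) (nat_lit 9) [nat_lit 9, nat_lit 3, nat_lit 12, nat_lit 11, nat_lit 8, nat_lit 12, nat_lit 9, nat_lit 11, nat_lit 12, nat_lit 2, nat_lit 8], .rel (nat_lit 330) (nat_lit 2) [nat_lit 10, nat_lit 2, nat_lit 8, nat_lit 10, nat_lit 3, nat_lit 9, nat_lit 1, nat_lit 11, nat_lit 6], .rel (nat_lit 331) (nat_lit 7) [nat_lit 7, nat_lit 11, nat_lit 0, nat_lit 8, nat_lit 2, nat_lit 10, nat_lit 9, nat_lit 3, nat_lit 10], .rel (nat_lit 333) (nat_lit 9) [nat_lit 2, nat_lit 10, nat_lit 5, nat_lit 2, nat_lit 4, nat_lit 11, nat_lit 8, nat_lit 11, nat_lit 9], .rel (nat_lit 397) (nat_lit 7) [nat_lit 12, nat_lit 0, nat_lit 3, nat_lit 4, nat_lit 12, nat_lit 2, nat_lit 11, nat_lit 2], .rel (nat_lit 407) (nat_lit 5) [nat_lit 8, nat_lit 10, nat_lit 11, nat_lit 3, nat_lit 12, nat_lit 0, nat_lit 9, nat_lit 0, nat_lit 0, nat_lit 12], .rel (nat_lit 414) (nat_lit 1) [nat_lit 8,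 nat_lit 6, nat_lit 9, nat_lit 11, nat_lit 12, nat_lit 4, nat_lit 10, nat_lit 6, nat_lit 5, nat_lit 9, nat_lit 12], .rel (nat_lit 397) (nat_lit 5) [nat_lit 2, nat_lit 11, nat_lit 12, nat_lit 0, nat_lit 3, nat_lit 4, nat_lit 12, nat_lit 2], .rel (nat_lit 400) (nat_lit 3) [nat_lit 3, nat_lit 12, nat_lit 2, nat_lit 10, nat_lit 4, nat_lit 8, nat_lit 12, nat_lit 11, nat_lit 5], .rel (nat_lit 410) (nat_lit 5) [nat_lit 12, nat_lit 6, nat_lit 3, nat_lit 4, nat_lit 9, nat_lit 12, nat_lit 11, nat_lit 8, nat_lit 4, nat_lit 9], .rel (nat_lit 416) (nat_lit 5) [nat_lit 12, nat_lit 2, nat_lit 8, nat_lit 11, nat_lit 9, nat_lit 3, nat_lit 12, nat_lit 11, nat_lit 8, nat_lit 12, nat_lit 9], .rel (nat_lit 330) (nat_lit 0) [nat_lit 6, nat_lit 11, nat_lit 10, nat_lit 2, nat_lit 8, nat_lit 10, nat_lit 3, nat_lit 9, nat_lit 1], .rel (nat_lit 363) (nat_lit 7) [nat_lit 1, nat_lit 13, nat_lit 7, nat_lit 9, nat_lit 3, nat_lit 10, nat_lit 11, nat_lit 13, nat_lit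 0], .rel (nat_lit 393) (nat_lit 6) [nat_lit 12, nat_lit 8, nat_lit 12, nat_lit 11, nat_lit 8, nat_lit 3, nat_lit 9], .rel (nat_lit 404) (nat_lit 9) [nat_lit 10, nat_lit 12, nat_lit 11, nat_lit 10, nat_lit 12, nat_lit 11, nat_lit 12, nat_lit 7, nat_lit 10, nat_lit 7], .rel (nat_lit 405) (nat_lit 1) [nat_lit 6, nat_lit 10, nat_lit 6, nat_lit 12, nat_lit 11, nat_lit 12, nat_lit 10, nat_lit 11, nat_lit 12, nat_lit 10], .rel (nat_lit 405) (nat_lit 6) [nat_lit 12, nat_lit 10, nat_lit 11, nat_lit 12, nat_lit 10, nat_lit 11, nat_lit 6, nat_lit 10, nat_lit 6, nat_lit 12], .rel (nat_lit 408) (nat_lit 8) [nat_lit 1, nat_lit 4, nat_lit 12, nat_lit 11, nat_lit 12, nat_lit 2, nat_lit 12, nat_lit 11, nat_lit 12, nat_lit 6], .rel (nat_lit 409) (nat_lit 2) [nat_lit 7, nat_lit 12, nat_lit 11, nat_lit 12, nat_lit 3, nat_lit 12, nat_lit 11, nat_lit 12, nat_lit 5, nat_lit 0], .rel (nat_lit 409) (nat_lit 9) [nat_lit 12, nat_lit 5, nat_lit 0, nat_lit 11,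 nat_lit 7, nat_lit 12, nat_lit 11, nat_lit 12, nat_lit 3, nat_lit 12], .rel (nat_lit 411) (nat_lit 5) [nat_lit 8, nat_lit 5, nat_lit 9, nat_lit 11, nat_lit 12, nat_lit 8, nat_lit 5, nat_lit 2, nat_lit 7, nat_lit 12], .rel (nat_lit 411) (nat_lit 9) [nat_lit 12, nat_lit 8, nat_lit 5, nat_lit 2, nat_lit 7, nat_lit 12, nat_lit 11, nat_lit 8, nat_lit 5, nat_lit 9], .rel (nat_lit 413) (nat_lit 0) [nat_lit 6, nat_lit 10, nat_lit 5, nat_lit 7, nat_lit 12, nat_lit 11, nat_lit 12, nat_lit 8, nat_lit 11, nat_lit 3, nat_lit 12], .rel (nat_lit 415) (nat_lit 10) [nat_lit 12, nat_lit 8, nat_lit 4, nat_lit 7, nat_lit 10, nat_lit 5, nat_lit 12, nat_lit 11, nat_lit 8, nat_lit 7, nat_lit 9], .rel (nat_lit 416) (nat_lit 1) [nat_lit 8, nat_lit 12, nat_lit 9, nat_lit 11, nat_lit 12, nat_lit 2, nat_lit 8, nat_lit 11, nat_lit 9, nat_lit 3, nat_lit 12], .rel (nat_lit 331) (nat_lit 9) [nat_lit 0, nat_lit 8, nat_lit 2, nat_lit 10, nat_lit 9, nat_lit 3, nat_lit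 10, nat_lit 11, nat_lit 7], .rel (nat_lit 406) (nat_lit 2) [nat_lit 10, nat_lit 9, nat_lit 11, nat_lit 12, nat_lit 1, nat_lit 1, nat_lit 8, nat_lit 1, nat_lit 12, nat_lit 2], .rel (nat_lit 407) (nat_lit 8) [nat_lit 3, nat_lit 12, nat_lit 0, nat_lit 9, nat_lit 0, nat_lit 0, nat_lit 12, nat_lit 11, nat_lit 8, nat_lit 10], .rel (nat_lit 413) (nat_lit 6) [nat_lit 12, nat_lit 8, nat_lit 11, nat_lit 3, nat_lit 12, nat_lit 11, nat_lit 6, nat_lit 10, nat_lit 5, nat_lit 7, nat_lit 12]],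
  [.rel (nat_lit 24) (nat_lit 0) [nat_lit 12], .defn, .rel (nat_lit 368) (nat_lit 3) [nat_lit 4, nat_lit 2, nat_lit 0, nat_lit 12, nat_lit 7], .rel (nat_lit 368) (nat_lit 1) [nat_lit 7, nat_lit 12, nat_lit 4, nat_lit 2, nat_lit 0], .rel (nat_lit 388) (nat_lit 1) [nat_lit 10, nat_lit 0, nat_lit 12, nat_lit 10, nat_lit 0], .rel (nat_lit 369) (nat_lit 2) [nat_lit 6, nat_lit 12, nat_lit 1, nat_lit 3, nat_lit 5], .rel (nat_lit 389) (nat_lit 1) [nat_lit 1, nat_lit 10, nat_lit 12, nat_lit 1, nat_lit 10], .rel (nat_lit 369) (nat_lit 4) [nat_lit 1, nat_lit 3, nat_lit 5, nat_lit 12, nat_lit 6], .rel (nat_lit 390) (nat_lit 3) [nat_lit 6, nat_lit 10, nat_lit 6, nat_lit 12, nat_lit 10], .rel (nat_lit 390) (nat_lit 1) [nat_lit 10, nat_lit 12, nat_lit 6, nat_lit 10, nat_lit 6], .rel (nat_lit 398) (nat_lit 2) [nat_lit 3, nat_lit 12, nat_lit 10, nat_lit 5, nat_lit 3, nat_lit 10, nat_lit 3, nat_lit 12, nat_lit 2], .rel (nat_lit 391) (nat_lit 4) [nat_lit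 7, nat_lit 10, nat_lit 7, nat_lit 12, nat_lit 10], .rel (nat_lit 391) (nat_lit 2) [nat_lit 10, nat_lit 12, nat_lit 7, nat_lit 10, nat_lit 7], .rel (nat_lit 378) (nat_lit 2) [nat_lit 5, nat_lit 9, nat_lit 4, nat_lit 9, nat_lit 1, nat_lit 12, nat_lit 8], .rel (nat_lit 394) (nat_lit 4) [nat_lit 3, nat_lit 8, nat_lit 3, nat_lit 10, nat_lit 12, nat_lit 11, nat_lit 0, nat_lit 11], .rel (nat_lit 392) (nat_lit 6) [nat_lit 9, nat_lit 12, nat_lit 11, nat_lit 8, nat_lit 2, nat_lit 9, nat_lit 11], .rel (nat_lit 371) (nat_lit 4) [nat_lit 3, nat_lit 1, nat_lit 7, nat_lit 4, nat_lit 12, nat_lit 0], .rel (nat_lit 379) (nat_lit 5) [nat_lit 9, nat_lit 12, nat_lit 0, nat_lit 8, nat_lit 5, nat_lit 8, nat_lit 4], .rel (nat_lit 444) (nat_lit 2) [nat_lit 14, nat_lit 4, nat_lit 2, nat_lit 14, nat_lit 12, nat_lit 14, nat_lit 4, nat_lit 2, nat_lit 14, nat_lit 12, nat_lit 14, nat_lit 4, nat_lit 2, nat_lit 14], .rel (nat_lit 370) (nat_lit 4) [nat_lit 5, nat_lit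 6, nat_lit 0, nat_lit 2, nat_lit 12, nat_lit 1], .rel (nat_lit 416) (nat_lit 3) [nat_lit 9, nat_lit 11, nat_lit 12, nat_lit 2, nat_lit 8, nat_lit 11, nat_lit 9, nat_lit 3, nat_lit 12, nat_lit 11, nat_lit 8], .rel (nat_lit 516) (nat_lit 0) [nat_lit 13, nat_lit 12, nat_lit 13, nat_lit 12, nat_lit 13, nat_lit 12, nat_lit 13, nat_lit 12, nat_lit 13, nat_lit 12, nat_lit 13, nat_lit 12, nat_lit 13, nat_lit 12, nat_lit 13], .rel (nat_lit 370) (nat_lit 2) [nat_lit 1, nat_lit 12, nat_lit 5, nat_lit 6, nat_lit 0, nat_lit 2], .rel (nat_lit 374) (nat_lit 2) [nat_lit 4, nat_lit 7, nat_lit 5, nat_lit 12, nat_lit 2, nat_lit 4], .rel (nat_lit 375) (nat_lit 0) [nat_lit 4, nat_lit 6, nat_lit 5, nat_lit 12, nat_lit 5, nat_lit 3], .rel (nat_lit 401) (nat_lit 9) [nat_lit 9, nat_lit 5, nat_lit 10, nat_lit 3, nat_lit 12, nat_lit 2, nat_lit 11, nat_lit 4, nat_lit 11], .rel (nat_lit 408) (nat_lit 2) [nat_lit 2, nat_lit 12, nat_lit 11, nat_lit 12, nat_lit 6,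 nat_lit 11, nat_lit 1, nat_lit 4, nat_lit 12, nat_lit 11], .rel (nat_lit 371) (nat_lit 2) [nat_lit 0, nat_lit 12, nat_lit 3, nat_lit 1, nat_lit 7, nat_lit 4], .rel (nat_lit 393) (nat_lit 1) [nat_lit 11, nat_lit 8, nat_lit 3, nat_lit 9, nat_lit 11, nat_lit 12, nat_lit 8], .rel (nat_lit 404) (nat_lit 3) [nat_lit 11, nat_lit 12, nat_lit 7, nat_lit 10, nat_lit 7, nat_lit 11, nat_lit 10, nat_lit 12, nat_lit 11, nat_lit 10], .rel (nat_lit 393) (nat_lit 7) [nat_lit 8, nat_lit 12, nat_lit 11, nat_lit 8, nat_lit 3, nat_lit 9, nat_lit 11], .rel (nat_lit 378) (nat_lit 0) [nat_lit 8, nat_lit 12, nat_lit 5, nat_lit 9, nat_lit 4, nat_lit 9, nat_lit 1], .rel (nat_lit 387) (nat_lit 6) [nat_lit 2, nat_lit 12, nat_lit 3, nat_lit 12, nat_lit 0, nat_lit 0, nat_lit 4, nat_lit 8, nat_lit 0, nat_lit 8], .rel (nat_lit 408) (nat_lit 4) [nat_lit 11, nat_lit 12, nat_lit 6, nat_lit 11, nat_lit 1, nat_lit 4, nat_lit 12, nat_lit 11, nat_lit 12, nat_lit 2], .rel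 (nat_lit 409) (nat_lit 8) [nat_lit 11, nat_lit 12, nat_lit 5, nat_lit 0, nat_lit 11, nat_lit 7, nat_lit 12, nat_lit 11, nat_lit 12, nat_lit 3], .rel (nat_lit 414) (nat_lit 0) [nat_lit 11, nat_lit 8, nat_lit 6, nat_lit 9, nat_lit 11, nat_lit 12, nat_lit 4, nat_lit 10, nat_lit 6, nat_lit 5, nat_lit 9], .rel (nat_lit 372) (nat_lit 1) [nat_lit 2, nat_lit 2, nat_lit 8, nat_lit 8, nat_lit 12, nat_lit 0], .rel (nat_lit 374) (nat_lit 6) [nat_lit 2, nat_lit 4, nat_lit 12, nat_lit 4, nat_lit 7, nat_lit 5], .rel (nat_lit 375) (nat_lit 4) [nat_lit 5, nat_lit 3, nat_lit 12, nat_lit 4, nat_lit 6, nat_lit 5], .rel (nat_lit 377) (nat_lit 4) [nat_lit 2, nat_lit 5, nat_lit 12, nat_lit 0, nat_lit 3, nat_lit 0, nat_lit 5], .rel (nat_lit 379) (nat_lit 7) [nat_lit 0, nat_lit 8, nat_lit 5, nat_lit 8, nat_lit 4, nat_lit 12, nat_lit 9], .rel (nat_lit 380) (nat_lit 0) [nat_lit 2, nat_lit 0, nat_lit 3, nat_lit 12, nat_lit 2, nat_lit 5, nat_lit 7], .rel (nat_lit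 381) (nat_lit 3) [nat_lit 2, nat_lit 1, nat_lit 3, nat_lit 12, nat_lit 6, nat_lit 4, nat_lit 3], .rel (nat_lit 383) (nat_lit 4) [nat_lit 2, nat_lit 7, nat_lit 3, nat_lit 12, nat_lit 2, nat_lit 0, nat_lit 0, nat_lit 4], .rel (nat_lit 392) (nat_lit 0) [nat_lit 11, nat_lit 8, nat_lit 2, nat_lit 9, nat_lit 11, nat_lit 12, nat_lit 9], .rel (nat_lit 399) (nat_lit 5) [nat_lit 2, nat_lit 12, nat_lit 3, nat_lit 12, nat_lit 2, nat_lit 10, nat_lit 2, nat_lit 4, nat_lit 10], .rel (nat_lit 403) (nat_lit 9) [nat_lit 2, nat_lit 10, nat_lit 6, nat_lit 3, nat_lit 8, nat_lit 12, nat_lit 11, nat_lit 7, nat_lit 11], .rel (nat_lit 408) (nat_lit 6) [nat_lit 6, nat_lit 11, nat_lit 1, nat_lit 4, nat_lit 12, nat_lit 11, nat_lit 12, nat_lit 2, nat_lit 12, nat_lit 11], .rel (nat_lit 409) (nat_lit 6) [nat_lit 3, nat_lit 12, nat_lit 11, nat_lit 12, nat_lit 5, nat_lit 0, nat_lit 11, nat_lit 7, nat_lit 12, nat_lit 11], .rel (nat_lit 409) (nat_lit 10) [nat_lit 5,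 nat_lit 0, nat_lit 11, nat_lit 7, nat_lit 12, nat_lit 11, nat_lit 12, nat_lit 3, nat_lit 12, nat_lit 11], .rel (nat_lit 445) (nat_lit 2) [nat_lit 14, nat_lit 3, nat_lit 5, nat_lit 14, nat_lit 12, nat_lit 14, nat_lit 3, nat_lit 5, nat_lit 14, nat_lit 12, nat_lit 14, nat_lit 3, nat_lit 5, nat_lit 14], .rel (nat_lit 448) (nat_lit 2) [nat_lit 14, nat_lit 6, nat_lit 2, nat_lit 14, nat_lit 12, nat_lit 14, nat_lit 6, nat_lit 2, nat_lit 14, nat_lit 12, nat_lit 14, nat_lit 6, nat_lit 2, nat_lit 14], .rel (nat_lit 457) (nat_lit 3) [nat_lit 3, nat_lit 14, nat_lit 7, nat_lit 14, nat_lit 12, nat_lit 3, nat_lit 14, nat_lit 7, nat_lit 14, nat_lit 12, nat_lit 3, nat_lit 14, nat_lit 7, nat_lit 14], .rel (nat_lit 373) (nat_lit 5) [nat_lit 1, nat_lit 12, nat_lit 9, nat_lit 9, nat_lit 3, nat_lit 3], .rel (nat_lit 376) (nat_lit 0) [nat_lit 4, nat_lit 3, nat_lit 12, nat_lit 4, nat_lit 1, nat_lit 2, nat_lit 1], .rel (nat_lit 377) (nat_lit 7) [nat_lit 0, nat_lit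 3, nat_lit 0, nat_lit 5, nat_lit 12, nat_lit 2, nat_lit 5], .rel (nat_lit 382) (nat_lit 4) [nat_lit 5, nat_lit 1, nat_lit 1, nat_lit 3, nat_lit 12, nat_lit 2, nat_lit 6, nat_lit 3], .rel (nat_lit 385) (nat_lit 9) [nat_lit 0, nat_lit 4, nat_lit 9, nat_lit 4, nat_lit 0, nat_lit 12, nat_lit 2, nat_lit 9, nat_lit 3], .rel (nat_lit 398) (nat_lit 0) [nat_lit 2, nat_lit 12, nat_lit 3, nat_lit 12, nat_lit 10, nat_lit 5, nat_lit 3, nat_lit 10, nat_lit 3], .rel (nat_lit 398) (nat_lit 4) [nat_lit 10, nat_lit 5, nat_lit 3, nat_lit 10, nat_lit 3, nat_lit 12, nat_lit 2, nat_lit 12, nat_lit 3], .rel (nat_lit 399) (nat_lit 9) [nat_lit 2, nat_lit 10, nat_lit 2, nat_lit 4, nat_lit 10, nat_lit 12, nat_lit 2, nat_lit 12, nat_lit 3], .rel (nat_lit 400) (nat_lit 0) [nat_lit 11, nat_lit 5, nat_lit 11, nat_lit 3, nat_lit 12, nat_lit 2, nat_lit 10, nat_lit 4, nat_lit 8], .rel (nat_lit 413) (nat_lit 11) [nat_lit 11, nat_lit 6, nat_lit 10, nat_lit 5, nat_lit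 7, nat_lit 12, nat_lit 11, nat_lit 12, nat_lit 8, nat_lit 11, nat_lit 3], .rel (nat_lit 436) (nat_lit 3) [nat_lit 5, nat_lit 2, nat_lit 4, nat_lit 3, nat_lit 1, nat_lit 12, nat_lit 3, nat_lit 3], .rel (nat_lit 438) (nat_lit 0) [nat_lit 2, nat_lit 10, nat_lit 3, nat_lit 12, nat_lit 1, nat_lit 10, nat_lit 3, nat_lit 10, nat_lit 2, nat_lit 0], .rel (nat_lit 451) (nat_lit 2) [nat_lit 14, nat_lit 3, nat_lit 6, nat_lit 14, nat_lit 12, nat_lit 14, nat_lit 3, nat_lit 6, nat_lit 14, nat_lit 12, nat_lit 14, nat_lit 3, nat_lit 6, nat_lit 14], .rel (nat_lit 456) (nat_lit 1) [nat_lit 14, nat_lit 6, nat_lit 14, nat_lit 2, nat_lit 12, nat_lit 14, nat_lit 6, nat_lit 14, nat_lit 2, nat_lit 12, nat_lit 14, nat_lit 6, nat_lit 14, nat_lit 2], .rel (nat_lit 460) (nat_lit 2) [nat_lit 4, nat_lit 14, nat_lit 12, nat_lit 4, nat_lit 14, nat_lit 12, nat_lit 4, nat_lit 14, nat_lit 12, nat_lit 4, nat_lit 14, nat_lit 12, nat_lit 4, nat_lit 14, nat_lit 12, nat_lit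 4, nat_lit 14, nat_lit 12, nat_lit 4, nat_lit 14], .rel (nat_lit 478) (nat_lit 3) [nat_lit 0, nat_lit 7, nat_lit 14, nat_lit 12, nat_lit 0, nat_lit 7, nat_lit 14, nat_lit 12, nat_lit 0, nat_lit 7, nat_lit 14, nat_lit 12, nat_lit 0, nat_lit 7, nat_lit 14, nat_lit 12, nat_lit 0, nat_lit 7, nat_lit 14, nat_lit 12, nat_lit 0, nat_lit 7, nat_lit 14, nat_lit 12, nat_lit 0, nat_lit 7, nat_lit 14], .sub (nat_lit 22) [] [], .rel (nat_lit 372) (nat_lit 6) [nat_lit 0, nat_lit 12, nat_lit 2, nat_lit 2, nat_lit 8, nat_lit 8], .rel (nat_lit 373) (nat_lit 0) [nat_lit 9, nat_lit 9, nat_lit 3, nat_lit 3, nat_lit 12, nat_lit 1], .rel (nat_lit 376) (nat_lit 3) [nat_lit 4, nat_lit 1, nat_lit 2, nat_lit 1, nat_lit 12, nat_lit 4, nat_lit 3], .rel (nat_lit 381) (nat_lit 7) [nat_lit 6, nat_lit 4, nat_lit 3, nat_lit 12, nat_lit 2, nat_lit 1, nat_lit 3], .rel (nat_lit 383) (nat_lit 8) [nat_lit 2, nat_lit 0, nat_lit 0, nat_lit 4, nat_lit 12, nat_lit 2, nat_lit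 7, nat_lit 3], .rel (nat_lit 384) (nat_lit 0) [nat_lit 2, nat_lit 8, nat_lit 3, nat_lit 12, nat_lit 1, nat_lit 5, nat_lit 8, nat_lit 5, nat_lit 1], .rel (nat_lit 384) (nat_lit 4) [nat_lit 1, nat_lit 5, nat_lit 8, nat_lit 5, nat_lit 1, nat_lit 12, nat_lit 2, nat_lit 8, nat_lit 3], .rel (nat_lit 386) (nat_lit 0) [nat_lit 2, nat_lit 12, nat_lit 3, nat_lit 12, nat_lit 9, nat_lit 1, nat_lit 9, nat_lit 5, nat_lit 1, nat_lit 1], .rel (nat_lit 394) (nat_lit 0) [nat_lit 11, nat_lit 0, nat_lit 11, nat_lit 12, nat_lit 3, nat_lit 8, nat_lit 3, nat_lit 10], .rel (nat_lit 396) (nat_lit 5) [nat_lit 5, nat_lit 2, nat_lit 1, nat_lit 12, nat_lit 11, nat_lit 3, nat_lit 11, nat_lit 3], .rel (nat_lit 399) (nat_lit 7) [nat_lit 3, nat_lit 12, nat_lit 2, nat_lit 10, nat_lit 2, nat_lit 4, nat_lit 10, nat_lit 12, nat_lit 2], .rel (nat_lit 400) (nat_lit 5) [nat_lit 2, nat_lit 10, nat_lit 4, nat_lit 8, nat_lit 12, nat_lit 11, nat_lit 5, nat_lit 11, nat_lit 3],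 .rel (nat_lit 402) (nat_lit 0) [nat_lit 11, nat_lit 6, nat_lit 11, nat_lit 12, nat_lit 9, nat_lit 2, nat_lit 7, nat_lit 10, nat_lit 3], .rel (nat_lit 405) (nat_lit 7) [nat_lit 10, nat_lit 11, nat_lit 12, nat_lit 10, nat_lit 11, nat_lit 6, nat_lit 10, nat_lit 6, nat_lit 12, nat_lit 11], .rel (nat_lit 405) (nat_lit 10) [nat_lit 10, nat_lit 11, nat_lit 6, nat_lit 10, nat_lit 6, nat_lit 12, nat_lit 11, nat_lit 12, nat_lit 10, nat_lit 11], .rel (nat_lit 411) (nat_lit 10) [nat_lit 8, nat_lit 5, nat_lit 2, nat_lit 7, nat_lit 12, nat_lit 11, nat_lit 8, nat_lit 5, nat_lit 9, nat_lit 11], .rel (nat_lit 412) (nat_lit 0) [nat_lit 2, nat_lit 11, nat_lit 9, nat_lit 12, nat_lit 11, nat_lit 12, nat_lit 6, nat_lit 4, nat_lit 10, nat_lit 7, nat_lit 11], .rel (nat_lit 412) (nat_lit 4) [nat_lit 11, nat_lit 12, nat_lit 6, nat_lit 4, nat_lit 10, nat_lit 7, nat_lit 11, nat_lit 12, nat_lit 2, nat_lit 11, nat_lit 9], .rel (nat_lit 414) (nat_lit 6) [nat_lit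 4, nat_lit 10, nat_lit 6, nat_lit 5, nat_lit 9, nat_lit 12, nat_lit 11, nat_lit 8, nat_lit 6, nat_lit 9, nat_lit 11], .rel (nat_lit 440) (nat_lit 2) [nat_lit 6, nat_lit 14, nat_lit 2, nat_lit 14, nat_lit 12, nat_lit 6, nat_lit 14, nat_lit 2, nat_lit 14, nat_lit 12, nat_lit 6, nat_lit 14, nat_lit 2, nat_lit 14], .rel (nat_lit 447) (nat_lit 2) [nat_lit 14, nat_lit 3, nat_lit 4, nat_lit 14, nat_lit 12, nat_lit 14, nat_lit 3, nat_lit 4, nat_lit 14, nat_lit 12, nat_lit 14, nat_lit 3, nat_lit 4, nat_lit 14], .rel (nat_lit 450) (nat_lit 2) [nat_lit 14, nat_lit 7, nat_lit 2, nat_lit 14, nat_lit 12, nat_lit 14, nat_lit 7, nat_lit 2, nat_lit 14, nat_lit 12, nat_lit 14, nat_lit 7, nat_lit 2, nat_lit 14], .rel (nat_lit 453) (nat_lit 3) [nat_lit 3, nat_lit 14, nat_lit 5, nat_lit 14, nat_lit 12, nat_lit 3, nat_lit 14, nat_lit 5, nat_lit 14, nat_lit 12, nat_lit 3, nat_lit 14, nat_lit 5, nat_lit 14], .rel (nat_lit 464) (nat_lit 2) [nat_lit 6, nat_lit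 14, nat_lit 12, nat_lit 6, nat_lit 14, nat_lit 12, nat_lit 6, nat_lit 14, nat_lit 12, nat_lit 6, nat_lit 14, nat_lit 12, nat_lit 6, nat_lit 14, nat_lit 12, nat_lit 6, nat_lit 14, nat_lit 12, nat_lit 6, nat_lit 14], .rel (nat_lit 467) (nat_lit 1) [nat_lit 7, nat_lit 14, nat_lit 12, nat_lit 7, nat_lit 14, nat_lit 12, nat_lit 7, nat_lit 14, nat_lit 12, nat_lit 7, nat_lit 14, nat_lit 12, nat_lit 7, nat_lit 14, nat_lit 12, nat_lit 7, nat_lit 14, nat_lit 12, nat_lit 7, nat_lit 14], .rel (nat_lit 474) (nat_lit 3) [nat_lit 0, nat_lit 6, nat_lit 14, nat_lit 12, nat_lit 0, nat_lit 6, nat_lit 14, nat_lit 12, nat_lit 0, nat_lit 6, nat_lit 14, nat_lit 12, nat_lit 0, nat_lit 6, nat_lit 14, nat_lit 12, nat_lit 0, nat_lit 6, nat_lit 14, nat_lit 12, nat_lit 0, nat_lit 6, nat_lit 14, nat_lit 12, nat_lit 0, nat_lit 6, nat_lit 14], .rel (nat_lit 481) (nat_lit 1) [nat_lit 6, nat_lit 1, nat_lit 14, nat_lit 12, nat_lit 6, nat_lit 1, nat_lit 14, nat_lit 12,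 nat_lit 6, nat_lit 1, nat_lit 14, nat_lit 12, nat_lit 6, nat_lit 1, nat_lit 14, nat_lit 12, nat_lit 6, nat_lit 1, nat_lit 14, nat_lit 12, nat_lit 6, nat_lit 1, nat_lit 14, nat_lit 12, nat_lit 6, nat_lit 1, nat_lit 14], .rel (nat_lit 511) (nat_lit 2) [nat_lit 7, nat_lit 10, nat_lit 14, nat_lit 12, nat_lit 7, nat_lit 10, nat_lit 14, nat_lit 12, nat_lit 7, nat_lit 10, nat_lit 14, nat_lit 12, nat_lit 7, nat_lit 10, nat_lit 14, nat_lit 12, nat_lit 7, nat_lit 10, nat_lit 14, nat_lit 12, nat_lit 7, nat_lit 10, nat_lit 14, nat_lit 12, nat_lit 7, nat_lit 10, nat_lit 14]],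
  [.rel (nat_lit 26) (nat_lit 0) [nat_lit 13], .defn, .rel (nat_lit 341) (nat_lit 2) [nat_lit 7, nat_lit 5, nat_lit 3, nat_lit 13, nat_lit 5], .rel (nat_lit 337) (nat_lit 0) [nat_lit 5, nat_lit 5, nat_lit 13, nat_lit 1, nat_lit 1], .rel (nat_lit 337) (nat_lit 3) [nat_lit 1, nat_lit 1, nat_lit 13, nat_lit 5, nat_lit 5], .rel (nat_lit 341) (nat_lit 0) [nat_lit 5, nat_lit 13, nat_lit 7, nat_lit 5, nat_lit 3], .rel (nat_lit 336) (nat_lit 5) [nat_lit 0, nat_lit 0, nat_lit 13, nat_lit 4, nat_lit 4], .rel (nat_lit 336) (nat_lit 2) [nat_lit 4, nat_lit 4, nat_lit 13, nat_lit 0, nat_lit 0], .rel (nat_lit 340) (nat_lit 5) [nat_lit 2, nat_lit 4, nat_lit 6, nat_lit 13, nat_lit 4], .rel (nat_lit 340) (nat_lit 3) [nat_lit 4, nat_lit 13, nat_lit 2, nat_lit 4, nat_lit 6], .rel (nat_lit 366) (nat_lit 1) [nat_lit 11, nat_lit 0, nat_lit 9, nat_lit 4, nat_lit 7, nat_lit 1, nat_lit 14], .rel (nat_lit 367) (nat_lit 6) [nat_lit 14, nat_lit 0, nat_lit 6, nat_lit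 5, nat_lit 8, nat_lit 1, nat_lit 11], .rel (nat_lit 357) (nat_lit 4) [nat_lit 9, nat_lit 13, nat_lit 1, nat_lit 13, nat_lit 4, nat_lit 7, nat_lit 8, nat_lit 2], .rel (nat_lit 356) (nat_lit 4) [nat_lit 3, nat_lit 9, nat_lit 6, nat_lit 5, nat_lit 13, nat_lit 0, nat_lit 13, nat_lit 8], .rel (nat_lit 357) (nat_lit 6) [nat_lit 1, nat_lit 13, nat_lit 4, nat_lit 7, nat_lit 8, nat_lit 2, nat_lit 13, nat_lit 9], .rel (nat_lit 516) (nat_lit 1) [nat_lit 12, nat_lit 13, nat_lit 12, nat_lit 13, nat_lit 12, nat_lit 13, nat_lit 12, nat_lit 13, nat_lit 12, nat_lit 13, nat_lit 12, nat_lit 13, nat_lit 12, nat_lit 13, nat_lit 12], .rel (nat_lit 352) (nat_lit 2) [nat_lit 7, nat_lit 11, nat_lit 7, nat_lit 8, nat_lit 11, nat_lit 1, nat_lit 13, nat_lit 10], .rel (nat_lit 346) (nat_lit 3) [nat_lit 8, nat_lit 3, nat_lit 8, nat_lit 0, nat_lit 13, nat_lit 7], .rel (nat_lit 347) (nat_lit 3) [nat_lit 6, nat_lit 13, nat_lit 1, nat_lit 9, nat_lit 2, nat_lit 9], .rel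 (nat_lit 352) (nat_lit 0) [nat_lit 10, nat_lit 13, nat_lit 7, nat_lit 11, nat_lit 7, nat_lit 8, nat_lit 11, nat_lit 1], .rel (nat_lit 351) (nat_lit 5) [nat_lit 3, nat_lit 13, nat_lit 0, nat_lit 3, nat_lit 9, nat_lit 5, nat_lit 9], .rel (nat_lit 355) (nat_lit 4) [nat_lit 0, nat_lit 3, nat_lit 1, nat_lit 13, nat_lit 8, nat_lit 3, nat_lit 4, nat_lit 9], .rel (nat_lit 353) (nat_lit 6) [nat_lit 10, nat_lit 13, nat_lit 0, nat_lit 11, nat_lit 9, nat_lit 6, nat_lit 11, nat_lit 6], .rel (nat_lit 350) (nat_lit 0) [nat_lit 2, nat_lit 13, nat_lit 8, nat_lit 4, nat_lit 8, nat_lit 2, nat_lit 1], .rel (nat_lit 353) (nat_lit 8) [nat_lit 0, nat_lit 11, nat_lit 9, nat_lit 6, nat_lit 11, nat_lit 6, nat_lit 13, nat_lit 10], .rel (nat_lit 363) (nat_lit 5) [nat_lit 0, nat_lit 11, nat_lit 1, nat_lit 13, nat_lit 7, nat_lit 9, nat_lit 3, nat_lit 10, nat_lit 11], .rel (nat_lit 346) (nat_lit 1) [nat_lit 7, nat_lit 13, nat_lit 8, nat_lit 3, nat_lit 8, nat_lit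 0], .rel (nat_lit 347) (nat_lit 5) [nat_lit 1, nat_lit 9, nat_lit 2, nat_lit 9, nat_lit 13, nat_lit 6], .rel (nat_lit 362) (nat_lit 4) [nat_lit 11, nat_lit 10, nat_lit 2, nat_lit 8, nat_lit 6, nat_lit 13, nat_lit 0, nat_lit 11, nat_lit 1], .rel (nat_lit 364) (nat_lit 4) [nat_lit 8, nat_lit 6, nat_lit 2, nat_lit 8, nat_lit 1, nat_lit 13, nat_lit 9, nat_lit 4, nat_lit 8], .rel (nat_lit 350) (nat_lit 2) [nat_lit 8, nat_lit 4, nat_lit 8, nat_lit 2, nat_lit 1, nat_lit 13, nat_lit 2], .rel (nat_lit 357) (nat_lit 8) [nat_lit 4, nat_lit 7, nat_lit 8, nat_lit 2, nat_lit 13, nat_lit 9, nat_lit 13, nat_lit 1], .rel (nat_lit 351) (nat_lit 7) [nat_lit 0, nat_lit 3, nat_lit 9, nat_lit 5, nat_lit 9, nat_lit 13, nat_lit 3], .rel (nat_lit 354) (nat_lit 0) [nat_lit 0, nat_lit 2, nat_lit 1, nat_lit 13, nat_lit 8, nat_lit 5, nat_lit 2, nat_lit 9], .rel (nat_lit 360) (nat_lit 4) [nat_lit 10, nat_lit 2, nat_lit 11, nat_lit 9, nat_lit 2, nat_lit 13, nat_lit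 0, nat_lit 10, nat_lit 1], .rel (nat_lit 356) (nat_lit 2) [nat_lit 8, nat_lit 13, nat_lit 3, nat_lit 9, nat_lit 6, nat_lit 5, nat_lit 13, nat_lit 0], .rel (nat_lit 358) (nat_lit 0) [nat_lit 0, nat_lit 4, nat_lit 1, nat_lit 13, nat_lit 9, nat_lit 3, nat_lit 9, nat_lit 3, nat_lit 1], .rel (nat_lit 361) (nat_lit 5) [nat_lit 0, nat_lit 10, nat_lit 1, nat_lit 13, nat_lit 3, nat_lit 8, nat_lit 11, nat_lit 3, nat_lit 10], .rel (nat_lit 354) (nat_lit 4) [nat_lit 8, nat_lit 5, nat_lit 2, nat_lit 9, nat_lit 13, nat_lit 0, nat_lit 2, nat_lit 1], .rel (nat_lit 360) (nat_lit 0) [nat_lit 0, nat_lit 10, nat_lit 1, nat_lit 13, nat_lit 10, nat_lit 2, nat_lit 11, nat_lit 9, nat_lit 2], .rel (nat_lit 364) (nat_lit 0) [nat_lit 9, nat_lit 4, nat_lit 8, nat_lit 13, nat_lit 8, nat_lit 6, nat_lit 2, nat_lit 8, nat_lit 1], .rel (nat_lit 355) (nat_lit 8) [nat_lit 8, nat_lit 3, nat_lit 4, nat_lit 9, nat_lit 13, nat_lit 0, nat_lit 3, nat_lit 1], .rel (nat_lit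 359) (nat_lit 5) [nat_lit 0, nat_lit 5, nat_lit 1, nat_lit 13, nat_lit 0, nat_lit 2, nat_lit 8, nat_lit 2, nat_lit 8], .rel (nat_lit 361) (nat_lit 9) [nat_lit 3, nat_lit 8, nat_lit 11, nat_lit 3, nat_lit 10, nat_lit 13, nat_lit 0, nat_lit 10, nat_lit 1], .rel (nat_lit 365) (nat_lit 5) [nat_lit 9, nat_lit 5, nat_lit 8, nat_lit 13, nat_lit 0, nat_lit 9, nat_lit 3, nat_lit 7, nat_lit 9], .rel (nat_lit 358) (nat_lit 4) [nat_lit 9, nat_lit 3, nat_lit 9, nat_lit 3, nat_lit 1, nat_lit 13, nat_lit 0, nat_lit 4, nat_lit 1], .rel (nat_lit 363) (nat_lit 9) [nat_lit 7, nat_lit 9, nat_lit 3, nat_lit 10, nat_lit 11, nat_lit 13, nat_lit 0, nat_lit 11, nat_lit 1], .sub (nat_lit 20) [] [], .rel (nat_lit 356) (nat_lit 0) [nat_lit 0, nat_lit 13, nat_lit 8, nat_lit 13, nat_lit 3, nat_lit 9, nat_lit 6, nat_lit 5], .rel (nat_lit 359) (nat_lit 9) [nat_lit 0, nat_lit 2, nat_lit 8, nat_lit 2, nat_lit 8, nat_lit 13, nat_lit 0, nat_lit 5, nat_lit 1], .rel (nat_lit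 362) (nat_lit 0) [nat_lit 0, nat_lit 11, nat_lit 1, nat_lit 13, nat_lit 11, nat_lit 10, nat_lit 2, nat_lit 8, nat_lit 6]],
  [.rel (nat_lit 28) (nat_lit 0) [nat_lit 14], .rel (nat_lit 420) (nat_lit 2) [nat_lit 10, nat_lit 3, nat_lit 14, nat_lit 2, nat_lit 10], .defn, .rel (nat_lit 418) (nat_lit 4) [nat_lit 4, nat_lit 2, nat_lit 5, nat_lit 14, nat_lit 2], .rel (nat_lit 418) (nat_lit 2) [nat_lit 2, nat_lit 14, nat_lit 4, nat_lit 2, nat_lit 5], .rel (nat_lit 419) (nat_lit 3) [nat_lit 4, nat_lit 3, nat_lit 5, nat_lit 14, nat_lit 3], .rel (nat_lit 419) (nat_lit 1) [nat_lit 3, nat_lit 14, nat_lit 4, nat_lit 3, nat_lit 5], .rel (nat_lit 420) (nat_lit 5) [nat_lit 2, nat_lit 10, nat_lit 14, nat_lit 10, nat_lit 3], .rel (nat_lit 366) (nat_lit 0) [nat_lit 13, nat_lit 11, nat_lit 0, nat_lit 9, nat_lit 4, nat_lit 7, nat_lit 1], .rel (nat_lit 367) (nat_lit 7) [nat_lit 0, nat_lit 6, nat_lit 5, nat_lit 8, nat_lit 1, nat_lit 11, nat_lit 13], .rel (nat_lit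 432) (nat_lit 2) [nat_lit 1, nat_lit 14, nat_lit 4, nat_lit 2, nat_lit 5, nat_lit 3, nat_lit 1, nat_lit 14, nat_lit 0], .rel (nat_lit 422) (nat_lit 5) [nat_lit 5, nat_lit 0, nat_lit 0, nat_lit 3, nat_lit 14, nat_lit 4], .rel (nat_lit 423) (nat_lit 1) [nat_lit 5, nat_lit 14, nat_lit 2, nat_lit 1, nat_lit 1, nat_lit 4], .rel (nat_lit 428) (nat_lit 0) [nat_lit 0, nat_lit 2, nat_lit 1, nat_lit 14, nat_lit 10, nat_lit 4, nat_lit 2, nat_lit 7, nat_lit 10], .rel (nat_lit 432) (nat_lit 0) [nat_lit 0, nat_lit 14, nat_lit 1, nat_lit 14, nat_lit 4, nat_lit 2, nat_lit 5, nat_lit 3, nat_lit 1], .rel (nat_lit 424) (nat_lit 2) [nat_lit 7, nat_lit 10, nat_lit 2, nat_lit 10, nat_lit 3, nat_lit 14, nat_lit 6], .rel (nat_lit 423) (nat_lit 3) [nat_lit 2, nat_lit 1, nat_lit 1, nat_lit 4, nat_lit 14, nat_lit 5], .rel (nat_lit 422) (nat_lit 3) [nat_lit 4, nat_lit 14, nat_lit 5, nat_lit 0, nat_lit 0, nat_lit 3], .rel (nat_lit 426) (nat_lit 4) [nat_lit 1, nat_lit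 4, nat_lit 0, nat_lit 14, nat_lit 0, nat_lit 4, nat_lit 1], .rel (nat_lit 424) (nat_lit 0) [nat_lit 6, nat_lit 14, nat_lit 7, nat_lit 10, nat_lit 2, nat_lit 10, nat_lit 3], .rel (nat_lit 425) (nat_lit 5) [nat_lit 7, nat_lit 14, nat_lit 2, nat_lit 10, nat_lit 3, nat_lit 10, nat_lit 6], .rel (nat_lit 429) (nat_lit 9) [nat_lit 10, nat_lit 6, nat_lit 3, nat_lit 5, nat_lit 10, nat_lit 14, nat_lit 0, nat_lit 3, nat_lit 1], .rel (nat_lit 428) (nat_lit 4) [nat_lit 10, nat_lit 4, nat_lit 2, nat_lit 7, nat_lit 10, nat_lit 14, nat_lit 0, nat_lit 2, nat_lit 1], .rel (nat_lit 426) (nat_lit 0) [nat_lit 0, nat_lit 4, nat_lit 1, nat_lit 14, nat_lit 1, nat_lit 4, nat_lit 0], .rel (nat_lit 429) (nat_lit 5) [nat_lit 0, nat_lit 3, nat_lit 1, nat_lit 14, nat_lit 10, nat_lit 6, nat_lit 3, nat_lit 5, nat_lit 10], .rel (nat_lit 477) (nat_lit 0) [nat_lit 12, nat_lit 7, nat_lit 1, nat_lit 14, nat_lit 12, nat_lit 7, nat_lit 1, nat_lit 14, nat_lit 12, nat_lit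 7, nat_lit 1, nat_lit 14, nat_lit 12, nat_lit 7, nat_lit 1, nat_lit 14, nat_lit 12, nat_lit 7, nat_lit 1, nat_lit 14, nat_lit 12, nat_lit 7, nat_lit 1, nat_lit 14, nat_lit 12, nat_lit 7, nat_lit 1], .rel (nat_lit 430) (nat_lit 4) [nat_lit 2, nat_lit 1, nat_lit 10, nat_lit 0, nat_lit 3, nat_lit 14, nat_lit 0, nat_lit 10, nat_lit 1], .rel (nat_lit 425) (nat_lit 7) [nat_lit 2, nat_lit 10, nat_lit 3, nat_lit 10, nat_lit 6, nat_lit 14, nat_lit 7], .rel (nat_lit 487) (nat_lit 2) [nat_lit 1, nat_lit 12, nat_lit 7, nat_lit 14, nat_lit 1, nat_lit 12, nat_lit 7, nat_lit 14, nat_lit 1, nat_lit 12, nat_lit 7, nat_lit 14, nat_lit 1, nat_lit 12, nat_lit 7, nat_lit 14, nat_lit 1, nat_lit 12, nat_lit 7, nat_lit 14, nat_lit 1, nat_lit 12, nat_lit 7, nat_lit 14, nat_lit 1, nat_lit 12, nat_lit 7], .rel (nat_lit 430) (nat_lit 0) [nat_lit 0, nat_lit 10, nat_lit 1, nat_lit 14, nat_lit 2, nat_lit 1, nat_lit 10, nat_lit 0, nat_lit 3], .rel (nat_lit 433) (nat_lit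 7) [nat_lit 1, nat_lit 14, nat_lit 0, nat_lit 2, nat_lit 4, nat_lit 3, nat_lit 5, nat_lit 14, nat_lit 0], .rel (nat_lit 434) (nat_lit 4) [nat_lit 3, nat_lit 10, nat_lit 1, nat_lit 5, nat_lit 10, nat_lit 1, nat_lit 14, nat_lit 0, nat_lit 6, nat_lit 1], .rel (nat_lit 460) (nat_lit 1) [nat_lit 12, nat_lit 4, nat_lit 14, nat_lit 12, nat_lit 4, nat_lit 14, nat_lit 12, nat_lit 4, nat_lit 14, nat_lit 12, nat_lit 4, nat_lit 14, nat_lit 12, nat_lit 4, nat_lit 14, nat_lit 12, nat_lit 4, nat_lit 14, nat_lit 12, nat_lit 4], .rel (nat_lit 464) (nat_lit 1) [nat_lit 12, nat_lit 6, nat_lit 14, nat_lit 12, nat_lit 6, nat_lit 14, nat_lit 12, nat_lit 6, nat_lit 14, nat_lit 12, nat_lit 6, nat_lit 14, nat_lit 12, nat_lit 6, nat_lit 14, nat_lit 12, nat_lit 6, nat_lit 14, nat_lit 12, nat_lit 6], .rel (nat_lit 465) (nat_lit 1) [nat_lit 7, nat_lit 12, nat_lit 14, nat_lit 7, nat_lit 12, nat_lit 14, nat_lit 7, nat_lit 12, nat_lit 14, nat_lit 7, nat_lit 12, nat_lit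 14, nat_lit 7, nat_lit 12, nat_lit 14, nat_lit 7, nat_lit 12, nat_lit 14, nat_lit 7, nat_lit 12], .rel (nat_lit 466) (nat_lit 2) [nat_lit 6, nat_lit 12, nat_lit 14, nat_lit 6, nat_lit 12, nat_lit 14, nat_lit 6, nat_lit 12, nat_lit 14, nat_lit 6, nat_lit 12, nat_lit 14, nat_lit 6, nat_lit 12, nat_lit 14, nat_lit 6, nat_lit 12, nat_lit 14, nat_lit 6, nat_lit 12], .rel (nat_lit 475) (nat_lit 1) [nat_lit 7, nat_lit 1, nat_lit 12, nat_lit 14, nat_lit 7, nat_lit 1, nat_lit 12, nat_lit 14, nat_lit 7, nat_lit 1, nat_lit 12, nat_lit 14, nat_lit 7, nat_lit 1, nat_lit 12, nat_lit 14, nat_lit 7, nat_lit 1, nat_lit 12, nat_lit 14, nat_lit 7, nat_lit 1, nat_lit 12, nat_lit 14, nat_lit 7, nat_lit 1, nat_lit 12], .rel (nat_lit 427) (nat_lit 3) [nat_lit 0, nat_lit 5, nat_lit 1, nat_lit 14, nat_lit 1, nat_lit 5, nat_lit 0], .rel (nat_lit 433) (nat_lit 9) [nat_lit 0, nat_lit 2, nat_lit 4, nat_lit 3, nat_lit 5, nat_lit 14, nat_lit 0, nat_lit 14, nat_lit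 1], .rel (nat_lit 435) (nat_lit 6) [nat_lit 0, nat_lit 7, nat_lit 1, nat_lit 14, nat_lit 0, nat_lit 10, nat_lit 4, nat_lit 0, nat_lit 10, nat_lit 2], .rel (nat_lit 478) (nat_lit 2) [nat_lit 12, nat_lit 0, nat_lit 7, nat_lit 14, nat_lit 12, nat_lit 0, nat_lit 7, nat_lit 14, nat_lit 12, nat_lit 0, nat_lit 7, nat_lit 14, nat_lit 12, nat_lit 0, nat_lit 7, nat_lit 14, nat_lit 12, nat_lit 0, nat_lit 7, nat_lit 14, nat_lit 12, nat_lit 0, nat_lit 7, nat_lit 14, nat_lit 12, nat_lit 0, nat_lit 7], .rel (nat_lit 485) (nat_lit 2) [nat_lit 1, nat_lit 12, nat_lit 4, nat_lit 14, nat_lit 1, nat_lit 12, nat_lit 4, nat_lit 14, nat_lit 1, nat_lit 12, nat_lit 4, nat_lit 14, nat_lit 1, nat_lit 12, nat_lit 4, nat_lit 14, nat_lit 1, nat_lit 12, nat_lit 4, nat_lit 14, nat_lit 1, nat_lit 12, nat_lit 4, nat_lit 14, nat_lit 1, nat_lit 12, nat_lit 4], .rel (nat_lit 489) (nat_lit 2) [nat_lit 1, nat_lit 12, nat_lit 6, nat_lit 14, nat_lit 1, nat_lit 12, nat_lit 6,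 nat_lit 14, nat_lit 1, nat_lit 12, nat_lit 6, nat_lit 14, nat_lit 1, nat_lit 12, nat_lit 6, nat_lit 14, nat_lit 1, nat_lit 12, nat_lit 6, nat_lit 14, nat_lit 1, nat_lit 12, nat_lit 6, nat_lit 14, nat_lit 1, nat_lit 12, nat_lit 6], .rel (nat_lit 503) (nat_lit 0) [nat_lit 12, nat_lit 10, nat_lit 7, nat_lit 14, nat_lit 12, nat_lit 10, nat_lit 7, nat_lit 14, nat_lit 12, nat_lit 10, nat_lit 7, nat_lit 14, nat_lit 12, nat_lit 10, nat_lit 7, nat_lit 14, nat_lit 12, nat_lit 10, nat_lit 7, nat_lit 14, nat_lit 12, nat_lit 10, nat_lit 7, nat_lit 14, nat_lit 12, nat_lit 10, nat_lit 7], .rel (nat_lit 433) (nat_lit 5) [nat_lit 0, nat_lit 14, nat_lit 1, nat_lit 14, nat_lit 0, nat_lit 2, nat_lit 4, nat_lit 3, nat_lit 5], .rel (nat_lit 446) (nat_lit 3) [nat_lit 5, nat_lit 2, nat_lit 14, nat_lit 12, nat_lit 14, nat_lit 5, nat_lit 2, nat_lit 14, nat_lit 12, nat_lit 14, nat_lit 5, nat_lit 2, nat_lit 14, nat_lit 12], .rel (nat_lit 447) (nat_lit 1) [nat_lit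 12, nat_lit 14, nat_lit 3, nat_lit 4, nat_lit 14, nat_lit 12, nat_lit 14, nat_lit 3, nat_lit 4, nat_lit 14, nat_lit 12, nat_lit 14, nat_lit 3, nat_lit 4], .rel (nat_lit 449) (nat_lit 1) [nat_lit 12, nat_lit 14, nat_lit 3, nat_lit 7, nat_lit 14, nat_lit 12, nat_lit 14, nat_lit 3, nat_lit 7, nat_lit 14, nat_lit 12, nat_lit 14, nat_lit 3, nat_lit 7], .rel (nat_lit 455) (nat_lit 2) [nat_lit 12, nat_lit 3, nat_lit 14, nat_lit 4, nat_lit 14, nat_lit 12, nat_lit 3, nat_lit 14, nat_lit 4, nat_lit 14, nat_lit 12, nat_lit 3, nat_lit 14, nat_lit 4], .rel (nat_lit 461) (nat_lit 1) [nat_lit 5, nat_lit 12, nat_lit 14, nat_lit 5, nat_lit 12, nat_lit 14, nat_lit 5, nat_lit 12, nat_lit 14, nat_lit 5, nat_lit 12, nat_lit 14, nat_lit 5, nat_lit 12, nat_lit 14, nat_lit 5, nat_lit 12, nat_lit 14, nat_lit 5, nat_lit 12], .rel (nat_lit 462) (nat_lit 2) [nat_lit 4, nat_lit 12, nat_lit 14, nat_lit 4, nat_lit 12, nat_lit 14, nat_lit 4, nat_lit 12, nat_lit 14,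 nat_lit 4, nat_lit 12, nat_lit 14, nat_lit 4, nat_lit 12, nat_lit 14, nat_lit 4, nat_lit 12, nat_lit 14, nat_lit 4, nat_lit 12], .rel (nat_lit 467) (nat_lit 0) [nat_lit 12, nat_lit 7, nat_lit 14, nat_lit 12, nat_lit 7, nat_lit 14, nat_lit 12, nat_lit 7, nat_lit 14, nat_lit 12, nat_lit 7, nat_lit 14, nat_lit 12, nat_lit 7, nat_lit 14, nat_lit 12, nat_lit 7, nat_lit 14, nat_lit 12, nat_lit 7], .rel (nat_lit 481) (nat_lit 0) [nat_lit 12, nat_lit 6, nat_lit 1, nat_lit 14, nat_lit 12, nat_lit 6, nat_lit 1, nat_lit 14, nat_lit 12, nat_lit 6, nat_lit 1, nat_lit 14, nat_lit 12, nat_lit 6, nat_lit 1, nat_lit 14, nat_lit 12, nat_lit 6, nat_lit 1, nat_lit 14, nat_lit 12, nat_lit 6, nat_lit 1, nat_lit 14, nat_lit 12, nat_lit 6, nat_lit 1], .rel (nat_lit 488) (nat_lit 1) [nat_lit 7, nat_lit 12, nat_lit 0, nat_lit 14, nat_lit 7, nat_lit 12, nat_lit 0, nat_lit 14, nat_lit 7, nat_lit 12, nat_lit 0, nat_lit 14, nat_lit 7, nat_lit 12, nat_lit 0, nat_lit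 14, nat_lit 7, nat_lit 12, nat_lit 0, nat_lit 14, nat_lit 7, nat_lit 12, nat_lit 0, nat_lit 14, nat_lit 7, nat_lit 12, nat_lit 0], .rel (nat_lit 490) (nat_lit 2) [nat_lit 12, nat_lit 4, nat_lit 10, nat_lit 14, nat_lit 12, nat_lit 4, nat_lit 10, nat_lit 14, nat_lit 12, nat_lit 4, nat_lit 10, nat_lit 14, nat_lit 12, nat_lit 4, nat_lit 10, nat_lit 14, nat_lit 12, nat_lit 4, nat_lit 10, nat_lit 14, nat_lit 12, nat_lit 4, nat_lit 10, nat_lit 14, nat_lit 12, nat_lit 4, nat_lit 10], .rel (nat_lit 495) (nat_lit 2) [nat_lit 5, nat_lit 12, nat_lit 10, nat_lit 14, nat_lit 5, nat_lit 12, nat_lit 10, nat_lit 14, nat_lit 5, nat_lit 12, nat_lit 10, nat_lit 14, nat_lit 5, nat_lit 12, nat_lit 10, nat_lit 14, nat_lit 5, nat_lit 12, nat_lit 10, nat_lit 14, nat_lit 5, nat_lit 12, nat_lit 10, nat_lit 14, nat_lit 5, nat_lit 12, nat_lit 10], .rel (nat_lit 500) (nat_lit 2) [nat_lit 12, nat_lit 6, nat_lit 10, nat_lit 14, nat_lit 12, nat_lit 6, nat_lit 10, nat_lit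 14, nat_lit 12, nat_lit 6, nat_lit 10, nat_lit 14, nat_lit 12, nat_lit 6, nat_lit 10, nat_lit 14, nat_lit 12, nat_lit 6, nat_lit 10, nat_lit 14, nat_lit 12, nat_lit 6, nat_lit 10, nat_lit 14, nat_lit 12, nat_lit 6, nat_lit 10], .rel (nat_lit 501) (nat_lit 1) [nat_lit 10, nat_lit 7, nat_lit 12, nat_lit 14, nat_lit 10, nat_lit 7, nat_lit 12, nat_lit 14, nat_lit 10, nat_lit 7, nat_lit 12, nat_lit 14, nat_lit 10, nat_lit 7, nat_lit 12, nat_lit 14, nat_lit 10, nat_lit 7, nat_lit 12, nat_lit 14, nat_lit 10, nat_lit 7, nat_lit 12, nat_lit 14, nat_lit 10, nat_lit 7, nat_lit 12], .rel (nat_lit 511) (nat_lit 1) [nat_lit 12, nat_lit 7, nat_lit 10, nat_lit 14, nat_lit 12, nat_lit 7, nat_lit 10, nat_lit 14, nat_lit 12, nat_lit 7, nat_lit 10, nat_lit 14, nat_lit 12, nat_lit 7, nat_lit 10, nat_lit 14, nat_lit 12, nat_lit 7, nat_lit 10, nat_lit 14, nat_lit 12, nat_lit 7, nat_lit 10, nat_lit 14, nat_lit 12, nat_lit 7, nat_lit 10], .rel (nat_lit 427)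 (nat_lit 7) [nat_lit 1, nat_lit 5, nat_lit 0, nat_lit 14, nat_lit 0, nat_lit 5, nat_lit 1], .rel (nat_lit 434) (nat_lit 0) [nat_lit 0, nat_lit 6, nat_lit 1, nat_lit 14, nat_lit 3, nat_lit 10, nat_lit 1, nat_lit 5, nat_lit 10, nat_lit 1], .rel (nat_lit 440) (nat_lit 1) [nat_lit 12, nat_lit 6, nat_lit 14, nat_lit 2, nat_lit 14, nat_lit 12, nat_lit 6, nat_lit 14, nat_lit 2, nat_lit 14, nat_lit 12, nat_lit 6, nat_lit 14, nat_lit 2], .rel (nat_lit 441) (nat_lit 3) [nat_lit 3, nat_lit 14, nat_lit 7, nat_lit 12, nat_lit 14, nat_lit 3, nat_lit 14, nat_lit 7, nat_lit 12, nat_lit 14, nat_lit 3, nat_lit 14, nat_lit 7, nat_lit 12], .rel (nat_lit 443) (nat_lit 3) [nat_lit 3, nat_lit 14, nat_lit 6, nat_lit 12, nat_lit 14, nat_lit 3, nat_lit 14, nat_lit 6, nat_lit 12, nat_lit 14, nat_lit 3, nat_lit 14, nat_lit 6, nat_lit 12], .rel (nat_lit 448) (nat_lit 3) [nat_lit 6, nat_lit 2, nat_lit 14, nat_lit 12, nat_lit 14, nat_lit 6, nat_lit 2, nat_lit 14,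 nat_lit 12, nat_lit 14, nat_lit 6, nat_lit 2, nat_lit 14, nat_lit 12], .rel (nat_lit 449) (nat_lit 3) [nat_lit 3, nat_lit 7, nat_lit 14, nat_lit 12, nat_lit 14, nat_lit 3, nat_lit 7, nat_lit 14, nat_lit 12, nat_lit 14, nat_lit 3, nat_lit 7, nat_lit 14, nat_lit 12], .rel (nat_lit 450) (nat_lit 1) [nat_lit 12, nat_lit 14, nat_lit 7, nat_lit 2, nat_lit 14, nat_lit 12, nat_lit 14, nat_lit 7, nat_lit 2, nat_lit 14, nat_lit 12, nat_lit 14, nat_lit 7, nat_lit 2], .rel (nat_lit 450) (nat_lit 3) [nat_lit 7, nat_lit 2, nat_lit 14, nat_lit 12, nat_lit 14, nat_lit 7, nat_lit 2, nat_lit 14, nat_lit 12, nat_lit 14, nat_lit 7, nat_lit 2, nat_lit 14, nat_lit 12], .rel (nat_lit 451) (nat_lit 1) [nat_lit 12, nat_lit 14, nat_lit 3, nat_lit 6, nat_lit 14, nat_lit 12, nat_lit 14, nat_lit 3, nat_lit 6, nat_lit 14, nat_lit 12, nat_lit 14, nat_lit 3, nat_lit 6], .rel (nat_lit 452) (nat_lit 2) [nat_lit 4, nat_lit 14, nat_lit 2, nat_lit 12, nat_lit 14, nat_lit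 4, nat_lit 14, nat_lit 2, nat_lit 12, nat_lit 14, nat_lit 4, nat_lit 14, nat_lit 2, nat_lit 12], .rel (nat_lit 453) (nat_lit 0) [nat_lit 5, nat_lit 14, nat_lit 12, nat_lit 3, nat_lit 14, nat_lit 5, nat_lit 14, nat_lit 12, nat_lit 3, nat_lit 14, nat_lit 5, nat_lit 14, nat_lit 12, nat_lit 3], .rel (nat_lit 453) (nat_lit 2) [nat_lit 12, nat_lit 3, nat_lit 14, nat_lit 5, nat_lit 14, nat_lit 12, nat_lit 3, nat_lit 14, nat_lit 5, nat_lit 14, nat_lit 12, nat_lit 3, nat_lit 14, nat_lit 5], .rel (nat_lit 456) (nat_lit 2) [nat_lit 6, nat_lit 14, nat_lit 2, nat_lit 12, nat_lit 14, nat_lit 6, nat_lit 14, nat_lit 2, nat_lit 12, nat_lit 14, nat_lit 6, nat_lit 14, nat_lit 2, nat_lit 12], .rel (nat_lit 459) (nat_lit 2) [nat_lit 12, nat_lit 3, nat_lit 14, nat_lit 6, nat_lit 14, nat_lit 12, nat_lit 3, nat_lit 14, nat_lit 6, nat_lit 14, nat_lit 12, nat_lit 3, nat_lit 14, nat_lit 6], .rel (nat_lit 472) (nat_lit 2) [nat_lit 12, nat_lit 0, nat_lit 5, nat_lit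 14, nat_lit 12, nat_lit 0, nat_lit 5, nat_lit 14, nat_lit 12, nat_lit 0, nat_lit 5, nat_lit 14, nat_lit 12, nat_lit 0, nat_lit 5, nat_lit 14, nat_lit 12, nat_lit 0, nat_lit 5, nat_lit 14, nat_lit 12, nat_lit 0, nat_lit 5, nat_lit 14, nat_lit 12, nat_lit 0, nat_lit 5], .rel (nat_lit 473) (nat_lit 1) [nat_lit 4, nat_lit 1, nat_lit 12, nat_lit 14, nat_lit 4, nat_lit 1, nat_lit 12, nat_lit 14, nat_lit 4, nat_lit 1, nat_lit 12, nat_lit 14, nat_lit 4, nat_lit 1, nat_lit 12, nat_lit 14, nat_lit 4, nat_lit 1, nat_lit 12, nat_lit 14, nat_lit 4, nat_lit 1, nat_lit 12, nat_lit 14, nat_lit 4, nat_lit 1, nat_lit 12], .rel (nat_lit 479) (nat_lit 1) [nat_lit 6, nat_lit 1, nat_lit 12, nat_lit 14, nat_lit 6, nat_lit 1, nat_lit 12, nat_lit 14, nat_lit 6, nat_lit 1, nat_lit 12, nat_lit 14, nat_lit 6, nat_lit 1, nat_lit 12, nat_lit 14, nat_lit 6, nat_lit 1, nat_lit 12, nat_lit 14, nat_lit 6, nat_lit 1, nat_lit 12, nat_lit 14, nat_lit 6, nat_lit 1, nat_lit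 12], .rel (nat_lit 493) (nat_lit 0) [nat_lit 12, nat_lit 10, nat_lit 5, nat_lit 14, nat_lit 12, nat_lit 10, nat_lit 5, nat_lit 14, nat_lit 12, nat_lit 10, nat_lit 5, nat_lit 14, nat_lit 12, nat_lit 10, nat_lit 5, nat_lit 14, nat_lit 12, nat_lit 10, nat_lit 5, nat_lit 14, nat_lit 12, nat_lit 10, nat_lit 5, nat_lit 14, nat_lit 12, nat_lit 10, nat_lit 5], .rel (nat_lit 499) (nat_lit 1) [nat_lit 12, nat_lit 5, nat_lit 10, nat_lit 14, nat_lit 12, nat_lit 5, nat_lit 10, nat_lit 14, nat_lit 12, nat_lit 5, nat_lit 10, nat_lit 14, nat_lit 12, nat_lit 5, nat_lit 10, nat_lit 14, nat_lit 12, nat_lit 5, nat_lit 10, nat_lit 14, nat_lit 12, nat_lit 5, nat_lit 10, nat_lit 14, nat_lit 12, nat_lit 5, nat_lit 10], .rel (nat_lit 505) (nat_lit 2) [nat_lit 7, nat_lit 12, nat_lit 10, nat_lit 14, nat_lit 7, nat_lit 12, nat_lit 10, nat_lit 14, nat_lit 7, nat_lit 12, nat_lit 10, nat_lit 14, nat_lit 7, nat_lit 12, nat_lit 10, nat_lit 14, nat_lit 7, nat_lit 12,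 nat_lit 10, nat_lit 14, nat_lit 7, nat_lit 12, nat_lit 10, nat_lit 14, nat_lit 7, nat_lit 12, nat_lit 10], .rel (nat_lit 506) (nat_lit 1) [nat_lit 12, nat_lit 10, nat_lit 6, nat_lit 14, nat_lit 12, nat_lit 10, nat_lit 6, nat_lit 14, nat_lit 12, nat_lit 10, nat_lit 6, nat_lit 14, nat_lit 12, nat_lit 10, nat_lit 6, nat_lit 14, nat_lit 12, nat_lit 10, nat_lit 6, nat_lit 14, nat_lit 12, nat_lit 10, nat_lit 6, nat_lit 14, nat_lit 12, nat_lit 10, nat_lit 6], .rel (nat_lit 507) (nat_lit 2) [nat_lit 7, nat_lit 10, nat_lit 12, nat_lit 14, nat_lit 7, nat_lit 10, nat_lit 12, nat_lit 14, nat_lit 7, nat_lit 10, nat_lit 12, nat_lit 14, nat_lit 7, nat_lit 10, nat_lit 12, nat_lit 14, nat_lit 7, nat_lit 10, nat_lit 12, nat_lit 14, nat_lit 7, nat_lit 10, nat_lit 12, nat_lit 14, nat_lit 7, nat_lit 10, nat_lit 12], .rel (nat_lit 509) (nat_lit 0) [nat_lit 10, nat_lit 12, nat_lit 7, nat_lit 14, nat_lit 10, nat_lit 12, nat_lit 7, nat_lit 14, nat_lit 10, nat_lit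 12, nat_lit 7, nat_lit 14, nat_lit 10, nat_lit 12, nat_lit 7, nat_lit 14, nat_lit 10, nat_lit 12, nat_lit 7, nat_lit 14, nat_lit 10, nat_lit 12, nat_lit 7, nat_lit 14, nat_lit 10, nat_lit 12, nat_lit 7], .rel (nat_lit 432) (nat_lit 4) [nat_lit 4, nat_lit 2, nat_lit 5, nat_lit 3, nat_lit 1, nat_lit 14, nat_lit 0, nat_lit 14, nat_lit 1], .rel (nat_lit 435) (nat_lit 10) [nat_lit 0, nat_lit 10, nat_lit 4, nat_lit 0, nat_lit 10, nat_lit 2, nat_lit 14, nat_lit 0, nat_lit 7, nat_lit 1], .rel (nat_lit 441) (nat_lit 0) [nat_lit 7, nat_lit 12, nat_lit 14, nat_lit 3, nat_lit 14, nat_lit 7, nat_lit 12, nat_lit 14, nat_lit 3, nat_lit 14, nat_lit 7, nat_lit 12, nat_lit 14, nat_lit 3], .rel (nat_lit 443) (nat_lit 0) [nat_lit 6, nat_lit 12, nat_lit 14, nat_lit 3, nat_lit 14, nat_lit 6, nat_lit 12, nat_lit 14, nat_lit 3, nat_lit 14, nat_lit 6, nat_lit 12, nat_lit 14, nat_lit 3], .rel (nat_lit 444) (nat_lit 1) [nat_lit 12, nat_lit 14, nat_lit 4, nat_lit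 2, nat_lit 14, nat_lit 12, nat_lit 14, nat_lit 4, nat_lit 2, nat_lit 14, nat_lit 12, nat_lit 14, nat_lit 4, nat_lit 2], .rel (nat_lit 444) (nat_lit 3) [nat_lit 4, nat_lit 2, nat_lit 14, nat_lit 12, nat_lit 14, nat_lit 4, nat_lit 2, nat_lit 14, nat_lit 12, nat_lit 14, nat_lit 4, nat_lit 2, nat_lit 14, nat_lit 12], .rel (nat_lit 445) (nat_lit 1) [nat_lit 12, nat_lit 14, nat_lit 3, nat_lit 5, nat_lit 14, nat_lit 12, nat_lit 14, nat_lit 3, nat_lit 5, nat_lit 14, nat_lit 12, nat_lit 14, nat_lit 3, nat_lit 5], .rel (nat_lit 451) (nat_lit 3) [nat_lit 3, nat_lit 6, nat_lit 14, nat_lit 12, nat_lit 14, nat_lit 3, nat_lit 6, nat_lit 14, nat_lit 12, nat_lit 14, nat_lit 3, nat_lit 6, nat_lit 14, nat_lit 12], .rel (nat_lit 454) (nat_lit 2) [nat_lit 5, nat_lit 14, nat_lit 2, nat_lit 12, nat_lit 14, nat_lit 5, nat_lit 14, nat_lit 2, nat_lit 12, nat_lit 14, nat_lit 5, nat_lit 14, nat_lit 2, nat_lit 12], .rel (nat_lit 455) (nat_lit 0) [nat_lit 4, nat_lit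 14, nat_lit 12, nat_lit 3, nat_lit 14, nat_lit 4, nat_lit 14, nat_lit 12, nat_lit 3, nat_lit 14, nat_lit 4, nat_lit 14, nat_lit 12, nat_lit 3], .rel (nat_lit 456) (nat_lit 4) [nat_lit 2, nat_lit 12, nat_lit 14, nat_lit 6, nat_lit 14, nat_lit 2, nat_lit 12, nat_lit 14, nat_lit 6, nat_lit 14, nat_lit 2, nat_lit 12, nat_lit 14, nat_lit 6], .rel (nat_lit 457) (nat_lit 0) [nat_lit 7, nat_lit 14, nat_lit 12, nat_lit 3, nat_lit 14, nat_lit 7, nat_lit 14, nat_lit 12, nat_lit 3, nat_lit 14, nat_lit 7, nat_lit 14, nat_lit 12, nat_lit 3], .rel (nat_lit 457) (nat_lit 2) [nat_lit 12, nat_lit 3, nat_lit 14, nat_lit 7, nat_lit 14, nat_lit 12, nat_lit 3, nat_lit 14, nat_lit 7, nat_lit 14, nat_lit 12, nat_lit 3, nat_lit 14, nat_lit 7], .rel (nat_lit 458) (nat_lit 2) [nat_lit 7, nat_lit 14, nat_lit 2, nat_lit 12, nat_lit 14, nat_lit 7, nat_lit 14, nat_lit 2, nat_lit 12, nat_lit 14, nat_lit 7, nat_lit 14, nat_lit 2, nat_lit 12], .rel (nat_lit 463) (nat_lit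 0) [nat_lit 12, nat_lit 5, nat_lit 14, nat_lit 12, nat_lit 5, nat_lit 14, nat_lit 12, nat_lit 5, nat_lit 14, nat_lit 12, nat_lit 5, nat_lit 14, nat_lit 12, nat_lit 5, nat_lit 14, nat_lit 12, nat_lit 5, nat_lit 14, nat_lit 12, nat_lit 5], .rel (nat_lit 468) (nat_lit 2) [nat_lit 12, nat_lit 0, nat_lit 4, nat_lit 14, nat_lit 12, nat_lit 0, nat_lit 4, nat_lit 14, nat_lit 12, nat_lit 0, nat_lit 4, nat_lit 14, nat_lit 12, nat_lit 0, nat_lit 4, nat_lit 14, nat_lit 12, nat_lit 0, nat_lit 4, nat_lit 14, nat_lit 12, nat_lit 0, nat_lit 4, nat_lit 14, nat_lit 12, nat_lit 0, nat_lit 4], .rel (nat_lit 469) (nat_lit 1) [nat_lit 5, nat_lit 1, nat_lit 12, nat_lit 14, nat_lit 5, nat_lit 1, nat_lit 12, nat_lit 14, nat_lit 5, nat_lit 1, nat_lit 12, nat_lit 14, nat_lit 5, nat_lit 1, nat_lit 12, nat_lit 14, nat_lit 5, nat_lit 1, nat_lit 12, nat_lit 14, nat_lit 5, nat_lit 1, nat_lit 12, nat_lit 14, nat_lit 5, nat_lit 1, nat_lit 12], .rel (nat_lit 471) (nat_lit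 0) [nat_lit 12, nat_lit 5, nat_lit 1, nat_lit 14, nat_lit 12, nat_lit 5, nat_lit 1, nat_lit 14, nat_lit 12, nat_lit 5, nat_lit 1, nat_lit 14, nat_lit 12, nat_lit 5, nat_lit 1, nat_lit 14, nat_lit 12, nat_lit 5, nat_lit 1, nat_lit 14, nat_lit 12, nat_lit 5, nat_lit 1, nat_lit 14, nat_lit 12, nat_lit 5, nat_lit 1], .rel (nat_lit 474) (nat_lit 2) [nat_lit 12, nat_lit 0, nat_lit 6, nat_lit 14, nat_lit 12, nat_lit 0, nat_lit 6, nat_lit 14, nat_lit 12, nat_lit 0, nat_lit 6, nat_lit 14, nat_lit 12, nat_lit 0, nat_lit 6, nat_lit 14, nat_lit 12, nat_lit 0, nat_lit 6, nat_lit 14, nat_lit 12, nat_lit 0, nat_lit 6, nat_lit 14, nat_lit 12, nat_lit 0, nat_lit 6], .rel (nat_lit 476) (nat_lit 3) [nat_lit 0, nat_lit 6, nat_lit 12, nat_lit 14, nat_lit 0, nat_lit 6, nat_lit 12, nat_lit 14, nat_lit 0, nat_lit 6, nat_lit 12, nat_lit 14, nat_lit 0, nat_lit 6, nat_lit 12, nat_lit 14, nat_lit 0, nat_lit 6, nat_lit 12, nat_lit 14, nat_lit 0, nat_lit 6, nat_lit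 12, nat_lit 14, nat_lit 0, nat_lit 6, nat_lit 12], .rel (nat_lit 480) (nat_lit 3) [nat_lit 0, nat_lit 7, nat_lit 12, nat_lit 14, nat_lit 0, nat_lit 7, nat_lit 12, nat_lit 14, nat_lit 0, nat_lit 7, nat_lit 12, nat_lit 14, nat_lit 0, nat_lit 7, nat_lit 12, nat_lit 14, nat_lit 0, nat_lit 7, nat_lit 12, nat_lit 14, nat_lit 0, nat_lit 7, nat_lit 12, nat_lit 14, nat_lit 0, nat_lit 7, nat_lit 12], .rel (nat_lit 482) (nat_lit 1) [nat_lit 4, nat_lit 12, nat_lit 0, nat_lit 14, nat_lit 4, nat_lit 12, nat_lit 0, nat_lit 14, nat_lit 4, nat_lit 12, nat_lit 0, nat_lit 14, nat_lit 4, nat_lit 12, nat_lit 0, nat_lit 14, nat_lit 4, nat_lit 12, nat_lit 0, nat_lit 14, nat_lit 4, nat_lit 12, nat_lit 0, nat_lit 14, nat_lit 4, nat_lit 12, nat_lit 0], .rel (nat_lit 483) (nat_lit 2) [nat_lit 1, nat_lit 12, nat_lit 5, nat_lit 14, nat_lit 1, nat_lit 12, nat_lit 5, nat_lit 14, nat_lit 1, nat_lit 12, nat_lit 5, nat_lit 14, nat_lit 1, nat_lit 12, nat_lit 5, nat_lit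 14, nat_lit 1, nat_lit 12, nat_lit 5, nat_lit 14, nat_lit 1, nat_lit 12, nat_lit 5, nat_lit 14, nat_lit 1, nat_lit 12, nat_lit 5], .rel (nat_lit 486) (nat_lit 1) [nat_lit 6, nat_lit 12, nat_lit 0, nat_lit 14, nat_lit 6, nat_lit 12, nat_lit 0, nat_lit 14, nat_lit 6, nat_lit 12, nat_lit 0, nat_lit 14, nat_lit 6, nat_lit 12, nat_lit 0, nat_lit 14, nat_lit 6, nat_lit 12, nat_lit 0, nat_lit 14, nat_lit 6, nat_lit 12, nat_lit 0, nat_lit 14, nat_lit 6, nat_lit 12, nat_lit 0], .rel (nat_lit 491) (nat_lit 1) [nat_lit 10, nat_lit 5, nat_lit 12, nat_lit 14, nat_lit 10, nat_lit 5, nat_lit 12, nat_lit 14, nat_lit 10, nat_lit 5, nat_lit 12, nat_lit 14, nat_lit 10, nat_lit 5, nat_lit 12, nat_lit 14, nat_lit 10, nat_lit 5, nat_lit 12, nat_lit 14, nat_lit 10, nat_lit 5, nat_lit 12, nat_lit 14, nat_lit 10, nat_lit 5, nat_lit 12], .rel (nat_lit 492) (nat_lit 3) [nat_lit 4, nat_lit 10, nat_lit 12, nat_lit 14, nat_lit 4, nat_lit 10, nat_lit 12, nat_lit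 14, nat_lit 4, nat_lit 10, nat_lit 12, nat_lit 14, nat_lit 4, nat_lit 10, nat_lit 12, nat_lit 14, nat_lit 4, nat_lit 10, nat_lit 12, nat_lit 14, nat_lit 4, nat_lit 10, nat_lit 12, nat_lit 14, nat_lit 4, nat_lit 10, nat_lit 12], .rel (nat_lit 494) (nat_lit 1) [nat_lit 10, nat_lit 12, nat_lit 4, nat_lit 14, nat_lit 10, nat_lit 12, nat_lit 4, nat_lit 14, nat_lit 10, nat_lit 12, nat_lit 4, nat_lit 14, nat_lit 10, nat_lit 12, nat_lit 4, nat_lit 14, nat_lit 10, nat_lit 12, nat_lit 4, nat_lit 14, nat_lit 10, nat_lit 12, nat_lit 4, nat_lit 14, nat_lit 10, nat_lit 12, nat_lit 4], .rel (nat_lit 496) (nat_lit 1) [nat_lit 12, nat_lit 10, nat_lit 4, nat_lit 14, nat_lit 12, nat_lit 10, nat_lit 4, nat_lit 14, nat_lit 12, nat_lit 10, nat_lit 4, nat_lit 14, nat_lit 12, nat_lit 10, nat_lit 4, nat_lit 14, nat_lit 12, nat_lit 10, nat_lit 4, nat_lit 14, nat_lit 12, nat_lit 10, nat_lit 4, nat_lit 14, nat_lit 12, nat_lit 10, nat_lit 4], .rel (nat_lit 502)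 (nat_lit 3) [nat_lit 6, nat_lit 10, nat_lit 12, nat_lit 14, nat_lit 6, nat_lit 10, nat_lit 12, nat_lit 14, nat_lit 6, nat_lit 10, nat_lit 12, nat_lit 14, nat_lit 6, nat_lit 10, nat_lit 12, nat_lit 14, nat_lit 6, nat_lit 10, nat_lit 12, nat_lit 14, nat_lit 6, nat_lit 10, nat_lit 12, nat_lit 14, nat_lit 6, nat_lit 10, nat_lit 12]]]
noncomputable def c8 : TCert2 := ⟨4060, 4060, 4268, 15, 8191, 65535, 1, T8, I8, D8, E8, J8, W8, [[nat_lit 0],
  [nat_lit 1],
  [nat_lit 2],
  [nat_lit 3],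
  [nat_lit 4],
  [nat_lit 5],
  [nat_lit 6],
  [nat_lit 7],
  [nat_lit 8],
  [nat_lit 9],
  [nat_lit 13],
  [nat_lit 12]], RL8⟩
noncomputable def T9d : List BT := [T9d0, T9d1, T9d2, T9d3, T9d4, T9d5, T9d6, T9d7, T9d8, T9d9, T9d10, T9d11, T9d12, T9d13, T9d14]
noncomputable def T9 (k u : ℕ) : ℕ := force (Nat.shiftRight u (nat_lit 7)) fun j => Nat.land (Nat.shiftRight ((nth (BT.leaf (nat_lit 0)) T9d k).get j) (Nat.mul (Nat.land u (nat_lit 127)) (nat_lit 26))) (nat_lit 67108863)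
noncomputable def I9d : List BT := [I9d0, I9d1, I9d2, I9d3, I9d4, I9d5, I9d6, I9d7, I9d8, I9d9, I9d10, I9d11, I9d12, I9d13, I9d14]
noncomputable def I9 (k u : ℕ) : ℕ := force (Nat.shiftRight u (nat_lit 8)) fun j => Nat.land (Nat.shiftRight ((nth (BT.leaf (nat_lit 0)) I9d k).get j) (Nat.mul (Nat.land u (nat_lit 255)) (nat_lit 9))) (nat_lit 511)
noncomputable def D9 (u : ℕ) : ℕ := force (Nat.shiftRight u (nat_lit 7)) fun j => Nat.land (Nat.shiftRight (D9d.get j) (Nat.mul (Nat.land u (nat_lit 127)) (nat_lit 24))) (nat_lit 16777215)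
noncomputable def E9td : BT := (.node (.node (.node (.node (.leaf (nat_lit 0x634c708fb18ed3e8be0cfb137469063a8f72ec03e8413cf73031618a325891edb70c6a4d9718ef61c6ea1a5235770042f198295a778736d962adb600812dc110c564cb5998e1bac3ec41f1a02edd64c6ac8fa240666cbbacfa109a63c84ecf7188862cb328f910cf3e4894cfa1b5d3b05640f822c93e0893db5207c3e85180e726d20083f55122869508a1bdd11cfa4f473b1d817bd38c6ae9dd21fa77487ecda249a3f0551cf812eb3e47b8dda205f3ec63d8e81e2e3e44364f915df7a46a9cf915e83bc4de5c6176f7276f5d951777718272d9917a87105e35d219656ec4571c5174271c2565c50a897145891bf16087184f6dd3171871c4f55c613f072024a1c7080e85c42ce1510b471c1a4001059877c1c7e1b01be8b406a230064171c2729c609b1794063de5020d78c11be2c065879c11d1e602307901b623103d19301711e7060187f6ee69c06e579018461a03678c81809e8034b8cc17d5e6023186817da3f02a390c0dfa3c02b49200bee4303458d80c1e4c04888bc14b64e049b9000fe64a01f292010ba4d03c08e40eba5504599800f32960157b300086ce002d)) (.leaf (nat_lit 0x23716bc88c96324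735d895869a237256c7b3ea425b28487fc218206a3147eb6be23a74fc90cc94216d30c8c3d9120db5fc7dc2991e8fc7486c5921eccfa09ca41327db72ca23d921f3055c80a7a61defb289631da22290687bb8881eb075479c19425556f091c58e1f6fc707fb8f01f26ed87bba87201c3d07b70851f882048ca9e0259739c7bc19b1eb05d0a8bf371ecfb807d17c41f4b8e47aa47d1fd8adc7dbdc31f61ac87ab4691f49d607cb56d1f89af87ba1751f0c1947d6d7d1f286d47c48101f850547cb9093aae1c47c47f9396a1a87ba1ac241c0f47d4b251ed2d04058e5b249e0a90ea8ba40aa2f903b84f1f93cf08056931f6824cfea8b21ee99ec7b6a0b3eeda147da0ca1edabbd104ed31f5ff2c7c505844ed7b51349f144ea2ec7ba06147ed5e87d3cf750d5c9c7c72811f50204a16772235b7307e3eac285fb9882a5a802a93207eaa1220e7458e89ae21f9ed8c80a1ae442a18506581e1f0f3e9494b8e44a9f312f3417462a189244e896112e7d45a6ad1f1a9ad4e4d7b44d5c69284ed21fe1d69734d4d44539c95656fb5dd363d6c4ed11f27ad97b5782))) (.leaf (nat_lit 0x608b47923652144d96dd73674b3e0be84f82fa23e4c13d6a3dcc5a0f734f813383e957d4fa55f65ad1a74e42da86248928e93ddb3e4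d8216b22e83e06230fa236e3e8f148db36c83955410f80e4141ce3a5032c48335176998388c5dd7ed504639d66ceb85044313338b4f10a2c0e448e9acd13a964754b81205eed3e077ecf8302c3d8c7f4eb236a3e923e54b57ee54d17a4f846b23e14fe0f853f93e4f66cf93d9c3e0f674f81e9f464f4fcfb18f23e06d80f349283e1249cf549263e12494faddb03cc916d3f480761156ad6b48d260956b563323849d1fd12755f03dd43397741b66117fc0f8323f3e544797fdd823e446ccfb18ee4d149d4f932163ed19c4f25cfd3e44064f65af562d1761ad59b44452a512a39634b56d491734d74c08851342cba470e981264e884b14df0e22d7f388b600f926cb3e48ff8f80e7b3e4697d3031813e87d3cf91ddc3b8f784ee3de03b8f778fa3ddd3b8f76cd744364791fbd7448d35d156a97648d55a8f754f5491e3e88ff9ba41a06296e34f84923590b8a4f725286210475ce490b3e04890f810d04611238f83b0d3e87ddcf9155c))) (.node (.leaf (nat_lit 0x4c532e5743410528cff5374b9a53c65f95949a34e134955d4bb949cfb65684b335c52c2d564b9c52cfe015c3ea059105f95933bb1fd0211843d07504c68d344188559284d4c19c155c5e9cf8259e3e1242cf831ca3e8924cf949246d0c5b5871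d313b8f770fc13723e107c8fa10d43dd1e7cfa0bff3e0f2c8db2e423e8b9fd631ed7494cc717f3ce466cf7599827e36451255ba31816a8cc10fb13413e463018736d86211a14f541f650481b5704765604be78ef42636b8756cf910a1608d2f59140bb5c8f144f8100e678bfa5af36986e0d941813e6139878b169dc98350f608f81a5c600c034e82e2e6b89aecfb0dbc364e5215630f7670e72d5b29714248c793135a661cb3118c271b6c8ddcd7338164ecdda9763a744a0b0051d2ba5608e70d672c023dc8d34f932033e4ec80fa1f7e6b4f0c0f90ff0678c791a53d9963d05ccf91d593e46ed1332c8c50cf261cddcae714ce49c5339372370cdce3f8270443c9c13e9e70cfbd5b817506d8ff0dc5dc9b714fa2dc717757144f41c509b97277275c5165d70843d9b233b8710d101c719a87182591b63f5e6f0ce11c53e9a)) (.leaf (nat_lit 0x3c19d34cc79cf2e579d52271b733caac8fb31f83d5c074eb24953acd8e0df7c233e4c0b4ab5b713c86ea8f87a443e16fa0c375a730dd6a0d17eda3c8c87cf96a953e57fb8f9de573e557d8f941f23e7721cf96aca3e59df8f9108d3e46ad4f93daa2dddbecfa13733e46a491b74053d8c140f96ac63e4c724f854d33bdaad8f73cae2d1c9648875b02a1c9a8f831e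b489d56cc26cbc3ec3790fb1c0b3ef6fb8fb133c3ec63bcfd18f03eced60fb3b592ddd888f91d143e0f600ec1c143e88da4f846b239d78991a6a373e5c1687c4b773dcc7d0cc646d28d96a4c8798e44d7ebcf62f7d3e44348f73b0b3e0ec28ea72e038ceef0ef2a153b8a940f93caf3e085f8f8321e3e4b810ef6e633952420f861493e0f200f910043e8d409066ea8349c6951b6609415bd50c43ac842dbce8e747623e4b8b0f869b53e1a6d8fa30713e89b2d713ddd5bcf778fa36993e05530e173433ad5120f86df53e1b7d175364f338baf0f7542e3e19a88d23dbf2cd7920d55aa33057850bf74a030547250674f569d47ad0177e22a97f21015b654494dc4f722ed3995738ca756c37095f0b67226)))) (.node (.node (.node (.leaf (nat_lit 0x7184ea9cadc2f6d05c65c533926f85e61c51452744d0e1c219b971c4ea1c633a46d0cee9c1115b65cdb5cee3d813e8d944ed3ddc3e86ded8b31bc610b5e9ba2d866a8f5e5bb31ea6f4b81cf91f783e4c908fc10d13e8c90cfb15e371c5770fa1eb33b8f210f911a75b4bef14537eb6507dd9a12e736a8578591259d694c011a4322b6846ab9a22a3765cb641cd30e7610e0d58239265f0d525aa2d8c6e4c5017f1e23714b670f82527718be01ad31bd3949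4b9b232043e856d1b52ee764cd6956c31eb3e84bd985300760cbf01b2306f3e8d40cee31ca6ccc788ef31cb3e4777cfb133c714c859bf30295f4c515a235633dc368986322a4dcb2b9b82cd4458aaadce2d135f07359452bf8464b49d11283e628a111d72bdb42cac698b2cc34c8d2799d29d9448b070cc2cd5710c5a5a52bdd4f89dc54a29d87505024f91a7e684c6fcf835013e86df8fa32475d0c0b8fa13703e49961d02d546e8ce0dc533b47184599c9dc316d46599b319b47105f71bb179f71c4585c63346720457dc013a47204569c31acb6e45e85c019bb70c4f69c213ef7146f158e259a3e4c889c22ed6)) (.leaf (nat_lit 0x11db5f07f6adc19db7d06f4ed817cee801d0da463b51718764c009d82202f577065da221734ed86cd7d702661ec08bb391af3d7891d1fd033520c88d1e522b23347bbd09010a4f808bea80190da483d3502272e087ab1562371e088fd1fe23f3a688fbf0823340b07ebf0d1e323fc8bb4c4))) (.leaf (nat_lit 0x3e51ef8b5478551d850d3e5c17470f3e8b63dd950dcd516b6b0750dcf80c0492144da9acb370583494db4ce6c243411268d76c9f471c0c91c48ce4798069496a271fd590c7c3fbe31481e4d96dde325235ce86df23e1a8f47c3f573a8f3e52943743a56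bf4a565af441198cf848d6418c7315e6aa23ed19c15cddd73e4c798f931e73e4c7a4f950ce3e4525ceb69c6395b3f0f913753e957e0fc0a4738d085923308e60d7444f741f13e557d0f91ab65acc888e76af339c3104e76af2364b81d57ddf635984c0d363d635cea4cda6cc74209550e865c33e0ec3148dda83e95704fa2dd43e435d1343ce43656e80f915e43e0c918f905eb3e0c914f932413e0c900df29fc5cda891753dc23e11ad565ddc72c5a24d0d5e8942190a4c56acd47196b97965c2451976ce7217b39c5f98fa1b5d3e04d24f822eb4a18380e51573395069cf6645e3e77778f955cd3e451e4f82e2d3e173dced36da3e957d1675c483a54920fa55f73e553d8f91c343e11ad0fa12fb3d1a1853c2ccd448b035272d56418e49d0053b33fd6cfd042ae141167a90c63564c18b150d5e5c4550a5d322cb3))) (.node (.leaf (nat_lit 0x56d4db92156233c8acb5141dc04dc9891163a6a495526d3b2cb055155192a4d2d435389d5157e45e95fe52b4e8745d5be1404c535353a9cf84ee94b1366d2e569e4a938652a4e1a4c0d05d234eea51133bd244e8a4d0c5117f3d5d3e87898fa3dc25c8b9fcfa32093e8c840fb0c94668f4b4ee3ddf3e86eb8fadd0a3e863bcf636093ec63c4fa2fec3e8434cfa47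c160d0ec4e754323e4c911951f725b4f96582311a6ccc8e591467b650cc897d3d3f398f6697e259b621501cf7425e3b8d83545355461152dcf931ee3e0da81ba34c15fcbe84f915586dcf204f92eea394968534324460cf26d8248683dc51698845cd74517c58c2b066a118916b3cc85b4b0296b383d57918e508229d4c484f18022a46751291453a765109c7d3c27a753ca47d5940274ac9e79a4454c5950cd18b2cc15a123a93639c24a4e6419a44173e4bf98f830107611784e436dc398f264e632024bce8f54330095e514892b4f8257934054b3fe2558670d5649c45412bed2e4e7d63133d18e4e9a46d35216119695813311634def59537b55e499454d2e49824c8f4912d95643fe1594d019693407)) (.leaf (nat_lit 0x1f5d0247c67a429e45991857da5bd606495611c31a6b9cd3a2481f93ab48231381ed2f847e58061f532f0ba8793339d2b8bc847a2ba61e4b99b4e1f93b2cc081592fdfdbcaa8e2325e528892686c2196d9892df7400cb2dc978ad9270e9788d93382c653ec938ad327e0198ee93aa25a4e60a18ef7365fc5496748c2796d689f662237a2d98846406246400ccd7ffc27d10bca980ee2514f489086082ba3a9c8b89092a9bc18fd726130228eca7799d21ceb78ab47532f0b4e4ba2d3a2ea2634a7898e2ae288ca98a242dd8414a76e422316da0b68e8c3f236848c2d3f2dd8e14a453d93d1faa8a66b812e19644a96cd332d4f08ad8a7e2e22894b66cd42c627dc9264cb2d9859cac7ed92b62b5ccc72652ad6d20eb42982e91934b762423660ee4ce846d2dd7bb0e0724437e02b4e180ae3c206cca682732bde0dcc086bf1e8eb94b686c5289b36cbd65201f938d091640927dc6a48f80b33317cf0b03acf42d92c9098072391c8f505462d1f53540b953e23f57c3ce07b41369c6b0dc71032ed93151574ec2aa0f68b85b6430e0910b5808143a0ef8cd5f8b2e1e6192153bd)))))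
noncomputable def E9t (u : ℕ) : ℕ := force (Nat.shiftRight u (nat_lit 7)) fun j => Nat.land (Nat.shiftRight (E9td.get j) (Nat.mul (Nat.land u (nat_lit 127)) (nat_lit 26))) (nat_lit 67108863)
noncomputable def J9td : BT := (.node (.node (.node (.leaf (nat_lit 0xd09b00c00b0ea00419908900e00d00b02b10c00900000700c13714612828501f04c00a00600500000c04700100c00710916704a2591250650471160923ac1570ba06e03b0200770ba12109200221404700a11600c0b003b07a00c2d50e90040090570e304800c00a02700128d03b00c0a106709007a01e2f46c0065083047a1807cf7b0200272261733b60621891a90a800906700800700004000a00a02600500200d00a00c0ea00d08900e00d00e00e00e00408908900700700416700923108000100a00c09f00900700616703b1600da13730200e0b31e403b05906e02b03b00a00403b00c11600c18100a64f00c00700500100c00002100a00a0054d104706505907300667262800a0020020050ba00c00a00e00c1b100700a00d00729f0020bf00d2bd00500d00000200d0070012cc00400600e00120e05a00100b0250084af34200100700c00c00700000900a00155f1730081291c700000c14600110a00a00a455275a5602022503b18e11707a2791280161f30dd086181df306803b))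 (.leaf (nat_lit 0x1b40462220a205700510c0b300300e10c01602c00500e0591310431525e307700c00200d05cb720ef0b70fe00d18d0e009416a00e08a1750b711502c00c0280034370001310f20c400702000500cc7100c022115139006007aca1750a800d00d00100707300100a00800000000a00c03a13900d00d32600c00a00c00700c00400100800c00200c00100c00600500c00c00a28a0000810070b700100900b0f939502805900600200c02c00800e23200700402100000920d0c136000809200c20d0070090071310060530450012c149e02902000603802100702920d1a70630af09209200021417369f00a0b00c10471781280070e9))) (.leaf (nat_lit 0xa10d06d06d0801a30470921532d004732c0611e50bd0f811525810812800400920d07704223b04700818f4d18a12581f91a710814600905300400500200300a03703700700d0030370651e400700200c10a00d00c00b02a04504609f1e90670830940081560050050060da03700700d00600b00a00402455f3bc0090450291730e00391462711e300600700a00200c4c100c02e00900200400000000c00300317307500b00500600800100802b18e02b22513e0320800440eb02b04f0f401e1163a115302b00800900a1ef05a00100500412900609202a00e09200a00800800a00a00a0da0eb0af0270af2310fa0dd37dd7d12510607c0b300c00a00a00c00c1430fe00e00800900500400a00109e00600100d00b0050040062222d502902903355704733200209209200e00620d00900013900800807500c06517107a28a1e90654d117223e14827114900800900a00e00600c21700200a00d00b0040020030481750220222141250260010920920030920060dd13700c00002800900000a)))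 (.node (.leaf (nat_lit 0x1e90fe19e0830731e90282682260da11706501f23e10a0d01e90542680731d616c0470da0210d009f06700e0080de00600700a13600800c00000c00a00700600c00116704600811606e0be1e42680470be00145009200600a14921400700701f07a00a07a00022204510a14800113709003301f0a10e658e06702212b04702b0e604a049261020f5e0771352a31670be2580d700a00c02704800c0001811720200bf0621811810e51720650ae05a10a0c40bc118ca80681481092ea10d08102107328a03b12b1f602c12f00a0471810201811720052c217200504710909f12b0b317100e00800900000413623100200400a00a0070070060460091fa0670fd13606e03b20b07700a00a0721c800a12b2142a40050c30010e918102200007a03b1670ef00805307500c1e208702c00c17312703f12c0831670e604a13925906805507706d04a04a00a00100a00c18100c0fd0fd1f800500770a18100a00800900a06b00b0ea00702c05900800900500200300300100b0ea00700400e04a1b5002)) (.leaf (nat_lit 0x80010950f8016006352064008bba0050090070281493d20530be009344a270db16b06818403800931c0471670c206e1580c412b2790670380ce1f61e80683501b70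a41400f31080220650b30361a608226c0ce1c804211314c1e605a25910c1498f71101b210902c0200045390382d803808a19901e0a402b44823104005910812502938f02018e1e20230380271250272147e14d102814600510732a1b208609209f0b00eb12800819d1420b823104715b15302011707c1461090290ef13702b04508242207200002b04622204800502600c00b00a6fa38452d03900b00800600700400500200400000300001600400c09f00000500200808200902b03b19300813707a00600700400500349100000126600c00400000000304641c00b00a00852d0200821ac00a00500000309f00623200900200a00100009102e00b00a0070084c10292580da03821402a00200800900700619804000200132a02400d00b0f90480090090752770b509e0db0941b61462310eb52d09f00c00c0380397b3))))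
noncomputable def J9t (u : ℕ) : ℕ := force (Nat.shiftRight u (nat_lit 8)) fun j => Nat.land (Nat.shiftRight (J9td.get j) (Nat.mul (Nat.land u (nat_lit 255)) (nat_lit 12))) (nat_lit 4095)
noncomputable def W9td : BT := (.node (.node (.node (.leaf (nat_lit 0xdca5dc2f1719339217981452343819b9dcaf33a4dc9b115bdc993d81dc97dd071b7bdc942d7adc923d7931eadc8fdc8edc8ddc8c324315e315dc1eb3df0ddc86dc8537eb1f76dc82dc81259ddc7fdc7edc7d2a37dc7bdc7a383539263549dc763140dc74dc73dc722f8031bd252e320415b42ee7dc6b31eb12f6dc682fc0306fdc65dc64dc6331cb1ddfdc603216dc5edc5d35630da2dc5a2cae2cd4dc572d131cd6dc542d27dc52dc51dc502b1a2cc3dc4ddc4c2c1cdc4adc49dc48277129d814091a7e31bfdc42dc413247dc3f1370dc3ddc3cdc3bdc3adc39dc38196619b417dc179fdcbb3346dc3813a4dca4dc2e17a119bb13da13efdc29dc28dc272ed6dc25dc242f831374dc212ec0dc1f303128c91edb1a93dc1adc19dc1810bcdc16dc152adbdc1310c52d661bacdc0f2edd1ab2dc0c2eeb109a213bdc082cca10cf2253dc04dc0322c9dc01dc00dbff26d2dbfd2869dbfbdbfa1cecdbf81abadbf6dbf5249adbf3dbf21ee3dbf0dbef1e2edbed15dfdbeb15e81379dbe8dbe7dbe6dbe517a8178d1965dbe1dbe0dbdfdbde1624dbdc13dbdbdadbd913f0dbe7dbd610b310b4dbd3dbd2071fdbd001a8dbcedbcddbcc018f020d046fdbc8dbc7023006d803d1dbc30601dbb906e5dbbf0367dbbd034bdbbbdbbadbb9dbb8037edbb602fbdbb40307dbb2dbb1dbb003f9dbaedbaddbac03ae0459dba90157dba7002d))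 (.leaf (nat_lit 0xdb5fdab7db7de045e044e043b517d930e040d5dcda22d3b6e03c987bbb39cf5ee038e037d1e5e035e034e033bea8e031d350cb82e02ee02dd1fee02bbf08d02cbf0dc8ffe026e025e024e023e022e0213ea4e01fc218a8c5b6be9d3fcc94e0193d916d7fe0163f1de01433e8e012e0113d92e00fe00ee00d31dae00be00ae009c19455bcc58ebf1ce004e003e00270f4e0002081a9e05ce7dffcdffbdffa3ee0dff82e39dff662b7bdc386b2dff22758dff0dfefdfee30656d7ddfeb4810dfe9dfe8dfe7dfe6a86adfe4703ddfe24b418e5bdfdfa8badfddb84f4f3cdfdaa093a8b2dfd76a0bdfd5a0ca6aefdfd27fcbdfd0dfcfdfcea8bbdfccb57a3cf7dfc9dfc8dfc767726dccdfc47ee6dfc2dfc1aa129d16dfbedfbda1aea861dfba3cfadfb8dfb73417a8624e89dfb3a6addfb1dfb0571adfaedfaddfac4e72dfaadfa94ed1dfa75782))) (.leaf (nat_lit 0xdea5dea461435c173cfa3dd97354de9e73e0de9cde9b7058536dde98449ade96de9548ce601ade92de913fbe20796ddede8dde8c6a3d3f573cf94374de87de86de85de84de836aa2de81de8031e631e731e950cede7b69c66cfcde78de77de764216de74de73de72de711ab6de6fde6ede6dde6cde6bddf6de69de68de67d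e66de6565c33b0cdda8de61de60de5fde5e5ba0de5cde5bde5ade593241de5729fc6a24de54de53ddc768935e896429de4ede4dde4cde4b217b17e6de48de4722eb60e0157341a7645ede4155cd1479de3ede3d36dade3b5c485248de38de37de36de35de34de332ccdde31de30de2f53b3de2d2ae159ea635662c55e5c42972cb32d1e652165b7674bde21de20de1fde1e3dcdde1cde1bde1a469dde18de17de16de1522e8de13de12de11de10de0fde0ede0d2c4845da388cde09639dde0743132d3cde043a6b3a96de015eed1dfbddfeddfd236a48f957eeddf946b253f853f9ddf5ddf4ddf31e9fddf1ddf01b60ddeedded49264925ddb0245b4807dde7dde655addde4dde355f0dde141b6dddfde41dddddd82dddbdddaddd9ddd8de805cfd1019ddd445d8ddd2ddd1ddd05b5234d7ddcdddcc3a60ddcaddc92d7f2d80ddc6ddc5ddc41a5f3181ddc1ddc0ddbfddbeddbd3dddddbbddbaddb948d355aa48d53dd5491eddb341a0ddb1ddea2e29ddae411dddac1224ddaadda93b0ddda7dda6))) (.node (.leaf (nat_lit 0x536e5623dda3dda2dda13a6a549bdd9e5546dd9cdd9bdd9a57f9dd9856f8dd96dd954ee94d9b569e4e194e1a34174eeadd8d4e8add8bdd8a1e263dc22e7f32093210dd84dd83dd821b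aedd0a18ef3609dd7d2fec10d347c143b1543232441f72dd75dd74dd73467bdd713d3fdd6fdd6edd6ddd6cdd6bdd6a54b7dd6836a034c12fa1dd643c81dd6225a13244dd5f4868dd5ddd5c45f1dd5add593cc8dd57383ddd55229ddd53dd5244a43a76dd4fdd4edd4ddd4c279e454cdd492cc1dd47dd46dd4544172fe6dd42dd41dd403c993202dd3ddd3c4522dd3a4d01dd38dd37dd36dd35dd344cf4dd324d481969dd2f4def4deddd2cdd2bdd2add29dd28340634074cb93410dd23dd22dd21dd20dd1f4bb93ed9dd1c4b0bdd1add193ea0417edd1640843d07dd13dd124a13dd1017a7259e490b31cadd0b4924dd091d31dd07dd06dd05dd04479fdd023cb22e42dcffdcfe331c3ce43dd627e34495dcf8dcf7dcf6dcf5dcf4dcf3dcf2dcf14765dcef4263dceddcecdceb40bb3c51dce82fe9369836503e61dce3dc983d821a5cdcdf2e2edcdd0dbc3948dcdadcd9dcd8dcd7dcd62cc4dcd4dcd3dcd2dcd1dcd0dccfdcce39c32c02dccbdcca3b20dcc83c300ff031e43d99dcc31d591bb4dcc0dcbfdcae33923393dcbb3f8210f23e9edcb7dcb63fc3dc9b3e8bdcb213d009b9dcaf165d10f633b8dcabdcaa09643f5e3384dca6)) (.leaf (nat_lit 0xdfa5dfa49166dfa2dfa1611cdf9fa2484ead31384be1580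6df99df98df97847a98799b4e4ecbdf927f6fdf90df8fdf8edf8ddf74df8b8ad93a5e9338df87df86df85df849398df827f15748c5b5adf7e8b66df7c9003df7adf79df78df778608df75df746f06df728a3bdf703ade4753df6d2d3a898d898e8a238a24df67df665b688e8cdf632d3fdf6153d9df5fdf5edf5ddf5cdf5b8a7e8a256cd4df57df566167df548ad7df525b484298df4f624283b9df4cdf4bdf4a80addf48df478273df45df44df4386c5df416520df3fdf3e71a980b3df3bdf3a64b28072df37462d4d50df345f0f7b4171acdf30df2fdf2edf2d5b64df2bdf2a83bedf287986df26df25df245e7571b72ab2df20701d24953638df1c302ddf1a1baadf18df1775a775a8df14321f6a955feede57de1a41f2dc876acadf0b108ddf09df0876fbdf061a92df043050df0231c9df00deffdefedefddefcdefbdefa755bdef8def7def6def5def4def318f0def1def0deef1d14deeddeecdeebdeea5e266a37dee74b77dee5646d65a9798e5fafdee0dedfdedededddedcdedb2a15ded93cafded7ded6ded56e63ded3ded2ded1ded0decf6ea871a5decc6f54deca6f3adec8dec769b569b6dec4dec33ddd3ddedec0154c73435448debcdebbdebadeb9deb8deb73dbf5e485aa35e1474a0deb174f551eb77e2deaddeac537122ed55cedea8dea7dea6))))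
noncomputable def W9t (u : ℕ) : ℕ := force (Nat.shiftRight u (nat_lit 8)) fun j => Nat.land (Nat.shiftRight (W9td.get j) (Nat.mul (Nat.land u (nat_lit 255)) (nat_lit 16))) (nat_lit 65535)
@[irreducible] noncomputable def E9 (a : ℕ) : ℕ := force (Nat.sub a (nat_lit 56230)) E9t
@[irreducible] noncomputable def J9 (a : ℕ) : ℕ := force (Nat.sub a (nat_lit 56230)) J9t
@[irreducible] noncomputable def W9 (a : ℕ) : ℕ := force (Nat.sub a (nat_lit 56230)) W9t
noncomputable def RL9 : List (List Rule) := [[.rel (nat_lit 0) (nat_lit 0) [nat_lit 1], .defn, .rel (nat_lit 278) (nat_lit 0) [nat_lit 8, nat_lit 1, nat_lit 4, nat_lit 4, nat_lit 9], .rel (nat_lit 336) (nat_lit 1) [nat_lit 13, nat_lit 4, nat_lit 4, nat_lit 13, nat_lit 0], .rel (nat_lit 40) (nat_lit 1) [nat_lit 6, nat_lit 0, nat_lit 0, nat_lit 7, nat_lit 0], .rel (nat_lit 339) (nat_lit 1) [nat_lit 6, nat_lit 9, nat_lit 7, nat_lit 1, nat_lit 8], .rel (nat_lit 30) (nat_lit 0) [nat_lit 0, nat_lit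 0, nat_lit 0], .rel (nat_lit 42) (nat_lit 0) [nat_lit 2, nat_lit 4, nat_lit 1, nat_lit 2, nat_lit 4], .rel (nat_lit 44) (nat_lit 4) [nat_lit 6, nat_lit 0, nat_lit 2, nat_lit 7, nat_lit 2], .rel (nat_lit 388) (nat_lit 0) [nat_lit 12, nat_lit 10, nat_lit 0, nat_lit 12, nat_lit 10], .rel (nat_lit 43) (nat_lit 2) [nat_lit 5, nat_lit 3, nat_lit 1, nat_lit 5, nat_lit 3], .rel (nat_lit 324) (nat_lit 1) [nat_lit 11, nat_lit 2, nat_lit 9, nat_lit 2, nat_lit 10, nat_lit 0, nat_lit 11], .rel (nat_lit 296) (nat_lit 0) [nat_lit 6, nat_lit 0, nat_lit 10, nat_lit 6, nat_lit 10], .rel (nat_lit 279) (nat_lit 3) [nat_lit 9, nat_lit 1, nat_lit 8, nat_lit 5, nat_lit 5], .rel (nat_lit 371) (nat_lit 3) [nat_lit 12, nat_lit 3, nat_lit 1, nat_lit 7, nat_lit 4, nat_lit 12], .rel (nat_lit 40) (nat_lit 3) [nat_lit 0, nat_lit 7, nat_lit 0, nat_lit 0, nat_lit 6], .rel (nat_lit 336) (nat_lit 0) [nat_lit 0, nat_lit 13, nat_lit 4, nat_lit 4, nat_lit 13], .rel (nat_lit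 40) (nat_lit 0) [nat_lit 0, nat_lit 6, nat_lit 0, nat_lit 0, nat_lit 7], .rel (nat_lit 368) (nat_lit 0) [nat_lit 12, nat_lit 7, nat_lit 12, nat_lit 4, nat_lit 2], .rel (nat_lit 40) (nat_lit 4) [nat_lit 7, nat_lit 0, nat_lit 0, nat_lit 6, nat_lit 0], .rel (nat_lit 338) (nat_lit 0) [nat_lit 6, nat_lit 8, nat_lit 7, nat_lit 1, nat_lit 9], .rel (nat_lit 46) (nat_lit 0) [nat_lit 3, nat_lit 6, nat_lit 3, nat_lit 0, nat_lit 7], .rel (nat_lit 46) (nat_lit 4) [nat_lit 7, nat_lit 0, nat_lit 3, nat_lit 6, nat_lit 3], .rel (nat_lit 44) (nat_lit 0) [nat_lit 2, nat_lit 7, nat_lit 2, nat_lit 0, nat_lit 6], .rel (nat_lit 296) (nat_lit 2) [nat_lit 10, nat_lit 6, nat_lit 10, nat_lit 0, nat_lit 6], .rel (nat_lit 298) (nat_lit 3) [nat_lit 10, nat_lit 5, nat_lit 7, nat_lit 0, nat_lit 2, nat_lit 10], .rel (nat_lit 49) (nat_lit 2) [nat_lit 7, nat_lit 7, nat_lit 1, nat_lit 7, nat_lit 7], .rel (nat_lit 276) (nat_lit 0) [nat_lit 3, nat_lit 8, nat_lit 8, nat_lit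 5, nat_lit 6], .rel (nat_lit 281) (nat_lit 3) [nat_lit 9, nat_lit 1, nat_lit 7, nat_lit 8, nat_lit 7], .rel (nat_lit 48) (nat_lit 0) [nat_lit 6, nat_lit 6, nat_lit 1, nat_lit 6, nat_lit 6], .rel (nat_lit 280) (nat_lit 0) [nat_lit 8, nat_lit 1, nat_lit 6, nat_lit 9, nat_lit 6], .rel (nat_lit 394) (nat_lit 2) [nat_lit 11, nat_lit 12, nat_lit 3, nat_lit 8, nat_lit 3, nat_lit 10, nat_lit 12, nat_lit 11], .rel (nat_lit 422) (nat_lit 1) [nat_lit 3, nat_lit 14, nat_lit 4, nat_lit 14, nat_lit 5, nat_lit 0], .rel (nat_lit 348) (nat_lit 0) [nat_lit 11, nat_lit 10, nat_lit 4, nat_lit 9, nat_lit 11, nat_lit 3], .rel (nat_lit 372) (nat_lit 0) [nat_lit 12, nat_lit 2, nat_lit 2, nat_lit 8, nat_lit 8, nat_lit 12], .rel (nat_lit 366) (nat_lit 3) [nat_lit 9, nat_lit 4, nat_lit 7, nat_lit 1, nat_lit 14, nat_lit 13, nat_lit 11], .rel (nat_lit 432) (nat_lit 1) [nat_lit 14, nat_lit 1, nat_lit 14, nat_lit 4, nat_lit 2, nat_lit 5, nat_lit 3, nat_lit 1, nat_lit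 14], .rel (nat_lit 282) (nat_lit 0) [nat_lit 2, nat_lit 4, nat_lit 8, nat_lit 5, nat_lit 2, nat_lit 8], .rel (nat_lit 312) (nat_lit 0) [nat_lit 8, nat_lit 10, nat_lit 9, nat_lit 4, nat_lit 2, nat_lit 10], .rel (nat_lit 356) (nat_lit 1) [nat_lit 13, nat_lit 8, nat_lit 13, nat_lit 3, nat_lit 9, nat_lit 6, nat_lit 5, nat_lit 13], .rel (nat_lit 367) (nat_lit 0) [nat_lit 6, nat_lit 5, nat_lit 8, nat_lit 1, nat_lit 11, nat_lit 13, nat_lit 14], .rel (nat_lit 346) (nat_lit 0) [nat_lit 13, nat_lit 7, nat_lit 13, nat_lit 8, nat_lit 3, nat_lit 8], .rel (nat_lit 380) (nat_lit 2) [nat_lit 3, nat_lit 12, nat_lit 2, nat_lit 5, nat_lit 7, nat_lit 12, nat_lit 2], .rel (nat_lit 284) (nat_lit 0) [nat_lit 2, nat_lit 5, nat_lit 9, nat_lit 3, nat_lit 5, nat_lit 9], .rel (nat_lit 353) (nat_lit 0) [nat_lit 11, nat_lit 9, nat_lit 6, nat_lit 11, nat_lit 6, nat_lit 13, nat_lit 10, nat_lit 13], .rel (nat_lit 327) (nat_lit 0) [nat_lit 2, nat_lit 1, nat_lit 3, nat_lit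 5, nat_lit 11, nat_lit 3, nat_lit 11], .rel (nat_lit 422) (nat_lit 0) [nat_lit 0, nat_lit 3, nat_lit 14, nat_lit 4, nat_lit 14, nat_lit 5], .rel (nat_lit 426) (nat_lit 1) [nat_lit 4, nat_lit 1, nat_lit 14, nat_lit 1, nat_lit 4, nat_lit 0, nat_lit 14], .rel (nat_lit 324) (nat_lit 7) [nat_lit 11, nat_lit 0, nat_lit 11, nat_lit 2, nat_lit 9, nat_lit 2, nat_lit 10], .rel (nat_lit 377) (nat_lit 2) [nat_lit 5, nat_lit 12, nat_lit 2, nat_lit 5, nat_lit 12, nat_lit 0, nat_lit 3], .rel (nat_lit 427) (nat_lit 4) [nat_lit 5, nat_lit 1, nat_lit 14, nat_lit 1, nat_lit 5, nat_lit 0, nat_lit 14], .rel (nat_lit 331) (nat_lit 0) [nat_lit 8, nat_lit 2, nat_lit 10, nat_lit 9, nat_lit 3, nat_lit 10, nat_lit 11, nat_lit 7, nat_lit 11], .rel (nat_lit 63) (nat_lit 1) [nat_lit 3, nat_lit 5, nat_lit 1, nat_lit 3, nat_lit 1, nat_lit 1, nat_lit 5], .rel (nat_lit 71) (nat_lit 4) [nat_lit 3, nat_lit 1, nat_lit 1, nat_lit 5, nat_lit 1, nat_lit 3, nat_lit 5], .rel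 (nat_lit 433) (nat_lit 0) [nat_lit 2, nat_lit 4, nat_lit 3, nat_lit 5, nat_lit 14, nat_lit 0, nat_lit 14, nat_lit 1, nat_lit 14], .rel (nat_lit 60) (nat_lit 3) [nat_lit 3, nat_lit 4, nat_lit 1, nat_lit 5, nat_lit 0, nat_lit 0, nat_lit 2], .rel (nat_lit 62) (nat_lit 3) [nat_lit 4, nat_lit 2, nat_lit 1, nat_lit 4, nat_lit 0, nat_lit 0, nat_lit 2], .rel (nat_lit 74) (nat_lit 1) [nat_lit 2, nat_lit 2, nat_lit 0, nat_lit 0, nat_lit 3, nat_lit 3, nat_lit 0], .rel (nat_lit 362) (nat_lit 1) [nat_lit 11, nat_lit 1, nat_lit 13, nat_lit 11, nat_lit 10, nat_lit 2, nat_lit 8, nat_lit 6, nat_lit 13], .rel (nat_lit 409) (nat_lit 1) [nat_lit 11, nat_lit 7, nat_lit 12, nat_lit 11, nat_lit 12, nat_lit 3, nat_lit 12, nat_lit 11, nat_lit 12, nat_lit 5], .rel (nat_lit 74) (nat_lit 5) [nat_lit 3, nat_lit 3, nat_lit 0, nat_lit 0, nat_lit 2, nat_lit 2, nat_lit 0], .rel (nat_lit 124) (nat_lit 5) [nat_lit 5, nat_lit 5, nat_lit 0, nat_lit 0, nat_lit 4, nat_lit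 4, nat_lit 0], .rel (nat_lit 426) (nat_lit 7) [nat_lit 14, nat_lit 0, nat_lit 4, nat_lit 1, nat_lit 14, nat_lit 1, nat_lit 4], .rel (nat_lit 427) (nat_lit 2) [nat_lit 14, nat_lit 0, nat_lit 5, nat_lit 1, nat_lit 14, nat_lit 1, nat_lit 5], .rel (nat_lit 61) (nat_lit 1) [nat_lit 5, nat_lit 2, nat_lit 1, nat_lit 3, nat_lit 1, nat_lit 1, nat_lit 4], .rel (nat_lit 69) (nat_lit 4) [nat_lit 3, nat_lit 1, nat_lit 1, nat_lit 4, nat_lit 1, nat_lit 5, nat_lit 2], .rel (nat_lit 351) (nat_lit 0) [nat_lit 3, nat_lit 9, nat_lit 5, nat_lit 9, nat_lit 13, nat_lit 3, nat_lit 13], .rel (nat_lit 354) (nat_lit 1) [nat_lit 2, nat_lit 1, nat_lit 13, nat_lit 8, nat_lit 5, nat_lit 2, nat_lit 9, nat_lit 13], .rel (nat_lit 355) (nat_lit 5) [nat_lit 3, nat_lit 1, nat_lit 13, nat_lit 8, nat_lit 3, nat_lit 4, nat_lit 9, nat_lit 13], .rel (nat_lit 103) (nat_lit 1) [nat_lit 4, nat_lit 3, nat_lit 0, nat_lit 2, nat_lit 1, nat_lit 1, nat_lit 5], .rel (nat_lit 134) (nat_lit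 1) [nat_lit 5, nat_lit 1, nat_lit 7, nat_lit 0, nat_lit 7, nat_lit 4, nat_lit 0], .rel (nat_lit 170) (nat_lit 6) [nat_lit 5, nat_lit 0, nat_lit 2, nat_lit 1, nat_lit 5, nat_lit 1, nat_lit 2], .rel (nat_lit 298) (nat_lit 0) [nat_lit 2, nat_lit 10, nat_lit 0, nat_lit 10, nat_lit 5, nat_lit 7], .rel (nat_lit 361) (nat_lit 6) [nat_lit 10, nat_lit 1, nat_lit 13, nat_lit 3, nat_lit 8, nat_lit 11, nat_lit 3, nat_lit 10, nat_lit 13], .rel (nat_lit 430) (nat_lit 1) [nat_lit 10, nat_lit 1, nat_lit 14, nat_lit 2, nat_lit 1, nat_lit 10, nat_lit 0, nat_lit 3, nat_lit 14], .rel (nat_lit 98) (nat_lit 3) [nat_lit 2, nat_lit 5, nat_lit 0, nat_lit 4, nat_lit 0, nat_lit 0, nat_lit 3], .rel (nat_lit 365) (nat_lit 0) [nat_lit 9, nat_lit 3, nat_lit 7, nat_lit 9, nat_lit 13, nat_lit 9, nat_lit 5, nat_lit 8, nat_lit 13], .rel (nat_lit 370) (nat_lit 0) [nat_lit 2, nat_lit 12, nat_lit 1, nat_lit 12, nat_lit 5, nat_lit 6], .rel (nat_lit 58) (nat_lit 1) [nat_lit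 2, nat_lit 0, nat_lit 0, nat_lit 7, nat_lit 2, nat_lit 7, nat_lit 0], .rel (nat_lit 58) (nat_lit 3) [nat_lit 0, nat_lit 7, nat_lit 2, nat_lit 7, nat_lit 0, nat_lit 0, nat_lit 2], .rel (nat_lit 86) (nat_lit 1) [nat_lit 2, nat_lit 5, nat_lit 0, nat_lit 0, nat_lit 4, nat_lit 3, nat_lit 0], .rel (nat_lit 86) (nat_lit 4) [nat_lit 0, nat_lit 4, nat_lit 3, nat_lit 0, nat_lit 0, nat_lit 2, nat_lit 5], .rel (nat_lit 363) (nat_lit 6) [nat_lit 11, nat_lit 1, nat_lit 13, nat_lit 7, nat_lit 9, nat_lit 3, nat_lit 10, nat_lit 11, nat_lit 13], .rel (nat_lit 430) (nat_lit 8) [nat_lit 3, nat_lit 14, nat_lit 0, nat_lit 10, nat_lit 1, nat_lit 14, nat_lit 2, nat_lit 1, nat_lit 10], .rel (nat_lit 58) (nat_lit 4) [nat_lit 7, nat_lit 2, nat_lit 7, nat_lit 0, nat_lit 0, nat_lit 2, nat_lit 0], .rel (nat_lit 64) (nat_lit 0) [nat_lit 0, nat_lit 2, nat_lit 0, nat_lit 6, nat_lit 1, nat_lit 6, nat_lit 3], .rel (nat_lit 68) (nat_lit 6) [nat_lit 5, nat_lit 0, nat_lit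 0, nat_lit 2, nat_lit 1, nat_lit 3, nat_lit 4], .rel (nat_lit 70) (nat_lit 6) [nat_lit 4, nat_lit 0, nat_lit 0, nat_lit 2, nat_lit 1, nat_lit 4, nat_lit 2], .rel (nat_lit 98) (nat_lit 6) [nat_lit 4, nat_lit 0, nat_lit 0, nat_lit 3, nat_lit 0, nat_lit 2, nat_lit 5], .rel (nat_lit 124) (nat_lit 1) [nat_lit 4, nat_lit 4, nat_lit 0, nat_lit 0, nat_lit 5, nat_lit 5, nat_lit 0], .rel (nat_lit 162) (nat_lit 2) [nat_lit 5, nat_lit 1, nat_lit 2, nat_lit 1, nat_lit 5, nat_lit 0, nat_lit 2], .rel (nat_lit 168) (nat_lit 6) [nat_lit 3, nat_lit 0, nat_lit 2, nat_lit 1, nat_lit 4, nat_lit 0, nat_lit 5], .rel (nat_lit 171) (nat_lit 3) [nat_lit 4, nat_lit 0, nat_lit 3, nat_lit 1, nat_lit 4, nat_lit 1, nat_lit 3], .rel (nat_lit 188) (nat_lit 3) [nat_lit 3, nat_lit 7, nat_lit 5, nat_lit 6, nat_lit 0, nat_lit 2, nat_lit 5], .rel (nat_lit 293) (nat_lit 0) [nat_lit 4, nat_lit 0, nat_lit 8, nat_lit 2, nat_lit 8, nat_lit 5, nat_lit 9, nat_lit 3, nat_lit 9],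 .rel (nat_lit 429) (nat_lit 6) [nat_lit 3, nat_lit 1, nat_lit 14, nat_lit 10, nat_lit 6, nat_lit 3, nat_lit 5, nat_lit 10, nat_lit 14], .rel (nat_lit 433) (nat_lit 6) [nat_lit 14, nat_lit 1, nat_lit 14, nat_lit 0, nat_lit 2, nat_lit 4, nat_lit 3, nat_lit 5, nat_lit 14], .rel (nat_lit 60) (nat_lit 1) [nat_lit 2, nat_lit 0, nat_lit 3, nat_lit 4, nat_lit 1, nat_lit 5, nat_lit 0], .rel (nat_lit 76) (nat_lit 1) [nat_lit 2, nat_lit 2, nat_lit 1, nat_lit 1, nat_lit 2, nat_lit 2, nat_lit 0], .rel (nat_lit 86) (nat_lit 5) [nat_lit 4, nat_lit 3, nat_lit 0, nat_lit 0, nat_lit 2, nat_lit 5, nat_lit 0], .rel (nat_lit 163) (nat_lit 3) [nat_lit 4, nat_lit 1, nat_lit 3, nat_lit 1, nat_lit 4, nat_lit 0, nat_lit 3], .rel (nat_lit 230) (nat_lit 6) [nat_lit 6, nat_lit 0, nat_lit 3, nat_lit 4, nat_lit 3, nat_lit 4, nat_lit 7], .rel (nat_lit 258) (nat_lit 0) [nat_lit 4, nat_lit 4, nat_lit 1, nat_lit 3, nat_lit 5, nat_lit 3, nat_lit 4], .rel (nat_lit 294)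 (nat_lit 3) [nat_lit 9, nat_lit 3, nat_lit 9, nat_lit 6, nat_lit 5, nat_lit 3, nat_lit 1, nat_lit 8, nat_lit 2, nat_lit 8], .rel (nat_lit 359) (nat_lit 6) [nat_lit 5, nat_lit 1, nat_lit 13, nat_lit 0, nat_lit 2, nat_lit 8, nat_lit 2, nat_lit 8, nat_lit 13], .rel (nat_lit 360) (nat_lit 1) [nat_lit 10, nat_lit 1, nat_lit 13, nat_lit 10, nat_lit 2, nat_lit 11, nat_lit 9, nat_lit 2, nat_lit 13], .rel (nat_lit 407) (nat_lit 0) [nat_lit 9, nat_lit 0, nat_lit 0, nat_lit 12, nat_lit 11, nat_lit 8, nat_lit 10, nat_lit 11, nat_lit 3, nat_lit 12], .rel (nat_lit 58) (nat_lit 0) [nat_lit 0, nat_lit 2, nat_lit 0, nat_lit 0, nat_lit 7, nat_lit 2, nat_lit 7], .rel (nat_lit 60) (nat_lit 0) [nat_lit 0, nat_lit 2, nat_lit 0, nat_lit 3, nat_lit 4, nat_lit 1, nat_lit 5], .rel (nat_lit 78) (nat_lit 1) [nat_lit 2, nat_lit 2, nat_lit 4, nat_lit 6, nat_lit 5, nat_lit 6, nat_lit 0], .rel (nat_lit 106) (nat_lit 1) [nat_lit 3, nat_lit 4, nat_lit 0, nat_lit 0,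 nat_lit 5, nat_lit 2, nat_lit 0], .rel (nat_lit 106) (nat_lit 5) [nat_lit 5, nat_lit 2, nat_lit 0, nat_lit 0, nat_lit 3, nat_lit 4, nat_lit 0], .rel (nat_lit 152) (nat_lit 1) [nat_lit 7, nat_lit 4, nat_lit 7, nat_lit 3, nat_lit 3, nat_lit 5, nat_lit 0], .rel (nat_lit 164) (nat_lit 2) [nat_lit 7, nat_lit 0, nat_lit 2, nat_lit 0, nat_lit 7, nat_lit 0, nat_lit 2], .rel (nat_lit 170) (nat_lit 0) [nat_lit 2, nat_lit 1, nat_lit 5, nat_lit 1, nat_lit 2, nat_lit 0, nat_lit 5], .rel (nat_lit 181) (nat_lit 4) [nat_lit 3, nat_lit 3, nat_lit 1, nat_lit 6, nat_lit 4, nat_lit 7, nat_lit 5], .rel (nat_lit 184) (nat_lit 5) [nat_lit 3, nat_lit 3, nat_lit 0, nat_lit 2, nat_lit 2, nat_lit 7, nat_lit 7], .rel (nat_lit 193) (nat_lit 4) [nat_lit 4, nat_lit 3, nat_lit 1, nat_lit 4, nat_lit 7, nat_lit 7, nat_lit 3], .rel (nat_lit 211) (nat_lit 3) [nat_lit 5, nat_lit 7, nat_lit 3, nat_lit 1, nat_lit 6, nat_lit 3, nat_lit 4], .rel (nat_lit 221) (nat_lit 1) [nat_lit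 5, nat_lit 0, nat_lit 4, nat_lit 1, nat_lit 2, nat_lit 1, nat_lit 3], .rel (nat_lit 250) (nat_lit 4) [nat_lit 5, nat_lit 6, nat_lit 2, nat_lit 0, nat_lit 3, nat_lit 7, nat_lit 4], .rel (nat_lit 293) (nat_lit 2) [nat_lit 8, nat_lit 2, nat_lit 8, nat_lit 5, nat_lit 9, nat_lit 3, nat_lit 9, nat_lit 0, nat_lit 4], .rel (nat_lit 319) (nat_lit 3) [nat_lit 5, nat_lit 10, nat_lit 2, nat_lit 1, nat_lit 3, nat_lit 10, nat_lit 0, nat_lit 0, nat_lit 5], .rel (nat_lit 321) (nat_lit 4) [nat_lit 10, nat_lit 2, nat_lit 9, nat_lit 3, nat_lit 10, nat_lit 0, nat_lit 5, nat_lit 9, nat_lit 5], .rel (nat_lit 358) (nat_lit 1) [nat_lit 4, nat_lit 1, nat_lit 13, nat_lit 9, nat_lit 3, nat_lit 9, nat_lit 3, nat_lit 1, nat_lit 13], .rel (nat_lit 64) (nat_lit 3) [nat_lit 6, nat_lit 1, nat_lit 6, nat_lit 3, nat_lit 0, nat_lit 0, nat_lit 2], .rel (nat_lit 67) (nat_lit 2) [nat_lit 6, nat_lit 1, nat_lit 3, nat_lit 1, nat_lit 1, nat_lit 7, nat_lit 3], .rel (nat_lit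 72) (nat_lit 0) [nat_lit 0, nat_lit 2, nat_lit 1, nat_lit 7, nat_lit 0, nat_lit 7, nat_lit 3], .rel (nat_lit 74) (nat_lit 0) [nat_lit 0, nat_lit 2, nat_lit 2, nat_lit 0, nat_lit 0, nat_lit 3, nat_lit 3], .rel (nat_lit 80) (nat_lit 1) [nat_lit 2, nat_lit 2, nat_lit 7, nat_lit 4, nat_lit 7, nat_lit 5, nat_lit 0], .rel (nat_lit 86) (nat_lit 0) [nat_lit 0, nat_lit 2, nat_lit 5, nat_lit 0, nat_lit 0, nat_lit 4, nat_lit 3], .rel (nat_lit 96) (nat_lit 1) [nat_lit 3, nat_lit 0, nat_lit 0, nat_lit 6, nat_lit 3, nat_lit 6, nat_lit 0], .rel (nat_lit 100) (nat_lit 0) [nat_lit 0, nat_lit 3, nat_lit 0, nat_lit 6, nat_lit 1, nat_lit 6, nat_lit 2], .rel (nat_lit 106) (nat_lit 0) [nat_lit 0, nat_lit 3, nat_lit 4, nat_lit 0, nat_lit 0, nat_lit 5, nat_lit 2], .rel (nat_lit 120) (nat_lit 1) [nat_lit 4, nat_lit 0, nat_lit 6, nat_lit 1, nat_lit 6, nat_lit 5, nat_lit 0], .rel (nat_lit 124) (nat_lit 0) [nat_lit 0, nat_lit 4, nat_lit 4, nat_lit 0, nat_lit 0,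 nat_lit 5, nat_lit 5], .rel (nat_lit 136) (nat_lit 1) [nat_lit 5, nat_lit 2, nat_lit 2, nat_lit 6, nat_lit 4, nat_lit 6, nat_lit 0], .rel (nat_lit 142) (nat_lit 0) [nat_lit 0, nat_lit 5, nat_lit 6, nat_lit 0, nat_lit 6, nat_lit 1, nat_lit 4], .rel (nat_lit 144) (nat_lit 1) [nat_lit 5, nat_lit 6, nat_lit 4, nat_lit 6, nat_lit 3, nat_lit 3, nat_lit 0], .rel (nat_lit 159) (nat_lit 1) [nat_lit 4, nat_lit 0, nat_lit 2, nat_lit 1, nat_lit 3, nat_lit 1, nat_lit 5], .rel (nat_lit 160) (nat_lit 4) [nat_lit 5, nat_lit 1, nat_lit 3, nat_lit 0, nat_lit 2, nat_lit 0, nat_lit 4], .rel (nat_lit 192) (nat_lit 0) [nat_lit 2, nat_lit 5, nat_lit 1, nat_lit 2, nat_lit 6, nat_lit 6, nat_lit 5], .rel (nat_lit 220) (nat_lit 2) [nat_lit 5, nat_lit 1, nat_lit 4, nat_lit 1, nat_lit 2, nat_lit 0, nat_lit 3], .rel (nat_lit 254) (nat_lit 3) [nat_lit 6, nat_lit 4, nat_lit 3, nat_lit 6, nat_lit 0, nat_lit 4, nat_lit 3], .rel (nat_lit 260) (nat_lit 0) [nat_lit 4,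 nat_lit 4, nat_lit 1, nat_lit 4, nat_lit 4, nat_lit 7, nat_lit 7], .rel (nat_lit 263) (nat_lit 4) [nat_lit 5, nat_lit 5, nat_lit 1, nat_lit 2, nat_lit 5, nat_lit 2, nat_lit 4], .rel (nat_lit 321) (nat_lit 0) [nat_lit 5, nat_lit 9, nat_lit 5, nat_lit 0, nat_lit 10, nat_lit 2, nat_lit 9, nat_lit 3, nat_lit 10], .rel (nat_lit 377) (nat_lit 0) [nat_lit 3, nat_lit 0, nat_lit 5, nat_lit 12, nat_lit 2, nat_lit 5, nat_lit 12], .rel (nat_lit 383) (nat_lit 2) [nat_lit 4, nat_lit 12, nat_lit 2, nat_lit 7, nat_lit 3, nat_lit 12, nat_lit 2, nat_lit 0], .rel (nat_lit 385) (nat_lit 0) [nat_lit 4, nat_lit 9, nat_lit 4, nat_lit 0, nat_lit 12, nat_lit 2, nat_lit 9, nat_lit 3, nat_lit 12], .rel (nat_lit 385) (nat_lit 4) [nat_lit 12, nat_lit 2, nat_lit 9, nat_lit 3, nat_lit 12, nat_lit 0, nat_lit 4, nat_lit 9, nat_lit 4], .rel (nat_lit 397) (nat_lit 0) [nat_lit 3, nat_lit 4, nat_lit 12, nat_lit 2, nat_lit 11, nat_lit 2, nat_lit 11, nat_lit 12], .rel (nat_lit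 434) (nat_lit 1) [nat_lit 6, nat_lit 1, nat_lit 14, nat_lit 3, nat_lit 10, nat_lit 1, nat_lit 5, nat_lit 10, nat_lit 1, nat_lit 14], .rel (nat_lit 435) (nat_lit 0) [nat_lit 10, nat_lit 4, nat_lit 0, nat_lit 10, nat_lit 2, nat_lit 14, nat_lit 0, nat_lit 7, nat_lit 1, nat_lit 14], .rel (nat_lit 437) (nat_lit 0) [nat_lit 2, nat_lit 5, nat_lit 3, nat_lit 4, nat_lit 12, nat_lit 2, nat_lit 2, nat_lit 12], .rel (nat_lit 62) (nat_lit 1) [nat_lit 2, nat_lit 0, nat_lit 4, nat_lit 2, nat_lit 1, nat_lit 4, nat_lit 0], .rel (nat_lit 65) (nat_lit 2) [nat_lit 7, nat_lit 1, nat_lit 3, nat_lit 1, nat_lit 1, nat_lit 2, nat_lit 7], .rel (nat_lit 74) (nat_lit 4) [nat_lit 0, nat_lit 3, nat_lit 3, nat_lit 0, nat_lit 0, nat_lit 2, nat_lit 2], .rel (nat_lit 84) (nat_lit 0) [nat_lit 0, nat_lit 2, nat_lit 4, nat_lit 7, nat_lit 2, nat_lit 4, nat_lit 7], .rel (nat_lit 92) (nat_lit 1) [nat_lit 2, nat_lit 6, nat_lit 0, nat_lit 6, nat_lit 1, nat_lit 3, nat_lit 0],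 .rel (nat_lit 94) (nat_lit 1) [nat_lit 2, nat_lit 6, nat_lit 5, nat_lit 2, nat_lit 6, nat_lit 5, nat_lit 0], .rel (nat_lit 100) (nat_lit 1) [nat_lit 3, nat_lit 0, nat_lit 6, nat_lit 1, nat_lit 6, nat_lit 2, nat_lit 0], .rel (nat_lit 110) (nat_lit 4) [nat_lit 0, nat_lit 4, nat_lit 2, nat_lit 0, nat_lit 0, nat_lit 3, nat_lit 5], .rel (nat_lit 120) (nat_lit 0) [nat_lit 0, nat_lit 4, nat_lit 0, nat_lit 6, nat_lit 1, nat_lit 6, nat_lit 5], .rel (nat_lit 124) (nat_lit 4) [nat_lit 0, nat_lit 5, nat_lit 5, nat_lit 0, nat_lit 0, nat_lit 4, nat_lit 4], .rel (nat_lit 128) (nat_lit 1) [nat_lit 4, nat_lit 6, nat_lit 3, nat_lit 4, nat_lit 6, nat_lit 3, nat_lit 0], .rel (nat_lit 156) (nat_lit 2) [nat_lit 2, nat_lit 0, nat_lit 3, nat_lit 0, nat_lit 3, nat_lit 0, nat_lit 2], .rel (nat_lit 158) (nat_lit 0) [nat_lit 2, nat_lit 0, nat_lit 3, nat_lit 1, nat_lit 5, nat_lit 1, nat_lit 4], .rel (nat_lit 160) (nat_lit 2) [nat_lit 4, nat_lit 0, nat_lit 5, nat_lit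 1, nat_lit 3, nat_lit 0, nat_lit 2], .rel (nat_lit 161) (nat_lit 1) [nat_lit 4, nat_lit 1, nat_lit 5, nat_lit 1, nat_lit 3, nat_lit 1, nat_lit 2], .rel (nat_lit 171) (nat_lit 5) [nat_lit 3, nat_lit 1, nat_lit 4, nat_lit 1, nat_lit 3, nat_lit 0, nat_lit 4], .rel (nat_lit 174) (nat_lit 3) [nat_lit 3, nat_lit 5, nat_lit 2, nat_lit 5, nat_lit 0, nat_lit 2, nat_lit 2], .rel (nat_lit 184) (nat_lit 0) [nat_lit 2, nat_lit 2, nat_lit 7, nat_lit 7, nat_lit 0, nat_lit 3, nat_lit 3], .rel (nat_lit 196) (nat_lit 0) [nat_lit 2, nat_lit 5, nat_lit 2, nat_lit 4, nat_lit 1, nat_lit 5, nat_lit 5], .rel (nat_lit 212) (nat_lit 4) [nat_lit 6, nat_lit 4, nat_lit 2, nat_lit 0, nat_lit 2, nat_lit 6, nat_lit 5], .rel (nat_lit 238) (nat_lit 3) [nat_lit 4, nat_lit 4, nat_lit 3, nat_lit 4, nat_lit 0, nat_lit 3, nat_lit 5], .rel (nat_lit 243) (nat_lit 4) [nat_lit 4, nat_lit 2, nat_lit 1, nat_lit 6, nat_lit 4, nat_lit 6, nat_lit 3], .rel (nat_lit 302) (nat_lit 6)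 [nat_lit 3, nat_lit 1, nat_lit 10, nat_lit 4, nat_lit 3, nat_lit 10, nat_lit 6, nat_lit 2], .rel (nat_lit 305) (nat_lit 2) [nat_lit 4, nat_lit 7, nat_lit 10, nat_lit 2, nat_lit 4, nat_lit 10, nat_lit 0, nat_lit 4], .rel (nat_lit 383) (nat_lit 1) [nat_lit 0, nat_lit 4, nat_lit 12, nat_lit 2, nat_lit 7, nat_lit 3, nat_lit 12, nat_lit 2], .rel (nat_lit 435) (nat_lit 7) [nat_lit 7, nat_lit 1, nat_lit 14, nat_lit 0, nat_lit 10, nat_lit 4, nat_lit 0, nat_lit 10, nat_lit 2, nat_lit 14], .rel (nat_lit 62) (nat_lit 0) [nat_lit 0, nat_lit 2, nat_lit 0, nat_lit 4, nat_lit 2, nat_lit 1, nat_lit 4], .rel (nat_lit 68) (nat_lit 0) [nat_lit 0, nat_lit 2, nat_lit 1, nat_lit 3, nat_lit 4, nat_lit 0, nat_lit 5], .rel (nat_lit 68) (nat_lit 1) [nat_lit 2, nat_lit 1, nat_lit 3, nat_lit 4, nat_lit 0, nat_lit 5, nat_lit 0], .rel (nat_lit 70) (nat_lit 1) [nat_lit 2, nat_lit 1, nat_lit 4, nat_lit 2, nat_lit 0, nat_lit 4, nat_lit 0], .rel (nat_lit 72) (nat_lit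 1) [nat_lit 2, nat_lit 1, nat_lit 7, nat_lit 0, nat_lit 7, nat_lit 3, nat_lit 0], .rel (nat_lit 73) (nat_lit 4) [nat_lit 3, nat_lit 1, nat_lit 1, nat_lit 2, nat_lit 6, nat_lit 1, nat_lit 6], .rel (nat_lit 77) (nat_lit 2) [nat_lit 0, nat_lit 3, nat_lit 3, nat_lit 1, nat_lit 1, nat_lit 3, nat_lit 3], .rel (nat_lit 80) (nat_lit 0) [nat_lit 0, nat_lit 2, nat_lit 2, nat_lit 7, nat_lit 4, nat_lit 7, nat_lit 5], .rel (nat_lit 82) (nat_lit 0) [nat_lit 0, nat_lit 2, nat_lit 4, nat_lit 3, nat_lit 7, nat_lit 4, nat_lit 6], .rel (nat_lit 88) (nat_lit 0) [nat_lit 0, nat_lit 2, nat_lit 5, nat_lit 3, nat_lit 6, nat_lit 5, nat_lit 7], .rel (nat_lit 90) (nat_lit 0) [nat_lit 0, nat_lit 2, nat_lit 5, nat_lit 7, nat_lit 4, nat_lit 7, nat_lit 2], .rel (nat_lit 93) (nat_lit 1) [nat_lit 7, nat_lit 1, nat_lit 7, nat_lit 3, nat_lit 1, nat_lit 1, nat_lit 2], .rel (nat_lit 94) (nat_lit 0) [nat_lit 0, nat_lit 2, nat_lit 6, nat_lit 5, nat_lit 2, nat_lit 6, nat_lit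 5], .rel (nat_lit 96) (nat_lit 4) [nat_lit 6, nat_lit 3, nat_lit 6, nat_lit 0, nat_lit 0, nat_lit 3, nat_lit 0], .rel (nat_lit 106) (nat_lit 4) [nat_lit 0, nat_lit 5, nat_lit 2, nat_lit 0, nat_lit 0, nat_lit 3, nat_lit 4], .rel (nat_lit 110) (nat_lit 5) [nat_lit 4, nat_lit 2, nat_lit 0, nat_lit 0, nat_lit 3, nat_lit 5, nat_lit 0], .rel (nat_lit 114) (nat_lit 0) [nat_lit 0, nat_lit 3, nat_lit 5, nat_lit 7, nat_lit 3, nat_lit 5, nat_lit 7], .rel (nat_lit 116) (nat_lit 1) [nat_lit 3, nat_lit 6, nat_lit 5, nat_lit 7, nat_lit 2, nat_lit 5, nat_lit 0], .rel (nat_lit 118) (nat_lit 1) [nat_lit 3, nat_lit 7, nat_lit 4, nat_lit 3, nat_lit 7, nat_lit 4, nat_lit 0], .rel (nat_lit 122) (nat_lit 1) [nat_lit 4, nat_lit 1, nat_lit 7, nat_lit 0, nat_lit 7, nat_lit 5, nat_lit 0], .rel (nat_lit 123) (nat_lit 4) [nat_lit 5, nat_lit 1, nat_lit 1, nat_lit 4, nat_lit 6, nat_lit 1, nat_lit 6], .rel (nat_lit 130) (nat_lit 6) [nat_lit 5, nat_lit 0, nat_lit 0,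 nat_lit 4, nat_lit 7, nat_lit 1, nat_lit 7], .rel (nat_lit 131) (nat_lit 3) [nat_lit 6, nat_lit 5, nat_lit 1, nat_lit 1, nat_lit 4, nat_lit 1, nat_lit 6], .rel (nat_lit 135) (nat_lit 4) [nat_lit 4, nat_lit 1, nat_lit 1, nat_lit 5, nat_lit 6, nat_lit 1, nat_lit 6], .rel (nat_lit 150) (nat_lit 1) [nat_lit 6, nat_lit 4, nat_lit 2, nat_lit 7, nat_lit 3, nat_lit 5, nat_lit 0], .rel (nat_lit 156) (nat_lit 0) [nat_lit 2, nat_lit 0, nat_lit 2, nat_lit 0, nat_lit 3, nat_lit 0, nat_lit 3], .rel (nat_lit 159) (nat_lit 3) [nat_lit 2, nat_lit 1, nat_lit 3, nat_lit 1, nat_lit 5, nat_lit 0, nat_lit 4], .rel (nat_lit 162) (nat_lit 0) [nat_lit 2, nat_lit 0, nat_lit 5, nat_lit 1, nat_lit 2, nat_lit 1, nat_lit 5], .rel (nat_lit 169) (nat_lit 5) [nat_lit 3, nat_lit 1, nat_lit 2, nat_lit 1, nat_lit 4, nat_lit 1, nat_lit 5], .rel (nat_lit 172) (nat_lit 3) [nat_lit 2, nat_lit 2, nat_lit 6, nat_lit 6, nat_lit 0, nat_lit 2, nat_lit 2], .rel (nat_lit 187) (nat_lit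 3) [nat_lit 6, nat_lit 5, nat_lit 3, nat_lit 1, nat_lit 3, nat_lit 6, nat_lit 4], .rel (nat_lit 190) (nat_lit 3) [nat_lit 6, nat_lit 4, nat_lit 3, nat_lit 7, nat_lit 0, nat_lit 2, nat_lit 5], .rel (nat_lit 197) (nat_lit 2) [nat_lit 5, nat_lit 3, nat_lit 4, nat_lit 3, nat_lit 1, nat_lit 4, nat_lit 4], .rel (nat_lit 206) (nat_lit 4) [nat_lit 4, nat_lit 7, nat_lit 5, nat_lit 0, nat_lit 2, nat_lit 6, nat_lit 3], .rel (nat_lit 222) (nat_lit 3) [nat_lit 3, nat_lit 3, nat_lit 6, nat_lit 6, nat_lit 0, nat_lit 3, nat_lit 3], .rel (nat_lit 224) (nat_lit 0) [nat_lit 3, nat_lit 3, nat_lit 0, nat_lit 7, nat_lit 2, nat_lit 6, nat_lit 3], .rel (nat_lit 228) (nat_lit 3) [nat_lit 4, nat_lit 2, nat_lit 4, nat_lit 4, nat_lit 0, nat_lit 3, nat_lit 4], .rel (nat_lit 240) (nat_lit 0) [nat_lit 3, nat_lit 5, nat_lit 0, nat_lit 7, nat_lit 2, nat_lit 7, nat_lit 5], .rel (nat_lit 246) (nat_lit 4) [nat_lit 4, nat_lit 2, nat_lit 6, nat_lit 0, nat_lit 3, nat_lit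 5, nat_lit 7], .rel (nat_lit 249) (nat_lit 3) [nat_lit 4, nat_lit 7, nat_lit 2, nat_lit 1, nat_lit 4, nat_lit 6, nat_lit 2], .rel (nat_lit 250) (nat_lit 0) [nat_lit 3, nat_lit 7, nat_lit 4, nat_lit 0, nat_lit 5, nat_lit 6, nat_lit 2], .rel (nat_lit 259) (nat_lit 4) [nat_lit 5, nat_lit 5, nat_lit 1, nat_lit 5, nat_lit 2, nat_lit 4, nat_lit 2], .rel (nat_lit 266) (nat_lit 0) [nat_lit 4, nat_lit 6, nat_lit 6, nat_lit 5, nat_lit 6, nat_lit 0, nat_lit 7], .rel (nat_lit 290) (nat_lit 6) [nat_lit 3, nat_lit 1, nat_lit 8, nat_lit 4, nat_lit 3, nat_lit 9, nat_lit 6, nat_lit 2], .rel (nat_lit 407) (nat_lit 3) [nat_lit 12, nat_lit 11, nat_lit 8, nat_lit 10, nat_lit 11, nat_lit 3, nat_lit 12, nat_lit 0, nat_lit 9, nat_lit 0], .sub (nat_lit 0) [] [], .rel (nat_lit 64) (nat_lit 1) [nat_lit 2, nat_lit 0, nat_lit 6, nat_lit 1, nat_lit 6, nat_lit 3, nat_lit 0], .rel (nat_lit 66) (nat_lit 0) [nat_lit 0, nat_lit 2, nat_lit 0, nat_lit 7, nat_lit 1, nat_lit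 2, nat_lit 6], .rel (nat_lit 66) (nat_lit 1) [nat_lit 2, nat_lit 0, nat_lit 7, nat_lit 1, nat_lit 2, nat_lit 6, nat_lit 0], .rel (nat_lit 66) (nat_lit 3) [nat_lit 7, nat_lit 1, nat_lit 2, nat_lit 6, nat_lit 0, nat_lit 0, nat_lit 2], .rel (nat_lit 70) (nat_lit 0) [nat_lit 0, nat_lit 2, nat_lit 1, nat_lit 4, nat_lit 2, nat_lit 0, nat_lit 4], .rel (nat_lit 72) (nat_lit 5) [nat_lit 7, nat_lit 3, nat_lit 0, nat_lit 0, nat_lit 2, nat_lit 1, nat_lit 7], .rel (nat_lit 76) (nat_lit 0) [nat_lit 0, nat_lit 2, nat_lit 2, nat_lit 1, nat_lit 1, nat_lit 2, nat_lit 2], .rel (nat_lit 77) (nat_lit 3) [nat_lit 3, nat_lit 3, nat_lit 1, nat_lit 1, nat_lit 3, nat_lit 3, nat_lit 0], .rel (nat_lit 82) (nat_lit 1) [nat_lit 2, nat_lit 4, nat_lit 3, nat_lit 7, nat_lit 4, nat_lit 6, nat_lit 0], .rel (nat_lit 84) (nat_lit 1) [nat_lit 2, nat_lit 4, nat_lit 7, nat_lit 2, nat_lit 4, nat_lit 7, nat_lit 0], .rel (nat_lit 88) (nat_lit 1) [nat_lit 2, nat_lit 5, nat_lit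 3, nat_lit 6, nat_lit 5, nat_lit 7, nat_lit 0], .rel (nat_lit 90) (nat_lit 1) [nat_lit 2, nat_lit 5, nat_lit 7, nat_lit 4, nat_lit 7, nat_lit 2, nat_lit 0], .rel (nat_lit 92) (nat_lit 0) [nat_lit 0, nat_lit 2, nat_lit 6, nat_lit 0, nat_lit 6, nat_lit 1, nat_lit 3], .rel (nat_lit 96) (nat_lit 0) [nat_lit 0, nat_lit 3, nat_lit 0, nat_lit 0, nat_lit 6, nat_lit 3, nat_lit 6], .rel (nat_lit 98) (nat_lit 0) [nat_lit 0, nat_lit 3, nat_lit 0, nat_lit 2, nat_lit 5, nat_lit 0, nat_lit 4], .rel (nat_lit 100) (nat_lit 3) [nat_lit 6, nat_lit 1, nat_lit 6, nat_lit 2, nat_lit 0, nat_lit 0, nat_lit 3], .rel (nat_lit 101) (nat_lit 2) [nat_lit 7, nat_lit 1, nat_lit 2, nat_lit 1, nat_lit 1, nat_lit 3, nat_lit 7], .rel (nat_lit 102) (nat_lit 1) [nat_lit 3, nat_lit 1, nat_lit 2, nat_lit 5, nat_lit 1, nat_lit 4, nat_lit 0], .rel (nat_lit 103) (nat_lit 4) [nat_lit 2, nat_lit 1, nat_lit 1, nat_lit 5, nat_lit 0, nat_lit 4, nat_lit 3], .rel (nat_lit 110) (nat_lit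 1) [nat_lit 3, nat_lit 5, nat_lit 0, nat_lit 0, nat_lit 4, nat_lit 2, nat_lit 0], .rel (nat_lit 116) (nat_lit 0) [nat_lit 0, nat_lit 3, nat_lit 6, nat_lit 5, nat_lit 7, nat_lit 2, nat_lit 5], .rel (nat_lit 118) (nat_lit 0) [nat_lit 0, nat_lit 3, nat_lit 7, nat_lit 4, nat_lit 3, nat_lit 7, nat_lit 4], .rel (nat_lit 122) (nat_lit 0) [nat_lit 0, nat_lit 4, nat_lit 1, nat_lit 7, nat_lit 0, nat_lit 7, nat_lit 5], .rel (nat_lit 126) (nat_lit 0) [nat_lit 0, nat_lit 4, nat_lit 6, nat_lit 0, nat_lit 6, nat_lit 1, nat_lit 5], .rel (nat_lit 126) (nat_lit 1) [nat_lit 4, nat_lit 6, nat_lit 0, nat_lit 6, nat_lit 1, nat_lit 5, nat_lit 0], .rel (nat_lit 127) (nat_lit 1) [nat_lit 7, nat_lit 1, nat_lit 7, nat_lit 5, nat_lit 1, nat_lit 1, nat_lit 4], .rel (nat_lit 130) (nat_lit 0) [nat_lit 0, nat_lit 4, nat_lit 7, nat_lit 1, nat_lit 7, nat_lit 0, nat_lit 5], .rel (nat_lit 130) (nat_lit 1) [nat_lit 4, nat_lit 7, nat_lit 1, nat_lit 7, nat_lit 0, nat_lit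 5, nat_lit 0], .rel (nat_lit 132) (nat_lit 1) [nat_lit 4, nat_lit 7, nat_lit 2, nat_lit 2, nat_lit 5, nat_lit 7, nat_lit 0], .rel (nat_lit 134) (nat_lit 0) [nat_lit 0, nat_lit 5, nat_lit 1, nat_lit 7, nat_lit 0, nat_lit 7, nat_lit 4], .rel (nat_lit 134) (nat_lit 5) [nat_lit 7, nat_lit 4, nat_lit 0, nat_lit 0, nat_lit 5, nat_lit 1, nat_lit 7], .rel (nat_lit 136) (nat_lit 0) [nat_lit 0, nat_lit 5, nat_lit 2, nat_lit 2, nat_lit 6, nat_lit 4, nat_lit 6], .rel (nat_lit 138) (nat_lit 1) [nat_lit 5, nat_lit 2, nat_lit 6, nat_lit 3, nat_lit 4, nat_lit 7, nat_lit 0], .rel (nat_lit 140) (nat_lit 0) [nat_lit 0, nat_lit 5, nat_lit 3, nat_lit 7, nat_lit 5, nat_lit 6, nat_lit 2], .rel (nat_lit 142) (nat_lit 4) [nat_lit 6, nat_lit 1, nat_lit 4, nat_lit 0, nat_lit 0, nat_lit 5, nat_lit 6], .rel (nat_lit 143) (nat_lit 1) [nat_lit 7, nat_lit 1, nat_lit 7, nat_lit 4, nat_lit 1, nat_lit 1, nat_lit 5], .rel (nat_lit 146) (nat_lit 0) [nat_lit 0, nat_lit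 6, nat_lit 3, nat_lit 4, nat_lit 2, nat_lit 7, nat_lit 4], .rel (nat_lit 148) (nat_lit 1) [nat_lit 6, nat_lit 3, nat_lit 5, nat_lit 7, nat_lit 4, nat_lit 2, nat_lit 0], .rel (nat_lit 150) (nat_lit 0) [nat_lit 0, nat_lit 6, nat_lit 4, nat_lit 2, nat_lit 7, nat_lit 3, nat_lit 5], .rel (nat_lit 152) (nat_lit 0) [nat_lit 0, nat_lit 7, nat_lit 4, nat_lit 7, nat_lit 3, nat_lit 3, nat_lit 5], .rel (nat_lit 154) (nat_lit 1) [nat_lit 7, nat_lit 5, nat_lit 3, nat_lit 7, nat_lit 5, nat_lit 3, nat_lit 0], .rel (nat_lit 156) (nat_lit 4) [nat_lit 3, nat_lit 0, nat_lit 3, nat_lit 0, nat_lit 2, nat_lit 0, nat_lit 2], .rel (nat_lit 156) (nat_lit 6) [nat_lit 3, nat_lit 0, nat_lit 2, nat_lit 0, nat_lit 2, nat_lit 0, nat_lit 3], .rel (nat_lit 160) (nat_lit 0) [nat_lit 2, nat_lit 0, nat_lit 4, nat_lit 0, nat_lit 5, nat_lit 1, nat_lit 3], .rel (nat_lit 166) (nat_lit 0) [nat_lit 2, nat_lit 1, nat_lit 2, nat_lit 0, nat_lit 3, nat_lit 1, nat_lit 3], .rel (nat_lit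 166) (nat_lit 4) [nat_lit 3, nat_lit 1, nat_lit 3, nat_lit 0, nat_lit 2, nat_lit 1, nat_lit 2], .rel (nat_lit 167) (nat_lit 1) [nat_lit 2, nat_lit 1, nat_lit 3, nat_lit 0, nat_lit 3, nat_lit 1, nat_lit 2], .rel (nat_lit 167) (nat_lit 5) [nat_lit 3, nat_lit 1, nat_lit 2, nat_lit 0, nat_lit 2, nat_lit 1, nat_lit 3], .rel (nat_lit 172) (nat_lit 0) [nat_lit 2, nat_lit 2, nat_lit 0, nat_lit 2, nat_lit 2, nat_lit 6, nat_lit 6], .rel (nat_lit 174) (nat_lit 0) [nat_lit 2, nat_lit 2, nat_lit 0, nat_lit 3, nat_lit 5, nat_lit 2, nat_lit 5], .rel (nat_lit 178) (nat_lit 0) [nat_lit 2, nat_lit 2, nat_lit 0, nat_lit 6, nat_lit 3, nat_lit 7, nat_lit 2], .rel (nat_lit 180) (nat_lit 0) [nat_lit 2, nat_lit 2, nat_lit 1, nat_lit 4, nat_lit 6, nat_lit 5, nat_lit 7], .rel (nat_lit 183) (nat_lit 1) [nat_lit 5, nat_lit 6, nat_lit 4, nat_lit 3, nat_lit 3, nat_lit 1, nat_lit 7], .rel (nat_lit 188) (nat_lit 0) [nat_lit 2, nat_lit 5, nat_lit 0, nat_lit 3, nat_lit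 7, nat_lit 5, nat_lit 6], .rel (nat_lit 202) (nat_lit 0) [nat_lit 2, nat_lit 5, nat_lit 6, nat_lit 1, nat_lit 4, nat_lit 7, nat_lit 2], .rel (nat_lit 203) (nat_lit 3) [nat_lit 7, nat_lit 4, nat_lit 3, nat_lit 1, nat_lit 3, nat_lit 6, nat_lit 5], .rel (nat_lit 210) (nat_lit 0) [nat_lit 2, nat_lit 6, nat_lit 4, nat_lit 1, nat_lit 5, nat_lit 2, nat_lit 7], .rel (nat_lit 214) (nat_lit 0) [nat_lit 2, nat_lit 7, nat_lit 5, nat_lit 0, nat_lit 2, nat_lit 7, nat_lit 5], .rel (nat_lit 220) (nat_lit 0) [nat_lit 3, nat_lit 0, nat_lit 5, nat_lit 1, nat_lit 4, nat_lit 1, nat_lit 2], .rel (nat_lit 221) (nat_lit 3) [nat_lit 4, nat_lit 1, nat_lit 2, nat_lit 1, nat_lit 3, nat_lit 0, nat_lit 5], .rel (nat_lit 222) (nat_lit 0) [nat_lit 3, nat_lit 3, nat_lit 0, nat_lit 3, nat_lit 3, nat_lit 6, nat_lit 6], .rel (nat_lit 224) (nat_lit 3) [nat_lit 7, nat_lit 2, nat_lit 6, nat_lit 3, nat_lit 0, nat_lit 3, nat_lit 3], .rel (nat_lit 228) (nat_lit 0) [nat_lit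 3, nat_lit 4, nat_lit 0, nat_lit 4, nat_lit 2, nat_lit 4, nat_lit 4], .rel (nat_lit 232) (nat_lit 4) [nat_lit 5, nat_lit 2, nat_lit 6, nat_lit 0, nat_lit 3, nat_lit 4, nat_lit 6], .rel (nat_lit 234) (nat_lit 0) [nat_lit 3, nat_lit 4, nat_lit 6, nat_lit 3, nat_lit 4, nat_lit 1, nat_lit 7], .rel (nat_lit 238) (nat_lit 0) [nat_lit 3, nat_lit 5, nat_lit 0, nat_lit 4, nat_lit 4, nat_lit 3, nat_lit 4], .rel (nat_lit 240) (nat_lit 3) [nat_lit 7, nat_lit 2, nat_lit 7, nat_lit 5, nat_lit 0, nat_lit 3, nat_lit 5], .rel (nat_lit 244) (nat_lit 0) [nat_lit 3, nat_lit 5, nat_lit 6, nat_lit 1, nat_lit 7, nat_lit 4, nat_lit 2], .rel (nat_lit 248) (nat_lit 0) [nat_lit 3, nat_lit 6, nat_lit 5, nat_lit 1, nat_lit 3, nat_lit 7, nat_lit 5], .rel (nat_lit 254) (nat_lit 0) [nat_lit 4, nat_lit 3, nat_lit 0, nat_lit 6, nat_lit 4, nat_lit 3, nat_lit 6], .rel (nat_lit 256) (nat_lit 4) [nat_lit 7, nat_lit 4, nat_lit 3, nat_lit 0, nat_lit 4, nat_lit 3, nat_lit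 6], .rel (nat_lit 261) (nat_lit 4) [nat_lit 5, nat_lit 5, nat_lit 1, nat_lit 6, nat_lit 6, nat_lit 5, nat_lit 5], .rel (nat_lit 262) (nat_lit 0) [nat_lit 4, nat_lit 4, nat_lit 1, nat_lit 5, nat_lit 3, nat_lit 4, nat_lit 3], .rel (nat_lit 264) (nat_lit 0) [nat_lit 4, nat_lit 6, nat_lit 2, nat_lit 0, nat_lit 7, nat_lit 2, nat_lit 5], .rel (nat_lit 268) (nat_lit 0) [nat_lit 5, nat_lit 7, nat_lit 4, nat_lit 0, nat_lit 7, nat_lit 2, nat_lit 2], .rel (nat_lit 270) (nat_lit 2) [nat_lit 7, nat_lit 5, nat_lit 6, nat_lit 6, nat_lit 4, nat_lit 0, nat_lit 6], .rel (nat_lit 303) (nat_lit 0) [nat_lit 2, nat_lit 1, nat_lit 3, nat_lit 7, nat_lit 10, nat_lit 2, nat_lit 5, nat_lit 10], .rel (nat_lit 305) (nat_lit 0) [nat_lit 4, nat_lit 0, nat_lit 4, nat_lit 7, nat_lit 10, nat_lit 2, nat_lit 4, nat_lit 10], .rel (nat_lit 307) (nat_lit 0) [nat_lit 0, nat_lit 4, nat_lit 7, nat_lit 4, nat_lit 10, nat_lit 2, nat_lit 7, nat_lit 3, nat_lit 10], .rel (nat_lit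 307) (nat_lit 1) [nat_lit 4, nat_lit 7, nat_lit 4, nat_lit 10, nat_lit 2, nat_lit 7, nat_lit 3, nat_lit 10, nat_lit 0], .rel (nat_lit 318) (nat_lit 2) [nat_lit 3, nat_lit 10, nat_lit 4, nat_lit 1, nat_lit 4, nat_lit 1, nat_lit 1, nat_lit 10, nat_lit 2], .rel (nat_lit 319) (nat_lit 1) [nat_lit 5, nat_lit 0, nat_lit 5, nat_lit 10, nat_lit 2, nat_lit 1, nat_lit 3, nat_lit 10, nat_lit 0], .rel (nat_lit 326) (nat_lit 5) [nat_lit 3, nat_lit 1, nat_lit 11, nat_lit 2, nat_lit 11, nat_lit 4, nat_lit 2], .rel (nat_lit 387) (nat_lit 4) [nat_lit 8, nat_lit 12, nat_lit 2, nat_lit 12, nat_lit 3, nat_lit 12, nat_lit 0, nat_lit 0, nat_lit 4, nat_lit 8], .rel (nat_lit 407) (nat_lit 2) [nat_lit 0, nat_lit 12, nat_lit 11, nat_lit 8, nat_lit 10, nat_lit 11, nat_lit 3, nat_lit 12, nat_lit 0, nat_lit 9], .rel (nat_lit 428) (nat_lit 1) [nat_lit 2, nat_lit 1, nat_lit 14, nat_lit 10, nat_lit 4, nat_lit 2, nat_lit 7, nat_lit 10, nat_lit 14], .rel (nat_lit 435)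 (nat_lit 3) [nat_lit 10, nat_lit 2, nat_lit 14, nat_lit 0, nat_lit 7, nat_lit 1, nat_lit 14, nat_lit 0, nat_lit 10, nat_lit 4], .rel (nat_lit 474) (nat_lit 0) [nat_lit 6, nat_lit 14, nat_lit 12, nat_lit 0, nat_lit 6, nat_lit 14, nat_lit 12, nat_lit 0, nat_lit 6, nat_lit 14, nat_lit 12, nat_lit 0, nat_lit 6, nat_lit 14, nat_lit 12, nat_lit 0, nat_lit 6, nat_lit 14, nat_lit 12, nat_lit 0, nat_lit 6, nat_lit 14, nat_lit 12, nat_lit 0, nat_lit 6, nat_lit 14, nat_lit 12]],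
  [.rel (nat_lit 0) (nat_lit 1) [nat_lit 0], .defn, .rel (nat_lit 31) (nat_lit 0) [nat_lit 1, nat_lit 1, nat_lit 1], .rel (nat_lit 389) (nat_lit 2) [nat_lit 10, nat_lit 12, nat_lit 1, nat_lit 10, nat_lit 12], .rel (nat_lit 279) (nat_lit 5) [nat_lit 8, nat_lit 5, nat_lit 5, nat_lit 0, nat_lit 9], .rel (nat_lit 278) (nat_lit 2) [nat_lit 4, nat_lit 4, nat_lit 9, nat_lit 0, nat_lit 8], .rel (nat_lit 42) (nat_lit 3) [nat_lit 2, nat_lit 4, nat_lit 0, nat_lit 2, nat_lit 4], .rel (nat_lit 47) (nat_lit 5) [nat_lit 6, nat_lit 1, nat_lit 2, nat_lit 7, nat_lit 2], .rel (nat_lit 43) (nat_lit 5) [nat_lit 5, nat_lit 3, nat_lit 0, nat_lit 5, nat_lit 3], .rel (nat_lit 41) (nat_lit 1) [nat_lit 1, nat_lit 7, nat_lit 1, nat_lit 1, nat_lit 6], .rel (nat_lit 337) (nat_lit 4) [nat_lit 1, nat_lit 13, nat_lit 5, nat_lit 5, nat_lit 13], .rel (nat_lit 369) (nat_lit 5) [nat_lit 3, nat_lit 5, nat_lit 12, nat_lit 6, nat_lit 12], .rel (nat_lit 280) (nat_lit 2) [nat_lit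 6, nat_lit 9, nat_lit 6, nat_lit 0, nat_lit 8], .rel (nat_lit 297) (nat_lit 3) [nat_lit 7, nat_lit 1, nat_lit 10, nat_lit 7, nat_lit 10], .rel (nat_lit 370) (nat_lit 3) [nat_lit 12, nat_lit 5, nat_lit 6, nat_lit 0, nat_lit 2, nat_lit 12], .rel (nat_lit 41) (nat_lit 4) [nat_lit 1, nat_lit 6, nat_lit 1, nat_lit 1, nat_lit 7], .rel (nat_lit 297) (nat_lit 5) [nat_lit 10, nat_lit 7, nat_lit 10, nat_lit 1, nat_lit 7], .rel (nat_lit 277) (nat_lit 5) [nat_lit 7, nat_lit 4, nat_lit 9, nat_lit 9, nat_lit 2], .rel (nat_lit 281) (nat_lit 5) [nat_lit 7, nat_lit 8, nat_lit 7, nat_lit 0, nat_lit 9], .rel (nat_lit 41) (nat_lit 5) [nat_lit 6, nat_lit 1, nat_lit 1, nat_lit 7, nat_lit 1], .rel (nat_lit 325) (nat_lit 6) [nat_lit 11, nat_lit 1, nat_lit 10, nat_lit 3, nat_lit 8, nat_lit 3, nat_lit 11], .rel (nat_lit 349) (nat_lit 6) [nat_lit 2, nat_lit 11, nat_lit 8, nat_lit 5, nat_lit 10, nat_lit 11], .rel (nat_lit 45) (nat_lit 1) [nat_lit 3, nat_lit 6,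 nat_lit 3, nat_lit 1, nat_lit 7], .rel (nat_lit 45) (nat_lit 5) [nat_lit 7, nat_lit 1, nat_lit 3, nat_lit 6, nat_lit 3], .rel (nat_lit 47) (nat_lit 1) [nat_lit 2, nat_lit 7, nat_lit 2, nat_lit 1, nat_lit 6], .rel (nat_lit 338) (nat_lit 4) [nat_lit 9, nat_lit 0, nat_lit 6, nat_lit 8, nat_lit 7], .rel (nat_lit 299) (nat_lit 3) [nat_lit 10, nat_lit 3, nat_lit 1, nat_lit 6, nat_lit 4, nat_lit 10], .rel (nat_lit 41) (nat_lit 2) [nat_lit 7, nat_lit 1, nat_lit 1, nat_lit 6, nat_lit 1], .rel (nat_lit 337) (nat_lit 5) [nat_lit 13, nat_lit 5, nat_lit 5, nat_lit 13, nat_lit 1], .rel (nat_lit 49) (nat_lit 5) [nat_lit 7, nat_lit 7, nat_lit 0, nat_lit 7, nat_lit 7], .rel (nat_lit 48) (nat_lit 3) [nat_lit 6, nat_lit 6, nat_lit 0, nat_lit 6, nat_lit 6], .rel (nat_lit 362) (nat_lit 3) [nat_lit 13, nat_lit 11, nat_lit 10, nat_lit 2, nat_lit 8, nat_lit 6, nat_lit 13, nat_lit 0, nat_lit 11], .rel (nat_lit 373) (nat_lit 6) [nat_lit 12, nat_lit 9, nat_lit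 9, nat_lit 3, nat_lit 3, nat_lit 12], .rel (nat_lit 357) (nat_lit 7) [nat_lit 13, nat_lit 4, nat_lit 7, nat_lit 8, nat_lit 2, nat_lit 13, nat_lit 9, nat_lit 13], .rel (nat_lit 325) (nat_lit 0) [nat_lit 10, nat_lit 3, nat_lit 8, nat_lit 3, nat_lit 11, nat_lit 1, nat_lit 11], .rel (nat_lit 395) (nat_lit 6) [nat_lit 11, nat_lit 12, nat_lit 10, nat_lit 2, nat_lit 9, nat_lit 2, nat_lit 12, nat_lit 11], .rel (nat_lit 339) (nat_lit 5) [nat_lit 8, nat_lit 0, nat_lit 6, nat_lit 9, nat_lit 7], .rel (nat_lit 367) (nat_lit 4) [nat_lit 11, nat_lit 13, nat_lit 14, nat_lit 0, nat_lit 6, nat_lit 5, nat_lit 8], .rel (nat_lit 432) (nat_lit 3) [nat_lit 14, nat_lit 4, nat_lit 2, nat_lit 5, nat_lit 3, nat_lit 1, nat_lit 14, nat_lit 0, nat_lit 14], .rel (nat_lit 381) (nat_lit 5) [nat_lit 3, nat_lit 12, nat_lit 6, nat_lit 4, nat_lit 3, nat_lit 12, nat_lit 2], .rel (nat_lit 426) (nat_lit 5) [nat_lit 4, nat_lit 0, nat_lit 14, nat_lit 0, nat_lit 4, nat_lit 1,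 nat_lit 14], .rel (nat_lit 347) (nat_lit 6) [nat_lit 9, nat_lit 2, nat_lit 9, nat_lit 13, nat_lit 6, nat_lit 13], .rel (nat_lit 313) (nat_lit 6) [nat_lit 10, nat_lit 3, nat_lit 5, nat_lit 8, nat_lit 10, nat_lit 9], .rel (nat_lit 363) (nat_lit 8) [nat_lit 13, nat_lit 7, nat_lit 9, nat_lit 3, nat_lit 10, nat_lit 11, nat_lit 13, nat_lit 0, nat_lit 11], .rel (nat_lit 352) (nat_lit 8) [nat_lit 13, nat_lit 10, nat_lit 13, nat_lit 7, nat_lit 11, nat_lit 7, nat_lit 8, nat_lit 11], .rel (nat_lit 285) (nat_lit 6) [nat_lit 8, nat_lit 4, nat_lit 2, nat_lit 8, nat_lit 4, nat_lit 3], .rel (nat_lit 68) (nat_lit 3) [nat_lit 3, nat_lit 4, nat_lit 0, nat_lit 5, nat_lit 0, nat_lit 0, nat_lit 2], .rel (nat_lit 427) (nat_lit 0) [nat_lit 5, nat_lit 0, nat_lit 14, nat_lit 0, nat_lit 5, nat_lit 1, nat_lit 14], .rel (nat_lit 360) (nat_lit 3) [nat_lit 13, nat_lit 10, nat_lit 2, nat_lit 11, nat_lit 9, nat_lit 2, nat_lit 13, nat_lit 0, nat_lit 10], .rel (nat_lit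 63) (nat_lit 4) [nat_lit 3, nat_lit 1, nat_lit 1, nat_lit 5, nat_lit 0, nat_lit 3, nat_lit 5], .rel (nat_lit 406) (nat_lit 10) [nat_lit 12, nat_lit 2, nat_lit 11, nat_lit 10, nat_lit 9, nat_lit 11, nat_lit 12, nat_lit 1, nat_lit 1, nat_lit 8], .rel (nat_lit 430) (nat_lit 3) [nat_lit 14, nat_lit 2, nat_lit 1, nat_lit 10, nat_lit 0, nat_lit 3, nat_lit 14, nat_lit 0, nat_lit 10], .rel (nat_lit 71) (nat_lit 1) [nat_lit 3, nat_lit 5, nat_lit 0, nat_lit 3, nat_lit 1, nat_lit 1, nat_lit 5], .rel (nat_lit 433) (nat_lit 8) [nat_lit 14, nat_lit 0, nat_lit 2, nat_lit 4, nat_lit 3, nat_lit 5, nat_lit 14, nat_lit 0, nat_lit 14], .rel (nat_lit 432) (nat_lit 9) [nat_lit 14, nat_lit 0, nat_lit 14, nat_lit 1, nat_lit 14, nat_lit 4, nat_lit 2, nat_lit 5, nat_lit 3], .rel (nat_lit 376) (nat_lit 5) [nat_lit 2, nat_lit 1, nat_lit 12, nat_lit 4, nat_lit 3, nat_lit 12, nat_lit 4], .rel (nat_lit 75) (nat_lit 3) [nat_lit 3, nat_lit 3, nat_lit 1, nat_lit 1,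 nat_lit 2, nat_lit 2, nat_lit 1], .rel (nat_lit 99) (nat_lit 1) [nat_lit 4, nat_lit 3, nat_lit 1, nat_lit 2, nat_lit 1, nat_lit 1, nat_lit 5], .rel (nat_lit 320) (nat_lit 5) [nat_lit 4, nat_lit 8, nat_lit 4, nat_lit 1, nat_lit 10, nat_lit 2, nat_lit 8, nat_lit 3, nat_lit 10], .rel (nat_lit 173) (nat_lit 4) [nat_lit 3, nat_lit 3, nat_lit 1, nat_lit 7, nat_lit 7, nat_lit 3, nat_lit 3], .rel (nat_lit 423) (nat_lit 5) [nat_lit 1, nat_lit 4, nat_lit 14, nat_lit 5, nat_lit 14, nat_lit 2], .rel (nat_lit 60) (nat_lit 6) [nat_lit 5, nat_lit 0, nat_lit 0, nat_lit 2, nat_lit 0, nat_lit 3, nat_lit 4], .rel (nat_lit 61) (nat_lit 4) [nat_lit 3, nat_lit 1, nat_lit 1, nat_lit 4, nat_lit 0, nat_lit 5, nat_lit 2], .rel (nat_lit 330) (nat_lit 9) [nat_lit 11, nat_lit 6, nat_lit 11, nat_lit 10, nat_lit 2, nat_lit 8, nat_lit 10, nat_lit 3, nat_lit 9], .rel (nat_lit 354) (nat_lit 3) [nat_lit 13, nat_lit 8, nat_lit 5, nat_lit 2, nat_lit 9, nat_lit 13, nat_lit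 0, nat_lit 2], .rel (nat_lit 59) (nat_lit 3) [nat_lit 1, nat_lit 3, nat_lit 1, nat_lit 1, nat_lit 6, nat_lit 3, nat_lit 6], .rel (nat_lit 283) (nat_lit 6) [nat_lit 9, nat_lit 3, nat_lit 4, nat_lit 9, nat_lit 5, nat_lit 3], .rel (nat_lit 408) (nat_lit 9) [nat_lit 4, nat_lit 12, nat_lit 11, nat_lit 12, nat_lit 2, nat_lit 12, nat_lit 11, nat_lit 12, nat_lit 6, nat_lit 11], .rel (nat_lit 61) (nat_lit 7) [nat_lit 4, nat_lit 0, nat_lit 5, nat_lit 2, nat_lit 1, nat_lit 3, nat_lit 1], .rel (nat_lit 63) (nat_lit 7) [nat_lit 5, nat_lit 0, nat_lit 3, nat_lit 5, nat_lit 1, nat_lit 3, nat_lit 1], .rel (nat_lit 75) (nat_lit 7) [nat_lit 2, nat_lit 2, nat_lit 1, nat_lit 1, nat_lit 3, nat_lit 3, nat_lit 1], .rel (nat_lit 299) (nat_lit 6) [nat_lit 6, nat_lit 4, nat_lit 10, nat_lit 1, nat_lit 10, nat_lit 3], .rel (nat_lit 87) (nat_lit 2) [nat_lit 1, nat_lit 4, nat_lit 3, nat_lit 1, nat_lit 1, nat_lit 2, nat_lit 5], .rel (nat_lit 364) (nat_lit 9) [nat_lit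 13, nat_lit 9, nat_lit 4, nat_lit 8, nat_lit 13, nat_lit 8, nat_lit 6, nat_lit 2, nat_lit 8], .rel (nat_lit 426) (nat_lit 3) [nat_lit 14, nat_lit 1, nat_lit 4, nat_lit 0, nat_lit 14, nat_lit 0, nat_lit 4], .rel (nat_lit 62) (nat_lit 6) [nat_lit 4, nat_lit 0, nat_lit 0, nat_lit 2, nat_lit 0, nat_lit 4, nat_lit 2], .rel (nat_lit 135) (nat_lit 6) [nat_lit 1, nat_lit 5, nat_lit 6, nat_lit 1, nat_lit 6, nat_lit 0, nat_lit 4], .rel (nat_lit 158) (nat_lit 4) [nat_lit 5, nat_lit 1, nat_lit 4, nat_lit 0, nat_lit 2, nat_lit 0, nat_lit 3], .rel (nat_lit 175) (nat_lit 7) [nat_lit 4, nat_lit 3, nat_lit 4, nat_lit 2, nat_lit 1, nat_lit 3, nat_lit 3], .rel (nat_lit 69) (nat_lit 1) [nat_lit 5, nat_lit 2, nat_lit 0, nat_lit 3, nat_lit 1, nat_lit 1, nat_lit 4], .rel (nat_lit 125) (nat_lit 3) [nat_lit 5, nat_lit 5, nat_lit 1, nat_lit 1, nat_lit 4, nat_lit 4, nat_lit 1], .rel (nat_lit 158) (nat_lit 6) [nat_lit 4, nat_lit 0, nat_lit 2, nat_lit 0, nat_lit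 3, nat_lit 1, nat_lit 5], .rel (nat_lit 267) (nat_lit 7) [nat_lit 6, nat_lit 1, nat_lit 7, nat_lit 4, nat_lit 7, nat_lit 7, nat_lit 5], .rel (nat_lit 292) (nat_lit 7) [nat_lit 5, nat_lit 1, nat_lit 8, nat_lit 2, nat_lit 8, nat_lit 4, nat_lit 9, nat_lit 3, nat_lit 9], .rel (nat_lit 358) (nat_lit 3) [nat_lit 13, nat_lit 9, nat_lit 3, nat_lit 9, nat_lit 3, nat_lit 1, nat_lit 13, nat_lit 0, nat_lit 4], .rel (nat_lit 366) (nat_lit 7) [nat_lit 14, nat_lit 13, nat_lit 11, nat_lit 0, nat_lit 9, nat_lit 4, nat_lit 7], .rel (nat_lit 64) (nat_lit 5) [nat_lit 6, nat_lit 3, nat_lit 0, nat_lit 0, nat_lit 2, nat_lit 0, nat_lit 6], .rel (nat_lit 70) (nat_lit 3) [nat_lit 4, nat_lit 2, nat_lit 0, nat_lit 4, nat_lit 0, nat_lit 0, nat_lit 2], .rel (nat_lit 87) (nat_lit 3) [nat_lit 4, nat_lit 3, nat_lit 1, nat_lit 1, nat_lit 2, nat_lit 5, nat_lit 1], .rel (nat_lit 102) (nat_lit 6) [nat_lit 4, nat_lit 0, nat_lit 0, nat_lit 3, nat_lit 1, nat_lit 2, nat_lit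 5], .rel (nat_lit 121) (nat_lit 7) [nat_lit 4, nat_lit 7, nat_lit 0, nat_lit 7, nat_lit 1, nat_lit 5, nat_lit 1], .rel (nat_lit 162) (nat_lit 4) [nat_lit 2, nat_lit 1, nat_lit 5, nat_lit 0, nat_lit 2, nat_lit 0, nat_lit 5], .rel (nat_lit 192) (nat_lit 3) [nat_lit 2, nat_lit 6, nat_lit 6, nat_lit 5, nat_lit 0, nat_lit 2, nat_lit 5], .rel (nat_lit 196) (nat_lit 5) [nat_lit 5, nat_lit 5, nat_lit 0, nat_lit 2, nat_lit 5, nat_lit 2, nat_lit 4], .rel (nat_lit 215) (nat_lit 3) [nat_lit 4, nat_lit 6, nat_lit 3, nat_lit 1, nat_lit 4, nat_lit 6, nat_lit 3], .rel (nat_lit 320) (nat_lit 9) [nat_lit 10, nat_lit 2, nat_lit 8, nat_lit 3, nat_lit 10, nat_lit 1, nat_lit 4, nat_lit 8, nat_lit 4], .rel (nat_lit 350) (nat_lit 7) [nat_lit 13, nat_lit 2, nat_lit 13, nat_lit 8, nat_lit 4, nat_lit 8, nat_lit 2], .rel (nat_lit 371) (nat_lit 6) [nat_lit 7, nat_lit 4, nat_lit 12, nat_lit 0, nat_lit 12, nat_lit 3], .rel (nat_lit 423) (nat_lit 6) [nat_lit 4, nat_lit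 14, nat_lit 5, nat_lit 14, nat_lit 2, nat_lit 1], .rel (nat_lit 427) (nat_lit 6) [nat_lit 14, nat_lit 1, nat_lit 5, nat_lit 0, nat_lit 14, nat_lit 0, nat_lit 5], .rel (nat_lit 59) (nat_lit 6) [nat_lit 1, nat_lit 6, nat_lit 3, nat_lit 6, nat_lit 1, nat_lit 1, nat_lit 3], .rel (nat_lit 75) (nat_lit 6) [nat_lit 1, nat_lit 2, nat_lit 2, nat_lit 1, nat_lit 1, nat_lit 3, nat_lit 3], .rel (nat_lit 91) (nat_lit 7) [nat_lit 3, nat_lit 6, nat_lit 5, nat_lit 6, nat_lit 4, nat_lit 3, nat_lit 1], .rel (nat_lit 101) (nat_lit 7) [nat_lit 3, nat_lit 7, nat_lit 0, nat_lit 7, nat_lit 1, nat_lit 2, nat_lit 1], .rel (nat_lit 102) (nat_lit 3) [nat_lit 2, nat_lit 5, nat_lit 1, nat_lit 4, nat_lit 0, nat_lit 0, nat_lit 3], .rel (nat_lit 107) (nat_lit 7) [nat_lit 3, nat_lit 4, nat_lit 1, nat_lit 1, nat_lit 5, nat_lit 2, nat_lit 1], .rel (nat_lit 121) (nat_lit 6) [nat_lit 1, nat_lit 4, nat_lit 7, nat_lit 0, nat_lit 7, nat_lit 1, nat_lit 5], .rel (nat_lit 170)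 (nat_lit 2) [nat_lit 5, nat_lit 1, nat_lit 2, nat_lit 0, nat_lit 5, nat_lit 0, nat_lit 2], .rel (nat_lit 170) (nat_lit 4) [nat_lit 2, nat_lit 0, nat_lit 5, nat_lit 0, nat_lit 2, nat_lit 1, nat_lit 5], .rel (nat_lit 175) (nat_lit 4) [nat_lit 3, nat_lit 3, nat_lit 1, nat_lit 4, nat_lit 3, nat_lit 4, nat_lit 2], .rel (nat_lit 193) (nat_lit 7) [nat_lit 4, nat_lit 7, nat_lit 7, nat_lit 3, nat_lit 0, nat_lit 4, nat_lit 3], .rel (nat_lit 207) (nat_lit 3) [nat_lit 2, nat_lit 7, nat_lit 3, nat_lit 1, nat_lit 4, nat_lit 6, nat_lit 5], .rel (nat_lit 220) (nat_lit 6) [nat_lit 2, nat_lit 0, nat_lit 3, nat_lit 0, nat_lit 5, nat_lit 1, nat_lit 4], .rel (nat_lit 259) (nat_lit 7) [nat_lit 5, nat_lit 2, nat_lit 4, nat_lit 2, nat_lit 0, nat_lit 5, nat_lit 5], .rel (nat_lit 304) (nat_lit 6) [nat_lit 5, nat_lit 1, nat_lit 10, nat_lit 5, nat_lit 3, nat_lit 10, nat_lit 6, nat_lit 5], .rel (nat_lit 359) (nat_lit 8) [nat_lit 13, nat_lit 0, nat_lit 2, nat_lit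 8, nat_lit 2, nat_lit 8, nat_lit 13, nat_lit 0, nat_lit 5], .rel (nat_lit 406) (nat_lit 8) [nat_lit 8, nat_lit 1, nat_lit 12, nat_lit 2, nat_lit 11, nat_lit 10, nat_lit 9, nat_lit 11, nat_lit 12, nat_lit 1], .rel (nat_lit 59) (nat_lit 4) [nat_lit 3, nat_lit 1, nat_lit 1, nat_lit 6, nat_lit 3, nat_lit 6, nat_lit 1], .rel (nat_lit 69) (nat_lit 6) [nat_lit 1, nat_lit 4, nat_lit 1, nat_lit 5, nat_lit 2, nat_lit 0, nat_lit 3], .rel (nat_lit 76) (nat_lit 5) [nat_lit 2, nat_lit 2, nat_lit 0, nat_lit 0, nat_lit 2, nat_lit 2, nat_lit 1], .rel (nat_lit 79) (nat_lit 7) [nat_lit 7, nat_lit 4, nat_lit 7, nat_lit 5, nat_lit 3, nat_lit 3, nat_lit 1], .rel (nat_lit 87) (nat_lit 7) [nat_lit 2, nat_lit 5, nat_lit 1, nat_lit 1, nat_lit 4, nat_lit 3, nat_lit 1], .rel (nat_lit 97) (nat_lit 6) [nat_lit 1, nat_lit 7, nat_lit 2, nat_lit 7, nat_lit 1, nat_lit 1, nat_lit 2], .rel (nat_lit 107) (nat_lit 2) [nat_lit 1, nat_lit 5, nat_lit 2, nat_lit 1, nat_lit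 1, nat_lit 3, nat_lit 4], .rel (nat_lit 107) (nat_lit 3) [nat_lit 5, nat_lit 2, nat_lit 1, nat_lit 1, nat_lit 3, nat_lit 4, nat_lit 1], .rel (nat_lit 123) (nat_lit 7) [nat_lit 4, nat_lit 6, nat_lit 1, nat_lit 6, nat_lit 0, nat_lit 5, nat_lit 1], .rel (nat_lit 125) (nat_lit 2) [nat_lit 1, nat_lit 5, nat_lit 5, nat_lit 1, nat_lit 1, nat_lit 4, nat_lit 4], .rel (nat_lit 125) (nat_lit 6) [nat_lit 1, nat_lit 4, nat_lit 4, nat_lit 1, nat_lit 1, nat_lit 5, nat_lit 5], .rel (nat_lit 135) (nat_lit 2) [nat_lit 6, nat_lit 0, nat_lit 4, nat_lit 1, nat_lit 1, nat_lit 5, nat_lit 6], .rel (nat_lit 159) (nat_lit 5) [nat_lit 3, nat_lit 1, nat_lit 5, nat_lit 0, nat_lit 4, nat_lit 0, nat_lit 2], .rel (nat_lit 160) (nat_lit 6) [nat_lit 3, nat_lit 0, nat_lit 2, nat_lit 0, nat_lit 4, nat_lit 0, nat_lit 5], .rel (nat_lit 163) (nat_lit 5) [nat_lit 3, nat_lit 1, nat_lit 4, nat_lit 0, nat_lit 3, nat_lit 0, nat_lit 4], .rel (nat_lit 163) (nat_lit 7) [nat_lit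 4, nat_lit 0, nat_lit 3, nat_lit 0, nat_lit 4, nat_lit 1, nat_lit 3], .rel (nat_lit 171) (nat_lit 7) [nat_lit 4, nat_lit 1, nat_lit 3, nat_lit 0, nat_lit 4, nat_lit 0, nat_lit 3], .rel (nat_lit 197) (nat_lit 7) [nat_lit 4, nat_lit 4, nat_lit 0, nat_lit 5, nat_lit 3, nat_lit 4, nat_lit 3], .rel (nat_lit 210) (nat_lit 4) [nat_lit 5, nat_lit 2, nat_lit 7, nat_lit 0, nat_lit 2, nat_lit 6, nat_lit 4], .rel (nat_lit 241) (nat_lit 4) [nat_lit 4, nat_lit 2, nat_lit 1, nat_lit 4, nat_lit 6, nat_lit 3, nat_lit 6], .rel (nat_lit 291) (nat_lit 2) [nat_lit 3, nat_lit 7, nat_lit 8, nat_lit 2, nat_lit 5, nat_lit 9, nat_lit 0, nat_lit 2], .rel (nat_lit 292) (nat_lit 9) [nat_lit 8, nat_lit 2, nat_lit 8, nat_lit 4, nat_lit 9, nat_lit 3, nat_lit 9, nat_lit 1, nat_lit 5], .rel (nat_lit 326) (nat_lit 7) [nat_lit 11, nat_lit 2, nat_lit 11, nat_lit 4, nat_lit 2, nat_lit 0, nat_lit 3], .rel (nat_lit 396) (nat_lit 8) [nat_lit 12, nat_lit 11, nat_lit 3, nat_lit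 11, nat_lit 3, nat_lit 12, nat_lit 5, nat_lit 2], .rel (nat_lit 406) (nat_lit 7) [nat_lit 1, nat_lit 8, nat_lit 1, nat_lit 12, nat_lit 2, nat_lit 11, nat_lit 10, nat_lit 9, nat_lit 11, nat_lit 12], .rel (nat_lit 430) (nat_lit 6) [nat_lit 10, nat_lit 0, nat_lit 3, nat_lit 14, nat_lit 0, nat_lit 10, nat_lit 1, nat_lit 14, nat_lit 2], .rel (nat_lit 59) (nat_lit 7) [nat_lit 6, nat_lit 3, nat_lit 6, nat_lit 1, nat_lit 1, nat_lit 3, nat_lit 1], .rel (nat_lit 61) (nat_lit 6) [nat_lit 1, nat_lit 4, nat_lit 0, nat_lit 5, nat_lit 2, nat_lit 1, nat_lit 3], .rel (nat_lit 65) (nat_lit 6) [nat_lit 1, nat_lit 2, nat_lit 7, nat_lit 0, nat_lit 7, nat_lit 1, nat_lit 3], .rel (nat_lit 66) (nat_lit 5) [nat_lit 2, nat_lit 6, nat_lit 0, nat_lit 0, nat_lit 2, nat_lit 0, nat_lit 7], .rel (nat_lit 67) (nat_lit 4) [nat_lit 3, nat_lit 1, nat_lit 1, nat_lit 7, nat_lit 3, nat_lit 0, nat_lit 6], .rel (nat_lit 71) (nat_lit 7) [nat_lit 5, nat_lit 1, nat_lit 3, nat_lit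 5, nat_lit 0, nat_lit 3, nat_lit 1], .rel (nat_lit 73) (nat_lit 7) [nat_lit 2, nat_lit 6, nat_lit 1, nat_lit 6, nat_lit 0, nat_lit 3, nat_lit 1], .rel (nat_lit 75) (nat_lit 2) [nat_lit 1, nat_lit 3, nat_lit 3, nat_lit 1, nat_lit 1, nat_lit 2, nat_lit 2], .rel (nat_lit 85) (nat_lit 6) [nat_lit 1, nat_lit 6, nat_lit 5, nat_lit 3, nat_lit 6, nat_lit 5, nat_lit 3], .rel (nat_lit 87) (nat_lit 6) [nat_lit 1, nat_lit 2, nat_lit 5, nat_lit 1, nat_lit 1, nat_lit 4, nat_lit 3], .rel (nat_lit 99) (nat_lit 7) [nat_lit 5, nat_lit 1, nat_lit 4, nat_lit 3, nat_lit 1, nat_lit 2, nat_lit 1], .rel (nat_lit 101) (nat_lit 6) [nat_lit 1, nat_lit 3, nat_lit 7, nat_lit 0, nat_lit 7, nat_lit 1, nat_lit 2], .rel (nat_lit 123) (nat_lit 6) [nat_lit 1, nat_lit 4, nat_lit 6, nat_lit 1, nat_lit 6, nat_lit 0, nat_lit 5], .rel (nat_lit 125) (nat_lit 7) [nat_lit 4, nat_lit 4, nat_lit 1, nat_lit 1, nat_lit 5, nat_lit 5, nat_lit 1], .rel (nat_lit 127) (nat_lit 6) [nat_lit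 1, nat_lit 4, nat_lit 0, nat_lit 7, nat_lit 1, nat_lit 7, nat_lit 5], .rel (nat_lit 131) (nat_lit 1) [nat_lit 6, nat_lit 0, nat_lit 6, nat_lit 5, nat_lit 1, nat_lit 1, nat_lit 4], .rel (nat_lit 137) (nat_lit 6) [nat_lit 1, nat_lit 7, nat_lit 5, nat_lit 7, nat_lit 3, nat_lit 3, nat_lit 4], .rel (nat_lit 157) (nat_lit 7) [nat_lit 2, nat_lit 1, nat_lit 2, nat_lit 1, nat_lit 3, nat_lit 1, nat_lit 3], .rel (nat_lit 161) (nat_lit 3) [nat_lit 5, nat_lit 1, nat_lit 3, nat_lit 1, nat_lit 2, nat_lit 0, nat_lit 4], .rel (nat_lit 162) (nat_lit 6) [nat_lit 5, nat_lit 0, nat_lit 2, nat_lit 0, nat_lit 5, nat_lit 1, nat_lit 2], .rel (nat_lit 165) (nat_lit 3) [nat_lit 6, nat_lit 1, nat_lit 3, nat_lit 1, nat_lit 6, nat_lit 1, nat_lit 3], .rel (nat_lit 166) (nat_lit 2) [nat_lit 2, nat_lit 0, nat_lit 3, nat_lit 1, nat_lit 3, nat_lit 0, nat_lit 2], .rel (nat_lit 167) (nat_lit 3) [nat_lit 3, nat_lit 0, nat_lit 3, nat_lit 1, nat_lit 2, nat_lit 0, nat_lit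 2], .rel (nat_lit 168) (nat_lit 2) [nat_lit 4, nat_lit 0, nat_lit 5, nat_lit 0, nat_lit 3, nat_lit 0, nat_lit 2], .rel (nat_lit 177) (nat_lit 4) [nat_lit 3, nat_lit 3, nat_lit 1, nat_lit 2, nat_lit 5, nat_lit 3, nat_lit 5], .rel (nat_lit 185) (nat_lit 7) [nat_lit 2, nat_lit 2, nat_lit 1, nat_lit 6, nat_lit 6, nat_lit 3, nat_lit 3], .rel (nat_lit 194) (nat_lit 3) [nat_lit 4, nat_lit 7, nat_lit 2, nat_lit 7, nat_lit 0, nat_lit 2, nat_lit 5], .rel (nat_lit 231) (nat_lit 1) [nat_lit 6, nat_lit 5, nat_lit 2, nat_lit 5, nat_lit 2, nat_lit 1, nat_lit 7], .rel (nat_lit 236) (nat_lit 6) [nat_lit 6, nat_lit 0, nat_lit 3, nat_lit 4, nat_lit 7, nat_lit 3, nat_lit 4], .rel (nat_lit 267) (nat_lit 1) [nat_lit 7, nat_lit 4, nat_lit 7, nat_lit 7, nat_lit 5, nat_lit 1, nat_lit 6], .rel (nat_lit 361) (nat_lit 8) [nat_lit 13, nat_lit 3, nat_lit 8, nat_lit 11, nat_lit 3, nat_lit 10, nat_lit 13, nat_lit 0, nat_lit 10], .rel (nat_lit 428) (nat_lit 3) [nat_lit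 14, nat_lit 10, nat_lit 4, nat_lit 2, nat_lit 7, nat_lit 10, nat_lit 14, nat_lit 0, nat_lit 2], .rel (nat_lit 439) (nat_lit 0) [nat_lit 3, nat_lit 10, nat_lit 2, nat_lit 10, nat_lit 0, nat_lit 12, nat_lit 2, nat_lit 10, nat_lit 3, nat_lit 12], .rel (nat_lit 65) (nat_lit 7) [nat_lit 2, nat_lit 7, nat_lit 0, nat_lit 7, nat_lit 1, nat_lit 3, nat_lit 1], .rel (nat_lit 69) (nat_lit 7) [nat_lit 4, nat_lit 1, nat_lit 5, nat_lit 2, nat_lit 0, nat_lit 3, nat_lit 1], .rel (nat_lit 73) (nat_lit 6) [nat_lit 1, nat_lit 2, nat_lit 6, nat_lit 1, nat_lit 6, nat_lit 0, nat_lit 3], .rel (nat_lit 81) (nat_lit 7) [nat_lit 4, nat_lit 6, nat_lit 5, nat_lit 6, nat_lit 3, nat_lit 3, nat_lit 1], .rel (nat_lit 83) (nat_lit 6) [nat_lit 1, nat_lit 7, nat_lit 5, nat_lit 6, nat_lit 2, nat_lit 5, nat_lit 3], .rel (nat_lit 83) (nat_lit 7) [nat_lit 7, nat_lit 5, nat_lit 6, nat_lit 2, nat_lit 5, nat_lit 3, nat_lit 1], .rel (nat_lit 89) (nat_lit 7) [nat_lit 6, nat_lit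 4, nat_lit 7, nat_lit 2, nat_lit 4, nat_lit 3, nat_lit 1], .rel (nat_lit 92) (nat_lit 6) [nat_lit 3, nat_lit 0, nat_lit 0, nat_lit 2, nat_lit 6, nat_lit 0, nat_lit 6], .rel (nat_lit 95) (nat_lit 6) [nat_lit 1, nat_lit 4, nat_lit 7, nat_lit 3, nat_lit 4, nat_lit 7, nat_lit 3], .rel (nat_lit 99) (nat_lit 6) [nat_lit 1, nat_lit 5, nat_lit 1, nat_lit 4, nat_lit 3, nat_lit 1, nat_lit 2], .rel (nat_lit 104) (nat_lit 3) [nat_lit 6, nat_lit 0, nat_lit 3, nat_lit 7, nat_lit 0, nat_lit 0, nat_lit 3], .rel (nat_lit 107) (nat_lit 6) [nat_lit 1, nat_lit 3, nat_lit 4, nat_lit 1, nat_lit 1, nat_lit 5, nat_lit 2], .rel (nat_lit 111) (nat_lit 2) [nat_lit 1, nat_lit 4, nat_lit 2, nat_lit 1, nat_lit 1, nat_lit 3, nat_lit 5], .rel (nat_lit 111) (nat_lit 6) [nat_lit 1, nat_lit 3, nat_lit 5, nat_lit 1, nat_lit 1, nat_lit 4, nat_lit 2], .rel (nat_lit 113) (nat_lit 6) [nat_lit 1, nat_lit 7, nat_lit 4, nat_lit 2, nat_lit 7, nat_lit 4, nat_lit 2], .rel (nat_lit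 127) (nat_lit 7) [nat_lit 4, nat_lit 0, nat_lit 7, nat_lit 1, nat_lit 7, nat_lit 5, nat_lit 1], .rel (nat_lit 133) (nat_lit 7) [nat_lit 6, nat_lit 4, nat_lit 3, nat_lit 3, nat_lit 6, nat_lit 5, nat_lit 1], .rel (nat_lit 135) (nat_lit 7) [nat_lit 5, nat_lit 6, nat_lit 1, nat_lit 6, nat_lit 0, nat_lit 4, nat_lit 1], .rel (nat_lit 139) (nat_lit 6) [nat_lit 1, nat_lit 6, nat_lit 5, nat_lit 2, nat_lit 7, nat_lit 3, nat_lit 4], .rel (nat_lit 141) (nat_lit 6) [nat_lit 1, nat_lit 3, nat_lit 7, nat_lit 4, nat_lit 6, nat_lit 2, nat_lit 4], .rel (nat_lit 143) (nat_lit 6) [nat_lit 1, nat_lit 5, nat_lit 0, nat_lit 7, nat_lit 1, nat_lit 7, nat_lit 4], .rel (nat_lit 143) (nat_lit 7) [nat_lit 5, nat_lit 0, nat_lit 7, nat_lit 1, nat_lit 7, nat_lit 4, nat_lit 1], .rel (nat_lit 157) (nat_lit 5) [nat_lit 3, nat_lit 1, nat_lit 2, nat_lit 1, nat_lit 2, nat_lit 1, nat_lit 3], .rel (nat_lit 159) (nat_lit 7) [nat_lit 5, nat_lit 0, nat_lit 4, nat_lit 0, nat_lit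 2, nat_lit 1, nat_lit 3], .rel (nat_lit 161) (nat_lit 5) [nat_lit 3, nat_lit 1, nat_lit 2, nat_lit 0, nat_lit 4, nat_lit 1, nat_lit 5], .rel (nat_lit 169) (nat_lit 1) [nat_lit 4, nat_lit 1, nat_lit 5, nat_lit 0, nat_lit 3, nat_lit 1, nat_lit 2], .rel (nat_lit 180) (nat_lit 3) [nat_lit 4, nat_lit 6, nat_lit 5, nat_lit 7, nat_lit 0, nat_lit 2, nat_lit 2], .rel (nat_lit 186) (nat_lit 4) [nat_lit 5, nat_lit 7, nat_lit 2, nat_lit 0, nat_lit 2, nat_lit 4, nat_lit 7], .rel (nat_lit 189) (nat_lit 4) [nat_lit 4, nat_lit 3, nat_lit 1, nat_lit 7, nat_lit 4, nat_lit 6, nat_lit 2], .rel (nat_lit 191) (nat_lit 4) [nat_lit 4, nat_lit 3, nat_lit 1, nat_lit 6, nat_lit 2, nat_lit 5, nat_lit 7], .rel (nat_lit 199) (nat_lit 7) [nat_lit 6, nat_lit 0, nat_lit 4, nat_lit 6, nat_lit 2, nat_lit 4, nat_lit 3], .rel (nat_lit 223) (nat_lit 7) [nat_lit 7, nat_lit 7, nat_lit 2, nat_lit 2, nat_lit 1, nat_lit 2, nat_lit 2], .rel (nat_lit 227) (nat_lit 4) [nat_lit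 5, nat_lit 2, nat_lit 1, nat_lit 7, nat_lit 7, nat_lit 5, nat_lit 2], .rel (nat_lit 229) (nat_lit 4) [nat_lit 5, nat_lit 2, nat_lit 1, nat_lit 5, nat_lit 5, nat_lit 3, nat_lit 5], .rel (nat_lit 233) (nat_lit 3) [nat_lit 7, nat_lit 5, nat_lit 2, nat_lit 1, nat_lit 7, nat_lit 3, nat_lit 4], .rel (nat_lit 239) (nat_lit 4) [nat_lit 4, nat_lit 2, nat_lit 1, nat_lit 5, nat_lit 2, nat_lit 5, nat_lit 5], .rel (nat_lit 243) (nat_lit 7) [nat_lit 6, nat_lit 4, nat_lit 6, nat_lit 3, nat_lit 0, nat_lit 4, nat_lit 2], .rel (nat_lit 245) (nat_lit 7) [nat_lit 3, nat_lit 5, nat_lit 6, nat_lit 0, nat_lit 7, nat_lit 4, nat_lit 2], .rel (nat_lit 253) (nat_lit 3) [nat_lit 6, nat_lit 3, nat_lit 5, nat_lit 1, nat_lit 6, nat_lit 3, nat_lit 5], .rel (nat_lit 255) (nat_lit 7) [nat_lit 7, nat_lit 2, nat_lit 5, nat_lit 7, nat_lit 1, nat_lit 2, nat_lit 5], .rel (nat_lit 269) (nat_lit 7) [nat_lit 3, nat_lit 3, nat_lit 6, nat_lit 1, nat_lit 5, nat_lit 6, nat_lit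 4], .rel (nat_lit 271) (nat_lit 5) [nat_lit 7, nat_lit 1, nat_lit 5, nat_lit 7, nat_lit 7, nat_lit 4, nat_lit 6], .rel (nat_lit 275) (nat_lit 8) [nat_lit 1, nat_lit 2, nat_lit 4, nat_lit 4, nat_lit 2, nat_lit 5, nat_lit 7, nat_lit 5, nat_lit 7], .rel (nat_lit 295) (nat_lit 7) [nat_lit 9, nat_lit 3, nat_lit 9, nat_lit 0, nat_lit 2, nat_lit 4, nat_lit 7, nat_lit 8, nat_lit 2, nat_lit 8], .rel (nat_lit 318) (nat_lit 6) [nat_lit 4, nat_lit 1, nat_lit 1, nat_lit 10, nat_lit 2, nat_lit 0, nat_lit 3, nat_lit 10, nat_lit 4], .rel (nat_lit 327) (nat_lit 2) [nat_lit 3, nat_lit 5, nat_lit 11, nat_lit 3, nat_lit 11, nat_lit 0, nat_lit 2], .rel (nat_lit 376) (nat_lit 7) [nat_lit 12, nat_lit 4, nat_lit 3, nat_lit 12, nat_lit 4, nat_lit 1, nat_lit 2], .rel (nat_lit 378) (nat_lit 7) [nat_lit 12, nat_lit 8, nat_lit 12, nat_lit 5, nat_lit 9, nat_lit 4, nat_lit 9], .rel (nat_lit 382) (nat_lit 7) [nat_lit 3, nat_lit 12, nat_lit 2, nat_lit 6, nat_lit 3,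 nat_lit 12, nat_lit 5, nat_lit 1], .rel (nat_lit 384) (nat_lit 9) [nat_lit 12, nat_lit 2, nat_lit 8, nat_lit 3, nat_lit 12, nat_lit 1, nat_lit 5, nat_lit 8, nat_lit 5], .rel (nat_lit 434) (nat_lit 7) [nat_lit 5, nat_lit 10, nat_lit 1, nat_lit 14, nat_lit 0, nat_lit 6, nat_lit 1, nat_lit 14, nat_lit 3, nat_lit 10], .sub (nat_lit 2) [] [], .rel (nat_lit 65) (nat_lit 4) [nat_lit 3, nat_lit 1, nat_lit 1, nat_lit 2, nat_lit 7, nat_lit 0, nat_lit 7], .rel (nat_lit 67) (nat_lit 6) [nat_lit 1, nat_lit 7, nat_lit 3, nat_lit 0, nat_lit 6, nat_lit 1, nat_lit 3], .rel (nat_lit 71) (nat_lit 6) [nat_lit 1, nat_lit 5, nat_lit 1, nat_lit 3, nat_lit 5, nat_lit 0, nat_lit 3], .rel (nat_lit 72) (nat_lit 3) [nat_lit 7, nat_lit 0, nat_lit 7, nat_lit 3, nat_lit 0, nat_lit 0, nat_lit 2], .rel (nat_lit 73) (nat_lit 2) [nat_lit 6, nat_lit 0, nat_lit 3, nat_lit 1, nat_lit 1, nat_lit 2, nat_lit 6], .rel (nat_lit 76) (nat_lit 4) [nat_lit 1, nat_lit 2, nat_lit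 2, nat_lit 0, nat_lit 0, nat_lit 2, nat_lit 2], .rel (nat_lit 81) (nat_lit 6) [nat_lit 1, nat_lit 4, nat_lit 6, nat_lit 5, nat_lit 6, nat_lit 3, nat_lit 3], .rel (nat_lit 85) (nat_lit 7) [nat_lit 6, nat_lit 5, nat_lit 3, nat_lit 6, nat_lit 5, nat_lit 3, nat_lit 1], .rel (nat_lit 89) (nat_lit 6) [nat_lit 1, nat_lit 6, nat_lit 4, nat_lit 7, nat_lit 2, nat_lit 4, nat_lit 3], .rel (nat_lit 91) (nat_lit 6) [nat_lit 1, nat_lit 3, nat_lit 6, nat_lit 5, nat_lit 6, nat_lit 4, nat_lit 3], .rel (nat_lit 95) (nat_lit 7) [nat_lit 4, nat_lit 7, nat_lit 3, nat_lit 4, nat_lit 7, nat_lit 3, nat_lit 1], .rel (nat_lit 97) (nat_lit 3) [nat_lit 1, nat_lit 2, nat_lit 1, nat_lit 1, nat_lit 7, nat_lit 2, nat_lit 7], .rel (nat_lit 97) (nat_lit 7) [nat_lit 7, nat_lit 2, nat_lit 7, nat_lit 1, nat_lit 1, nat_lit 2, nat_lit 1], .rel (nat_lit 99) (nat_lit 4) [nat_lit 2, nat_lit 1, nat_lit 1, nat_lit 5, nat_lit 1, nat_lit 4, nat_lit 3], .rel (nat_lit 101) (nat_lit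 4) [nat_lit 2, nat_lit 1, nat_lit 1, nat_lit 3, nat_lit 7, nat_lit 0, nat_lit 7], .rel (nat_lit 103) (nat_lit 7) [nat_lit 5, nat_lit 0, nat_lit 4, nat_lit 3, nat_lit 0, nat_lit 2, nat_lit 1], .rel (nat_lit 109) (nat_lit 6) [nat_lit 1, nat_lit 6, nat_lit 3, nat_lit 4, nat_lit 7, nat_lit 5, nat_lit 2], .rel (nat_lit 119) (nat_lit 6) [nat_lit 1, nat_lit 5, nat_lit 6, nat_lit 2, nat_lit 5, nat_lit 6, nat_lit 2], .rel (nat_lit 119) (nat_lit 7) [nat_lit 5, nat_lit 6, nat_lit 2, nat_lit 5, nat_lit 6, nat_lit 2, nat_lit 1], .rel (nat_lit 120) (nat_lit 5) [nat_lit 6, nat_lit 5, nat_lit 0, nat_lit 0, nat_lit 4, nat_lit 0, nat_lit 6], .rel (nat_lit 121) (nat_lit 4) [nat_lit 5, nat_lit 1, nat_lit 1, nat_lit 4, nat_lit 7, nat_lit 0, nat_lit 7], .rel (nat_lit 122) (nat_lit 3) [nat_lit 7, nat_lit 0, nat_lit 7, nat_lit 5, nat_lit 0, nat_lit 0, nat_lit 4], .rel (nat_lit 123) (nat_lit 2) [nat_lit 6, nat_lit 0, nat_lit 5, nat_lit 1, nat_lit 1, nat_lit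 4, nat_lit 6], .rel (nat_lit 129) (nat_lit 6) [nat_lit 1, nat_lit 2, nat_lit 7, nat_lit 5, nat_lit 2, nat_lit 7, nat_lit 5], .rel (nat_lit 133) (nat_lit 6) [nat_lit 1, nat_lit 6, nat_lit 4, nat_lit 3, nat_lit 3, nat_lit 6, nat_lit 5], .rel (nat_lit 134) (nat_lit 3) [nat_lit 7, nat_lit 0, nat_lit 7, nat_lit 4, nat_lit 0, nat_lit 0, nat_lit 5], .rel (nat_lit 142) (nat_lit 6) [nat_lit 4, nat_lit 0, nat_lit 0, nat_lit 5, nat_lit 6, nat_lit 0, nat_lit 6], .rel (nat_lit 147) (nat_lit 6) [nat_lit 1, nat_lit 5, nat_lit 6, nat_lit 3, nat_lit 5, nat_lit 2, nat_lit 7], .rel (nat_lit 147) (nat_lit 7) [nat_lit 5, nat_lit 6, nat_lit 3, nat_lit 5, nat_lit 2, nat_lit 7, nat_lit 1], .rel (nat_lit 149) (nat_lit 6) [nat_lit 1, nat_lit 3, nat_lit 5, nat_lit 6, nat_lit 4, nat_lit 2, nat_lit 7], .rel (nat_lit 151) (nat_lit 6) [nat_lit 1, nat_lit 4, nat_lit 2, nat_lit 6, nat_lit 3, nat_lit 5, nat_lit 7], .rel (nat_lit 151) (nat_lit 7) [nat_lit 4, nat_lit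 2, nat_lit 6, nat_lit 3, nat_lit 5, nat_lit 7, nat_lit 1], .rel (nat_lit 153) (nat_lit 6) [nat_lit 1, nat_lit 4, nat_lit 2, nat_lit 2, nat_lit 6, nat_lit 5, nat_lit 6], .rel (nat_lit 157) (nat_lit 3) [nat_lit 3, nat_lit 1, nat_lit 3, nat_lit 1, nat_lit 2, nat_lit 1, nat_lit 2], .rel (nat_lit 166) (nat_lit 6) [nat_lit 3, nat_lit 0, nat_lit 2, nat_lit 1, nat_lit 2, nat_lit 0, nat_lit 3], .rel (nat_lit 167) (nat_lit 7) [nat_lit 2, nat_lit 0, nat_lit 2, nat_lit 1, nat_lit 3, nat_lit 0, nat_lit 3], .rel (nat_lit 171) (nat_lit 1) [nat_lit 3, nat_lit 0, nat_lit 4, nat_lit 0, nat_lit 3, nat_lit 1, nat_lit 4], .rel (nat_lit 173) (nat_lit 7) [nat_lit 7, nat_lit 7, nat_lit 3, nat_lit 3, nat_lit 1, nat_lit 3, nat_lit 3], .rel (nat_lit 181) (nat_lit 7) [nat_lit 6, nat_lit 4, nat_lit 7, nat_lit 5, nat_lit 0, nat_lit 3, nat_lit 3], .rel (nat_lit 182) (nat_lit 6) [nat_lit 6, nat_lit 0, nat_lit 2, nat_lit 2, nat_lit 5, nat_lit 7, nat_lit 4], .rel (nat_lit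 185) (nat_lit 2) [nat_lit 6, nat_lit 6, nat_lit 3, nat_lit 3, nat_lit 1, nat_lit 2, nat_lit 2], .rel (nat_lit 189) (nat_lit 7) [nat_lit 7, nat_lit 4, nat_lit 6, nat_lit 2, nat_lit 1, nat_lit 4, nat_lit 3], .rel (nat_lit 191) (nat_lit 7) [nat_lit 6, nat_lit 2, nat_lit 5, nat_lit 7, nat_lit 1, nat_lit 4, nat_lit 3], .rel (nat_lit 198) (nat_lit 6) [nat_lit 7, nat_lit 0, nat_lit 2, nat_lit 5, nat_lit 3, nat_lit 7, nat_lit 5], .rel (nat_lit 201) (nat_lit 3) [nat_lit 7, nat_lit 4, nat_lit 3, nat_lit 1, nat_lit 2, nat_lit 5, nat_lit 7], .rel (nat_lit 207) (nat_lit 7) [nat_lit 4, nat_lit 6, nat_lit 5, nat_lit 1, nat_lit 2, nat_lit 7, nat_lit 3], .rel (nat_lit 213) (nat_lit 7) [nat_lit 3, nat_lit 5, nat_lit 7, nat_lit 1, nat_lit 4, nat_lit 7, nat_lit 3], .rel (nat_lit 216) (nat_lit 4) [nat_lit 4, nat_lit 6, nat_lit 3, nat_lit 0, nat_lit 2, nat_lit 7, nat_lit 5], .rel (nat_lit 217) (nat_lit 7) [nat_lit 2, nat_lit 7, nat_lit 5, nat_lit 0, nat_lit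 4, nat_lit 6, nat_lit 3], .rel (nat_lit 220) (nat_lit 4) [nat_lit 4, nat_lit 1, nat_lit 2, nat_lit 0, nat_lit 3, nat_lit 0, nat_lit 5], .rel (nat_lit 221) (nat_lit 5) [nat_lit 2, nat_lit 1, nat_lit 3, nat_lit 0, nat_lit 5, nat_lit 0, nat_lit 4], .rel (nat_lit 225) (nat_lit 4) [nat_lit 2, nat_lit 2, nat_lit 1, nat_lit 2, nat_lit 7, nat_lit 3, nat_lit 6], .rel (nat_lit 225) (nat_lit 7) [nat_lit 2, nat_lit 7, nat_lit 3, nat_lit 6, nat_lit 1, nat_lit 2, nat_lit 2], .rel (nat_lit 233) (nat_lit 7) [nat_lit 7, nat_lit 3, nat_lit 4, nat_lit 1, nat_lit 7, nat_lit 5, nat_lit 2], .rel (nat_lit 241) (nat_lit 7) [nat_lit 4, nat_lit 6, nat_lit 3, nat_lit 6, nat_lit 1, nat_lit 4, nat_lit 2], .rel (nat_lit 247) (nat_lit 3) [nat_lit 6, nat_lit 4, nat_lit 2, nat_lit 1, nat_lit 7, nat_lit 3, nat_lit 5], .rel (nat_lit 248) (nat_lit 4) [nat_lit 3, nat_lit 7, nat_lit 5, nat_lit 0, nat_lit 3, nat_lit 6, nat_lit 5], .rel (nat_lit 249) (nat_lit 7) [nat_lit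 4, nat_lit 6, nat_lit 2, nat_lit 0, nat_lit 4, nat_lit 7, nat_lit 2], .rel (nat_lit 251) (nat_lit 3) [nat_lit 5, nat_lit 6, nat_lit 2, nat_lit 1, nat_lit 3, nat_lit 7, nat_lit 4], .rel (nat_lit 255) (nat_lit 4) [nat_lit 2, nat_lit 5, nat_lit 1, nat_lit 7, nat_lit 2, nat_lit 5, nat_lit 7], .rel (nat_lit 261) (nat_lit 7) [nat_lit 6, nat_lit 6, nat_lit 5, nat_lit 5, nat_lit 0, nat_lit 5, nat_lit 5], .rel (nat_lit 263) (nat_lit 7) [nat_lit 2, nat_lit 5, nat_lit 2, nat_lit 4, nat_lit 0, nat_lit 5, nat_lit 5], .rel (nat_lit 265) (nat_lit 3) [nat_lit 3, nat_lit 7, nat_lit 5, nat_lit 1, nat_lit 4, nat_lit 3, nat_lit 6], .rel (nat_lit 269) (nat_lit 3) [nat_lit 5, nat_lit 6, nat_lit 4, nat_lit 1, nat_lit 3, nat_lit 3, nat_lit 6], .rel (nat_lit 294) (nat_lit 10) [nat_lit 8, nat_lit 2, nat_lit 8, nat_lit 0, nat_lit 9, nat_lit 3, nat_lit 9, nat_lit 6, nat_lit 5, nat_lit 3], .rel (nat_lit 302) (nat_lit 8) [nat_lit 10, nat_lit 4, nat_lit 3, nat_lit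 10, nat_lit 6, nat_lit 2, nat_lit 0, nat_lit 3], .rel (nat_lit 355) (nat_lit 7) [nat_lit 13, nat_lit 8, nat_lit 3, nat_lit 4, nat_lit 9, nat_lit 13, nat_lit 0, nat_lit 3], .rel (nat_lit 382) (nat_lit 6) [nat_lit 1, nat_lit 3, nat_lit 12, nat_lit 2, nat_lit 6, nat_lit 3, nat_lit 12, nat_lit 5], .rel (nat_lit 384) (nat_lit 5) [nat_lit 5, nat_lit 8, nat_lit 5, nat_lit 1, nat_lit 12, nat_lit 2, nat_lit 8, nat_lit 3, nat_lit 12], .rel (nat_lit 386) (nat_lit 6) [nat_lit 9, nat_lit 5, nat_lit 1, nat_lit 1, nat_lit 12, nat_lit 2, nat_lit 12, nat_lit 3, nat_lit 12, nat_lit 9], .rel (nat_lit 429) (nat_lit 8) [nat_lit 14, nat_lit 10, nat_lit 6, nat_lit 3, nat_lit 5, nat_lit 10, nat_lit 14, nat_lit 0, nat_lit 3], .rel (nat_lit 434) (nat_lit 3) [nat_lit 14, nat_lit 3, nat_lit 10, nat_lit 1, nat_lit 5, nat_lit 10, nat_lit 1, nat_lit 14, nat_lit 0, nat_lit 6], .rel (nat_lit 434) (nat_lit 10) [nat_lit 14, nat_lit 0, nat_lit 6, nat_lit 1, nat_lit 14,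 nat_lit 3, nat_lit 10, nat_lit 1, nat_lit 5, nat_lit 10], .rel (nat_lit 435) (nat_lit 9) [nat_lit 14, nat_lit 0, nat_lit 10, nat_lit 4, nat_lit 0, nat_lit 10, nat_lit 2, nat_lit 14, nat_lit 0, nat_lit 7], .rel (nat_lit 436) (nat_lit 8) [nat_lit 12, nat_lit 3, nat_lit 3, nat_lit 12, nat_lit 5, nat_lit 2, nat_lit 4, nat_lit 3]],
  [.rel (nat_lit 4) (nat_lit 0) [nat_lit 3], .defn, .rel (nat_lit 418) (nat_lit 3) [nat_lit 14, nat_lit 4, nat_lit 2, nat_lit 5, nat_lit 14], .rel (nat_lit 34) (nat_lit 0) [nat_lit 6, nat_lit 2, nat_lit 6], .rel (nat_lit 32) (nat_lit 0) [nat_lit 2, nat_lit 2, nat_lit 2], .rel (nat_lit 277) (nat_lit 4) [nat_lit 1, nat_lit 7, nat_lit 4, nat_lit 9, nat_lit 9], .rel (nat_lit 340) (nat_lit 0) [nat_lit 4, nat_lit 6, nat_lit 13, nat_lit 4, nat_lit 13], .rel (nat_lit 44) (nat_lit 1) [nat_lit 7, nat_lit 2, nat_lit 0, nat_lit 6, nat_lit 0], .rel (nat_lit 326) (nat_lit 1) [nat_lit 11, nat_lit 4, nat_lit 2, nat_lit 0, nat_lit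 3, nat_lit 1, nat_lit 11], .rel (nat_lit 42) (nat_lit 1) [nat_lit 4, nat_lit 1, nat_lit 2, nat_lit 4, nat_lit 0], .rel (nat_lit 50) (nat_lit 0) [nat_lit 2, nat_lit 4, nat_lit 2, nat_lit 2, nat_lit 5], .rel (nat_lit 42) (nat_lit 4) [nat_lit 4, nat_lit 0, nat_lit 2, nat_lit 4, nat_lit 1], .rel (nat_lit 52) (nat_lit 2) [nat_lit 6, nat_lit 6, nat_lit 4, nat_lit 2, nat_lit 4], .rel (nat_lit 50) (nat_lit 3) [nat_lit 2, nat_lit 5, nat_lit 2, nat_lit 2, nat_lit 4], .rel (nat_lit 50) (nat_lit 4) [nat_lit 5, nat_lit 2, nat_lit 2, nat_lit 4, nat_lit 2], .rel (nat_lit 44) (nat_lit 3) [nat_lit 0, nat_lit 6, nat_lit 0, nat_lit 2, nat_lit 7], .rel (nat_lit 350) (nat_lit 1) [nat_lit 13, nat_lit 8, nat_lit 4, nat_lit 8, nat_lit 2, nat_lit 1, nat_lit 13], .rel (nat_lit 50) (nat_lit 1) [nat_lit 4, nat_lit 2, nat_lit 2, nat_lit 5, nat_lit 2], .rel (nat_lit 54) (nat_lit 2) [nat_lit 5, nat_lit 6, nat_lit 6, nat_lit 2, nat_lit 5], .rel (nat_lit 47) (nat_lit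 2) [nat_lit 7, nat_lit 2, nat_lit 1, nat_lit 6, nat_lit 1], .rel (nat_lit 368) (nat_lit 5) [nat_lit 0, nat_lit 12, nat_lit 7, nat_lit 12, nat_lit 4], .rel (nat_lit 47) (nat_lit 4) [nat_lit 1, nat_lit 6, nat_lit 1, nat_lit 2, nat_lit 7], .rel (nat_lit 52) (nat_lit 0) [nat_lit 4, nat_lit 2, nat_lit 6, nat_lit 6, nat_lit 4], .rel (nat_lit 324) (nat_lit 3) [nat_lit 9, nat_lit 2, nat_lit 10, nat_lit 0, nat_lit 11, nat_lit 0, nat_lit 11], .rel (nat_lit 420) (nat_lit 0) [nat_lit 10, nat_lit 14, nat_lit 10, nat_lit 3, nat_lit 14], .rel (nat_lit 287) (nat_lit 5) [nat_lit 2, nat_lit 9, nat_lit 2, nat_lit 2, nat_lit 4, nat_lit 4, nat_lit 8], .rel (nat_lit 54) (nat_lit 0) [nat_lit 5, nat_lit 2, nat_lit 5, nat_lit 6, nat_lit 6], .rel (nat_lit 374) (nat_lit 0) [nat_lit 4, nat_lit 12, nat_lit 4, nat_lit 7, nat_lit 5, nat_lit 12], .rel (nat_lit 347) (nat_lit 1) [nat_lit 9, nat_lit 13, nat_lit 6, nat_lit 13, nat_lit 1, nat_lit 9], .rel (nat_lit 418)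 (nat_lit 0) [nat_lit 5, nat_lit 14, nat_lit 2, nat_lit 14, nat_lit 4], .rel (nat_lit 437) (nat_lit 7) [nat_lit 12, nat_lit 0, nat_lit 2, nat_lit 5, nat_lit 3, nat_lit 4, nat_lit 12, nat_lit 2], .rel (nat_lit 301) (nat_lit 5) [nat_lit 2, nat_lit 10, nat_lit 2, nat_lit 4, nat_lit 3, nat_lit 5, nat_lit 10], .rel (nat_lit 314) (nat_lit 5) [nat_lit 5, nat_lit 9, nat_lit 10, nat_lit 4, nat_lit 3, nat_lit 10, nat_lit 8], .rel (nat_lit 392) (nat_lit 3) [nat_lit 9, nat_lit 11, nat_lit 12, nat_lit 9, nat_lit 12, nat_lit 11, nat_lit 8], .rel (nat_lit 377) (nat_lit 5) [nat_lit 5, nat_lit 12, nat_lit 0, nat_lit 3, nat_lit 0, nat_lit 5, nat_lit 12], .rel (nat_lit 172) (nat_lit 2) [nat_lit 0, nat_lit 2, nat_lit 2, nat_lit 6, nat_lit 6, nat_lit 0, nat_lit 2], .rel (nat_lit 282) (nat_lit 5) [nat_lit 8, nat_lit 0, nat_lit 2, nat_lit 4, nat_lit 8, nat_lit 5], .rel (nat_lit 287) (nat_lit 6) [nat_lit 9, nat_lit 2, nat_lit 2, nat_lit 4, nat_lit 4, nat_lit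 8, nat_lit 2], .rel (nat_lit 74) (nat_lit 3) [nat_lit 0, nat_lit 0, nat_lit 3, nat_lit 3, nat_lit 0, nat_lit 0, nat_lit 2], .rel (nat_lit 357) (nat_lit 3) [nat_lit 13, nat_lit 9, nat_lit 13, nat_lit 1, nat_lit 13, nat_lit 4, nat_lit 7, nat_lit 8], .rel (nat_lit 285) (nat_lit 2) [nat_lit 8, nat_lit 4, nat_lit 3, nat_lit 1, nat_lit 8, nat_lit 4], .rel (nat_lit 324) (nat_lit 5) [nat_lit 10, nat_lit 0, nat_lit 11, nat_lit 0, nat_lit 11, nat_lit 2, nat_lit 9], .rel (nat_lit 349) (nat_lit 0) [nat_lit 11, nat_lit 8, nat_lit 5, nat_lit 10, nat_lit 11, nat_lit 1], .rel (nat_lit 372) (nat_lit 3) [nat_lit 8, nat_lit 8, nat_lit 12, nat_lit 0, nat_lit 12, nat_lit 2], .rel (nat_lit 62) (nat_lit 2) [nat_lit 0, nat_lit 4, nat_lit 2, nat_lit 1, nat_lit 4, nat_lit 0, nat_lit 0], .rel (nat_lit 354) (nat_lit 2) [nat_lit 1, nat_lit 13, nat_lit 8, nat_lit 5, nat_lit 2, nat_lit 9, nat_lit 13, nat_lit 0], .rel (nat_lit 362) (nat_lit 7) [nat_lit 8, nat_lit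 6, nat_lit 13, nat_lit 0, nat_lit 11, nat_lit 1, nat_lit 13, nat_lit 11, nat_lit 10], .rel (nat_lit 75) (nat_lit 1) [nat_lit 1, nat_lit 1, nat_lit 3, nat_lit 3, nat_lit 1, nat_lit 1, nat_lit 2], .rel (nat_lit 287) (nat_lit 0) [nat_lit 2, nat_lit 4, nat_lit 4, nat_lit 8, nat_lit 2, nat_lit 2, nat_lit 9], .rel (nat_lit 288) (nat_lit 1) [nat_lit 6, nat_lit 3, nat_lit 9, nat_lit 4, nat_lit 7, nat_lit 5, nat_lit 8], .rel (nat_lit 397) (nat_lit 6) [nat_lit 11, nat_lit 12, nat_lit 0, nat_lit 3, nat_lit 4, nat_lit 12, nat_lit 2, nat_lit 11], .rel (nat_lit 298) (nat_lit 1) [nat_lit 10, nat_lit 0, nat_lit 10, nat_lit 5, nat_lit 7, nat_lit 0], .rel (nat_lit 301) (nat_lit 6) [nat_lit 10, nat_lit 2, nat_lit 4, nat_lit 3, nat_lit 5, nat_lit 10, nat_lit 2], .rel (nat_lit 384) (nat_lit 1) [nat_lit 8, nat_lit 3, nat_lit 12, nat_lit 1, nat_lit 5, nat_lit 8, nat_lit 5, nat_lit 1, nat_lit 12], .rel (nat_lit 284) (nat_lit 1) [nat_lit 5, nat_lit 9, nat_lit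 3, nat_lit 5, nat_lit 9, nat_lit 0], .rel (nat_lit 396) (nat_lit 7) [nat_lit 1, nat_lit 12, nat_lit 11, nat_lit 3, nat_lit 11, nat_lit 3, nat_lit 12, nat_lit 5], .rel (nat_lit 60) (nat_lit 2) [nat_lit 0, nat_lit 3, nat_lit 4, nat_lit 1, nat_lit 5, nat_lit 0, nat_lit 0], .rel (nat_lit 372) (nat_lit 2) [nat_lit 2, nat_lit 8, nat_lit 8, nat_lit 12, nat_lit 0, nat_lit 12], .rel (nat_lit 315) (nat_lit 5) [nat_lit 5, nat_lit 10, nat_lit 8, nat_lit 4, nat_lit 3, nat_lit 9, nat_lit 10], .rel (nat_lit 354) (nat_lit 7) [nat_lit 9, nat_lit 13, nat_lit 0, nat_lit 2, nat_lit 1, nat_lit 13, nat_lit 8, nat_lit 5], .rel (nat_lit 428) (nat_lit 2) [nat_lit 1, nat_lit 14, nat_lit 10, nat_lit 4, nat_lit 2, nat_lit 7, nat_lit 10, nat_lit 14, nat_lit 0], .rel (nat_lit 312) (nat_lit 5) [nat_lit 10, nat_lit 0, nat_lit 8, nat_lit 10, nat_lit 9, nat_lit 4], .rel (nat_lit 408) (nat_lit 3) [nat_lit 12, nat_lit 11, nat_lit 12, nat_lit 6, nat_lit 11, nat_lit 1,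 nat_lit 4, nat_lit 12, nat_lit 11, nat_lit 12], .rel (nat_lit 282) (nat_lit 1) [nat_lit 4, nat_lit 8, nat_lit 5, nat_lit 2, nat_lit 8, nat_lit 0], .rel (nat_lit 423) (nat_lit 4) [nat_lit 1, nat_lit 1, nat_lit 4, nat_lit 14, nat_lit 5, nat_lit 14], .rel (nat_lit 301) (nat_lit 0) [nat_lit 4, nat_lit 3, nat_lit 5, nat_lit 10, nat_lit 2, nat_lit 2, nat_lit 10], .rel (nat_lit 162) (nat_lit 1) [nat_lit 0, nat_lit 5, nat_lit 1, nat_lit 2, nat_lit 1, nat_lit 5, nat_lit 0], .rel (nat_lit 172) (nat_lit 1) [nat_lit 2, nat_lit 0, nat_lit 2, nat_lit 2, nat_lit 6, nat_lit 6, nat_lit 0], .rel (nat_lit 380) (nat_lit 1) [nat_lit 0, nat_lit 3, nat_lit 12, nat_lit 2, nat_lit 5, nat_lit 7, nat_lit 12], .rel (nat_lit 70) (nat_lit 2) [nat_lit 1, nat_lit 4, nat_lit 2, nat_lit 0, nat_lit 4, nat_lit 0, nat_lit 0], .rel (nat_lit 333) (nat_lit 0) [nat_lit 10, nat_lit 5, nat_lit 2, nat_lit 4, nat_lit 11, nat_lit 8, nat_lit 11, nat_lit 9, nat_lit 11], .rel (nat_lit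 364) (nat_lit 7) [nat_lit 8, nat_lit 1, nat_lit 13, nat_lit 9, nat_lit 4, nat_lit 8, nat_lit 13, nat_lit 8, nat_lit 6], .rel (nat_lit 272) (nat_lit 4) [nat_lit 7, nat_lit 5, nat_lit 5, nat_lit 2, nat_lit 4, nat_lit 4, nat_lit 7], .rel (nat_lit 359) (nat_lit 3) [nat_lit 8, nat_lit 13, nat_lit 0, nat_lit 5, nat_lit 1, nat_lit 13, nat_lit 0, nat_lit 2, nat_lit 8], .rel (nat_lit 401) (nat_lit 5) [nat_lit 11, nat_lit 4, nat_lit 11, nat_lit 12, nat_lit 9, nat_lit 5, nat_lit 10, nat_lit 3, nat_lit 12], .rel (nat_lit 62) (nat_lit 5) [nat_lit 1, nat_lit 4, nat_lit 0, nat_lit 0, nat_lit 2, nat_lit 0, nat_lit 4], .rel (nat_lit 289) (nat_lit 4) [nat_lit 7, nat_lit 3, nat_lit 9, nat_lit 4, nat_lit 6, nat_lit 5, nat_lit 8], .rel (nat_lit 424) (nat_lit 5) [nat_lit 10, nat_lit 3, nat_lit 14, nat_lit 6, nat_lit 14, nat_lit 7, nat_lit 10], .rel (nat_lit 437) (nat_lit 6) [nat_lit 2, nat_lit 12, nat_lit 0, nat_lit 2, nat_lit 5, nat_lit 3, nat_lit 4, nat_lit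 12], .rel (nat_lit 305) (nat_lit 6) [nat_lit 4, nat_lit 10, nat_lit 0, nat_lit 4, nat_lit 0, nat_lit 4, nat_lit 7, nat_lit 10], .rel (nat_lit 318) (nat_lit 1) [nat_lit 0, nat_lit 3, nat_lit 10, nat_lit 4, nat_lit 1, nat_lit 4, nat_lit 1, nat_lit 1, nat_lit 10], .rel (nat_lit 360) (nat_lit 9) [nat_lit 13, nat_lit 0, nat_lit 10, nat_lit 1, nat_lit 13, nat_lit 10, nat_lit 2, nat_lit 11, nat_lit 9], .rel (nat_lit 395) (nat_lit 3) [nat_lit 12, nat_lit 11, nat_lit 1, nat_lit 11, nat_lit 12, nat_lit 10, nat_lit 2, nat_lit 9], .rel (nat_lit 68) (nat_lit 2) [nat_lit 1, nat_lit 3, nat_lit 4, nat_lit 0, nat_lit 5, nat_lit 0, nat_lit 0], .rel (nat_lit 69) (nat_lit 3) [nat_lit 0, nat_lit 3, nat_lit 1, nat_lit 1, nat_lit 4, nat_lit 1, nat_lit 5], .rel (nat_lit 227) (nat_lit 3) [nat_lit 1, nat_lit 5, nat_lit 2, nat_lit 1, nat_lit 7, nat_lit 7, nat_lit 5], .rel (nat_lit 74) (nat_lit 2) [nat_lit 2, nat_lit 0, nat_lit 0, nat_lit 3, nat_lit 3, nat_lit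 0, nat_lit 0], .rel (nat_lit 99) (nat_lit 5) [nat_lit 1, nat_lit 1, nat_lit 5, nat_lit 1, nat_lit 4, nat_lit 3, nat_lit 1], .rel (nat_lit 223) (nat_lit 3) [nat_lit 1, nat_lit 2, nat_lit 2, nat_lit 1, nat_lit 7, nat_lit 7, nat_lit 2], .rel (nat_lit 293) (nat_lit 4) [nat_lit 8, nat_lit 5, nat_lit 9, nat_lit 3, nat_lit 9, nat_lit 0, nat_lit 4, nat_lit 0, nat_lit 8], .rel (nat_lit 303) (nat_lit 1) [nat_lit 1, nat_lit 3, nat_lit 7, nat_lit 10, nat_lit 2, nat_lit 5, nat_lit 10, nat_lit 0], .rel (nat_lit 322) (nat_lit 9) [nat_lit 10, nat_lit 2, nat_lit 10, nat_lit 8, nat_lit 10, nat_lit 3, nat_lit 10, nat_lit 4, nat_lit 9], .rel (nat_lit 381) (nat_lit 4) [nat_lit 1, nat_lit 3, nat_lit 12, nat_lit 6, nat_lit 4, nat_lit 3, nat_lit 12], .rel (nat_lit 395) (nat_lit 1) [nat_lit 9, nat_lit 2, nat_lit 12, nat_lit 11, nat_lit 1, nat_lit 11, nat_lit 12, nat_lit 10], .rel (nat_lit 61) (nat_lit 3) [nat_lit 1, nat_lit 3, nat_lit 1, nat_lit 1, nat_lit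 4, nat_lit 0, nat_lit 5], .rel (nat_lit 70) (nat_lit 5) [nat_lit 0, nat_lit 4, nat_lit 0, nat_lit 0, nat_lit 2, nat_lit 1, nat_lit 4], .rel (nat_lit 162) (nat_lit 5) [nat_lit 1, nat_lit 5, nat_lit 0, nat_lit 2, nat_lit 0, nat_lit 5, nat_lit 1], .rel (nat_lit 398) (nat_lit 1) [nat_lit 12, nat_lit 3, nat_lit 12, nat_lit 10, nat_lit 5, nat_lit 3, nat_lit 10, nat_lit 3, nat_lit 12], .rel (nat_lit 411) (nat_lit 2) [nat_lit 7, nat_lit 12, nat_lit 11, nat_lit 8, nat_lit 5, nat_lit 9, nat_lit 11, nat_lit 12, nat_lit 8, nat_lit 5], .rel (nat_lit 438) (nat_lit 9) [nat_lit 0, nat_lit 12, nat_lit 2, nat_lit 10, nat_lit 3, nat_lit 12, nat_lit 1, nat_lit 10, nat_lit 3, nat_lit 10], .rel (nat_lit 65) (nat_lit 0) [nat_lit 7, nat_lit 0, nat_lit 7, nat_lit 1, nat_lit 3, nat_lit 1, nat_lit 1], .rel (nat_lit 350) (nat_lit 6) [nat_lit 1, nat_lit 13, nat_lit 2, nat_lit 13, nat_lit 8, nat_lit 4, nat_lit 8], .rel (nat_lit 84) (nat_lit 2) [nat_lit 4, nat_lit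 7, nat_lit 2, nat_lit 4, nat_lit 7, nat_lit 0, nat_lit 0], .rel (nat_lit 87) (nat_lit 0) [nat_lit 5, nat_lit 1, nat_lit 1, nat_lit 4, nat_lit 3, nat_lit 1, nat_lit 1], .rel (nat_lit 106) (nat_lit 7) [nat_lit 0, nat_lit 0, nat_lit 3, nat_lit 4, nat_lit 0, nat_lit 0, nat_lit 5], .rel (nat_lit 156) (nat_lit 3) [nat_lit 0, nat_lit 3, nat_lit 0, nat_lit 3, nat_lit 0, nat_lit 2, nat_lit 0], .rel (nat_lit 159) (nat_lit 4) [nat_lit 1, nat_lit 3, nat_lit 1, nat_lit 5, nat_lit 0, nat_lit 4, nat_lit 0], .rel (nat_lit 185) (nat_lit 1) [nat_lit 1, nat_lit 6, nat_lit 6, nat_lit 3, nat_lit 3, nat_lit 1, nat_lit 2], .rel (nat_lit 291) (nat_lit 6) [nat_lit 5, nat_lit 9, nat_lit 0, nat_lit 2, nat_lit 1, nat_lit 3, nat_lit 7, nat_lit 8], .rel (nat_lit 330) (nat_lit 4) [nat_lit 8, nat_lit 10, nat_lit 3, nat_lit 9, nat_lit 1, nat_lit 11, nat_lit 6, nat_lit 11, nat_lit 10], .rel (nat_lit 385) (nat_lit 6) [nat_lit 9, nat_lit 3, nat_lit 12, nat_lit 0, nat_lit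 4, nat_lit 9, nat_lit 4, nat_lit 0, nat_lit 12], .rel (nat_lit 397) (nat_lit 4) [nat_lit 11, nat_lit 2, nat_lit 11, nat_lit 12, nat_lit 0, nat_lit 3, nat_lit 4, nat_lit 12], .rel (nat_lit 76) (nat_lit 3) [nat_lit 1, nat_lit 1, nat_lit 2, nat_lit 2, nat_lit 0, nat_lit 0, nat_lit 2], .rel (nat_lit 86) (nat_lit 2) [nat_lit 5, nat_lit 0, nat_lit 0, nat_lit 4, nat_lit 3, nat_lit 0, nat_lit 0], .rel (nat_lit 160) (nat_lit 1) [nat_lit 0, nat_lit 4, nat_lit 0, nat_lit 5, nat_lit 1, nat_lit 3, nat_lit 0], .rel (nat_lit 174) (nat_lit 2) [nat_lit 0, nat_lit 3, nat_lit 5, nat_lit 2, nat_lit 5, nat_lit 0, nat_lit 2], .rel (nat_lit 184) (nat_lit 2) [nat_lit 7, nat_lit 7, nat_lit 0, nat_lit 3, nat_lit 3, nat_lit 0, nat_lit 2], .rel (nat_lit 227) (nat_lit 6) [nat_lit 1, nat_lit 7, nat_lit 7, nat_lit 5, nat_lit 2, nat_lit 1, nat_lit 5], .rel (nat_lit 316) (nat_lit 1) [nat_lit 2, nat_lit 10, nat_lit 4, nat_lit 2, nat_lit 5, nat_lit 3, nat_lit 10], .rel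 (nat_lit 412) (nat_lit 1) [nat_lit 11, nat_lit 9, nat_lit 12, nat_lit 11, nat_lit 12, nat_lit 6, nat_lit 4, nat_lit 10, nat_lit 7, nat_lit 11, nat_lit 12], .rel (nat_lit 425) (nat_lit 0) [nat_lit 10, nat_lit 3, nat_lit 10, nat_lit 6, nat_lit 14, nat_lit 7, nat_lit 14], .rel (nat_lit 75) (nat_lit 0) [nat_lit 2, nat_lit 1, nat_lit 1, nat_lit 3, nat_lit 3, nat_lit 1, nat_lit 1], .rel (nat_lit 145) (nat_lit 1) [nat_lit 7, nat_lit 5, nat_lit 7, nat_lit 4, nat_lit 1, nat_lit 1, nat_lit 2], .rel (nat_lit 149) (nat_lit 4) [nat_lit 7, nat_lit 1, nat_lit 1, nat_lit 3, nat_lit 5, nat_lit 6, nat_lit 4], .rel (nat_lit 155) (nat_lit 0) [nat_lit 4, nat_lit 6, nat_lit 2, nat_lit 4, nat_lit 6, nat_lit 1, nat_lit 1], .rel (nat_lit 223) (nat_lit 5) [nat_lit 2, nat_lit 1, nat_lit 7, nat_lit 7, nat_lit 2, nat_lit 2, nat_lit 1], .rel (nat_lit 287) (nat_lit 1) [nat_lit 4, nat_lit 4, nat_lit 8, nat_lit 2, nat_lit 2, nat_lit 9, nat_lit 2], .rel (nat_lit 292)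 (nat_lit 1) [nat_lit 8, nat_lit 4, nat_lit 9, nat_lit 3, nat_lit 9, nat_lit 1, nat_lit 5, nat_lit 1, nat_lit 8], .rel (nat_lit 306) (nat_lit 1) [nat_lit 6, nat_lit 3, nat_lit 10, nat_lit 5, nat_lit 6, nat_lit 5, nat_lit 1, nat_lit 1, nat_lit 10], .rel (nat_lit 310) (nat_lit 1) [nat_lit 10, nat_lit 0, nat_lit 10, nat_lit 3, nat_lit 10, nat_lit 7, nat_lit 5, nat_lit 3, nat_lit 1, nat_lit 10], .rel (nat_lit 383) (nat_lit 0) [nat_lit 0, nat_lit 0, nat_lit 4, nat_lit 12, nat_lit 2, nat_lit 7, nat_lit 3, nat_lit 12], .rel (nat_lit 383) (nat_lit 5) [nat_lit 7, nat_lit 3, nat_lit 12, nat_lit 2, nat_lit 0, nat_lit 0, nat_lit 4, nat_lit 12], .rel (nat_lit 78) (nat_lit 3) [nat_lit 4, nat_lit 6, nat_lit 5, nat_lit 6, nat_lit 0, nat_lit 0, nat_lit 2], .rel (nat_lit 98) (nat_lit 4) [nat_lit 5, nat_lit 0, nat_lit 4, nat_lit 0, nat_lit 0, nat_lit 3, nat_lit 0], .rel (nat_lit 113) (nat_lit 2) [nat_lit 7, nat_lit 4, nat_lit 2, nat_lit 1, nat_lit 1, nat_lit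 7, nat_lit 4], .rel (nat_lit 132) (nat_lit 5) [nat_lit 5, nat_lit 7, nat_lit 0, nat_lit 0, nat_lit 4, nat_lit 7, nat_lit 2], .rel (nat_lit 138) (nat_lit 3) [nat_lit 6, nat_lit 3, nat_lit 4, nat_lit 7, nat_lit 0, nat_lit 0, nat_lit 5], .rel (nat_lit 169) (nat_lit 0) [nat_lit 1, nat_lit 4, nat_lit 1, nat_lit 5, nat_lit 0, nat_lit 3, nat_lit 1], .rel (nat_lit 170) (nat_lit 1) [nat_lit 1, nat_lit 5, nat_lit 1, nat_lit 2, nat_lit 0, nat_lit 5, nat_lit 0], .rel (nat_lit 172) (nat_lit 4) [nat_lit 2, nat_lit 6, nat_lit 6, nat_lit 0, nat_lit 2, nat_lit 2, nat_lit 0], .rel (nat_lit 172) (nat_lit 5) [nat_lit 6, nat_lit 6, nat_lit 0, nat_lit 2, nat_lit 2, nat_lit 0, nat_lit 2], .rel (nat_lit 180) (nat_lit 2) [nat_lit 1, nat_lit 4, nat_lit 6, nat_lit 5, nat_lit 7, nat_lit 0, nat_lit 2], .rel (nat_lit 199) (nat_lit 4) [nat_lit 4, nat_lit 3, nat_lit 1, nat_lit 6, nat_lit 0, nat_lit 4, nat_lit 6], .rel (nat_lit 303) (nat_lit 6) [nat_lit 5, nat_lit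 10, nat_lit 0, nat_lit 2, nat_lit 1, nat_lit 3, nat_lit 7, nat_lit 10], .rel (nat_lit 307) (nat_lit 6) [nat_lit 7, nat_lit 3, nat_lit 10, nat_lit 0, nat_lit 0, nat_lit 4, nat_lit 7, nat_lit 4, nat_lit 10], .rel (nat_lit 309) (nat_lit 4) [nat_lit 10, nat_lit 3, nat_lit 10, nat_lit 3, nat_lit 10, nat_lit 4, nat_lit 3, nat_lit 5, nat_lit 10], .rel (nat_lit 316) (nat_lit 2) [nat_lit 10, nat_lit 4, nat_lit 2, nat_lit 5, nat_lit 3, nat_lit 10, nat_lit 2], .rel (nat_lit 323) (nat_lit 4) [nat_lit 10, nat_lit 9, nat_lit 10, nat_lit 3, nat_lit 10, nat_lit 3, nat_lit 8, nat_lit 5, nat_lit 10], .rel (nat_lit 382) (nat_lit 1) [nat_lit 6, nat_lit 3, nat_lit 12, nat_lit 5, nat_lit 1, nat_lit 1, nat_lit 3, nat_lit 12], .rel (nat_lit 66) (nat_lit 2) [nat_lit 0, nat_lit 7, nat_lit 1, nat_lit 2, nat_lit 6, nat_lit 0, nat_lit 0], .rel (nat_lit 76) (nat_lit 2) [nat_lit 2, nat_lit 1, nat_lit 1, nat_lit 2, nat_lit 2, nat_lit 0, nat_lit 0], .rel (nat_lit 80)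 (nat_lit 3) [nat_lit 7, nat_lit 4, nat_lit 7, nat_lit 5, nat_lit 0, nat_lit 0, nat_lit 2], .rel (nat_lit 101) (nat_lit 5) [nat_lit 1, nat_lit 1, nat_lit 3, nat_lit 7, nat_lit 0, nat_lit 7, nat_lit 1], .rel (nat_lit 102) (nat_lit 4) [nat_lit 5, nat_lit 1, nat_lit 4, nat_lit 0, nat_lit 0, nat_lit 3, nat_lit 1], .rel (nat_lit 108) (nat_lit 6) [nat_lit 7, nat_lit 0, nat_lit 0, nat_lit 3, nat_lit 4, nat_lit 6, nat_lit 5], .rel (nat_lit 116) (nat_lit 6) [nat_lit 5, nat_lit 0, nat_lit 0, nat_lit 3, nat_lit 6, nat_lit 5, nat_lit 7], .rel (nat_lit 156) (nat_lit 1) [nat_lit 0, nat_lit 2, nat_lit 0, nat_lit 3, nat_lit 0, nat_lit 3, nat_lit 0], .rel (nat_lit 176) (nat_lit 2) [nat_lit 0, nat_lit 4, nat_lit 2, nat_lit 4, nat_lit 3, nat_lit 0, nat_lit 2], .rel (nat_lit 185) (nat_lit 0) [nat_lit 2, nat_lit 1, nat_lit 6, nat_lit 6, nat_lit 3, nat_lit 3, nat_lit 1], .rel (nat_lit 308) (nat_lit 3) [nat_lit 10, nat_lit 3, nat_lit 10, nat_lit 4, nat_lit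 2, nat_lit 5, nat_lit 10, nat_lit 2, nat_lit 10], .rel (nat_lit 319) (nat_lit 6) [nat_lit 1, nat_lit 3, nat_lit 10, nat_lit 0, nat_lit 0, nat_lit 5, nat_lit 0, nat_lit 5, nat_lit 10], .rel (nat_lit 320) (nat_lit 1) [nat_lit 8, nat_lit 3, nat_lit 10, nat_lit 1, nat_lit 4, nat_lit 8, nat_lit 4, nat_lit 1, nat_lit 10], .rel (nat_lit 321) (nat_lit 6) [nat_lit 9, nat_lit 3, nat_lit 10, nat_lit 0, nat_lit 5, nat_lit 9, nat_lit 5, nat_lit 0, nat_lit 10], .rel (nat_lit 327) (nat_lit 1) [nat_lit 1, nat_lit 3, nat_lit 5, nat_lit 11, nat_lit 3, nat_lit 11, nat_lit 0], .rel (nat_lit 360) (nat_lit 6) [nat_lit 11, nat_lit 9, nat_lit 2, nat_lit 13, nat_lit 0, nat_lit 10, nat_lit 1, nat_lit 13, nat_lit 10], .rel (nat_lit 370) (nat_lit 1) [nat_lit 12, nat_lit 1, nat_lit 12, nat_lit 5, nat_lit 6, nat_lit 0], .rel (nat_lit 403) (nat_lit 0) [nat_lit 10, nat_lit 6, nat_lit 3, nat_lit 8, nat_lit 12, nat_lit 11, nat_lit 7, nat_lit 11, nat_lit 12], .rel (nat_lit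 428) (nat_lit 7) [nat_lit 7, nat_lit 10, nat_lit 14, nat_lit 0, nat_lit 2, nat_lit 1, nat_lit 14, nat_lit 10, nat_lit 4], .rel (nat_lit 64) (nat_lit 2) [nat_lit 0, nat_lit 6, nat_lit 1, nat_lit 6, nat_lit 3, nat_lit 0, nat_lit 0], .rel (nat_lit 66) (nat_lit 6) [nat_lit 6, nat_lit 0, nat_lit 0, nat_lit 2, nat_lit 0, nat_lit 7, nat_lit 1], .rel (nat_lit 73) (nat_lit 0) [nat_lit 6, nat_lit 1, nat_lit 6, nat_lit 0, nat_lit 3, nat_lit 1, nat_lit 1], .rel (nat_lit 76) (nat_lit 6) [nat_lit 2, nat_lit 0, nat_lit 0, nat_lit 2, nat_lit 2, nat_lit 1, nat_lit 1], .rel (nat_lit 84) (nat_lit 5) [nat_lit 4, nat_lit 7, nat_lit 0, nat_lit 0, nat_lit 2, nat_lit 4, nat_lit 7], .rel (nat_lit 94) (nat_lit 5) [nat_lit 6, nat_lit 5, nat_lit 0, nat_lit 0, nat_lit 2, nat_lit 6, nat_lit 5], .rel (nat_lit 100) (nat_lit 7) [nat_lit 0, nat_lit 0, nat_lit 3, nat_lit 0, nat_lit 6, nat_lit 1, nat_lit 6], .rel (nat_lit 103) (nat_lit 5) [nat_lit 1, nat_lit 1, nat_lit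 5, nat_lit 0, nat_lit 4, nat_lit 3, nat_lit 0], .rel (nat_lit 105) (nat_lit 1) [nat_lit 1, nat_lit 7, nat_lit 0, nat_lit 2, nat_lit 1, nat_lit 1, nat_lit 6], .rel (nat_lit 111) (nat_lit 5) [nat_lit 1, nat_lit 1, nat_lit 3, nat_lit 5, nat_lit 1, nat_lit 1, nat_lit 4], .rel (nat_lit 115) (nat_lit 2) [nat_lit 6, nat_lit 4, nat_lit 2, nat_lit 1, nat_lit 1, nat_lit 6, nat_lit 4], .rel (nat_lit 129) (nat_lit 0) [nat_lit 7, nat_lit 5, nat_lit 2, nat_lit 7, nat_lit 5, nat_lit 1, nat_lit 1], .rel (nat_lit 132) (nat_lit 4) [nat_lit 2, nat_lit 5, nat_lit 7, nat_lit 0, nat_lit 0, nat_lit 4, nat_lit 7], .rel (nat_lit 141) (nat_lit 4) [nat_lit 4, nat_lit 1, nat_lit 1, nat_lit 3, nat_lit 7, nat_lit 4, nat_lit 6], .rel (nat_lit 145) (nat_lit 0) [nat_lit 2, nat_lit 7, nat_lit 5, nat_lit 7, nat_lit 4, nat_lit 1, nat_lit 1], .rel (nat_lit 150) (nat_lit 4) [nat_lit 7, nat_lit 3, nat_lit 5, nat_lit 0, nat_lit 0, nat_lit 6, nat_lit 4], .rel (nat_lit 153)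 (nat_lit 1) [nat_lit 2, nat_lit 6, nat_lit 5, nat_lit 6, nat_lit 1, nat_lit 1, nat_lit 4], .rel (nat_lit 153) (nat_lit 2) [nat_lit 6, nat_lit 5, nat_lit 6, nat_lit 1, nat_lit 1, nat_lit 4, nat_lit 2], .rel (nat_lit 155) (nat_lit 3) [nat_lit 4, nat_lit 6, nat_lit 1, nat_lit 1, nat_lit 2, nat_lit 4, nat_lit 6], .rel (nat_lit 158) (nat_lit 1) [nat_lit 0, nat_lit 3, nat_lit 1, nat_lit 5, nat_lit 1, nat_lit 4, nat_lit 0], .rel (nat_lit 170) (nat_lit 5) [nat_lit 0, nat_lit 5, nat_lit 0, nat_lit 2, nat_lit 1, nat_lit 5, nat_lit 1], .rel (nat_lit 208) (nat_lit 1) [nat_lit 6, nat_lit 3, nat_lit 1, nat_lit 6, nat_lit 2, nat_lit 2, nat_lit 0], .rel (nat_lit 225) (nat_lit 6) [nat_lit 1, nat_lit 2, nat_lit 7, nat_lit 3, nat_lit 6, nat_lit 1, nat_lit 2], .rel (nat_lit 239) (nat_lit 6) [nat_lit 1, nat_lit 5, nat_lit 2, nat_lit 5, nat_lit 5, nat_lit 1, nat_lit 4], .rel (nat_lit 255) (nat_lit 1) [nat_lit 5, nat_lit 7, nat_lit 1, nat_lit 2, nat_lit 5,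 nat_lit 1, nat_lit 7], .rel (nat_lit 308) (nat_lit 1) [nat_lit 10, nat_lit 2, nat_lit 10, nat_lit 3, nat_lit 10, nat_lit 4, nat_lit 2, nat_lit 5, nat_lit 10], .rel (nat_lit 322) (nat_lit 1) [nat_lit 10, nat_lit 8, nat_lit 10, nat_lit 3, nat_lit 10, nat_lit 4, nat_lit 9, nat_lit 2, nat_lit 10], .rel (nat_lit 328) (nat_lit 8) [nat_lit 11, nat_lit 10, nat_lit 9, nat_lit 11, nat_lit 8, nat_lit 4, nat_lit 8, nat_lit 4], .rel (nat_lit 331) (nat_lit 2) [nat_lit 10, nat_lit 9, nat_lit 3, nat_lit 10, nat_lit 11, nat_lit 7, nat_lit 11, nat_lit 0, nat_lit 8], .rel (nat_lit 399) (nat_lit 0) [nat_lit 10, nat_lit 2, nat_lit 4, nat_lit 10, nat_lit 12, nat_lit 2, nat_lit 12, nat_lit 3, nat_lit 12], .rel (nat_lit 400) (nat_lit 6) [nat_lit 10, nat_lit 4, nat_lit 8, nat_lit 12, nat_lit 11, nat_lit 5, nat_lit 11, nat_lit 3, nat_lit 12], .rel (nat_lit 406) (nat_lit 1) [nat_lit 11, nat_lit 10, nat_lit 9, nat_lit 11, nat_lit 12, nat_lit 1, nat_lit 1, nat_lit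 8, nat_lit 1, nat_lit 12], .rel (nat_lit 430) (nat_lit 5) [nat_lit 1, nat_lit 10, nat_lit 0, nat_lit 3, nat_lit 14, nat_lit 0, nat_lit 10, nat_lit 1, nat_lit 14], .rel (nat_lit 58) (nat_lit 6) [nat_lit 7, nat_lit 0, nat_lit 0, nat_lit 2, nat_lit 0, nat_lit 0, nat_lit 7], .rel (nat_lit 90) (nat_lit 2) [nat_lit 5, nat_lit 7, nat_lit 4, nat_lit 7, nat_lit 2, nat_lit 0, nat_lit 0], .rel (nat_lit 90) (nat_lit 7) [nat_lit 0, nat_lit 0, nat_lit 2, nat_lit 5, nat_lit 7, nat_lit 4, nat_lit 7], .rel (nat_lit 107) (nat_lit 5) [nat_lit 1, nat_lit 1, nat_lit 3, nat_lit 4, nat_lit 1, nat_lit 1, nat_lit 5], .rel (nat_lit 139) (nat_lit 2) [nat_lit 7, nat_lit 3, nat_lit 4, nat_lit 1, nat_lit 1, nat_lit 6, nat_lit 5], .rel (nat_lit 147) (nat_lit 4) [nat_lit 7, nat_lit 1, nat_lit 1, nat_lit 5, nat_lit 6, nat_lit 3, nat_lit 5], .rel (nat_lit 157) (nat_lit 0) [nat_lit 1, nat_lit 2, nat_lit 1, nat_lit 3, nat_lit 1, nat_lit 3, nat_lit 1], .rel (nat_lit 167)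 (nat_lit 0) [nat_lit 0, nat_lit 2, nat_lit 1, nat_lit 3, nat_lit 0, nat_lit 3, nat_lit 1], .rel (nat_lit 168) (nat_lit 1) [nat_lit 1, nat_lit 4, nat_lit 0, nat_lit 5, nat_lit 0, nat_lit 3, nat_lit 0], .rel (nat_lit 176) (nat_lit 1) [nat_lit 2, nat_lit 0, nat_lit 4, nat_lit 2, nat_lit 4, nat_lit 3, nat_lit 0], .rel (nat_lit 177) (nat_lit 0) [nat_lit 5, nat_lit 3, nat_lit 5, nat_lit 1, nat_lit 3, nat_lit 3, nat_lit 1], .rel (nat_lit 182) (nat_lit 2) [nat_lit 5, nat_lit 7, nat_lit 4, nat_lit 1, nat_lit 6, nat_lit 0, nat_lit 2], .rel (nat_lit 188) (nat_lit 1) [nat_lit 5, nat_lit 0, nat_lit 3, nat_lit 7, nat_lit 5, nat_lit 6, nat_lit 0], .rel (nat_lit 189) (nat_lit 3) [nat_lit 1, nat_lit 4, nat_lit 3, nat_lit 1, nat_lit 7, nat_lit 4, nat_lit 6], .rel (nat_lit 202) (nat_lit 7) [nat_lit 0, nat_lit 2, nat_lit 5, nat_lit 6, nat_lit 1, nat_lit 4, nat_lit 7], .rel (nat_lit 206) (nat_lit 1) [nat_lit 6, nat_lit 3, nat_lit 0, nat_lit 4, nat_lit 7,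 nat_lit 5, nat_lit 0], .rel (nat_lit 207) (nat_lit 4) [nat_lit 7, nat_lit 3, nat_lit 1, nat_lit 4, nat_lit 6, nat_lit 5, nat_lit 1], .rel (nat_lit 208) (nat_lit 7) [nat_lit 0, nat_lit 2, nat_lit 6, nat_lit 3, nat_lit 1, nat_lit 6, nat_lit 2], .rel (nat_lit 210) (nat_lit 6) [nat_lit 7, nat_lit 0, nat_lit 2, nat_lit 6, nat_lit 4, nat_lit 1, nat_lit 5], .rel (nat_lit 231) (nat_lit 6) [nat_lit 1, nat_lit 7, nat_lit 1, nat_lit 6, nat_lit 5, nat_lit 2, nat_lit 5], .rel (nat_lit 255) (nat_lit 5) [nat_lit 5, nat_lit 1, nat_lit 7, nat_lit 2, nat_lit 5, nat_lit 7, nat_lit 1], .rel (nat_lit 257) (nat_lit 5) [nat_lit 5, nat_lit 1, nat_lit 2, nat_lit 5, nat_lit 6, nat_lit 1, nat_lit 7], .rel (nat_lit 263) (nat_lit 0) [nat_lit 5, nat_lit 2, nat_lit 4, nat_lit 0, nat_lit 5, nat_lit 5, nat_lit 1], .rel (nat_lit 264) (nat_lit 6) [nat_lit 5, nat_lit 0, nat_lit 4, nat_lit 6, nat_lit 2, nat_lit 0, nat_lit 7], .rel (nat_lit 268) (nat_lit 6) [nat_lit 2,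 nat_lit 0, nat_lit 5, nat_lit 7, nat_lit 4, nat_lit 0, nat_lit 7], .rel (nat_lit 291) (nat_lit 1) [nat_lit 1, nat_lit 3, nat_lit 7, nat_lit 8, nat_lit 2, nat_lit 5, nat_lit 9, nat_lit 0], .rel (nat_lit 295) (nat_lit 5) [nat_lit 8, nat_lit 1, nat_lit 9, nat_lit 3, nat_lit 9, nat_lit 0, nat_lit 2, nat_lit 4, nat_lit 7, nat_lit 8], .rel (nat_lit 333) (nat_lit 3) [nat_lit 4, nat_lit 11, nat_lit 8, nat_lit 11, nat_lit 9, nat_lit 11, nat_lit 2, nat_lit 10, nat_lit 5], .rel (nat_lit 416) (nat_lit 7) [nat_lit 8, nat_lit 11, nat_lit 9, nat_lit 3, nat_lit 12, nat_lit 11, nat_lit 8, nat_lit 12, nat_lit 9, nat_lit 11, nat_lit 12], .rel (nat_lit 436) (nat_lit 5) [nat_lit 4, nat_lit 3, nat_lit 1, nat_lit 12, nat_lit 3, nat_lit 3, nat_lit 12, nat_lit 5], .sub (nat_lit 4) [] [], .rel (nat_lit 58) (nat_lit 2) [nat_lit 0, nat_lit 0, nat_lit 7, nat_lit 2, nat_lit 7, nat_lit 0, nat_lit 0], .rel (nat_lit 72) (nat_lit 2) [nat_lit 1, nat_lit 7, nat_lit 0,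 nat_lit 7, nat_lit 3, nat_lit 0, nat_lit 0], .rel (nat_lit 78) (nat_lit 2) [nat_lit 2, nat_lit 4, nat_lit 6, nat_lit 5, nat_lit 6, nat_lit 0, nat_lit 0], .rel (nat_lit 80) (nat_lit 2) [nat_lit 2, nat_lit 7, nat_lit 4, nat_lit 7, nat_lit 5, nat_lit 0, nat_lit 0], .rel (nat_lit 88) (nat_lit 2) [nat_lit 5, nat_lit 3, nat_lit 6, nat_lit 5, nat_lit 7, nat_lit 0, nat_lit 0], .rel (nat_lit 93) (nat_lit 0) [nat_lit 0, nat_lit 7, nat_lit 1, nat_lit 7, nat_lit 3, nat_lit 1, nat_lit 1], .rel (nat_lit 97) (nat_lit 1) [nat_lit 7, nat_lit 1, nat_lit 1, nat_lit 2, nat_lit 1, nat_lit 1, nat_lit 7], .rel (nat_lit 105) (nat_lit 5) [nat_lit 1, nat_lit 1, nat_lit 6, nat_lit 2, nat_lit 1, nat_lit 7, nat_lit 0], .rel (nat_lit 113) (nat_lit 5) [nat_lit 1, nat_lit 1, nat_lit 7, nat_lit 4, nat_lit 2, nat_lit 7, nat_lit 4], .rel (nat_lit 117) (nat_lit 5) [nat_lit 1, nat_lit 1, nat_lit 4, nat_lit 3, nat_lit 6, nat_lit 4, nat_lit 7], .rel (nat_lit 119) (nat_lit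 2) [nat_lit 5, nat_lit 6, nat_lit 2, nat_lit 1, nat_lit 1, nat_lit 5, nat_lit 6], .rel (nat_lit 129) (nat_lit 3) [nat_lit 7, nat_lit 5, nat_lit 1, nat_lit 1, nat_lit 2, nat_lit 7, nat_lit 5], .rel (nat_lit 136) (nat_lit 3) [nat_lit 2, nat_lit 6, nat_lit 4, nat_lit 6, nat_lit 0, nat_lit 0, nat_lit 5], .rel (nat_lit 140) (nat_lit 7) [nat_lit 0, nat_lit 0, nat_lit 5, nat_lit 3, nat_lit 7, nat_lit 5, nat_lit 6], .rel (nat_lit 146) (nat_lit 5) [nat_lit 7, nat_lit 4, nat_lit 0, nat_lit 0, nat_lit 6, nat_lit 3, nat_lit 4], .rel (nat_lit 148) (nat_lit 7) [nat_lit 0, nat_lit 0, nat_lit 6, nat_lit 3, nat_lit 5, nat_lit 7, nat_lit 4], .rel (nat_lit 151) (nat_lit 1) [nat_lit 6, nat_lit 3, nat_lit 5, nat_lit 7, nat_lit 1, nat_lit 1, nat_lit 4], .rel (nat_lit 161) (nat_lit 0) [nat_lit 0, nat_lit 4, nat_lit 1, nat_lit 5, nat_lit 1, nat_lit 3, nat_lit 1], .rel (nat_lit 166) (nat_lit 1) [nat_lit 1, nat_lit 2, nat_lit 0, nat_lit 3, nat_lit 1, nat_lit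 3, nat_lit 0], .rel (nat_lit 167) (nat_lit 2) [nat_lit 1, nat_lit 3, nat_lit 0, nat_lit 3, nat_lit 1, nat_lit 2, nat_lit 0], .rel (nat_lit 174) (nat_lit 6) [nat_lit 5, nat_lit 0, nat_lit 2, nat_lit 2, nat_lit 0, nat_lit 3, nat_lit 5], .rel (nat_lit 175) (nat_lit 3) [nat_lit 1, nat_lit 3, nat_lit 3, nat_lit 1, nat_lit 4, nat_lit 3, nat_lit 4], .rel (nat_lit 176) (nat_lit 5) [nat_lit 4, nat_lit 3, nat_lit 0, nat_lit 2, nat_lit 2, nat_lit 0, nat_lit 4], .rel (nat_lit 178) (nat_lit 1) [nat_lit 2, nat_lit 0, nat_lit 6, nat_lit 3, nat_lit 7, nat_lit 2, nat_lit 0], .rel (nat_lit 179) (nat_lit 2) [nat_lit 7, nat_lit 1, nat_lit 3, nat_lit 3, nat_lit 1, nat_lit 3, nat_lit 6], .rel (nat_lit 180) (nat_lit 1) [nat_lit 2, nat_lit 1, nat_lit 4, nat_lit 6, nat_lit 5, nat_lit 7, nat_lit 0], .rel (nat_lit 184) (nat_lit 1) [nat_lit 2, nat_lit 7, nat_lit 7, nat_lit 0, nat_lit 3, nat_lit 3, nat_lit 0], .rel (nat_lit 186) (nat_lit 1) [nat_lit 4, nat_lit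 7, nat_lit 1, nat_lit 5, nat_lit 7, nat_lit 2, nat_lit 0], .rel (nat_lit 186) (nat_lit 7) [nat_lit 0, nat_lit 2, nat_lit 4, nat_lit 7, nat_lit 1, nat_lit 5, nat_lit 7], .rel (nat_lit 190) (nat_lit 1) [nat_lit 5, nat_lit 0, nat_lit 6, nat_lit 4, nat_lit 3, nat_lit 7, nat_lit 0], .rel (nat_lit 191) (nat_lit 1) [nat_lit 5, nat_lit 7, nat_lit 1, nat_lit 4, nat_lit 3, nat_lit 1, nat_lit 6], .rel (nat_lit 192) (nat_lit 1) [nat_lit 5, nat_lit 1, nat_lit 2, nat_lit 6, nat_lit 6, nat_lit 5, nat_lit 0], .rel (nat_lit 194) (nat_lit 1) [nat_lit 5, nat_lit 1, nat_lit 4, nat_lit 7, nat_lit 2, nat_lit 7, nat_lit 0], .rel (nat_lit 202) (nat_lit 1) [nat_lit 5, nat_lit 6, nat_lit 1, nat_lit 4, nat_lit 7, nat_lit 2, nat_lit 0], .rel (nat_lit 212) (nat_lit 1) [nat_lit 6, nat_lit 5, nat_lit 0, nat_lit 6, nat_lit 4, nat_lit 2, nat_lit 0], .rel (nat_lit 212) (nat_lit 7) [nat_lit 0, nat_lit 2, nat_lit 6, nat_lit 5, nat_lit 0, nat_lit 6, nat_lit 4], .rel (nat_lit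 217) (nat_lit 0) [nat_lit 7, nat_lit 5, nat_lit 0, nat_lit 4, nat_lit 6, nat_lit 3, nat_lit 1], .rel (nat_lit 223) (nat_lit 2) [nat_lit 2, nat_lit 1, nat_lit 2, nat_lit 2, nat_lit 1, nat_lit 7, nat_lit 7], .rel (nat_lit 225) (nat_lit 0) [nat_lit 7, nat_lit 3, nat_lit 6, nat_lit 1, nat_lit 2, nat_lit 2, nat_lit 1], .rel (nat_lit 229) (nat_lit 6) [nat_lit 1, nat_lit 5, nat_lit 5, nat_lit 3, nat_lit 5, nat_lit 1, nat_lit 5], .rel (nat_lit 235) (nat_lit 6) [nat_lit 1, nat_lit 6, nat_lit 0, nat_lit 5, nat_lit 2, nat_lit 7, nat_lit 5], .rel (nat_lit 237) (nat_lit 3) [nat_lit 6, nat_lit 5, nat_lit 2, nat_lit 1, nat_lit 7, nat_lit 0, nat_lit 5], .rel (nat_lit 239) (nat_lit 1) [nat_lit 5, nat_lit 5, nat_lit 1, nat_lit 4, nat_lit 2, nat_lit 1, nat_lit 5], .rel (nat_lit 241) (nat_lit 6) [nat_lit 1, nat_lit 4, nat_lit 6, nat_lit 3, nat_lit 6, nat_lit 1, nat_lit 4], .rel (nat_lit 245) (nat_lit 6) [nat_lit 1, nat_lit 3, nat_lit 5, nat_lit 6, nat_lit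 0, nat_lit 7, nat_lit 4], .rel (nat_lit 246) (nat_lit 6) [nat_lit 6, nat_lit 0, nat_lit 3, nat_lit 5, nat_lit 7, nat_lit 0, nat_lit 4], .rel (nat_lit 247) (nat_lit 6) [nat_lit 1, nat_lit 7, nat_lit 3, nat_lit 5, nat_lit 1, nat_lit 6, nat_lit 4], .rel (nat_lit 249) (nat_lit 2) [nat_lit 0, nat_lit 4, nat_lit 7, nat_lit 2, nat_lit 1, nat_lit 4, nat_lit 6], .rel (nat_lit 259) (nat_lit 3) [nat_lit 0, nat_lit 5, nat_lit 5, nat_lit 1, nat_lit 5, nat_lit 2, nat_lit 4], .rel (nat_lit 272) (nat_lit 0) [nat_lit 4, nat_lit 4, nat_lit 7, nat_lit 2, nat_lit 7, nat_lit 5, nat_lit 5], .rel (nat_lit 294) (nat_lit 1) [nat_lit 8, nat_lit 0, nat_lit 9, nat_lit 3, nat_lit 9, nat_lit 6, nat_lit 5, nat_lit 3, nat_lit 1, nat_lit 8], .rel (nat_lit 295) (nat_lit 1) [nat_lit 4, nat_lit 7, nat_lit 8, nat_lit 2, nat_lit 8, nat_lit 1, nat_lit 9, nat_lit 3, nat_lit 9, nat_lit 0], .rel (nat_lit 311) (nat_lit 1) [nat_lit 4, nat_lit 6, nat_lit 10, nat_lit 2, nat_lit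 10, nat_lit 1, nat_lit 10, nat_lit 3, nat_lit 10, nat_lit 0], .rel (nat_lit 317) (nat_lit 0) [nat_lit 4, nat_lit 3, nat_lit 5, nat_lit 10, nat_lit 3, nat_lit 3, nat_lit 10], .rel (nat_lit 376) (nat_lit 6) [nat_lit 1, nat_lit 12, nat_lit 4, nat_lit 3, nat_lit 12, nat_lit 4, nat_lit 1], .rel (nat_lit 386) (nat_lit 1) [nat_lit 12, nat_lit 3, nat_lit 12, nat_lit 9, nat_lit 1, nat_lit 9, nat_lit 5, nat_lit 1, nat_lit 1, nat_lit 12], .rel (nat_lit 387) (nat_lit 7) [nat_lit 12, nat_lit 3, nat_lit 12, nat_lit 0, nat_lit 0, nat_lit 4, nat_lit 8, nat_lit 0, nat_lit 8, nat_lit 12], .rel (nat_lit 399) (nat_lit 6) [nat_lit 12, nat_lit 3, nat_lit 12, nat_lit 2, nat_lit 10, nat_lit 2, nat_lit 4, nat_lit 10, nat_lit 12], .rel (nat_lit 402) (nat_lit 6) [nat_lit 7, nat_lit 10, nat_lit 3, nat_lit 12, nat_lit 11, nat_lit 6, nat_lit 11, nat_lit 12, nat_lit 9], .rel (nat_lit 435) (nat_lit 5) [nat_lit 14, nat_lit 0, nat_lit 7, nat_lit 1, nat_lit 14, nat_lit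 0, nat_lit 10, nat_lit 4, nat_lit 0, nat_lit 10], .rel (nat_lit 438) (nat_lit 1) [nat_lit 10, nat_lit 3, nat_lit 12, nat_lit 1, nat_lit 10, nat_lit 3, nat_lit 10, nat_lit 2, nat_lit 0, nat_lit 12], .rel (nat_lit 439) (nat_lit 3) [nat_lit 10, nat_lit 0, nat_lit 12, nat_lit 2, nat_lit 10, nat_lit 3, nat_lit 12, nat_lit 1, nat_lit 3, nat_lit 10], .rel (nat_lit 440) (nat_lit 0) [nat_lit 14, nat_lit 12, nat_lit 6, nat_lit 14, nat_lit 2, nat_lit 14, nat_lit 12, nat_lit 6, nat_lit 14, nat_lit 2, nat_lit 14, nat_lit 12, nat_lit 6, nat_lit 14], .rel (nat_lit 442) (nat_lit 0) [nat_lit 14, nat_lit 12, nat_lit 7, nat_lit 14, nat_lit 2, nat_lit 14, nat_lit 12, nat_lit 7, nat_lit 14, nat_lit 2, nat_lit 14, nat_lit 12, nat_lit 7, nat_lit 14], .rel (nat_lit 450) (nat_lit 0) [nat_lit 14, nat_lit 12, nat_lit 14, nat_lit 7, nat_lit 2, nat_lit 14, nat_lit 12, nat_lit 14, nat_lit 7, nat_lit 2, nat_lit 14, nat_lit 12, nat_lit 14, nat_lit 7]],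
  [.rel (nat_lit 4) (nat_lit 1) [nat_lit 2], .defn, .rel (nat_lit 419) (nat_lit 2) [nat_lit 14, nat_lit 4, nat_lit 3, nat_lit 5, nat_lit 14], .rel (nat_lit 33) (nat_lit 0) [nat_lit 3, nat_lit 3, nat_lit 3], .rel (nat_lit 35) (nat_lit 1) [nat_lit 7, nat_lit 3, nat_lit 7], .rel (nat_lit 45) (nat_lit 2) [nat_lit 6, nat_lit 3, nat_lit 1, nat_lit 7, nat_lit 1], .rel (nat_lit 43) (nat_lit 1) [nat_lit 0, nat_lit 5, nat_lit 3, nat_lit 1, nat_lit 5], .rel (nat_lit 327) (nat_lit 6) [nat_lit 11, nat_lit 0, nat_lit 2, nat_lit 1, nat_lit 3, nat_lit 5, nat_lit 11], .rel (nat_lit 51) (nat_lit 1) [nat_lit 3, nat_lit 5, nat_lit 3, nat_lit 3, nat_lit 4], .rel (nat_lit 55) (nat_lit 3) [nat_lit 4, nat_lit 3, nat_lit 7, nat_lit 7, nat_lit 4], .rel (nat_lit 369) (nat_lit 0) [nat_lit 5, nat_lit 12, nat_lit 6, nat_lit 12, nat_lit 1], .rel (nat_lit 420) (nat_lit 4) [nat_lit 14, nat_lit 2, nat_lit 10, nat_lit 14, nat_lit 10], .rel (nat_lit 351) (nat_lit 6) [nat_lit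 13, nat_lit 0, nat_lit 3, nat_lit 9, nat_lit 5, nat_lit 9, nat_lit 13], .rel (nat_lit 46) (nat_lit 1) [nat_lit 6, nat_lit 3, nat_lit 0, nat_lit 7, nat_lit 0], .rel (nat_lit 45) (nat_lit 4) [nat_lit 1, nat_lit 7, nat_lit 1, nat_lit 3, nat_lit 6], .rel (nat_lit 55) (nat_lit 5) [nat_lit 7, nat_lit 7, nat_lit 4, nat_lit 3, nat_lit 4], .rel (nat_lit 51) (nat_lit 5) [nat_lit 4, nat_lit 3, nat_lit 3, nat_lit 5, nat_lit 3], .rel (nat_lit 276) (nat_lit 1) [nat_lit 8, nat_lit 8, nat_lit 5, nat_lit 6, nat_lit 0], .rel (nat_lit 51) (nat_lit 2) [nat_lit 5, nat_lit 3, nat_lit 3, nat_lit 4, nat_lit 3], .rel (nat_lit 53) (nat_lit 5) [nat_lit 5, nat_lit 7, nat_lit 7, nat_lit 3, nat_lit 5], .rel (nat_lit 43) (nat_lit 4) [nat_lit 1, nat_lit 5, nat_lit 3, nat_lit 0, nat_lit 5], .rel (nat_lit 51) (nat_lit 4) [nat_lit 3, nat_lit 4, nat_lit 3, nat_lit 3, nat_lit 5], .rel (nat_lit 348) (nat_lit 6) [nat_lit 0, nat_lit 11, nat_lit 10, nat_lit 4, nat_lit 9, nat_lit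 11], .rel (nat_lit 46) (nat_lit 3) [nat_lit 0, nat_lit 7, nat_lit 0, nat_lit 3, nat_lit 6], .rel (nat_lit 346) (nat_lit 5) [nat_lit 8, nat_lit 0, nat_lit 13, nat_lit 7, nat_lit 13, nat_lit 8], .rel (nat_lit 53) (nat_lit 3) [nat_lit 5, nat_lit 3, nat_lit 5, nat_lit 7, nat_lit 7], .rel (nat_lit 419) (nat_lit 5) [nat_lit 5, nat_lit 14, nat_lit 3, nat_lit 14, nat_lit 4], .rel (nat_lit 375) (nat_lit 6) [nat_lit 12, nat_lit 4, nat_lit 6, nat_lit 5, nat_lit 12, nat_lit 5], .rel (nat_lit 356) (nat_lit 5) [nat_lit 9, nat_lit 6, nat_lit 5, nat_lit 13, nat_lit 0, nat_lit 13, nat_lit 8, nat_lit 13], .rel (nat_lit 286) (nat_lit 1) [nat_lit 3, nat_lit 9, nat_lit 5, nat_lit 5, nat_lit 3, nat_lit 3, nat_lit 8], .rel (nat_lit 376) (nat_lit 2) [nat_lit 12, nat_lit 4, nat_lit 1, nat_lit 2, nat_lit 1, nat_lit 12, nat_lit 4], .rel (nat_lit 283) (nat_lit 1) [nat_lit 4, nat_lit 9, nat_lit 5, nat_lit 3, nat_lit 1, nat_lit 9], .rel (nat_lit 325) (nat_lit 4)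 [nat_lit 11, nat_lit 1, nat_lit 11, nat_lit 1, nat_lit 10, nat_lit 3, nat_lit 8], .rel (nat_lit 286) (nat_lit 2) [nat_lit 9, nat_lit 5, nat_lit 5, nat_lit 3, nat_lit 3, nat_lit 8, nat_lit 3], .rel (nat_lit 341) (nat_lit 5) [nat_lit 13, nat_lit 5, nat_lit 13, nat_lit 7, nat_lit 5], .rel (nat_lit 436) (nat_lit 1) [nat_lit 3, nat_lit 12, nat_lit 5, nat_lit 2, nat_lit 4, nat_lit 3, nat_lit 1, nat_lit 12], .rel (nat_lit 284) (nat_lit 4) [nat_lit 5, nat_lit 9, nat_lit 0, nat_lit 2, nat_lit 5, nat_lit 9], .rel (nat_lit 393) (nat_lit 4) [nat_lit 9, nat_lit 11, nat_lit 12, nat_lit 8, nat_lit 12, nat_lit 11, nat_lit 8], .rel (nat_lit 299) (nat_lit 5) [nat_lit 1, nat_lit 6, nat_lit 4, nat_lit 10, nat_lit 1, nat_lit 10], .rel (nat_lit 61) (nat_lit 5) [nat_lit 1, nat_lit 1, nat_lit 4, nat_lit 0, nat_lit 5, nat_lit 2, nat_lit 1], .rel (nat_lit 363) (nat_lit 2) [nat_lit 10, nat_lit 11, nat_lit 13, nat_lit 0, nat_lit 11, nat_lit 1, nat_lit 13, nat_lit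 7, nat_lit 9], .rel (nat_lit 394) (nat_lit 5) [nat_lit 8, nat_lit 3, nat_lit 10, nat_lit 12, nat_lit 11, nat_lit 0, nat_lit 11, nat_lit 12], .rel (nat_lit 355) (nat_lit 1) [nat_lit 4, nat_lit 9, nat_lit 13, nat_lit 0, nat_lit 3, nat_lit 1, nat_lit 13, nat_lit 8], .rel (nat_lit 355) (nat_lit 6) [nat_lit 1, nat_lit 13, nat_lit 8, nat_lit 3, nat_lit 4, nat_lit 9, nat_lit 13, nat_lit 0], .rel (nat_lit 325) (nat_lit 2) [nat_lit 8, nat_lit 3, nat_lit 11, nat_lit 1, nat_lit 11, nat_lit 1, nat_lit 10], .rel (nat_lit 314) (nat_lit 2) [nat_lit 10, nat_lit 8, nat_lit 2, nat_lit 5, nat_lit 9, nat_lit 10, nat_lit 4], .rel (nat_lit 300) (nat_lit 2) [nat_lit 10, nat_lit 4, nat_lit 2, nat_lit 5, nat_lit 3, nat_lit 10, nat_lit 3], .rel (nat_lit 394) (nat_lit 7) [nat_lit 10, nat_lit 12, nat_lit 11, nat_lit 0, nat_lit 11, nat_lit 12, nat_lit 3, nat_lit 8], .rel (nat_lit 163) (nat_lit 2) [nat_lit 0, nat_lit 4, nat_lit 1, nat_lit 3, nat_lit 1, nat_lit 4,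 nat_lit 0], .rel (nat_lit 315) (nat_lit 2) [nat_lit 9, nat_lit 10, nat_lit 2, nat_lit 5, nat_lit 10, nat_lit 8, nat_lit 4], .rel (nat_lit 409) (nat_lit 7) [nat_lit 12, nat_lit 11, nat_lit 12, nat_lit 5, nat_lit 0, nat_lit 11, nat_lit 7, nat_lit 12, nat_lit 11, nat_lit 12], .rel (nat_lit 373) (nat_lit 4) [nat_lit 12, nat_lit 1, nat_lit 12, nat_lit 9, nat_lit 9, nat_lit 3], .rel (nat_lit 98) (nat_lit 2) [nat_lit 0, nat_lit 2, nat_lit 5, nat_lit 0, nat_lit 4, nat_lit 0, nat_lit 0], .rel (nat_lit 313) (nat_lit 1) [nat_lit 5, nat_lit 8, nat_lit 10, nat_lit 9, nat_lit 1, nat_lit 10], .rel (nat_lit 429) (nat_lit 7) [nat_lit 1, nat_lit 14, nat_lit 10, nat_lit 6, nat_lit 3, nat_lit 5, nat_lit 10, nat_lit 14, nat_lit 0], .rel (nat_lit 300) (nat_lit 1) [nat_lit 3, nat_lit 10, nat_lit 4, nat_lit 2, nat_lit 5, nat_lit 3, nat_lit 10], .rel (nat_lit 358) (nat_lit 6) [nat_lit 9, nat_lit 3, nat_lit 1, nat_lit 13, nat_lit 0, nat_lit 4, nat_lit 1, nat_lit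 13, nat_lit 9], .rel (nat_lit 396) (nat_lit 2) [nat_lit 11, nat_lit 3, nat_lit 12, nat_lit 5, nat_lit 2, nat_lit 1, nat_lit 12, nat_lit 11], .rel (nat_lit 283) (nat_lit 5) [nat_lit 1, nat_lit 9, nat_lit 3, nat_lit 4, nat_lit 9, nat_lit 5], .rel (nat_lit 289) (nat_lit 6) [nat_lit 9, nat_lit 4, nat_lit 6, nat_lit 5, nat_lit 8, nat_lit 2, nat_lit 7], .rel (nat_lit 285) (nat_lit 5) [nat_lit 1, nat_lit 8, nat_lit 4, nat_lit 2, nat_lit 8, nat_lit 4], .rel (nat_lit 75) (nat_lit 5) [nat_lit 1, nat_lit 1, nat_lit 2, nat_lit 2, nat_lit 1, nat_lit 1, nat_lit 3], .rel (nat_lit 184) (nat_lit 7) [nat_lit 0, nat_lit 2, nat_lit 2, nat_lit 7, nat_lit 7, nat_lit 0, nat_lit 3], .rel (nat_lit 63) (nat_lit 5) [nat_lit 1, nat_lit 1, nat_lit 5, nat_lit 0, nat_lit 3, nat_lit 5, nat_lit 1], .rel (nat_lit 385) (nat_lit 8) [nat_lit 12, nat_lit 0, nat_lit 4, nat_lit 9, nat_lit 4, nat_lit 0, nat_lit 12, nat_lit 2, nat_lit 9], .rel (nat_lit 396) (nat_lit 4) [nat_lit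 12, nat_lit 5, nat_lit 2, nat_lit 1, nat_lit 12, nat_lit 11, nat_lit 3, nat_lit 11], .rel (nat_lit 288) (nat_lit 3) [nat_lit 9, nat_lit 4, nat_lit 7, nat_lit 5, nat_lit 8, nat_lit 2, nat_lit 6], .rel (nat_lit 436) (nat_lit 2) [nat_lit 12, nat_lit 5, nat_lit 2, nat_lit 4, nat_lit 3, nat_lit 1, nat_lit 12, nat_lit 3], .rel (nat_lit 331) (nat_lit 5) [nat_lit 10, nat_lit 11, nat_lit 7, nat_lit 11, nat_lit 0, nat_lit 8, nat_lit 2, nat_lit 10, nat_lit 9], .rel (nat_lit 74) (nat_lit 7) [nat_lit 0, nat_lit 0, nat_lit 2, nat_lit 2, nat_lit 0, nat_lit 0, nat_lit 3], .rel (nat_lit 86) (nat_lit 7) [nat_lit 0, nat_lit 0, nat_lit 2, nat_lit 5, nat_lit 0, nat_lit 0, nat_lit 4], .rel (nat_lit 101) (nat_lit 0) [nat_lit 7, nat_lit 0, nat_lit 7, nat_lit 1, nat_lit 2, nat_lit 1, nat_lit 1], .rel (nat_lit 173) (nat_lit 5) [nat_lit 3, nat_lit 1, nat_lit 7, nat_lit 7, nat_lit 3, nat_lit 3, nat_lit 1], .rel (nat_lit 173) (nat_lit 6) [nat_lit 1, nat_lit 7,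 nat_lit 7, nat_lit 3, nat_lit 3, nat_lit 1, nat_lit 3], .rel (nat_lit 286) (nat_lit 7) [nat_lit 8, nat_lit 3, nat_lit 3, nat_lit 9, nat_lit 5, nat_lit 5, nat_lit 3], .rel (nat_lit 384) (nat_lit 3) [nat_lit 12, nat_lit 1, nat_lit 5, nat_lit 8, nat_lit 5, nat_lit 1, nat_lit 12, nat_lit 2, nat_lit 8], .rel (nat_lit 304) (nat_lit 2) [nat_lit 10, nat_lit 6, nat_lit 5, nat_lit 1, nat_lit 5, nat_lit 1, nat_lit 10, nat_lit 5], .rel (nat_lit 397) (nat_lit 1) [nat_lit 4, nat_lit 12, nat_lit 2, nat_lit 11, nat_lit 2, nat_lit 11, nat_lit 12, nat_lit 0], .rel (nat_lit 425) (nat_lit 2) [nat_lit 10, nat_lit 6, nat_lit 14, nat_lit 7, nat_lit 14, nat_lit 2, nat_lit 10], .rel (nat_lit 74) (nat_lit 6) [nat_lit 3, nat_lit 0, nat_lit 0, nat_lit 2, nat_lit 2, nat_lit 0, nat_lit 0], .rel (nat_lit 106) (nat_lit 2) [nat_lit 4, nat_lit 0, nat_lit 0, nat_lit 5, nat_lit 2, nat_lit 0, nat_lit 0], .rel (nat_lit 361) (nat_lit 0) [nat_lit 8, nat_lit 11, nat_lit 3,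 nat_lit 10, nat_lit 13, nat_lit 0, nat_lit 10, nat_lit 1, nat_lit 13], .rel (nat_lit 361) (nat_lit 3) [nat_lit 10, nat_lit 13, nat_lit 0, nat_lit 10, nat_lit 1, nat_lit 13, nat_lit 3, nat_lit 8, nat_lit 11], .rel (nat_lit 413) (nat_lit 10) [nat_lit 12, nat_lit 11, nat_lit 6, nat_lit 10, nat_lit 5, nat_lit 7, nat_lit 12, nat_lit 11, nat_lit 12, nat_lit 8, nat_lit 11], .rel (nat_lit 329) (nat_lit 0) [nat_lit 5, nat_lit 9, nat_lit 5, nat_lit 9, nat_lit 11, nat_lit 8, nat_lit 10, nat_lit 11], .rel (nat_lit 332) (nat_lit 9) [nat_lit 11, nat_lit 8, nat_lit 11, nat_lit 9, nat_lit 11, nat_lit 5, nat_lit 3, nat_lit 4, nat_lit 10], .rel (nat_lit 398) (nat_lit 3) [nat_lit 12, nat_lit 10, nat_lit 5, nat_lit 3, nat_lit 10, nat_lit 3, nat_lit 12, nat_lit 2, nat_lit 12], .rel (nat_lit 402) (nat_lit 9) [nat_lit 12, nat_lit 11, nat_lit 6, nat_lit 11, nat_lit 12, nat_lit 9, nat_lit 2, nat_lit 7, nat_lit 10], .rel (nat_lit 102) (nat_lit 2) [nat_lit 1,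 nat_lit 2, nat_lit 5, nat_lit 1, nat_lit 4, nat_lit 0, nat_lit 0], .rel (nat_lit 138) (nat_lit 5) [nat_lit 4, nat_lit 7, nat_lit 0, nat_lit 0, nat_lit 5, nat_lit 2, nat_lit 6], .rel (nat_lit 269) (nat_lit 1) [nat_lit 6, nat_lit 1, nat_lit 5, nat_lit 6, nat_lit 4, nat_lit 1, nat_lit 3], .rel (nat_lit 321) (nat_lit 8) [nat_lit 10, nat_lit 0, nat_lit 5, nat_lit 9, nat_lit 5, nat_lit 0, nat_lit 10, nat_lit 2, nat_lit 9], .rel (nat_lit 373) (nat_lit 3) [nat_lit 3, nat_lit 12, nat_lit 1, nat_lit 12, nat_lit 9, nat_lit 9], .rel (nat_lit 381) (nat_lit 6) [nat_lit 12, nat_lit 6, nat_lit 4, nat_lit 3, nat_lit 12, nat_lit 2, nat_lit 1], .rel (nat_lit 400) (nat_lit 4) [nat_lit 12, nat_lit 2, nat_lit 10, nat_lit 4, nat_lit 8, nat_lit 12, nat_lit 11, nat_lit 5, nat_lit 11], .rel (nat_lit 401) (nat_lit 3) [nat_lit 12, nat_lit 2, nat_lit 11, nat_lit 4, nat_lit 11, nat_lit 12, nat_lit 9, nat_lit 5, nat_lit 10], .rel (nat_lit 416) (nat_lit 11) [nat_lit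 12, nat_lit 11, nat_lit 8, nat_lit 12, nat_lit 9, nat_lit 11, nat_lit 12, nat_lit 2, nat_lit 8, nat_lit 11, nat_lit 9], .rel (nat_lit 60) (nat_lit 4) [nat_lit 4, nat_lit 1, nat_lit 5, nat_lit 0, nat_lit 0, nat_lit 2, nat_lit 0], .rel (nat_lit 64) (nat_lit 7) [nat_lit 0, nat_lit 0, nat_lit 2, nat_lit 0, nat_lit 6, nat_lit 1, nat_lit 6], .rel (nat_lit 95) (nat_lit 2) [nat_lit 4, nat_lit 7, nat_lit 3, nat_lit 1, nat_lit 1, nat_lit 4, nat_lit 7], .rel (nat_lit 103) (nat_lit 3) [nat_lit 0, nat_lit 2, nat_lit 1, nat_lit 1, nat_lit 5, nat_lit 0, nat_lit 4], .rel (nat_lit 109) (nat_lit 1) [nat_lit 4, nat_lit 7, nat_lit 5, nat_lit 2, nat_lit 1, nat_lit 1, nat_lit 6], .rel (nat_lit 118) (nat_lit 5) [nat_lit 7, nat_lit 4, nat_lit 0, nat_lit 0, nat_lit 3, nat_lit 7, nat_lit 4], .rel (nat_lit 160) (nat_lit 7) [nat_lit 0, nat_lit 2, nat_lit 0, nat_lit 4, nat_lit 0, nat_lit 5, nat_lit 1], .rel (nat_lit 171) (nat_lit 2) [nat_lit 0, nat_lit 4, nat_lit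 0, nat_lit 3, nat_lit 1, nat_lit 4, nat_lit 1], .rel (nat_lit 302) (nat_lit 7) [nat_lit 1, nat_lit 10, nat_lit 4, nat_lit 3, nat_lit 10, nat_lit 6, nat_lit 2, nat_lit 0], .rel (nat_lit 317) (nat_lit 6) [nat_lit 10, nat_lit 2, nat_lit 4, nat_lit 3, nat_lit 5, nat_lit 10, nat_lit 3], .rel (nat_lit 326) (nat_lit 6) [nat_lit 1, nat_lit 11, nat_lit 2, nat_lit 11, nat_lit 4, nat_lit 2, nat_lit 0], .rel (nat_lit 77) (nat_lit 1) [nat_lit 0, nat_lit 0, nat_lit 3, nat_lit 3, nat_lit 1, nat_lit 1, nat_lit 3], .rel (nat_lit 79) (nat_lit 5) [nat_lit 1, nat_lit 1, nat_lit 7, nat_lit 4, nat_lit 7, nat_lit 5, nat_lit 3], .rel (nat_lit 85) (nat_lit 2) [nat_lit 6, nat_lit 5, nat_lit 3, nat_lit 1, nat_lit 1, nat_lit 6, nat_lit 5], .rel (nat_lit 148) (nat_lit 3) [nat_lit 5, nat_lit 7, nat_lit 4, nat_lit 2, nat_lit 0, nat_lit 0, nat_lit 6], .rel (nat_lit 156) (nat_lit 5) [nat_lit 0, nat_lit 3, nat_lit 0, nat_lit 2, nat_lit 0, nat_lit 2, nat_lit 0], .rel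 (nat_lit 293) (nat_lit 8) [nat_lit 9, nat_lit 0, nat_lit 4, nat_lit 0, nat_lit 8, nat_lit 2, nat_lit 8, nat_lit 5, nat_lit 9], .rel (nat_lit 301) (nat_lit 2) [nat_lit 5, nat_lit 10, nat_lit 2, nat_lit 2, nat_lit 10, nat_lit 2, nat_lit 4], .rel (nat_lit 318) (nat_lit 3) [nat_lit 10, nat_lit 4, nat_lit 1, nat_lit 4, nat_lit 1, nat_lit 1, nat_lit 10, nat_lit 2, nat_lit 0], .rel (nat_lit 319) (nat_lit 8) [nat_lit 10, nat_lit 0, nat_lit 0, nat_lit 5, nat_lit 0, nat_lit 5, nat_lit 10, nat_lit 2, nat_lit 1], .rel (nat_lit 330) (nat_lit 7) [nat_lit 9, nat_lit 1, nat_lit 11, nat_lit 6, nat_lit 11, nat_lit 10, nat_lit 2, nat_lit 8, nat_lit 10], .rel (nat_lit 358) (nat_lit 8) [nat_lit 1, nat_lit 13, nat_lit 0, nat_lit 4, nat_lit 1, nat_lit 13, nat_lit 9, nat_lit 3, nat_lit 9], .rel (nat_lit 371) (nat_lit 5) [nat_lit 1, nat_lit 7, nat_lit 4, nat_lit 12, nat_lit 0, nat_lit 12], .rel (nat_lit 68) (nat_lit 4) [nat_lit 4, nat_lit 0, nat_lit 5, nat_lit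 0, nat_lit 0, nat_lit 2, nat_lit 1], .rel (nat_lit 69) (nat_lit 5) [nat_lit 1, nat_lit 1, nat_lit 4, nat_lit 1, nat_lit 5, nat_lit 2, nat_lit 0], .rel (nat_lit 77) (nat_lit 5) [nat_lit 1, nat_lit 1, nat_lit 3, nat_lit 3, nat_lit 0, nat_lit 0, nat_lit 3], .rel (nat_lit 81) (nat_lit 4) [nat_lit 3, nat_lit 1, nat_lit 1, nat_lit 4, nat_lit 6, nat_lit 5, nat_lit 6], .rel (nat_lit 87) (nat_lit 5) [nat_lit 1, nat_lit 1, nat_lit 2, nat_lit 5, nat_lit 1, nat_lit 1, nat_lit 4], .rel (nat_lit 110) (nat_lit 2) [nat_lit 5, nat_lit 0, nat_lit 0, nat_lit 4, nat_lit 2, nat_lit 0, nat_lit 0], .rel (nat_lit 156) (nat_lit 7) [nat_lit 0, nat_lit 2, nat_lit 0, nat_lit 2, nat_lit 0, nat_lit 3, nat_lit 0], .rel (nat_lit 161) (nat_lit 6) [nat_lit 1, nat_lit 2, nat_lit 0, nat_lit 4, nat_lit 1, nat_lit 5, nat_lit 1], .rel (nat_lit 171) (nat_lit 6) [nat_lit 1, nat_lit 4, nat_lit 1, nat_lit 3, nat_lit 0, nat_lit 4, nat_lit 0], .rel (nat_lit 185) (nat_lit 6) [nat_lit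 1, nat_lit 2, nat_lit 2, nat_lit 1, nat_lit 6, nat_lit 6, nat_lit 3], .rel (nat_lit 197) (nat_lit 4) [nat_lit 4, nat_lit 3, nat_lit 1, nat_lit 4, nat_lit 4, nat_lit 0, nat_lit 5], .rel (nat_lit 220) (nat_lit 1) [nat_lit 0, nat_lit 5, nat_lit 1, nat_lit 4, nat_lit 1, nat_lit 2, nat_lit 0], .rel (nat_lit 254) (nat_lit 6) [nat_lit 6, nat_lit 0, nat_lit 4, nat_lit 3, nat_lit 0, nat_lit 6, nat_lit 4], .rel (nat_lit 265) (nat_lit 1) [nat_lit 6, nat_lit 1, nat_lit 3, nat_lit 7, nat_lit 5, nat_lit 1, nat_lit 4], .rel (nat_lit 290) (nat_lit 2) [nat_lit 9, nat_lit 6, nat_lit 2, nat_lit 0, nat_lit 3, nat_lit 1, nat_lit 8, nat_lit 4], .rel (nat_lit 291) (nat_lit 3) [nat_lit 7, nat_lit 8, nat_lit 2, nat_lit 5, nat_lit 9, nat_lit 0, nat_lit 2, nat_lit 1], .rel (nat_lit 300) (nat_lit 7) [nat_lit 10, nat_lit 3, nat_lit 3, nat_lit 10, nat_lit 4, nat_lit 2, nat_lit 5], .rel (nat_lit 302) (nat_lit 2) [nat_lit 10, nat_lit 6, nat_lit 2, nat_lit 0, nat_lit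 3, nat_lit 1, nat_lit 10, nat_lit 4], .rel (nat_lit 317) (nat_lit 5) [nat_lit 3, nat_lit 10, nat_lit 2, nat_lit 4, nat_lit 3, nat_lit 5, nat_lit 10], .rel (nat_lit 322) (nat_lit 5) [nat_lit 10, nat_lit 4, nat_lit 9, nat_lit 2, nat_lit 10, nat_lit 2, nat_lit 10, nat_lit 8, nat_lit 10], .rel (nat_lit 365) (nat_lit 2) [nat_lit 7, nat_lit 9, nat_lit 13, nat_lit 9, nat_lit 5, nat_lit 8, nat_lit 13, nat_lit 0, nat_lit 9], .rel (nat_lit 380) (nat_lit 3) [nat_lit 12, nat_lit 2, nat_lit 5, nat_lit 7, nat_lit 12, nat_lit 2, nat_lit 0], .rel (nat_lit 382) (nat_lit 3) [nat_lit 12, nat_lit 5, nat_lit 1, nat_lit 1, nat_lit 3, nat_lit 12, nat_lit 2, nat_lit 6], .rel (nat_lit 410) (nat_lit 8) [nat_lit 4, nat_lit 9, nat_lit 12, nat_lit 11, nat_lit 8, nat_lit 4, nat_lit 9, nat_lit 11, nat_lit 12, nat_lit 6], .rel (nat_lit 77) (nat_lit 0) [nat_lit 3, nat_lit 0, nat_lit 0, nat_lit 3, nat_lit 3, nat_lit 1, nat_lit 1], .rel (nat_lit 100) (nat_lit 2) [nat_lit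 0, nat_lit 6, nat_lit 1, nat_lit 6, nat_lit 2, nat_lit 0, nat_lit 0], .rel (nat_lit 112) (nat_lit 2) [nat_lit 5, nat_lit 6, nat_lit 3, nat_lit 5, nat_lit 6, nat_lit 0, nat_lit 0], .rel (nat_lit 112) (nat_lit 5) [nat_lit 5, nat_lit 6, nat_lit 0, nat_lit 0, nat_lit 3, nat_lit 5, nat_lit 6], .rel (nat_lit 159) (nat_lit 6) [nat_lit 1, nat_lit 5, nat_lit 0, nat_lit 4, nat_lit 0, nat_lit 2, nat_lit 1], .rel (nat_lit 175) (nat_lit 6) [nat_lit 1, nat_lit 4, nat_lit 3, nat_lit 4, nat_lit 2, nat_lit 1, nat_lit 3], .rel (nat_lit 181) (nat_lit 6) [nat_lit 1, nat_lit 6, nat_lit 4, nat_lit 7, nat_lit 5, nat_lit 0, nat_lit 3], .rel (nat_lit 188) (nat_lit 4) [nat_lit 7, nat_lit 5, nat_lit 6, nat_lit 0, nat_lit 2, nat_lit 5, nat_lit 0], .rel (nat_lit 190) (nat_lit 6) [nat_lit 7, nat_lit 0, nat_lit 2, nat_lit 5, nat_lit 0, nat_lit 6, nat_lit 4], .rel (nat_lit 273) (nat_lit 3) [nat_lit 6, nat_lit 5, nat_lit 5, nat_lit 3, nat_lit 4, nat_lit 4, nat_lit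 6], .rel (nat_lit 286) (nat_lit 6) [nat_lit 3, nat_lit 8, nat_lit 3, nat_lit 3, nat_lit 9, nat_lit 5, nat_lit 5], .rel (nat_lit 295) (nat_lit 9) [nat_lit 9, nat_lit 0, nat_lit 2, nat_lit 4, nat_lit 7, nat_lit 8, nat_lit 2, nat_lit 8, nat_lit 1, nat_lit 9], .rel (nat_lit 320) (nat_lit 3) [nat_lit 10, nat_lit 1, nat_lit 4, nat_lit 8, nat_lit 4, nat_lit 1, nat_lit 10, nat_lit 2, nat_lit 8], .rel (nat_lit 323) (nat_lit 0) [nat_lit 8, nat_lit 5, nat_lit 10, nat_lit 2, nat_lit 10, nat_lit 9, nat_lit 10, nat_lit 3, nat_lit 10], .rel (nat_lit 351) (nat_lit 1) [nat_lit 9, nat_lit 5, nat_lit 9, nat_lit 13, nat_lit 3, nat_lit 13, nat_lit 0], .rel (nat_lit 422) (nat_lit 2) [nat_lit 14, nat_lit 4, nat_lit 14, nat_lit 5, nat_lit 0, nat_lit 0], .rel (nat_lit 430) (nat_lit 9) [nat_lit 14, nat_lit 0, nat_lit 10, nat_lit 1, nat_lit 14, nat_lit 2, nat_lit 1, nat_lit 10, nat_lit 0], .rel (nat_lit 59) (nat_lit 1) [nat_lit 6, nat_lit 1, nat_lit 1, nat_lit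 3, nat_lit 1, nat_lit 1, nat_lit 6], .rel (nat_lit 67) (nat_lit 5) [nat_lit 1, nat_lit 1, nat_lit 7, nat_lit 3, nat_lit 0, nat_lit 6, nat_lit 1], .rel (nat_lit 71) (nat_lit 5) [nat_lit 1, nat_lit 1, nat_lit 5, nat_lit 1, nat_lit 3, nat_lit 5, nat_lit 0], .rel (nat_lit 91) (nat_lit 0) [nat_lit 6, nat_lit 5, nat_lit 6, nat_lit 4, nat_lit 3, nat_lit 1, nat_lit 1], .rel (nat_lit 104) (nat_lit 6) [nat_lit 7, nat_lit 0, nat_lit 0, nat_lit 3, nat_lit 1, nat_lit 6, nat_lit 0], .rel (nat_lit 114) (nat_lit 5) [nat_lit 5, nat_lit 7, nat_lit 0, nat_lit 0, nat_lit 3, nat_lit 5, nat_lit 7], .rel (nat_lit 117) (nat_lit 1) [nat_lit 6, nat_lit 4, nat_lit 7, nat_lit 2, nat_lit 1, nat_lit 1, nat_lit 4], .rel (nat_lit 128) (nat_lit 4) [nat_lit 4, nat_lit 6, nat_lit 3, nat_lit 0, nat_lit 0, nat_lit 4, nat_lit 6], .rel (nat_lit 144) (nat_lit 7) [nat_lit 0, nat_lit 0, nat_lit 5, nat_lit 6, nat_lit 4, nat_lit 6, nat_lit 3], .rel (nat_lit 158) (nat_lit 3) [nat_lit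 1, nat_lit 5, nat_lit 1, nat_lit 4, nat_lit 0, nat_lit 2, nat_lit 0], .rel (nat_lit 163) (nat_lit 6) [nat_lit 1, nat_lit 4, nat_lit 0, nat_lit 3, nat_lit 0, nat_lit 4, nat_lit 1], .rel (nat_lit 176) (nat_lit 7) [nat_lit 0, nat_lit 2, nat_lit 2, nat_lit 0, nat_lit 4, nat_lit 2, nat_lit 4], .rel (nat_lit 184) (nat_lit 6) [nat_lit 3, nat_lit 0, nat_lit 2, nat_lit 2, nat_lit 7, nat_lit 7, nat_lit 0], .rel (nat_lit 187) (nat_lit 6) [nat_lit 1, nat_lit 3, nat_lit 6, nat_lit 4, nat_lit 0, nat_lit 6, nat_lit 5], .rel (nat_lit 215) (nat_lit 2) [nat_lit 1, nat_lit 4, nat_lit 6, nat_lit 3, nat_lit 1, nat_lit 4, nat_lit 6], .rel (nat_lit 226) (nat_lit 1) [nat_lit 4, nat_lit 0, nat_lit 3, nat_lit 4, nat_lit 6, nat_lit 6, nat_lit 0], .rel (nat_lit 226) (nat_lit 4) [nat_lit 4, nat_lit 6, nat_lit 6, nat_lit 0, nat_lit 3, nat_lit 4, nat_lit 0], .rel (nat_lit 228) (nat_lit 1) [nat_lit 4, nat_lit 0, nat_lit 4, nat_lit 2, nat_lit 4, nat_lit 4, nat_lit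 0], .rel (nat_lit 230) (nat_lit 3) [nat_lit 4, nat_lit 7, nat_lit 0, nat_lit 6, nat_lit 0, nat_lit 3, nat_lit 4], .rel (nat_lit 241) (nat_lit 2) [nat_lit 6, nat_lit 1, nat_lit 4, nat_lit 2, nat_lit 1, nat_lit 4, nat_lit 6], .rel (nat_lit 254) (nat_lit 2) [nat_lit 0, nat_lit 6, nat_lit 4, nat_lit 3, nat_lit 6, nat_lit 0, nat_lit 4], .rel (nat_lit 294) (nat_lit 5) [nat_lit 9, nat_lit 6, nat_lit 5, nat_lit 3, nat_lit 1, nat_lit 8, nat_lit 2, nat_lit 8, nat_lit 0, nat_lit 9], .rel (nat_lit 316) (nat_lit 7) [nat_lit 10, nat_lit 2, nat_lit 2, nat_lit 10, nat_lit 4, nat_lit 2, nat_lit 5], .rel (nat_lit 383) (nat_lit 7) [nat_lit 12, nat_lit 2, nat_lit 0, nat_lit 0, nat_lit 4, nat_lit 12, nat_lit 2, nat_lit 7], .rel (nat_lit 398) (nat_lit 9) [nat_lit 12, nat_lit 2, nat_lit 12, nat_lit 3, nat_lit 12, nat_lit 10, nat_lit 5, nat_lit 3, nat_lit 10], .rel (nat_lit 445) (nat_lit 4) [nat_lit 5, nat_lit 14, nat_lit 12, nat_lit 14, nat_lit 3, nat_lit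 5, nat_lit 14, nat_lit 12, nat_lit 14, nat_lit 3, nat_lit 5, nat_lit 14, nat_lit 12, nat_lit 14], .rel (nat_lit 451) (nat_lit 4) [nat_lit 6, nat_lit 14, nat_lit 12, nat_lit 14, nat_lit 3, nat_lit 6, nat_lit 14, nat_lit 12, nat_lit 14, nat_lit 3, nat_lit 6, nat_lit 14, nat_lit 12, nat_lit 14], .rel (nat_lit 59) (nat_lit 5) [nat_lit 1, nat_lit 1, nat_lit 6, nat_lit 3, nat_lit 6, nat_lit 1, nat_lit 1], .rel (nat_lit 63) (nat_lit 2) [nat_lit 5, nat_lit 1, nat_lit 3, nat_lit 1, nat_lit 1, nat_lit 5, nat_lit 0], .rel (nat_lit 72) (nat_lit 7) [nat_lit 0, nat_lit 0, nat_lit 2, nat_lit 1, nat_lit 7, nat_lit 0, nat_lit 7], .rel (nat_lit 75) (nat_lit 4) [nat_lit 3, nat_lit 1, nat_lit 1, nat_lit 2, nat_lit 2, nat_lit 1, nat_lit 1], .rel (nat_lit 95) (nat_lit 5) [nat_lit 1, nat_lit 1, nat_lit 4, nat_lit 7, nat_lit 3, nat_lit 4, nat_lit 7], .rel (nat_lit 99) (nat_lit 3) [nat_lit 1, nat_lit 2, nat_lit 1, nat_lit 1, nat_lit 5, nat_lit 1, nat_lit 4],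 .rel (nat_lit 104) (nat_lit 2) [nat_lit 1, nat_lit 6, nat_lit 0, nat_lit 3, nat_lit 7, nat_lit 0, nat_lit 0], .rel (nat_lit 107) (nat_lit 0) [nat_lit 4, nat_lit 1, nat_lit 1, nat_lit 5, nat_lit 2, nat_lit 1, nat_lit 1], .rel (nat_lit 137) (nat_lit 3) [nat_lit 3, nat_lit 4, nat_lit 1, nat_lit 1, nat_lit 7, nat_lit 5, nat_lit 7], .rel (nat_lit 140) (nat_lit 3) [nat_lit 7, nat_lit 5, nat_lit 6, nat_lit 2, nat_lit 0, nat_lit 0, nat_lit 5], .rel (nat_lit 146) (nat_lit 3) [nat_lit 4, nat_lit 2, nat_lit 7, nat_lit 4, nat_lit 0, nat_lit 0, nat_lit 6], .rel (nat_lit 157) (nat_lit 6) [nat_lit 1, nat_lit 2, nat_lit 1, nat_lit 2, nat_lit 1, nat_lit 3, nat_lit 1], .rel (nat_lit 166) (nat_lit 5) [nat_lit 1, nat_lit 3, nat_lit 0, nat_lit 2, nat_lit 1, nat_lit 2, nat_lit 0], .rel (nat_lit 168) (nat_lit 7) [nat_lit 0, nat_lit 2, nat_lit 1, nat_lit 4, nat_lit 0, nat_lit 5, nat_lit 0], .rel (nat_lit 173) (nat_lit 3) [nat_lit 1, nat_lit 3, nat_lit 3, nat_lit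 1, nat_lit 7, nat_lit 7, nat_lit 3], .rel (nat_lit 175) (nat_lit 5) [nat_lit 3, nat_lit 1, nat_lit 4, nat_lit 3, nat_lit 4, nat_lit 2, nat_lit 1], .rel (nat_lit 177) (nat_lit 5) [nat_lit 3, nat_lit 1, nat_lit 2, nat_lit 5, nat_lit 3, nat_lit 5, nat_lit 1], .rel (nat_lit 177) (nat_lit 6) [nat_lit 1, nat_lit 2, nat_lit 5, nat_lit 3, nat_lit 5, nat_lit 1, nat_lit 3], .rel (nat_lit 181) (nat_lit 5) [nat_lit 3, nat_lit 1, nat_lit 6, nat_lit 4, nat_lit 7, nat_lit 5, nat_lit 0], .rel (nat_lit 193) (nat_lit 3) [nat_lit 0, nat_lit 4, nat_lit 3, nat_lit 1, nat_lit 4, nat_lit 7, nat_lit 7], .rel (nat_lit 195) (nat_lit 1) [nat_lit 6, nat_lit 5, nat_lit 0, nat_lit 4, nat_lit 3, nat_lit 1, nat_lit 6], .rel (nat_lit 197) (nat_lit 6) [nat_lit 1, nat_lit 4, nat_lit 4, nat_lit 0, nat_lit 5, nat_lit 3, nat_lit 4], .rel (nat_lit 203) (nat_lit 0) [nat_lit 6, nat_lit 5, nat_lit 0, nat_lit 7, nat_lit 4, nat_lit 3, nat_lit 1], .rel (nat_lit 204) (nat_lit 5)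 [nat_lit 7, nat_lit 5, nat_lit 0, nat_lit 2, nat_lit 5, nat_lit 7, nat_lit 0], .rel (nat_lit 205) (nat_lit 6) [nat_lit 1, nat_lit 4, nat_lit 6, nat_lit 2, nat_lit 1, nat_lit 6, nat_lit 4], .rel (nat_lit 207) (nat_lit 6) [nat_lit 1, nat_lit 4, nat_lit 6, nat_lit 5, nat_lit 1, nat_lit 2, nat_lit 7], .rel (nat_lit 211) (nat_lit 1) [nat_lit 4, nat_lit 0, nat_lit 5, nat_lit 7, nat_lit 3, nat_lit 1, nat_lit 6], .rel (nat_lit 221) (nat_lit 0) [nat_lit 0, nat_lit 5, nat_lit 0, nat_lit 4, nat_lit 1, nat_lit 2, nat_lit 1], .rel (nat_lit 224) (nat_lit 1) [nat_lit 3, nat_lit 0, nat_lit 7, nat_lit 2, nat_lit 6, nat_lit 3, nat_lit 0], .rel (nat_lit 224) (nat_lit 2) [nat_lit 0, nat_lit 7, nat_lit 2, nat_lit 6, nat_lit 3, nat_lit 0, nat_lit 3], .rel (nat_lit 273) (nat_lit 7) [nat_lit 4, nat_lit 4, nat_lit 6, nat_lit 3, nat_lit 6, nat_lit 5, nat_lit 5], .rel (nat_lit 292) (nat_lit 5) [nat_lit 9, nat_lit 1, nat_lit 5, nat_lit 1, nat_lit 8, nat_lit 2,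 nat_lit 8, nat_lit 4, nat_lit 9], .rel (nat_lit 306) (nat_lit 3) [nat_lit 10, nat_lit 5, nat_lit 6, nat_lit 5, nat_lit 1, nat_lit 1, nat_lit 10, nat_lit 2, nat_lit 6], .rel (nat_lit 307) (nat_lit 8) [nat_lit 10, nat_lit 0, nat_lit 0, nat_lit 4, nat_lit 7, nat_lit 4, nat_lit 10, nat_lit 2, nat_lit 7], .rel (nat_lit 308) (nat_lit 5) [nat_lit 10, nat_lit 4, nat_lit 2, nat_lit 5, nat_lit 10, nat_lit 2, nat_lit 10, nat_lit 2, nat_lit 10], .rel (nat_lit 309) (nat_lit 6) [nat_lit 10, nat_lit 3, nat_lit 10, nat_lit 4, nat_lit 3, nat_lit 5, nat_lit 10, nat_lit 2, nat_lit 10], .rel (nat_lit 309) (nat_lit 8) [nat_lit 10, nat_lit 4, nat_lit 3, nat_lit 5, nat_lit 10, nat_lit 2, nat_lit 10, nat_lit 3, nat_lit 10], .rel (nat_lit 323) (nat_lit 8) [nat_lit 10, nat_lit 3, nat_lit 8, nat_lit 5, nat_lit 10, nat_lit 2, nat_lit 10, nat_lit 9, nat_lit 10], .rel (nat_lit 387) (nat_lit 9) [nat_lit 12, nat_lit 0, nat_lit 0, nat_lit 4, nat_lit 8, nat_lit 0, nat_lit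 8, nat_lit 12, nat_lit 2, nat_lit 12], .rel (nat_lit 424) (nat_lit 7) [nat_lit 14, nat_lit 6, nat_lit 14, nat_lit 7, nat_lit 10, nat_lit 2, nat_lit 10], .rel (nat_lit 434) (nat_lit 5) [nat_lit 10, nat_lit 1, nat_lit 5, nat_lit 10, nat_lit 1, nat_lit 14, nat_lit 0, nat_lit 6, nat_lit 1, nat_lit 14], .rel (nat_lit 439) (nat_lit 1) [nat_lit 10, nat_lit 2, nat_lit 10, nat_lit 0, nat_lit 12, nat_lit 2, nat_lit 10, nat_lit 3, nat_lit 12, nat_lit 1], .rel (nat_lit 441) (nat_lit 4) [nat_lit 14, nat_lit 7, nat_lit 12, nat_lit 14, nat_lit 3, nat_lit 14, nat_lit 7, nat_lit 12, nat_lit 14, nat_lit 3, nat_lit 14, nat_lit 7, nat_lit 12, nat_lit 14], .rel (nat_lit 443) (nat_lit 4) [nat_lit 14, nat_lit 6, nat_lit 12, nat_lit 14, nat_lit 3, nat_lit 14, nat_lit 6, nat_lit 12, nat_lit 14, nat_lit 3, nat_lit 14, nat_lit 6, nat_lit 12, nat_lit 14], .sub (nat_lit 6) [] [], .rel (nat_lit 65) (nat_lit 5) [nat_lit 1, nat_lit 1, nat_lit 2, nat_lit 7, nat_lit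 0, nat_lit 7, nat_lit 1], .rel (nat_lit 67) (nat_lit 1) [nat_lit 0, nat_lit 6, nat_lit 1, nat_lit 3, nat_lit 1, nat_lit 1, nat_lit 7], .rel (nat_lit 71) (nat_lit 2) [nat_lit 5, nat_lit 0, nat_lit 3, nat_lit 1, nat_lit 1, nat_lit 5, nat_lit 1], .rel (nat_lit 73) (nat_lit 5) [nat_lit 1, nat_lit 1, nat_lit 2, nat_lit 6, nat_lit 1, nat_lit 6, nat_lit 0], .rel (nat_lit 79) (nat_lit 4) [nat_lit 3, nat_lit 1, nat_lit 1, nat_lit 7, nat_lit 4, nat_lit 7, nat_lit 5], .rel (nat_lit 82) (nat_lit 4) [nat_lit 7, nat_lit 4, nat_lit 6, nat_lit 0, nat_lit 0, nat_lit 2, nat_lit 4], .rel (nat_lit 88) (nat_lit 4) [nat_lit 6, nat_lit 5, nat_lit 7, nat_lit 0, nat_lit 0, nat_lit 2, nat_lit 5], .rel (nat_lit 92) (nat_lit 7) [nat_lit 0, nat_lit 0, nat_lit 2, nat_lit 6, nat_lit 0, nat_lit 6, nat_lit 1], .rel (nat_lit 93) (nat_lit 5) [nat_lit 1, nat_lit 1, nat_lit 2, nat_lit 0, nat_lit 7, nat_lit 1, nat_lit 7], .rel (nat_lit 111) (nat_lit 0) [nat_lit 5, nat_lit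 1, nat_lit 1, nat_lit 4, nat_lit 2, nat_lit 1, nat_lit 1], .rel (nat_lit 114) (nat_lit 2) [nat_lit 5, nat_lit 7, nat_lit 3, nat_lit 5, nat_lit 7, nat_lit 0, nat_lit 0], .rel (nat_lit 118) (nat_lit 2) [nat_lit 7, nat_lit 4, nat_lit 3, nat_lit 7, nat_lit 4, nat_lit 0, nat_lit 0], .rel (nat_lit 128) (nat_lit 7) [nat_lit 0, nat_lit 0, nat_lit 4, nat_lit 6, nat_lit 3, nat_lit 4, nat_lit 6], .rel (nat_lit 133) (nat_lit 2) [nat_lit 3, nat_lit 6, nat_lit 5, nat_lit 1, nat_lit 1, nat_lit 6, nat_lit 4], .rel (nat_lit 133) (nat_lit 3) [nat_lit 6, nat_lit 5, nat_lit 1, nat_lit 1, nat_lit 6, nat_lit 4, nat_lit 3], .rel (nat_lit 141) (nat_lit 0) [nat_lit 7, nat_lit 4, nat_lit 6, nat_lit 2, nat_lit 4, nat_lit 1, nat_lit 1], .rel (nat_lit 147) (nat_lit 2) [nat_lit 5, nat_lit 2, nat_lit 7, nat_lit 1, nat_lit 1, nat_lit 5, nat_lit 6], .rel (nat_lit 149) (nat_lit 0) [nat_lit 5, nat_lit 6, nat_lit 4, nat_lit 2, nat_lit 7, nat_lit 1, nat_lit 1], .rel (nat_lit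 151) (nat_lit 3) [nat_lit 5, nat_lit 7, nat_lit 1, nat_lit 1, nat_lit 4, nat_lit 2, nat_lit 6], .rel (nat_lit 152) (nat_lit 6) [nat_lit 5, nat_lit 0, nat_lit 0, nat_lit 7, nat_lit 4, nat_lit 7, nat_lit 3], .rel (nat_lit 154) (nat_lit 7) [nat_lit 0, nat_lit 0, nat_lit 7, nat_lit 5, nat_lit 3, nat_lit 7, nat_lit 5], .rel (nat_lit 157) (nat_lit 4) [nat_lit 1, nat_lit 3, nat_lit 1, nat_lit 2, nat_lit 1, nat_lit 2, nat_lit 1], .rel (nat_lit 166) (nat_lit 7) [nat_lit 0, nat_lit 2, nat_lit 1, nat_lit 2, nat_lit 0, nat_lit 3, nat_lit 1], .rel (nat_lit 167) (nat_lit 4) [nat_lit 0, nat_lit 3, nat_lit 1, nat_lit 2, nat_lit 0, nat_lit 2, nat_lit 1], .rel (nat_lit 169) (nat_lit 6) [nat_lit 1, nat_lit 2, nat_lit 1, nat_lit 4, nat_lit 1, nat_lit 5, nat_lit 0], .rel (nat_lit 173) (nat_lit 2) [nat_lit 3, nat_lit 1, nat_lit 3, nat_lit 3, nat_lit 1, nat_lit 7, nat_lit 7], .rel (nat_lit 174) (nat_lit 4) [nat_lit 5, nat_lit 2, nat_lit 5, nat_lit 0, nat_lit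 2, nat_lit 2, nat_lit 0], .rel (nat_lit 175) (nat_lit 1) [nat_lit 4, nat_lit 2, nat_lit 1, nat_lit 3, nat_lit 3, nat_lit 1, nat_lit 4], .rel (nat_lit 179) (nat_lit 6) [nat_lit 1, nat_lit 3, nat_lit 6, nat_lit 2, nat_lit 7, nat_lit 1, nat_lit 3], .rel (nat_lit 183) (nat_lit 5) [nat_lit 3, nat_lit 1, nat_lit 7, nat_lit 0, nat_lit 5, nat_lit 6, nat_lit 4], .rel (nat_lit 183) (nat_lit 6) [nat_lit 1, nat_lit 7, nat_lit 0, nat_lit 5, nat_lit 6, nat_lit 4, nat_lit 3], .rel (nat_lit 185) (nat_lit 5) [nat_lit 3, nat_lit 1, nat_lit 2, nat_lit 2, nat_lit 1, nat_lit 6, nat_lit 6], .rel (nat_lit 187) (nat_lit 0) [nat_lit 6, nat_lit 4, nat_lit 0, nat_lit 6, nat_lit 5, nat_lit 3, nat_lit 1], .rel (nat_lit 189) (nat_lit 6) [nat_lit 1, nat_lit 7, nat_lit 4, nat_lit 6, nat_lit 2, nat_lit 1, nat_lit 4], .rel (nat_lit 198) (nat_lit 3) [nat_lit 7, nat_lit 5, nat_lit 1, nat_lit 7, nat_lit 0, nat_lit 2, nat_lit 5], .rel (nat_lit 209) (nat_lit 6) [nat_lit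 1, nat_lit 3, nat_lit 3, nat_lit 7, nat_lit 0, nat_lit 2, nat_lit 7], .rel (nat_lit 222) (nat_lit 1) [nat_lit 3, nat_lit 0, nat_lit 3, nat_lit 3, nat_lit 6, nat_lit 6, nat_lit 0], .rel (nat_lit 222) (nat_lit 4) [nat_lit 3, nat_lit 6, nat_lit 6, nat_lit 0, nat_lit 3, nat_lit 3, nat_lit 0], .rel (nat_lit 222) (nat_lit 5) [nat_lit 6, nat_lit 6, nat_lit 0, nat_lit 3, nat_lit 3, nat_lit 0, nat_lit 3], .rel (nat_lit 225) (nat_lit 2) [nat_lit 6, nat_lit 1, nat_lit 2, nat_lit 2, nat_lit 1, nat_lit 2, nat_lit 7], .rel (nat_lit 230) (nat_lit 1) [nat_lit 4, nat_lit 3, nat_lit 4, nat_lit 7, nat_lit 0, nat_lit 6, nat_lit 0], .rel (nat_lit 234) (nat_lit 4) [nat_lit 4, nat_lit 1, nat_lit 7, nat_lit 0, nat_lit 3, nat_lit 4, nat_lit 6], .rel (nat_lit 236) (nat_lit 1) [nat_lit 4, nat_lit 7, nat_lit 3, nat_lit 4, nat_lit 1, nat_lit 6, nat_lit 0], .rel (nat_lit 236) (nat_lit 4) [nat_lit 4, nat_lit 1, nat_lit 6, nat_lit 0, nat_lit 3, nat_lit 4, nat_lit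 7], .rel (nat_lit 238) (nat_lit 1) [nat_lit 5, nat_lit 0, nat_lit 4, nat_lit 4, nat_lit 3, nat_lit 4, nat_lit 0], .rel (nat_lit 240) (nat_lit 1) [nat_lit 5, nat_lit 0, nat_lit 7, nat_lit 2, nat_lit 7, nat_lit 5, nat_lit 0], .rel (nat_lit 248) (nat_lit 5) [nat_lit 7, nat_lit 5, nat_lit 0, nat_lit 3, nat_lit 6, nat_lit 5, nat_lit 1], .rel (nat_lit 251) (nat_lit 0) [nat_lit 7, nat_lit 4, nat_lit 1, nat_lit 5, nat_lit 6, nat_lit 2, nat_lit 1], .rel (nat_lit 258) (nat_lit 6) [nat_lit 4, nat_lit 0, nat_lit 4, nat_lit 4, nat_lit 1, nat_lit 3, nat_lit 5], .rel (nat_lit 262) (nat_lit 7) [nat_lit 0, nat_lit 4, nat_lit 4, nat_lit 1, nat_lit 5, nat_lit 3, nat_lit 4], .rel (nat_lit 265) (nat_lit 4) [nat_lit 7, nat_lit 5, nat_lit 1, nat_lit 4, nat_lit 3, nat_lit 6, nat_lit 1], .rel (nat_lit 269) (nat_lit 0) [nat_lit 3, nat_lit 6, nat_lit 1, nat_lit 5, nat_lit 6, nat_lit 4, nat_lit 1], .rel (nat_lit 274) (nat_lit 6) [nat_lit 5, nat_lit 5, nat_lit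 3, nat_lit 0, nat_lit 0, nat_lit 6, nat_lit 4, nat_lit 6, nat_lit 4], .rel (nat_lit 290) (nat_lit 7) [nat_lit 1, nat_lit 8, nat_lit 4, nat_lit 3, nat_lit 9, nat_lit 6, nat_lit 2, nat_lit 0], .rel (nat_lit 310) (nat_lit 9) [nat_lit 1, nat_lit 10, nat_lit 2, nat_lit 10, nat_lit 0, nat_lit 10, nat_lit 3, nat_lit 10, nat_lit 7, nat_lit 5], .rel (nat_lit 311) (nat_lit 9) [nat_lit 10, nat_lit 0, nat_lit 2, nat_lit 4, nat_lit 6, nat_lit 10, nat_lit 2, nat_lit 10, nat_lit 1, nat_lit 10], .rel (nat_lit 317) (nat_lit 2) [nat_lit 5, nat_lit 10, nat_lit 3, nat_lit 3, nat_lit 10, nat_lit 2, nat_lit 4], .rel (nat_lit 332) (nat_lit 6) [nat_lit 4, nat_lit 10, nat_lit 3, nat_lit 11, nat_lit 8, nat_lit 11, nat_lit 9, nat_lit 11, nat_lit 5], .rel (nat_lit 377) (nat_lit 1) [nat_lit 0, nat_lit 5, nat_lit 12, nat_lit 2, nat_lit 5, nat_lit 12, nat_lit 0], .rel (nat_lit 381) (nat_lit 2) [nat_lit 12, nat_lit 2, nat_lit 1, nat_lit 3, nat_lit 12, nat_lit 6, nat_lit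 4], .rel (nat_lit 398) (nat_lit 7) [nat_lit 10, nat_lit 3, nat_lit 12, nat_lit 2, nat_lit 12, nat_lit 3, nat_lit 12, nat_lit 10, nat_lit 5], .rel (nat_lit 407) (nat_lit 9) [nat_lit 12, nat_lit 0, nat_lit 9, nat_lit 0, nat_lit 0, nat_lit 12, nat_lit 11, nat_lit 8, nat_lit 10, nat_lit 11], .rel (nat_lit 438) (nat_lit 3) [nat_lit 12, nat_lit 1, nat_lit 10, nat_lit 3, nat_lit 10, nat_lit 2, nat_lit 0, nat_lit 12, nat_lit 2, nat_lit 10], .rel (nat_lit 439) (nat_lit 9) [nat_lit 12, nat_lit 1, nat_lit 3, nat_lit 10, nat_lit 2, nat_lit 10, nat_lit 0, nat_lit 12, nat_lit 2, nat_lit 10]],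
  [.rel (nat_lit 8) (nat_lit 0) [nat_lit 5], .defn, .rel (nat_lit 344) (nat_lit 0) [nat_lit 7, nat_lit 11, nat_lit 4, nat_lit 7, nat_lit 11], .rel (nat_lit 51) (nat_lit 0) [nat_lit 3, nat_lit 3, nat_lit 5, nat_lit 3, nat_lit 3], .rel (nat_lit 36) (nat_lit 0) [nat_lit 4, nat_lit 4, nat_lit 4], .rel (nat_lit 336) (nat_lit 3) [nat_lit 4, nat_lit 13, nat_lit 0, nat_lit 0, nat_lit 13], .rel (nat_lit 340) (nat_lit 4) [nat_lit 13, nat_lit 2, nat_lit 4, nat_lit 6, nat_lit 13], .rel (nat_lit 418) (nat_lit 5) [nat_lit 2, nat_lit 5, nat_lit 14, nat_lit 2, nat_lit 14], .rel (nat_lit 422) (nat_lit 4) [nat_lit 14, nat_lit 5, nat_lit 0, nat_lit 0, nat_lit 3, nat_lit 14], .rel (nat_lit 56) (nat_lit 1) [nat_lit 6, nat_lit 4, nat_lit 4, nat_lit 7, nat_lit 4], .rel (nat_lit 42) (nat_lit 2) [nat_lit 1, nat_lit 2, nat_lit 4, nat_lit 0, nat_lit 2], .rel (nat_lit 55) (nat_lit 2) [nat_lit 3, nat_lit 4, nat_lit 3, nat_lit 7, nat_lit 7], .rel (nat_lit 342) (nat_lit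 0) [nat_lit 4, nat_lit 6, nat_lit 9, nat_lit 6, nat_lit 8], .rel (nat_lit 368) (nat_lit 4) [nat_lit 2, nat_lit 0, nat_lit 12, nat_lit 7, nat_lit 12], .rel (nat_lit 56) (nat_lit 4) [nat_lit 7, nat_lit 4, nat_lit 4, nat_lit 6, nat_lit 4], .rel (nat_lit 278) (nat_lit 4) [nat_lit 9, nat_lit 0, nat_lit 8, nat_lit 1, nat_lit 4], .rel (nat_lit 419) (nat_lit 4) [nat_lit 3, nat_lit 5, nat_lit 14, nat_lit 3, nat_lit 14], .rel (nat_lit 277) (nat_lit 1) [nat_lit 9, nat_lit 9, nat_lit 2, nat_lit 1, nat_lit 7], .rel (nat_lit 56) (nat_lit 3) [nat_lit 4, nat_lit 7, nat_lit 4, nat_lit 4, nat_lit 6], .rel (nat_lit 278) (nat_lit 3) [nat_lit 4, nat_lit 9, nat_lit 0, nat_lit 8, nat_lit 1], .rel (nat_lit 42) (nat_lit 5) [nat_lit 0, nat_lit 2, nat_lit 4, nat_lit 1, nat_lit 2], .rel (nat_lit 56) (nat_lit 0) [nat_lit 4, nat_lit 6, nat_lit 4, nat_lit 4, nat_lit 7], .rel (nat_lit 52) (nat_lit 5) [nat_lit 2, nat_lit 4, nat_lit 2, nat_lit 6, nat_lit 6], .rel (nat_lit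 55) (nat_lit 4) [nat_lit 3, nat_lit 7, nat_lit 7, nat_lit 4, nat_lit 3], .rel (nat_lit 336) (nat_lit 4) [nat_lit 13, nat_lit 0, nat_lit 0, nat_lit 13, nat_lit 4], .rel (nat_lit 340) (nat_lit 1) [nat_lit 6, nat_lit 13, nat_lit 4, nat_lit 13, nat_lit 2], .rel (nat_lit 374) (nat_lit 1) [nat_lit 12, nat_lit 4, nat_lit 7, nat_lit 5, nat_lit 12, nat_lit 2], .rel (nat_lit 50) (nat_lit 2) [nat_lit 2, nat_lit 2, nat_lit 5, nat_lit 2, nat_lit 2], .rel (nat_lit 342) (nat_lit 1) [nat_lit 6, nat_lit 9, nat_lit 6, nat_lit 8, nat_lit 4], .rel (nat_lit 364) (nat_lit 2) [nat_lit 8, nat_lit 13, nat_lit 8, nat_lit 6, nat_lit 2, nat_lit 8, nat_lit 1, nat_lit 13, nat_lit 9], .rel (nat_lit 401) (nat_lit 7) [nat_lit 11, nat_lit 12, nat_lit 9, nat_lit 5, nat_lit 10, nat_lit 3, nat_lit 12, nat_lit 2, nat_lit 11], .rel (nat_lit 52) (nat_lit 1) [nat_lit 2, nat_lit 6, nat_lit 6, nat_lit 4, nat_lit 2], .rel (nat_lit 348) (nat_lit 3) [nat_lit 9, nat_lit 11, nat_lit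 3, nat_lit 0, nat_lit 11, nat_lit 10], .rel (nat_lit 285) (nat_lit 1) [nat_lit 2, nat_lit 8, nat_lit 4, nat_lit 3, nat_lit 1, nat_lit 8], .rel (nat_lit 315) (nat_lit 1) [nat_lit 3, nat_lit 9, nat_lit 10, nat_lit 2, nat_lit 5, nat_lit 10, nat_lit 8], .rel (nat_lit 283) (nat_lit 2) [nat_lit 9, nat_lit 5, nat_lit 3, nat_lit 1, nat_lit 9, nat_lit 3], .rel (nat_lit 376) (nat_lit 1) [nat_lit 3, nat_lit 12, nat_lit 4, nat_lit 1, nat_lit 2, nat_lit 1, nat_lit 12], .rel (nat_lit 350) (nat_lit 4) [nat_lit 8, nat_lit 2, nat_lit 1, nat_lit 13, nat_lit 2, nat_lit 13, nat_lit 8], .rel (nat_lit 285) (nat_lit 4) [nat_lit 3, nat_lit 1, nat_lit 8, nat_lit 4, nat_lit 2, nat_lit 8], .rel (nat_lit 355) (nat_lit 2) [nat_lit 9, nat_lit 13, nat_lit 0, nat_lit 3, nat_lit 1, nat_lit 13, nat_lit 8, nat_lit 3], .rel (nat_lit 397) (nat_lit 2) [nat_lit 12, nat_lit 2, nat_lit 11, nat_lit 2, nat_lit 11, nat_lit 12, nat_lit 0, nat_lit 3], .rel (nat_lit 426) (nat_lit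 2) [nat_lit 1, nat_lit 14, nat_lit 1, nat_lit 4, nat_lit 0, nat_lit 14, nat_lit 0], .rel (nat_lit 314) (nat_lit 1) [nat_lit 3, nat_lit 10, nat_lit 8, nat_lit 2, nat_lit 5, nat_lit 9, nat_lit 10], .rel (nat_lit 282) (nat_lit 2) [nat_lit 8, nat_lit 5, nat_lit 2, nat_lit 8, nat_lit 0, nat_lit 2], .rel (nat_lit 288) (nat_lit 5) [nat_lit 7, nat_lit 5, nat_lit 8, nat_lit 2, nat_lit 6, nat_lit 3, nat_lit 9], .rel (nat_lit 410) (nat_lit 3) [nat_lit 9, nat_lit 11, nat_lit 12, nat_lit 6, nat_lit 3, nat_lit 4, nat_lit 9, nat_lit 12, nat_lit 11, nat_lit 8], .rel (nat_lit 326) (nat_lit 3) [nat_lit 2, nat_lit 0, nat_lit 3, nat_lit 1, nat_lit 11, nat_lit 2, nat_lit 11], .rel (nat_lit 374) (nat_lit 3) [nat_lit 7, nat_lit 5, nat_lit 12, nat_lit 2, nat_lit 4, nat_lit 12], .rel (nat_lit 379) (nat_lit 4) [nat_lit 12, nat_lit 9, nat_lit 12, nat_lit 0, nat_lit 8, nat_lit 5, nat_lit 8], .rel (nat_lit 305) (nat_lit 7) [nat_lit 10, nat_lit 0, nat_lit 4, nat_lit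 0, nat_lit 4, nat_lit 7, nat_lit 10, nat_lit 2], .rel (nat_lit 400) (nat_lit 8) [nat_lit 8, nat_lit 12, nat_lit 11, nat_lit 5, nat_lit 11, nat_lit 3, nat_lit 12, nat_lit 2, nat_lit 10], .rel (nat_lit 289) (nat_lit 0) [nat_lit 6, nat_lit 5, nat_lit 8, nat_lit 2, nat_lit 7, nat_lit 3, nat_lit 9], .rel (nat_lit 328) (nat_lit 5) [nat_lit 8, nat_lit 4, nat_lit 2, nat_lit 11, nat_lit 10, nat_lit 9, nat_lit 11, nat_lit 8], .rel (nat_lit 302) (nat_lit 1) [nat_lit 3, nat_lit 10, nat_lit 6, nat_lit 2, nat_lit 0, nat_lit 3, nat_lit 1, nat_lit 10], .rel (nat_lit 79) (nat_lit 1) [nat_lit 7, nat_lit 5, nat_lit 3, nat_lit 3, nat_lit 1, nat_lit 1, nat_lit 7], .rel (nat_lit 358) (nat_lit 2) [nat_lit 1, nat_lit 13, nat_lit 9, nat_lit 3, nat_lit 9, nat_lit 3, nat_lit 1, nat_lit 13, nat_lit 0], .rel (nat_lit 375) (nat_lit 1) [nat_lit 6, nat_lit 5, nat_lit 12, nat_lit 5, nat_lit 3, nat_lit 12], .rel (nat_lit 426) (nat_lit 6) [nat_lit 0, nat_lit 14, nat_lit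 0, nat_lit 4, nat_lit 1, nat_lit 14, nat_lit 1], .rel (nat_lit 61) (nat_lit 0) [nat_lit 0, nat_lit 5, nat_lit 2, nat_lit 1, nat_lit 3, nat_lit 1, nat_lit 1], .rel (nat_lit 312) (nat_lit 4) [nat_lit 2, nat_lit 10, nat_lit 0, nat_lit 8, nat_lit 10, nat_lit 9], .rel (nat_lit 408) (nat_lit 10) [nat_lit 12, nat_lit 11, nat_lit 12, nat_lit 2, nat_lit 12, nat_lit 11, nat_lit 12, nat_lit 6, nat_lit 11, nat_lit 1], .rel (nat_lit 124) (nat_lit 2) [nat_lit 4, nat_lit 0, nat_lit 0, nat_lit 5, nat_lit 5, nat_lit 0, nat_lit 0], .rel (nat_lit 161) (nat_lit 2) [nat_lit 1, nat_lit 5, nat_lit 1, nat_lit 3, nat_lit 1, nat_lit 2, nat_lit 0], .rel (nat_lit 287) (nat_lit 3) [nat_lit 8, nat_lit 2, nat_lit 2, nat_lit 9, nat_lit 2, nat_lit 2, nat_lit 4], .rel (nat_lit 322) (nat_lit 7) [nat_lit 9, nat_lit 2, nat_lit 10, nat_lit 2, nat_lit 10, nat_lit 8, nat_lit 10, nat_lit 3, nat_lit 10], .rel (nat_lit 69) (nat_lit 0) [nat_lit 1, nat_lit 5, nat_lit 2, nat_lit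 0, nat_lit 3, nat_lit 1, nat_lit 1], .rel (nat_lit 60) (nat_lit 5) [nat_lit 1, nat_lit 5, nat_lit 0, nat_lit 0, nat_lit 2, nat_lit 0, nat_lit 3], .rel (nat_lit 159) (nat_lit 2) [nat_lit 0, nat_lit 2, nat_lit 1, nat_lit 3, nat_lit 1, nat_lit 5, nat_lit 0], .rel (nat_lit 62) (nat_lit 4) [nat_lit 2, nat_lit 1, nat_lit 4, nat_lit 0, nat_lit 0, nat_lit 2, nat_lit 0], .rel (nat_lit 133) (nat_lit 1) [nat_lit 3, nat_lit 3, nat_lit 6, nat_lit 5, nat_lit 1, nat_lit 1, nat_lit 6], .rel (nat_lit 86) (nat_lit 6) [nat_lit 3, nat_lit 0, nat_lit 0, nat_lit 2, nat_lit 5, nat_lit 0, nat_lit 0], .rel (nat_lit 158) (nat_lit 7) [nat_lit 0, nat_lit 2, nat_lit 0, nat_lit 3, nat_lit 1, nat_lit 5, nat_lit 1], .rel (nat_lit 357) (nat_lit 0) [nat_lit 7, nat_lit 8, nat_lit 2, nat_lit 13, nat_lit 9, nat_lit 13, nat_lit 1, nat_lit 13], .rel (nat_lit 124) (nat_lit 3) [nat_lit 0, nat_lit 0, nat_lit 5, nat_lit 5, nat_lit 0, nat_lit 0, nat_lit 4], .rel (nat_lit 299)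 (nat_lit 1) [nat_lit 10, nat_lit 1, nat_lit 10, nat_lit 3, nat_lit 1, nat_lit 6], .rel (nat_lit 300) (nat_lit 4) [nat_lit 2, nat_lit 5, nat_lit 3, nat_lit 10, nat_lit 3, nat_lit 3, nat_lit 10], .rel (nat_lit 428) (nat_lit 6) [nat_lit 2, nat_lit 7, nat_lit 10, nat_lit 14, nat_lit 0, nat_lit 2, nat_lit 1, nat_lit 14, nat_lit 10], .rel (nat_lit 328) (nat_lit 7) [nat_lit 2, nat_lit 11, nat_lit 10, nat_lit 9, nat_lit 11, nat_lit 8, nat_lit 4, nat_lit 8], .rel (nat_lit 412) (nat_lit 8) [nat_lit 10, nat_lit 7, nat_lit 11, nat_lit 12, nat_lit 2, nat_lit 11, nat_lit 9, nat_lit 12, nat_lit 11, nat_lit 12, nat_lit 6], .rel (nat_lit 423) (nat_lit 0) [nat_lit 14, nat_lit 5, nat_lit 14, nat_lit 2, nat_lit 1, nat_lit 1], .rel (nat_lit 62) (nat_lit 7) [nat_lit 0, nat_lit 0, nat_lit 2, nat_lit 0, nat_lit 4, nat_lit 2, nat_lit 1], .rel (nat_lit 99) (nat_lit 2) [nat_lit 3, nat_lit 1, nat_lit 2, nat_lit 1, nat_lit 1, nat_lit 5, nat_lit 1], .rel (nat_lit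 144) (nat_lit 4) [nat_lit 6, nat_lit 3, nat_lit 3, nat_lit 0, nat_lit 0, nat_lit 5, nat_lit 6], .rel (nat_lit 197) (nat_lit 1) [nat_lit 0, nat_lit 5, nat_lit 3, nat_lit 4, nat_lit 3, nat_lit 1, nat_lit 4], .rel (nat_lit 258) (nat_lit 2) [nat_lit 1, nat_lit 3, nat_lit 5, nat_lit 3, nat_lit 4, nat_lit 0, nat_lit 4], .rel (nat_lit 320) (nat_lit 6) [nat_lit 8, nat_lit 4, nat_lit 1, nat_lit 10, nat_lit 2, nat_lit 8, nat_lit 3, nat_lit 10, nat_lit 1], .rel (nat_lit 410) (nat_lit 9) [nat_lit 9, nat_lit 12, nat_lit 11, nat_lit 8, nat_lit 4, nat_lit 9, nat_lit 11, nat_lit 12, nat_lit 6, nat_lit 3], .rel (nat_lit 106) (nat_lit 3) [nat_lit 0, nat_lit 0, nat_lit 5, nat_lit 2, nat_lit 0, nat_lit 0, nat_lit 3], .rel (nat_lit 115) (nat_lit 1) [nat_lit 2, nat_lit 6, nat_lit 4, nat_lit 2, nat_lit 1, nat_lit 1, nat_lit 6], .rel (nat_lit 260) (nat_lit 2) [nat_lit 1, nat_lit 4, nat_lit 4, nat_lit 7, nat_lit 7, nat_lit 0, nat_lit 4], .rel (nat_lit 287)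 (nat_lit 2) [nat_lit 4, nat_lit 8, nat_lit 2, nat_lit 2, nat_lit 9, nat_lit 2, nat_lit 2], .rel (nat_lit 290) (nat_lit 1) [nat_lit 3, nat_lit 9, nat_lit 6, nat_lit 2, nat_lit 0, nat_lit 3, nat_lit 1, nat_lit 8], .rel (nat_lit 292) (nat_lit 3) [nat_lit 9, nat_lit 3, nat_lit 9, nat_lit 1, nat_lit 5, nat_lit 1, nat_lit 8, nat_lit 2, nat_lit 8], .rel (nat_lit 318) (nat_lit 5) [nat_lit 1, nat_lit 4, nat_lit 1, nat_lit 1, nat_lit 10, nat_lit 2, nat_lit 0, nat_lit 3, nat_lit 10], .rel (nat_lit 376) (nat_lit 4) [nat_lit 1, nat_lit 2, nat_lit 1, nat_lit 12, nat_lit 4, nat_lit 3, nat_lit 12], .rel (nat_lit 68) (nat_lit 5) [nat_lit 0, nat_lit 5, nat_lit 0, nat_lit 0, nat_lit 2, nat_lit 1, nat_lit 3], .rel (nat_lit 70) (nat_lit 7) [nat_lit 0, nat_lit 0, nat_lit 2, nat_lit 1, nat_lit 4, nat_lit 2, nat_lit 0], .rel (nat_lit 82) (nat_lit 6) [nat_lit 6, nat_lit 0, nat_lit 0, nat_lit 2, nat_lit 4, nat_lit 3, nat_lit 7], .rel (nat_lit 87) (nat_lit 4)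 [nat_lit 3, nat_lit 1, nat_lit 1, nat_lit 2, nat_lit 5, nat_lit 1, nat_lit 1], .rel (nat_lit 122) (nat_lit 2) [nat_lit 1, nat_lit 7, nat_lit 0, nat_lit 7, nat_lit 5, nat_lit 0, nat_lit 0], .rel (nat_lit 125) (nat_lit 1) [nat_lit 1, nat_lit 1, nat_lit 5, nat_lit 5, nat_lit 1, nat_lit 1, nat_lit 4], .rel (nat_lit 169) (nat_lit 2) [nat_lit 1, nat_lit 5, nat_lit 0, nat_lit 3, nat_lit 1, nat_lit 2, nat_lit 1], .rel (nat_lit 378) (nat_lit 5) [nat_lit 9, nat_lit 1, nat_lit 12, nat_lit 8, nat_lit 12, nat_lit 5, nat_lit 9], .rel (nat_lit 414) (nat_lit 7) [nat_lit 10, nat_lit 6, nat_lit 5, nat_lit 9, nat_lit 12, nat_lit 11, nat_lit 8, nat_lit 6, nat_lit 9, nat_lit 11, nat_lit 12], .rel (nat_lit 435) (nat_lit 2) [nat_lit 0, nat_lit 10, nat_lit 2, nat_lit 14, nat_lit 0, nat_lit 7, nat_lit 1, nat_lit 14, nat_lit 0, nat_lit 10], .rel (nat_lit 107) (nat_lit 1) [nat_lit 1, nat_lit 1, nat_lit 5, nat_lit 2, nat_lit 1, nat_lit 1, nat_lit 3], .rel (nat_lit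 137) (nat_lit 5) [nat_lit 1, nat_lit 1, nat_lit 7, nat_lit 5, nat_lit 7, nat_lit 3, nat_lit 3], .rel (nat_lit 187) (nat_lit 2) [nat_lit 0, nat_lit 6, nat_lit 5, nat_lit 3, nat_lit 1, nat_lit 3, nat_lit 6], .rel (nat_lit 307) (nat_lit 4) [nat_lit 10, nat_lit 2, nat_lit 7, nat_lit 3, nat_lit 10, nat_lit 0, nat_lit 0, nat_lit 4, nat_lit 7], .rel (nat_lit 371) (nat_lit 1) [nat_lit 12, nat_lit 0, nat_lit 12, nat_lit 3, nat_lit 1, nat_lit 7], .rel (nat_lit 385) (nat_lit 1) [nat_lit 9, nat_lit 4, nat_lit 0, nat_lit 12, nat_lit 2, nat_lit 9, nat_lit 3, nat_lit 12, nat_lit 0], .rel (nat_lit 103) (nat_lit 2) [nat_lit 3, nat_lit 0, nat_lit 2, nat_lit 1, nat_lit 1, nat_lit 5, nat_lit 0], .rel (nat_lit 109) (nat_lit 2) [nat_lit 7, nat_lit 5, nat_lit 2, nat_lit 1, nat_lit 1, nat_lit 6, nat_lit 3], .rel (nat_lit 123) (nat_lit 0) [nat_lit 6, nat_lit 1, nat_lit 6, nat_lit 0, nat_lit 5, nat_lit 1, nat_lit 1], .rel (nat_lit 160) (nat_lit 3) [nat_lit 0,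 nat_lit 5, nat_lit 1, nat_lit 3, nat_lit 0, nat_lit 2, nat_lit 0], .rel (nat_lit 197) (nat_lit 0) [nat_lit 4, nat_lit 0, nat_lit 5, nat_lit 3, nat_lit 4, nat_lit 3, nat_lit 1], .rel (nat_lit 226) (nat_lit 2) [nat_lit 0, nat_lit 3, nat_lit 4, nat_lit 6, nat_lit 6, nat_lit 0, nat_lit 3], .rel (nat_lit 84) (nat_lit 3) [nat_lit 7, nat_lit 2, nat_lit 4, nat_lit 7, nat_lit 0, nat_lit 0, nat_lit 2], .rel (nat_lit 98) (nat_lit 7) [nat_lit 0, nat_lit 0, nat_lit 3, nat_lit 0, nat_lit 2, nat_lit 5, nat_lit 0], .rel (nat_lit 120) (nat_lit 2) [nat_lit 0, nat_lit 6, nat_lit 1, nat_lit 6, nat_lit 5, nat_lit 0, nat_lit 0], .rel (nat_lit 134) (nat_lit 7) [nat_lit 0, nat_lit 0, nat_lit 5, nat_lit 1, nat_lit 7, nat_lit 0, nat_lit 7], .rel (nat_lit 135) (nat_lit 5) [nat_lit 1, nat_lit 1, nat_lit 5, nat_lit 6, nat_lit 1, nat_lit 6, nat_lit 0], .rel (nat_lit 136) (nat_lit 6) [nat_lit 6, nat_lit 0, nat_lit 0, nat_lit 5, nat_lit 2, nat_lit 2, nat_lit 6], .rel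 (nat_lit 142) (nat_lit 7) [nat_lit 0, nat_lit 0, nat_lit 5, nat_lit 6, nat_lit 0, nat_lit 6, nat_lit 1], .rel (nat_lit 145) (nat_lit 5) [nat_lit 1, nat_lit 1, nat_lit 2, nat_lit 2, nat_lit 7, nat_lit 5, nat_lit 7], .rel (nat_lit 152) (nat_lit 3) [nat_lit 7, nat_lit 3, nat_lit 3, nat_lit 5, nat_lit 0, nat_lit 0, nat_lit 7], .rel (nat_lit 163) (nat_lit 4) [nat_lit 1, nat_lit 3, nat_lit 1, nat_lit 4, nat_lit 0, nat_lit 3, nat_lit 0], .rel (nat_lit 168) (nat_lit 3) [nat_lit 0, nat_lit 5, nat_lit 0, nat_lit 3, nat_lit 0, nat_lit 2, nat_lit 1], .rel (nat_lit 171) (nat_lit 4) [nat_lit 0, nat_lit 3, nat_lit 1, nat_lit 4, nat_lit 1, nat_lit 3, nat_lit 0], .rel (nat_lit 221) (nat_lit 4) [nat_lit 1, nat_lit 2, nat_lit 1, nat_lit 3, nat_lit 0, nat_lit 5, nat_lit 0], .rel (nat_lit 258) (nat_lit 1) [nat_lit 4, nat_lit 1, nat_lit 3, nat_lit 5, nat_lit 3, nat_lit 4, nat_lit 0], .rel (nat_lit 301) (nat_lit 1) [nat_lit 3, nat_lit 5, nat_lit 10, nat_lit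 2, nat_lit 2, nat_lit 10, nat_lit 2], .rel (nat_lit 309) (nat_lit 0) [nat_lit 3, nat_lit 5, nat_lit 10, nat_lit 2, nat_lit 10, nat_lit 3, nat_lit 10, nat_lit 3, nat_lit 10], .rel (nat_lit 320) (nat_lit 8) [nat_lit 1, nat_lit 10, nat_lit 2, nat_lit 8, nat_lit 3, nat_lit 10, nat_lit 1, nat_lit 4, nat_lit 8], .rel (nat_lit 383) (nat_lit 3) [nat_lit 12, nat_lit 2, nat_lit 7, nat_lit 3, nat_lit 12, nat_lit 2, nat_lit 0, nat_lit 0], .rel (nat_lit 70) (nat_lit 4) [nat_lit 2, nat_lit 0, nat_lit 4, nat_lit 0, nat_lit 0, nat_lit 2, nat_lit 1], .rel (nat_lit 84) (nat_lit 6) [nat_lit 7, nat_lit 0, nat_lit 0, nat_lit 2, nat_lit 4, nat_lit 7, nat_lit 2], .rel (nat_lit 111) (nat_lit 4) [nat_lit 2, nat_lit 1, nat_lit 1, nat_lit 3, nat_lit 5, nat_lit 1, nat_lit 1], .rel (nat_lit 143) (nat_lit 5) [nat_lit 1, nat_lit 1, nat_lit 5, nat_lit 0, nat_lit 7, nat_lit 1, nat_lit 7], .rel (nat_lit 180) (nat_lit 4) [nat_lit 6, nat_lit 5, nat_lit 7, nat_lit 0, nat_lit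 2, nat_lit 2, nat_lit 1], .rel (nat_lit 366) (nat_lit 5) [nat_lit 7, nat_lit 1, nat_lit 14, nat_lit 13, nat_lit 11, nat_lit 0, nat_lit 9], .rel (nat_lit 385) (nat_lit 3) [nat_lit 0, nat_lit 12, nat_lit 2, nat_lit 9, nat_lit 3, nat_lit 12, nat_lit 0, nat_lit 4, nat_lit 9], .rel (nat_lit 399) (nat_lit 3) [nat_lit 10, nat_lit 12, nat_lit 2, nat_lit 12, nat_lit 3, nat_lit 12, nat_lit 2, nat_lit 10, nat_lit 2], .rel (nat_lit 78) (nat_lit 4) [nat_lit 6, nat_lit 5, nat_lit 6, nat_lit 0, nat_lit 0, nat_lit 2, nat_lit 2], .rel (nat_lit 89) (nat_lit 1) [nat_lit 7, nat_lit 2, nat_lit 4, nat_lit 3, nat_lit 1, nat_lit 1, nat_lit 6], .rel (nat_lit 102) (nat_lit 7) [nat_lit 0, nat_lit 0, nat_lit 3, nat_lit 1, nat_lit 2, nat_lit 5, nat_lit 1], .rel (nat_lit 108) (nat_lit 3) [nat_lit 6, nat_lit 5, nat_lit 2, nat_lit 7, nat_lit 0, nat_lit 0, nat_lit 3], .rel (nat_lit 113) (nat_lit 1) [nat_lit 2, nat_lit 7, nat_lit 4, nat_lit 2, nat_lit 1, nat_lit 1,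 nat_lit 7], .rel (nat_lit 115) (nat_lit 4) [nat_lit 2, nat_lit 1, nat_lit 1, nat_lit 6, nat_lit 4, nat_lit 2, nat_lit 6], .rel (nat_lit 121) (nat_lit 0) [nat_lit 7, nat_lit 0, nat_lit 7, nat_lit 1, nat_lit 5, nat_lit 1, nat_lit 1], .rel (nat_lit 125) (nat_lit 0) [nat_lit 4, nat_lit 1, nat_lit 1, nat_lit 5, nat_lit 5, nat_lit 1, nat_lit 1], .rel (nat_lit 127) (nat_lit 0) [nat_lit 0, nat_lit 7, nat_lit 1, nat_lit 7, nat_lit 5, nat_lit 1, nat_lit 1], .rel (nat_lit 128) (nat_lit 5) [nat_lit 6, nat_lit 3, nat_lit 0, nat_lit 0, nat_lit 4, nat_lit 6, nat_lit 3], .rel (nat_lit 141) (nat_lit 5) [nat_lit 1, nat_lit 1, nat_lit 3, nat_lit 7, nat_lit 4, nat_lit 6, nat_lit 2], .rel (nat_lit 163) (nat_lit 0) [nat_lit 0, nat_lit 3, nat_lit 0, nat_lit 4, nat_lit 1, nat_lit 3, nat_lit 1], .rel (nat_lit 175) (nat_lit 0) [nat_lit 3, nat_lit 4, nat_lit 2, nat_lit 1, nat_lit 3, nat_lit 3, nat_lit 1], .rel (nat_lit 181) (nat_lit 1) [nat_lit 7, nat_lit 5,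 nat_lit 0, nat_lit 3, nat_lit 3, nat_lit 1, nat_lit 6], .rel (nat_lit 190) (nat_lit 5) [nat_lit 3, nat_lit 7, nat_lit 0, nat_lit 2, nat_lit 5, nat_lit 0, nat_lit 6], .rel (nat_lit 200) (nat_lit 6) [nat_lit 3, nat_lit 0, nat_lit 2, nat_lit 5, nat_lit 6, nat_lit 0, nat_lit 6], .rel (nat_lit 201) (nat_lit 5) [nat_lit 3, nat_lit 1, nat_lit 2, nat_lit 5, nat_lit 7, nat_lit 1, nat_lit 7], .rel (nat_lit 205) (nat_lit 0) [nat_lit 6, nat_lit 2, nat_lit 1, nat_lit 6, nat_lit 4, nat_lit 3, nat_lit 1], .rel (nat_lit 206) (nat_lit 5) [nat_lit 7, nat_lit 5, nat_lit 0, nat_lit 2, nat_lit 6, nat_lit 3, nat_lit 0], .rel (nat_lit 207) (nat_lit 0) [nat_lit 6, nat_lit 5, nat_lit 1, nat_lit 2, nat_lit 7, nat_lit 3, nat_lit 1], .rel (nat_lit 228) (nat_lit 2) [nat_lit 0, nat_lit 4, nat_lit 2, nat_lit 4, nat_lit 4, nat_lit 0, nat_lit 3], .rel (nat_lit 228) (nat_lit 7) [nat_lit 0, nat_lit 3, nat_lit 4, nat_lit 0, nat_lit 4, nat_lit 2, nat_lit 4], .rel (nat_lit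 233) (nat_lit 2) [nat_lit 1, nat_lit 7, nat_lit 5, nat_lit 2, nat_lit 1, nat_lit 7, nat_lit 3], .rel (nat_lit 234) (nat_lit 2) [nat_lit 6, nat_lit 3, nat_lit 4, nat_lit 1, nat_lit 7, nat_lit 0, nat_lit 3], .rel (nat_lit 238) (nat_lit 4) [nat_lit 4, nat_lit 3, nat_lit 4, nat_lit 0, nat_lit 3, nat_lit 5, nat_lit 0], .rel (nat_lit 266) (nat_lit 1) [nat_lit 6, nat_lit 6, nat_lit 5, nat_lit 6, nat_lit 0, nat_lit 7, nat_lit 0], .rel (nat_lit 268) (nat_lit 3) [nat_lit 0, nat_lit 7, nat_lit 2, nat_lit 2, nat_lit 0, nat_lit 5, nat_lit 7], .rel (nat_lit 271) (nat_lit 3) [nat_lit 6, nat_lit 1, nat_lit 7, nat_lit 1, nat_lit 5, nat_lit 7, nat_lit 7], .rel (nat_lit 332) (nat_lit 7) [nat_lit 10, nat_lit 3, nat_lit 11, nat_lit 8, nat_lit 11, nat_lit 9, nat_lit 11, nat_lit 5, nat_lit 3], .rel (nat_lit 415) (nat_lit 1) [nat_lit 7, nat_lit 10, nat_lit 5, nat_lit 12, nat_lit 11, nat_lit 8, nat_lit 7, nat_lit 9, nat_lit 11, nat_lit 12, nat_lit 8], .rel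 (nat_lit 452) (nat_lit 3) [nat_lit 14, nat_lit 2, nat_lit 12, nat_lit 14, nat_lit 4, nat_lit 14, nat_lit 2, nat_lit 12, nat_lit 14, nat_lit 4, nat_lit 14, nat_lit 2, nat_lit 12, nat_lit 14], .rel (nat_lit 89) (nat_lit 4) [nat_lit 3, nat_lit 1, nat_lit 1, nat_lit 6, nat_lit 4, nat_lit 7, nat_lit 2], .rel (nat_lit 95) (nat_lit 3) [nat_lit 7, nat_lit 3, nat_lit 1, nat_lit 1, nat_lit 4, nat_lit 7, nat_lit 3], .rel (nat_lit 110) (nat_lit 6) [nat_lit 2, nat_lit 0, nat_lit 0, nat_lit 3, nat_lit 5, nat_lit 0, nat_lit 0], .rel (nat_lit 113) (nat_lit 4) [nat_lit 2, nat_lit 1, nat_lit 1, nat_lit 7, nat_lit 4, nat_lit 2, nat_lit 7], .rel (nat_lit 118) (nat_lit 4) [nat_lit 3, nat_lit 7, nat_lit 4, nat_lit 0, nat_lit 0, nat_lit 3, nat_lit 7], .rel (nat_lit 130) (nat_lit 2) [nat_lit 7, nat_lit 1, nat_lit 7, nat_lit 0, nat_lit 5, nat_lit 0, nat_lit 0], .rel (nat_lit 138) (nat_lit 6) [nat_lit 7, nat_lit 0, nat_lit 0, nat_lit 5, nat_lit 2, nat_lit 6,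 nat_lit 3], .rel (nat_lit 139) (nat_lit 5) [nat_lit 1, nat_lit 1, nat_lit 6, nat_lit 5, nat_lit 2, nat_lit 7, nat_lit 3], .rel (nat_lit 141) (nat_lit 2) [nat_lit 6, nat_lit 2, nat_lit 4, nat_lit 1, nat_lit 1, nat_lit 3, nat_lit 7], .rel (nat_lit 146) (nat_lit 4) [nat_lit 2, nat_lit 7, nat_lit 4, nat_lit 0, nat_lit 0, nat_lit 6, nat_lit 3], .rel (nat_lit 171) (nat_lit 0) [nat_lit 1, nat_lit 3, nat_lit 0, nat_lit 4, nat_lit 0, nat_lit 3, nat_lit 1], .rel (nat_lit 175) (nat_lit 2) [nat_lit 2, nat_lit 1, nat_lit 3, nat_lit 3, nat_lit 1, nat_lit 4, nat_lit 3], .rel (nat_lit 176) (nat_lit 6) [nat_lit 3, nat_lit 0, nat_lit 2, nat_lit 2, nat_lit 0, nat_lit 4, nat_lit 2], .rel (nat_lit 189) (nat_lit 5) [nat_lit 3, nat_lit 1, nat_lit 7, nat_lit 4, nat_lit 6, nat_lit 2, nat_lit 1], .rel (nat_lit 193) (nat_lit 5) [nat_lit 3, nat_lit 1, nat_lit 4, nat_lit 7, nat_lit 7, nat_lit 3, nat_lit 0], .rel (nat_lit 213) (nat_lit 4) [nat_lit 7, nat_lit 3,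 nat_lit 1, nat_lit 3, nat_lit 5, nat_lit 7, nat_lit 1], .rel (nat_lit 215) (nat_lit 0) [nat_lit 6, nat_lit 3, nat_lit 1, nat_lit 4, nat_lit 6, nat_lit 3, nat_lit 1], .rel (nat_lit 217) (nat_lit 4) [nat_lit 6, nat_lit 3, nat_lit 1, nat_lit 2, nat_lit 7, nat_lit 5, nat_lit 0], .rel (nat_lit 220) (nat_lit 5) [nat_lit 1, nat_lit 2, nat_lit 0, nat_lit 3, nat_lit 0, nat_lit 5, nat_lit 1], .rel (nat_lit 228) (nat_lit 4) [nat_lit 2, nat_lit 4, nat_lit 4, nat_lit 0, nat_lit 3, nat_lit 4, nat_lit 0], .rel (nat_lit 230) (nat_lit 2) [nat_lit 3, nat_lit 4, nat_lit 7, nat_lit 0, nat_lit 6, nat_lit 0, nat_lit 3], .rel (nat_lit 234) (nat_lit 5) [nat_lit 1, nat_lit 7, nat_lit 0, nat_lit 3, nat_lit 4, nat_lit 6, nat_lit 3], .rel (nat_lit 236) (nat_lit 5) [nat_lit 1, nat_lit 6, nat_lit 0, nat_lit 3, nat_lit 4, nat_lit 7, nat_lit 3], .rel (nat_lit 238) (nat_lit 7) [nat_lit 0, nat_lit 3, nat_lit 5, nat_lit 0, nat_lit 4, nat_lit 4, nat_lit 3], .rel (nat_lit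 239) (nat_lit 5) [nat_lit 2, nat_lit 1, nat_lit 5, nat_lit 2, nat_lit 5, nat_lit 5, nat_lit 1], .rel (nat_lit 243) (nat_lit 1) [nat_lit 6, nat_lit 3, nat_lit 0, nat_lit 4, nat_lit 2, nat_lit 1, nat_lit 6], .rel (nat_lit 243) (nat_lit 5) [nat_lit 2, nat_lit 1, nat_lit 6, nat_lit 4, nat_lit 6, nat_lit 3, nat_lit 0], .rel (nat_lit 249) (nat_lit 0) [nat_lit 6, nat_lit 2, nat_lit 0, nat_lit 4, nat_lit 7, nat_lit 2, nat_lit 1], .rel (nat_lit 250) (nat_lit 3) [nat_lit 0, nat_lit 5, nat_lit 6, nat_lit 2, nat_lit 0, nat_lit 3, nat_lit 7], .rel (nat_lit 251) (nat_lit 2) [nat_lit 1, nat_lit 5, nat_lit 6, nat_lit 2, nat_lit 1, nat_lit 3, nat_lit 7], .rel (nat_lit 258) (nat_lit 7) [nat_lit 0, nat_lit 4, nat_lit 4, nat_lit 1, nat_lit 3, nat_lit 5, nat_lit 3], .rel (nat_lit 260) (nat_lit 1) [nat_lit 4, nat_lit 1, nat_lit 4, nat_lit 4, nat_lit 7, nat_lit 7, nat_lit 0], .rel (nat_lit 260) (nat_lit 5) [nat_lit 7, nat_lit 7, nat_lit 0, nat_lit 4, nat_lit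 4, nat_lit 1, nat_lit 4], .rel (nat_lit 293) (nat_lit 1) [nat_lit 0, nat_lit 8, nat_lit 2, nat_lit 8, nat_lit 5, nat_lit 9, nat_lit 3, nat_lit 9, nat_lit 0], .rel (nat_lit 295) (nat_lit 2) [nat_lit 7, nat_lit 8, nat_lit 2, nat_lit 8, nat_lit 1, nat_lit 9, nat_lit 3, nat_lit 9, nat_lit 0, nat_lit 2], .rel (nat_lit 305) (nat_lit 1) [nat_lit 0, nat_lit 4, nat_lit 7, nat_lit 10, nat_lit 2, nat_lit 4, nat_lit 10, nat_lit 0], .rel (nat_lit 305) (nat_lit 3) [nat_lit 7, nat_lit 10, nat_lit 2, nat_lit 4, nat_lit 10, nat_lit 0, nat_lit 4, nat_lit 0], .rel (nat_lit 316) (nat_lit 4) [nat_lit 2, nat_lit 5, nat_lit 3, nat_lit 10, nat_lit 2, nat_lit 2, nat_lit 10], .rel (nat_lit 333) (nat_lit 4) [nat_lit 11, nat_lit 8, nat_lit 11, nat_lit 9, nat_lit 11, nat_lit 2, nat_lit 10, nat_lit 5, nat_lit 2], .rel (nat_lit 387) (nat_lit 2) [nat_lit 8, nat_lit 0, nat_lit 8, nat_lit 12, nat_lit 2, nat_lit 12, nat_lit 3, nat_lit 12, nat_lit 0, nat_lit 0], .rel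 (nat_lit 437) (nat_lit 4) [nat_lit 12, nat_lit 2, nat_lit 2, nat_lit 12, nat_lit 0, nat_lit 2, nat_lit 5, nat_lit 3], .rel (nat_lit 444) (nat_lit 4) [nat_lit 2, nat_lit 14, nat_lit 12, nat_lit 14, nat_lit 4, nat_lit 2, nat_lit 14, nat_lit 12, nat_lit 14, nat_lit 4, nat_lit 2, nat_lit 14, nat_lit 12, nat_lit 14], .sub (nat_lit 8) [] [], .rel (nat_lit 80) (nat_lit 5) [nat_lit 7, nat_lit 5, nat_lit 0, nat_lit 0, nat_lit 2, nat_lit 2, nat_lit 7], .rel (nat_lit 91) (nat_lit 4) [nat_lit 3, nat_lit 1, nat_lit 1, nat_lit 3, nat_lit 6, nat_lit 5, nat_lit 6], .rel (nat_lit 95) (nat_lit 0) [nat_lit 7, nat_lit 3, nat_lit 4, nat_lit 7, nat_lit 3, nat_lit 1, nat_lit 1], .rel (nat_lit 118) (nat_lit 7) [nat_lit 0, nat_lit 0, nat_lit 3, nat_lit 7, nat_lit 4, nat_lit 3, nat_lit 7], .rel (nat_lit 132) (nat_lit 2) [nat_lit 7, nat_lit 2, nat_lit 2, nat_lit 5, nat_lit 7, nat_lit 0, nat_lit 0], .rel (nat_lit 148) (nat_lit 6) [nat_lit 2, nat_lit 0, nat_lit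 0, nat_lit 6, nat_lit 3, nat_lit 5, nat_lit 7], .rel (nat_lit 150) (nat_lit 3) [nat_lit 2, nat_lit 7, nat_lit 3, nat_lit 5, nat_lit 0, nat_lit 0, nat_lit 6], .rel (nat_lit 151) (nat_lit 0) [nat_lit 2, nat_lit 6, nat_lit 3, nat_lit 5, nat_lit 7, nat_lit 1, nat_lit 1], .rel (nat_lit 153) (nat_lit 0) [nat_lit 2, nat_lit 2, nat_lit 6, nat_lit 5, nat_lit 6, nat_lit 1, nat_lit 1], .rel (nat_lit 155) (nat_lit 1) [nat_lit 6, nat_lit 2, nat_lit 4, nat_lit 6, nat_lit 1, nat_lit 1, nat_lit 2], .rel (nat_lit 155) (nat_lit 4) [nat_lit 6, nat_lit 1, nat_lit 1, nat_lit 2, nat_lit 4, nat_lit 6, nat_lit 2], .rel (nat_lit 176) (nat_lit 4) [nat_lit 2, nat_lit 4, nat_lit 3, nat_lit 0, nat_lit 2, nat_lit 2, nat_lit 0], .rel (nat_lit 182) (nat_lit 5) [nat_lit 1, nat_lit 6, nat_lit 0, nat_lit 2, nat_lit 2, nat_lit 5, nat_lit 7], .rel (nat_lit 183) (nat_lit 4) [nat_lit 3, nat_lit 3, nat_lit 1, nat_lit 7, nat_lit 0, nat_lit 5, nat_lit 6], .rel (nat_lit 186)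 (nat_lit 2) [nat_lit 7, nat_lit 1, nat_lit 5, nat_lit 7, nat_lit 2, nat_lit 0, nat_lit 2], .rel (nat_lit 189) (nat_lit 1) [nat_lit 6, nat_lit 2, nat_lit 1, nat_lit 4, nat_lit 3, nat_lit 1, nat_lit 7], .rel (nat_lit 191) (nat_lit 5) [nat_lit 3, nat_lit 1, nat_lit 6, nat_lit 2, nat_lit 5, nat_lit 7, nat_lit 1], .rel (nat_lit 193) (nat_lit 0) [nat_lit 7, nat_lit 7, nat_lit 3, nat_lit 0, nat_lit 4, nat_lit 3, nat_lit 1], .rel (nat_lit 194) (nat_lit 4) [nat_lit 7, nat_lit 2, nat_lit 7, nat_lit 0, nat_lit 2, nat_lit 5, nat_lit 1], .rel (nat_lit 195) (nat_lit 5) [nat_lit 3, nat_lit 1, nat_lit 6, nat_lit 3, nat_lit 6, nat_lit 5, nat_lit 0], .rel (nat_lit 196) (nat_lit 4) [nat_lit 1, nat_lit 5, nat_lit 5, nat_lit 0, nat_lit 2, nat_lit 5, nat_lit 2], .rel (nat_lit 197) (nat_lit 5) [nat_lit 3, nat_lit 1, nat_lit 4, nat_lit 4, nat_lit 0, nat_lit 5, nat_lit 3], .rel (nat_lit 205) (nat_lit 5) [nat_lit 3, nat_lit 1, nat_lit 4, nat_lit 6, nat_lit 2,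 nat_lit 1, nat_lit 6], .rel (nat_lit 210) (nat_lit 3) [nat_lit 1, nat_lit 5, nat_lit 2, nat_lit 7, nat_lit 0, nat_lit 2, nat_lit 6], .rel (nat_lit 216) (nat_lit 5) [nat_lit 6, nat_lit 3, nat_lit 0, nat_lit 2, nat_lit 7, nat_lit 5, nat_lit 1], .rel (nat_lit 226) (nat_lit 5) [nat_lit 6, nat_lit 6, nat_lit 0, nat_lit 3, nat_lit 4, nat_lit 0, nat_lit 3], .rel (nat_lit 228) (nat_lit 6) [nat_lit 4, nat_lit 0, nat_lit 3, nat_lit 4, nat_lit 0, nat_lit 4, nat_lit 2], .rel (nat_lit 232) (nat_lit 2) [nat_lit 6, nat_lit 0, nat_lit 5, nat_lit 2, nat_lit 6, nat_lit 0, nat_lit 3], .rel (nat_lit 238) (nat_lit 5) [nat_lit 3, nat_lit 4, nat_lit 0, nat_lit 3, nat_lit 5, nat_lit 0, nat_lit 4], .rel (nat_lit 241) (nat_lit 0) [nat_lit 6, nat_lit 3, nat_lit 6, nat_lit 1, nat_lit 4, nat_lit 2, nat_lit 1], .rel (nat_lit 246) (nat_lit 5) [nat_lit 2, nat_lit 6, nat_lit 0, nat_lit 3, nat_lit 5, nat_lit 7, nat_lit 0], .rel (nat_lit 247) (nat_lit 5) [nat_lit 2,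 nat_lit 1, nat_lit 7, nat_lit 3, nat_lit 5, nat_lit 1, nat_lit 6], .rel (nat_lit 254) (nat_lit 1) [nat_lit 3, nat_lit 0, nat_lit 6, nat_lit 4, nat_lit 3, nat_lit 6, nat_lit 0], .rel (nat_lit 254) (nat_lit 5) [nat_lit 3, nat_lit 6, nat_lit 0, nat_lit 4, nat_lit 3, nat_lit 0, nat_lit 6], .rel (nat_lit 256) (nat_lit 6) [nat_lit 3, nat_lit 0, nat_lit 4, nat_lit 3, nat_lit 6, nat_lit 0, nat_lit 7], .rel (nat_lit 262) (nat_lit 1) [nat_lit 4, nat_lit 1, nat_lit 5, nat_lit 3, nat_lit 4, nat_lit 3, nat_lit 0], .rel (nat_lit 262) (nat_lit 2) [nat_lit 1, nat_lit 5, nat_lit 3, nat_lit 4, nat_lit 3, nat_lit 0, nat_lit 4], .rel (nat_lit 265) (nat_lit 0) [nat_lit 3, nat_lit 6, nat_lit 1, nat_lit 3, nat_lit 7, nat_lit 5, nat_lit 1], .rel (nat_lit 269) (nat_lit 6) [nat_lit 1, nat_lit 3, nat_lit 3, nat_lit 6, nat_lit 1, nat_lit 5, nat_lit 6], .rel (nat_lit 272) (nat_lit 2) [nat_lit 7, nat_lit 2, nat_lit 7, nat_lit 5, nat_lit 5, nat_lit 2, nat_lit 4],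 .rel (nat_lit 273) (nat_lit 1) [nat_lit 6, nat_lit 3, nat_lit 6, nat_lit 5, nat_lit 5, nat_lit 3, nat_lit 4], .rel (nat_lit 274) (nat_lit 3) [nat_lit 6, nat_lit 4, nat_lit 3, nat_lit 5, nat_lit 5, nat_lit 3, nat_lit 0, nat_lit 0, nat_lit 6], .rel (nat_lit 308) (nat_lit 7) [nat_lit 2, nat_lit 5, nat_lit 10, nat_lit 2, nat_lit 10, nat_lit 2, nat_lit 10, nat_lit 3, nat_lit 10], .rel (nat_lit 318) (nat_lit 7) [nat_lit 1, nat_lit 1, nat_lit 10, nat_lit 2, nat_lit 0, nat_lit 3, nat_lit 10, nat_lit 4, nat_lit 1], .rel (nat_lit 381) (nat_lit 1) [nat_lit 3, nat_lit 12, nat_lit 2, nat_lit 1, nat_lit 3, nat_lit 12, nat_lit 6], .rel (nat_lit 432) (nat_lit 5) [nat_lit 2, nat_lit 5, nat_lit 3, nat_lit 1, nat_lit 14, nat_lit 0, nat_lit 14, nat_lit 1, nat_lit 14], .rel (nat_lit 436) (nat_lit 6) [nat_lit 3, nat_lit 1, nat_lit 12, nat_lit 3, nat_lit 3, nat_lit 12, nat_lit 5, nat_lit 2], .rel (nat_lit 447) (nat_lit 0) [nat_lit 14, nat_lit 12, nat_lit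 14, nat_lit 3, nat_lit 4, nat_lit 14, nat_lit 12, nat_lit 14, nat_lit 3, nat_lit 4, nat_lit 14, nat_lit 12, nat_lit 14, nat_lit 3], .rel (nat_lit 496) (nat_lit 0) [nat_lit 14, nat_lit 12, nat_lit 10, nat_lit 4, nat_lit 14, nat_lit 12, nat_lit 10, nat_lit 4, nat_lit 14, nat_lit 12, nat_lit 10, nat_lit 4, nat_lit 14, nat_lit 12, nat_lit 10, nat_lit 4, nat_lit 14, nat_lit 12, nat_lit 10, nat_lit 4, nat_lit 14, nat_lit 12, nat_lit 10, nat_lit 4, nat_lit 14, nat_lit 12, nat_lit 10]],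
  [.rel (nat_lit 8) (nat_lit 1) [nat_lit 4], .defn, .rel (nat_lit 37) (nat_lit 0) [nat_lit 5, nat_lit 5, nat_lit 5], .rel (nat_lit 51) (nat_lit 3) [nat_lit 3, nat_lit 3, nat_lit 4, nat_lit 3, nat_lit 3], .rel (nat_lit 43) (nat_lit 0) [nat_lit 3, nat_lit 0, nat_lit 5, nat_lit 3, nat_lit 1], .rel (nat_lit 341) (nat_lit 1) [nat_lit 13, nat_lit 7, nat_lit 5, nat_lit 3, nat_lit 13], .rel (nat_lit 337) (nat_lit 1) [nat_lit 5, nat_lit 13, nat_lit 1, nat_lit 1, nat_lit 13], .rel (nat_lit 423) (nat_lit 2) [nat_lit 14, nat_lit 2, nat_lit 1, nat_lit 1, nat_lit 4, nat_lit 14], .rel (nat_lit 57) (nat_lit 1) [nat_lit 5, nat_lit 7, nat_lit 5, nat_lit 5, nat_lit 6], .rel (nat_lit 43) (nat_lit 3) [nat_lit 3, nat_lit 1, nat_lit 5, nat_lit 3, nat_lit 0], .rel (nat_lit 369) (nat_lit 1) [nat_lit 12, nat_lit 6, nat_lit 12, nat_lit 1, nat_lit 3], .rel (nat_lit 276) (nat_lit 4) [nat_lit 6, nat_lit 0, nat_lit 3, nat_lit 8, nat_lit 8], .rel (nat_lit 54) (nat_lit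 1) [nat_lit 2, nat_lit 5, nat_lit 6, nat_lit 6, nat_lit 2], .rel (nat_lit 279) (nat_lit 1) [nat_lit 5, nat_lit 0, nat_lit 9, nat_lit 1, nat_lit 8], .rel (nat_lit 53) (nat_lit 0) [nat_lit 7, nat_lit 7, nat_lit 3, nat_lit 5, nat_lit 3], .rel (nat_lit 57) (nat_lit 4) [nat_lit 5, nat_lit 6, nat_lit 5, nat_lit 5, nat_lit 7], .rel (nat_lit 50) (nat_lit 5) [nat_lit 2, nat_lit 2, nat_lit 4, nat_lit 2, nat_lit 2], .rel (nat_lit 345) (nat_lit 2) [nat_lit 11, nat_lit 6, nat_lit 5, nat_lit 11, nat_lit 6], .rel (nat_lit 57) (nat_lit 2) [nat_lit 7, nat_lit 5, nat_lit 5, nat_lit 6, nat_lit 5], .rel (nat_lit 54) (nat_lit 3) [nat_lit 6, nat_lit 6, nat_lit 2, nat_lit 5, nat_lit 2], .rel (nat_lit 341) (nat_lit 4) [nat_lit 3, nat_lit 13, nat_lit 5, nat_lit 13, nat_lit 7], .rel (nat_lit 400) (nat_lit 2) [nat_lit 11, nat_lit 3, nat_lit 12, nat_lit 2, nat_lit 10, nat_lit 4, nat_lit 8, nat_lit 12, nat_lit 11], .rel (nat_lit 375) (nat_lit 5) [nat_lit 3, nat_lit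 12, nat_lit 4, nat_lit 6, nat_lit 5, nat_lit 12], .rel (nat_lit 279) (nat_lit 2) [nat_lit 0, nat_lit 9, nat_lit 1, nat_lit 8, nat_lit 5], .rel (nat_lit 57) (nat_lit 5) [nat_lit 6, nat_lit 5, nat_lit 5, nat_lit 7, nat_lit 5], .rel (nat_lit 53) (nat_lit 4) [nat_lit 3, nat_lit 5, nat_lit 7, nat_lit 7, nat_lit 3], .rel (nat_lit 343) (nat_lit 5) [nat_lit 9, nat_lit 7, nat_lit 8, nat_lit 7, nat_lit 5], .rel (nat_lit 365) (nat_lit 7) [nat_lit 8, nat_lit 13, nat_lit 0, nat_lit 9, nat_lit 3, nat_lit 7, nat_lit 9, nat_lit 13, nat_lit 9], .rel (nat_lit 418) (nat_lit 1) [nat_lit 14, nat_lit 2, nat_lit 14, nat_lit 4, nat_lit 2], .rel (nat_lit 419) (nat_lit 0) [nat_lit 14, nat_lit 3, nat_lit 14, nat_lit 4, nat_lit 3], .rel (nat_lit 377) (nat_lit 6) [nat_lit 12, nat_lit 0, nat_lit 3, nat_lit 0, nat_lit 5, nat_lit 12, nat_lit 2], .rel (nat_lit 337) (nat_lit 2) [nat_lit 13, nat_lit 1, nat_lit 1, nat_lit 13, nat_lit 5], .rel (nat_lit 282) (nat_lit 4)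 [nat_lit 2, nat_lit 8, nat_lit 0, nat_lit 2, nat_lit 4, nat_lit 8], .rel (nat_lit 343) (nat_lit 4) [nat_lit 5, nat_lit 9, nat_lit 7, nat_lit 8, nat_lit 7], .rel (nat_lit 354) (nat_lit 6) [nat_lit 2, nat_lit 9, nat_lit 13, nat_lit 0, nat_lit 2, nat_lit 1, nat_lit 13, nat_lit 8], .rel (nat_lit 314) (nat_lit 6) [nat_lit 9, nat_lit 10, nat_lit 4, nat_lit 3, nat_lit 10, nat_lit 8, nat_lit 2], .rel (nat_lit 349) (nat_lit 3) [nat_lit 10, nat_lit 11, nat_lit 1, nat_lit 2, nat_lit 11, nat_lit 8], .rel (nat_lit 284) (nat_lit 2) [nat_lit 9, nat_lit 3, nat_lit 5, nat_lit 9, nat_lit 0, nat_lit 2], .rel (nat_lit 63) (nat_lit 0) [nat_lit 0, nat_lit 3, nat_lit 5, nat_lit 1, nat_lit 3, nat_lit 1, nat_lit 1], .rel (nat_lit 304) (nat_lit 1) [nat_lit 3, nat_lit 10, nat_lit 6, nat_lit 5, nat_lit 1, nat_lit 5, nat_lit 1, nat_lit 10], .rel (nat_lit 351) (nat_lit 3) [nat_lit 9, nat_lit 13, nat_lit 3, nat_lit 13, nat_lit 0, nat_lit 3, nat_lit 9], .rel (nat_lit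 315) (nat_lit 6) [nat_lit 10, nat_lit 8, nat_lit 4, nat_lit 3, nat_lit 9, nat_lit 10, nat_lit 2], .rel (nat_lit 284) (nat_lit 5) [nat_lit 9, nat_lit 0, nat_lit 2, nat_lit 5, nat_lit 9, nat_lit 3], .rel (nat_lit 422) (nat_lit 6) [nat_lit 0, nat_lit 0, nat_lit 3, nat_lit 14, nat_lit 4, nat_lit 14], .rel (nat_lit 86) (nat_lit 3) [nat_lit 0, nat_lit 0, nat_lit 4, nat_lit 3, nat_lit 0, nat_lit 0, nat_lit 2], .rel (nat_lit 427) (nat_lit 5) [nat_lit 1, nat_lit 14, nat_lit 1, nat_lit 5, nat_lit 0, nat_lit 14, nat_lit 0], .rel (nat_lit 396) (nat_lit 6) [nat_lit 2, nat_lit 1, nat_lit 12, nat_lit 11, nat_lit 3, nat_lit 11, nat_lit 3, nat_lit 12], .rel (nat_lit 329) (nat_lit 3) [nat_lit 9, nat_lit 11, nat_lit 8, nat_lit 10, nat_lit 11, nat_lit 3, nat_lit 5, nat_lit 9], .rel (nat_lit 332) (nat_lit 5) [nat_lit 3, nat_lit 4, nat_lit 10, nat_lit 3, nat_lit 11, nat_lit 8, nat_lit 11, nat_lit 9, nat_lit 11], .rel (nat_lit 379) (nat_lit 2) [nat_lit 8,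 nat_lit 4, nat_lit 12, nat_lit 9, nat_lit 12, nat_lit 0, nat_lit 8], .rel (nat_lit 378) (nat_lit 3) [nat_lit 9, nat_lit 4, nat_lit 9, nat_lit 1, nat_lit 12, nat_lit 8, nat_lit 12], .rel (nat_lit 283) (nat_lit 4) [nat_lit 3, nat_lit 1, nat_lit 9, nat_lit 3, nat_lit 4, nat_lit 9], .rel (nat_lit 298) (nat_lit 5) [nat_lit 7, nat_lit 0, nat_lit 2, nat_lit 10, nat_lit 0, nat_lit 10], .rel (nat_lit 384) (nat_lit 8) [nat_lit 1, nat_lit 12, nat_lit 2, nat_lit 8, nat_lit 3, nat_lit 12, nat_lit 1, nat_lit 5, nat_lit 8], .rel (nat_lit 359) (nat_lit 7) [nat_lit 1, nat_lit 13, nat_lit 0, nat_lit 2, nat_lit 8, nat_lit 2, nat_lit 8, nat_lit 13, nat_lit 0], .rel (nat_lit 63) (nat_lit 3) [nat_lit 1, nat_lit 3, nat_lit 1, nat_lit 1, nat_lit 5, nat_lit 0, nat_lit 3], .rel (nat_lit 288) (nat_lit 7) [nat_lit 8, nat_lit 2, nat_lit 6, nat_lit 3, nat_lit 9, nat_lit 4, nat_lit 7], .rel (nat_lit 196) (nat_lit 6) [nat_lit 5, nat_lit 0, nat_lit 2, nat_lit 5, nat_lit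 2, nat_lit 4, nat_lit 1], .rel (nat_lit 196) (nat_lit 7) [nat_lit 0, nat_lit 2, nat_lit 5, nat_lit 2, nat_lit 4, nat_lit 1, nat_lit 5], .rel (nat_lit 303) (nat_lit 7) [nat_lit 10, nat_lit 0, nat_lit 2, nat_lit 1, nat_lit 3, nat_lit 7, nat_lit 10, nat_lit 2], .rel (nat_lit 427) (nat_lit 1) [nat_lit 0, nat_lit 14, nat_lit 0, nat_lit 5, nat_lit 1, nat_lit 14, nat_lit 1], .rel (nat_lit 71) (nat_lit 0) [nat_lit 1, nat_lit 3, nat_lit 5, nat_lit 0, nat_lit 3, nat_lit 1, nat_lit 1], .rel (nat_lit 409) (nat_lit 0) [nat_lit 0, nat_lit 11, nat_lit 7, nat_lit 12, nat_lit 11, nat_lit 12, nat_lit 3, nat_lit 12, nat_lit 11, nat_lit 12], .rel (nat_lit 411) (nat_lit 7) [nat_lit 9, nat_lit 11, nat_lit 12, nat_lit 8, nat_lit 5, nat_lit 2, nat_lit 7, nat_lit 12, nat_lit 11, nat_lit 8], .rel (nat_lit 289) (nat_lit 2) [nat_lit 8, nat_lit 2, nat_lit 7, nat_lit 3, nat_lit 9, nat_lit 4, nat_lit 6], .rel (nat_lit 158) (nat_lit 5) [nat_lit 1, nat_lit 4, nat_lit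 0, nat_lit 2, nat_lit 0, nat_lit 3, nat_lit 1], .rel (nat_lit 370) (nat_lit 5) [nat_lit 6, nat_lit 0, nat_lit 2, nat_lit 12, nat_lit 1, nat_lit 12], .rel (nat_lit 71) (nat_lit 3) [nat_lit 0, nat_lit 3, nat_lit 1, nat_lit 1, nat_lit 5, nat_lit 1, nat_lit 3], .rel (nat_lit 99) (nat_lit 0) [nat_lit 1, nat_lit 4, nat_lit 3, nat_lit 1, nat_lit 2, nat_lit 1, nat_lit 1], .rel (nat_lit 313) (nat_lit 2) [nat_lit 8, nat_lit 10, nat_lit 9, nat_lit 1, nat_lit 10, nat_lit 3], .rel (nat_lit 160) (nat_lit 5) [nat_lit 1, nat_lit 3, nat_lit 0, nat_lit 2, nat_lit 0, nat_lit 4, nat_lit 0], .rel (nat_lit 168) (nat_lit 5) [nat_lit 0, nat_lit 3, nat_lit 0, nat_lit 2, nat_lit 1, nat_lit 4, nat_lit 0], .rel (nat_lit 374) (nat_lit 5) [nat_lit 12, nat_lit 2, nat_lit 4, nat_lit 12, nat_lit 4, nat_lit 7], .rel (nat_lit 61) (nat_lit 2) [nat_lit 2, nat_lit 1, nat_lit 3, nat_lit 1, nat_lit 1, nat_lit 4, nat_lit 0], .rel (nat_lit 401) (nat_lit 1) [nat_lit 10, nat_lit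 3, nat_lit 12, nat_lit 2, nat_lit 11, nat_lit 4, nat_lit 11, nat_lit 12, nat_lit 9], .rel (nat_lit 87) (nat_lit 1) [nat_lit 1, nat_lit 1, nat_lit 4, nat_lit 3, nat_lit 1, nat_lit 1, nat_lit 2], .rel (nat_lit 384) (nat_lit 6) [nat_lit 8, nat_lit 5, nat_lit 1, nat_lit 12, nat_lit 2, nat_lit 8, nat_lit 3, nat_lit 12, nat_lit 1], .rel (nat_lit 415) (nat_lit 4) [nat_lit 12, nat_lit 11, nat_lit 8, nat_lit 7, nat_lit 9, nat_lit 11, nat_lit 12, nat_lit 8, nat_lit 4, nat_lit 7, nat_lit 10], .rel (nat_lit 429) (nat_lit 3) [nat_lit 10, nat_lit 14, nat_lit 0, nat_lit 3, nat_lit 1, nat_lit 14, nat_lit 10, nat_lit 6, nat_lit 3], .rel (nat_lit 103) (nat_lit 0) [nat_lit 0, nat_lit 4, nat_lit 3, nat_lit 0, nat_lit 2, nat_lit 1, nat_lit 1], .rel (nat_lit 134) (nat_lit 2) [nat_lit 1, nat_lit 7, nat_lit 0, nat_lit 7, nat_lit 4, nat_lit 0, nat_lit 0], .rel (nat_lit 125) (nat_lit 5) [nat_lit 1, nat_lit 1, nat_lit 4, nat_lit 4, nat_lit 1, nat_lit 1, nat_lit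 5], .rel (nat_lit 159) (nat_lit 0) [nat_lit 0, nat_lit 4, nat_lit 0, nat_lit 2, nat_lit 1, nat_lit 3, nat_lit 1], .rel (nat_lit 238) (nat_lit 2) [nat_lit 0, nat_lit 4, nat_lit 4, nat_lit 3, nat_lit 4, nat_lit 0, nat_lit 3], .rel (nat_lit 102) (nat_lit 5) [nat_lit 1, nat_lit 4, nat_lit 0, nat_lit 0, nat_lit 3, nat_lit 1, nat_lit 2], .rel (nat_lit 124) (nat_lit 6) [nat_lit 5, nat_lit 0, nat_lit 0, nat_lit 4, nat_lit 4, nat_lit 0, nat_lit 0], .rel (nat_lit 145) (nat_lit 3) [nat_lit 7, nat_lit 4, nat_lit 1, nat_lit 1, nat_lit 2, nat_lit 2, nat_lit 7], .rel (nat_lit 227) (nat_lit 5) [nat_lit 2, nat_lit 1, nat_lit 7, nat_lit 7, nat_lit 5, nat_lit 2, nat_lit 1], .rel (nat_lit 286) (nat_lit 4) [nat_lit 5, nat_lit 3, nat_lit 3, nat_lit 8, nat_lit 3, nat_lit 3, nat_lit 9], .rel (nat_lit 286) (nat_lit 5) [nat_lit 3, nat_lit 3, nat_lit 8, nat_lit 3, nat_lit 3, nat_lit 9, nat_lit 5], .rel (nat_lit 78) (nat_lit 6) [nat_lit 6, nat_lit 0, nat_lit 0,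 nat_lit 2, nat_lit 2, nat_lit 4, nat_lit 6], .rel (nat_lit 121) (nat_lit 5) [nat_lit 1, nat_lit 1, nat_lit 4, nat_lit 7, nat_lit 0, nat_lit 7, nat_lit 1], .rel (nat_lit 137) (nat_lit 1) [nat_lit 7, nat_lit 3, nat_lit 3, nat_lit 4, nat_lit 1, nat_lit 1, nat_lit 7], .rel (nat_lit 293) (nat_lit 6) [nat_lit 9, nat_lit 3, nat_lit 9, nat_lit 0, nat_lit 4, nat_lit 0, nat_lit 8, nat_lit 2, nat_lit 8], .rel (nat_lit 375) (nat_lit 3) [nat_lit 12, nat_lit 5, nat_lit 3, nat_lit 12, nat_lit 4, nat_lit 6], .rel (nat_lit 382) (nat_lit 5) [nat_lit 1, nat_lit 1, nat_lit 3, nat_lit 12, nat_lit 2, nat_lit 6, nat_lit 3, nat_lit 12], .rel (nat_lit 413) (nat_lit 3) [nat_lit 7, nat_lit 12, nat_lit 11, nat_lit 12, nat_lit 8, nat_lit 11, nat_lit 3, nat_lit 12, nat_lit 11, nat_lit 6, nat_lit 10], .rel (nat_lit 60) (nat_lit 7) [nat_lit 0, nat_lit 0, nat_lit 2, nat_lit 0, nat_lit 3, nat_lit 4, nat_lit 1], .rel (nat_lit 112) (nat_lit 6) [nat_lit 6, nat_lit 0, nat_lit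 0, nat_lit 3, nat_lit 5, nat_lit 6, nat_lit 3], .rel (nat_lit 170) (nat_lit 7) [nat_lit 0, nat_lit 2, nat_lit 1, nat_lit 5, nat_lit 1, nat_lit 2, nat_lit 0], .rel (nat_lit 188) (nat_lit 2) [nat_lit 0, nat_lit 3, nat_lit 7, nat_lit 5, nat_lit 6, nat_lit 0, nat_lit 2], .rel (nat_lit 306) (nat_lit 5) [nat_lit 6, nat_lit 5, nat_lit 1, nat_lit 1, nat_lit 10, nat_lit 2, nat_lit 6, nat_lit 3, nat_lit 10], .rel (nat_lit 329) (nat_lit 1) [nat_lit 9, nat_lit 5, nat_lit 9, nat_lit 11, nat_lit 8, nat_lit 10, nat_lit 11, nat_lit 3], .rel (nat_lit 377) (nat_lit 3) [nat_lit 12, nat_lit 2, nat_lit 5, nat_lit 12, nat_lit 0, nat_lit 3, nat_lit 0], .rel (nat_lit 107) (nat_lit 4) [nat_lit 2, nat_lit 1, nat_lit 1, nat_lit 3, nat_lit 4, nat_lit 1, nat_lit 1], .rel (nat_lit 135) (nat_lit 0) [nat_lit 6, nat_lit 1, nat_lit 6, nat_lit 0, nat_lit 4, nat_lit 1, nat_lit 1], .rel (nat_lit 162) (nat_lit 7) [nat_lit 0, nat_lit 2, nat_lit 0, nat_lit 5, nat_lit 1, nat_lit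 2, nat_lit 1], .rel (nat_lit 255) (nat_lit 6) [nat_lit 1, nat_lit 7, nat_lit 2, nat_lit 5, nat_lit 7, nat_lit 1, nat_lit 2], .rel (nat_lit 356) (nat_lit 8) [nat_lit 13, nat_lit 0, nat_lit 13, nat_lit 8, nat_lit 13, nat_lit 3, nat_lit 9, nat_lit 6], .rel (nat_lit 380) (nat_lit 6) [nat_lit 7, nat_lit 12, nat_lit 2, nat_lit 0, nat_lit 3, nat_lit 12, nat_lit 2], .rel (nat_lit 411) (nat_lit 1) [nat_lit 2, nat_lit 7, nat_lit 12, nat_lit 11, nat_lit 8, nat_lit 5, nat_lit 9, nat_lit 11, nat_lit 12, nat_lit 8], .rel (nat_lit 98) (nat_lit 5) [nat_lit 0, nat_lit 4, nat_lit 0, nat_lit 0, nat_lit 3, nat_lit 0, nat_lit 2], .rel (nat_lit 106) (nat_lit 6) [nat_lit 2, nat_lit 0, nat_lit 0, nat_lit 3, nat_lit 4, nat_lit 0, nat_lit 0], .rel (nat_lit 143) (nat_lit 0) [nat_lit 0, nat_lit 7, nat_lit 1, nat_lit 7, nat_lit 4, nat_lit 1, nat_lit 1], .rel (nat_lit 191) (nat_lit 2) [nat_lit 7, nat_lit 1, nat_lit 4, nat_lit 3, nat_lit 1, nat_lit 6, nat_lit 2],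 .rel (nat_lit 259) (nat_lit 5) [nat_lit 5, nat_lit 1, nat_lit 5, nat_lit 2, nat_lit 4, nat_lit 2, nat_lit 0], .rel (nat_lit 291) (nat_lit 7) [nat_lit 9, nat_lit 0, nat_lit 2, nat_lit 1, nat_lit 3, nat_lit 7, nat_lit 8, nat_lit 2], .rel (nat_lit 68) (nat_lit 7) [nat_lit 0, nat_lit 0, nat_lit 2, nat_lit 1, nat_lit 3, nat_lit 4, nat_lit 0], .rel (nat_lit 81) (nat_lit 2) [nat_lit 6, nat_lit 3, nat_lit 3, nat_lit 1, nat_lit 1, nat_lit 4, nat_lit 6], .rel (nat_lit 90) (nat_lit 3) [nat_lit 7, nat_lit 4, nat_lit 7, nat_lit 2, nat_lit 0, nat_lit 0, nat_lit 2], .rel (nat_lit 120) (nat_lit 7) [nat_lit 0, nat_lit 0, nat_lit 4, nat_lit 0, nat_lit 6, nat_lit 1, nat_lit 6], .rel (nat_lit 124) (nat_lit 7) [nat_lit 0, nat_lit 0, nat_lit 4, nat_lit 4, nat_lit 0, nat_lit 0, nat_lit 5], .rel (nat_lit 125) (nat_lit 4) [nat_lit 5, nat_lit 1, nat_lit 1, nat_lit 4, nat_lit 4, nat_lit 1, nat_lit 1], .rel (nat_lit 126) (nat_lit 7) [nat_lit 0, nat_lit 0, nat_lit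 4, nat_lit 6, nat_lit 0, nat_lit 6, nat_lit 1], .rel (nat_lit 153) (nat_lit 4) [nat_lit 6, nat_lit 1, nat_lit 1, nat_lit 4, nat_lit 2, nat_lit 2, nat_lit 6], .rel (nat_lit 186) (nat_lit 5) [nat_lit 7, nat_lit 2, nat_lit 0, nat_lit 2, nat_lit 4, nat_lit 7, nat_lit 1], .rel (nat_lit 206) (nat_lit 7) [nat_lit 0, nat_lit 2, nat_lit 6, nat_lit 3, nat_lit 0, nat_lit 4, nat_lit 7], .rel (nat_lit 220) (nat_lit 3) [nat_lit 1, nat_lit 4, nat_lit 1, nat_lit 2, nat_lit 0, nat_lit 3, nat_lit 0], .rel (nat_lit 221) (nat_lit 2) [nat_lit 0, nat_lit 4, nat_lit 1, nat_lit 2, nat_lit 1, nat_lit 3, nat_lit 0], .rel (nat_lit 301) (nat_lit 3) [nat_lit 10, nat_lit 2, nat_lit 2, nat_lit 10, nat_lit 2, nat_lit 4, nat_lit 3], .rel (nat_lit 367) (nat_lit 2) [nat_lit 8, nat_lit 1, nat_lit 11, nat_lit 13, nat_lit 14, nat_lit 0, nat_lit 6], .rel (nat_lit 80) (nat_lit 7) [nat_lit 0, nat_lit 0, nat_lit 2, nat_lit 2, nat_lit 7, nat_lit 4, nat_lit 7], .rel (nat_lit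 123) (nat_lit 5) [nat_lit 1, nat_lit 1, nat_lit 4, nat_lit 6, nat_lit 1, nat_lit 6, nat_lit 0], .rel (nat_lit 140) (nat_lit 2) [nat_lit 3, nat_lit 7, nat_lit 5, nat_lit 6, nat_lit 2, nat_lit 0, nat_lit 0], .rel (nat_lit 151) (nat_lit 4) [nat_lit 7, nat_lit 1, nat_lit 1, nat_lit 4, nat_lit 2, nat_lit 6, nat_lit 3], .rel (nat_lit 162) (nat_lit 3) [nat_lit 1, nat_lit 2, nat_lit 1, nat_lit 5, nat_lit 0, nat_lit 2, nat_lit 0], .rel (nat_lit 181) (nat_lit 3) [nat_lit 0, nat_lit 3, nat_lit 3, nat_lit 1, nat_lit 6, nat_lit 4, nat_lit 7], .rel (nat_lit 204) (nat_lit 7) [nat_lit 0, nat_lit 2, nat_lit 5, nat_lit 7, nat_lit 0, nat_lit 3, nat_lit 7], .rel (nat_lit 255) (nat_lit 2) [nat_lit 7, nat_lit 1, nat_lit 2, nat_lit 5, nat_lit 1, nat_lit 7, nat_lit 2], .rel (nat_lit 257) (nat_lit 6) [nat_lit 1, nat_lit 2, nat_lit 5, nat_lit 6, nat_lit 1, nat_lit 7, nat_lit 2], .rel (nat_lit 261) (nat_lit 5) [nat_lit 5, nat_lit 1, nat_lit 6, nat_lit 6, nat_lit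 5, nat_lit 5, nat_lit 0], .rel (nat_lit 272) (nat_lit 7) [nat_lit 2, nat_lit 4, nat_lit 4, nat_lit 7, nat_lit 2, nat_lit 7, nat_lit 5], .rel (nat_lit 273) (nat_lit 6) [nat_lit 3, nat_lit 4, nat_lit 4, nat_lit 6, nat_lit 3, nat_lit 6, nat_lit 5], .rel (nat_lit 323) (nat_lit 2) [nat_lit 10, nat_lit 2, nat_lit 10, nat_lit 9, nat_lit 10, nat_lit 3, nat_lit 10, nat_lit 3, nat_lit 8], .rel (nat_lit 333) (nat_lit 2) [nat_lit 2, nat_lit 4, nat_lit 11, nat_lit 8, nat_lit 11, nat_lit 9, nat_lit 11, nat_lit 2, nat_lit 10], .rel (nat_lit 434) (nat_lit 8) [nat_lit 10, nat_lit 1, nat_lit 14, nat_lit 0, nat_lit 6, nat_lit 1, nat_lit 14, nat_lit 3, nat_lit 10, nat_lit 1], .rel (nat_lit 83) (nat_lit 1) [nat_lit 6, nat_lit 2, nat_lit 5, nat_lit 3, nat_lit 1, nat_lit 1, nat_lit 7], .rel (nat_lit 112) (nat_lit 3) [nat_lit 6, nat_lit 3, nat_lit 5, nat_lit 6, nat_lit 0, nat_lit 0, nat_lit 3], .rel (nat_lit 114) (nat_lit 3) [nat_lit 7, nat_lit 3, nat_lit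 5, nat_lit 7, nat_lit 0, nat_lit 0, nat_lit 3], .rel (nat_lit 130) (nat_lit 7) [nat_lit 0, nat_lit 0, nat_lit 4, nat_lit 7, nat_lit 1, nat_lit 7, nat_lit 0], .rel (nat_lit 136) (nat_lit 2) [nat_lit 2, nat_lit 2, nat_lit 6, nat_lit 4, nat_lit 6, nat_lit 0, nat_lit 0], .rel (nat_lit 144) (nat_lit 2) [nat_lit 6, nat_lit 4, nat_lit 6, nat_lit 3, nat_lit 3, nat_lit 0, nat_lit 0], .rel (nat_lit 161) (nat_lit 4) [nat_lit 1, nat_lit 3, nat_lit 1, nat_lit 2, nat_lit 0, nat_lit 4, nat_lit 1], .rel (nat_lit 169) (nat_lit 4) [nat_lit 0, nat_lit 3, nat_lit 1, nat_lit 2, nat_lit 1, nat_lit 4, nat_lit 1], .rel (nat_lit 170) (nat_lit 3) [nat_lit 1, nat_lit 2, nat_lit 0, nat_lit 5, nat_lit 0, nat_lit 2, nat_lit 1], .rel (nat_lit 190) (nat_lit 2) [nat_lit 0, nat_lit 6, nat_lit 4, nat_lit 3, nat_lit 7, nat_lit 0, nat_lit 2], .rel (nat_lit 192) (nat_lit 2) [nat_lit 1, nat_lit 2, nat_lit 6, nat_lit 6, nat_lit 5, nat_lit 0, nat_lit 2], .rel (nat_lit 229)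 (nat_lit 0) [nat_lit 5, nat_lit 3, nat_lit 5, nat_lit 1, nat_lit 5, nat_lit 2, nat_lit 1], .rel (nat_lit 231) (nat_lit 3) [nat_lit 2, nat_lit 5, nat_lit 2, nat_lit 1, nat_lit 7, nat_lit 1, nat_lit 6], .rel (nat_lit 239) (nat_lit 3) [nat_lit 1, nat_lit 4, nat_lit 2, nat_lit 1, nat_lit 5, nat_lit 2, nat_lit 5], .rel (nat_lit 240) (nat_lit 7) [nat_lit 0, nat_lit 3, nat_lit 5, nat_lit 0, nat_lit 7, nat_lit 2, nat_lit 7], .rel (nat_lit 261) (nat_lit 6) [nat_lit 1, nat_lit 6, nat_lit 6, nat_lit 5, nat_lit 5, nat_lit 0, nat_lit 5], .rel (nat_lit 269) (nat_lit 4) [nat_lit 6, nat_lit 4, nat_lit 1, nat_lit 3, nat_lit 3, nat_lit 6, nat_lit 1], .rel (nat_lit 319) (nat_lit 4) [nat_lit 10, nat_lit 2, nat_lit 1, nat_lit 3, nat_lit 10, nat_lit 0, nat_lit 0, nat_lit 5, nat_lit 0], .rel (nat_lit 321) (nat_lit 1) [nat_lit 9, nat_lit 5, nat_lit 0, nat_lit 10, nat_lit 2, nat_lit 9, nat_lit 3, nat_lit 10, nat_lit 0], .rel (nat_lit 321) (nat_lit 3) [nat_lit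 0, nat_lit 10, nat_lit 2, nat_lit 9, nat_lit 3, nat_lit 10, nat_lit 0, nat_lit 5, nat_lit 9], .rel (nat_lit 446) (nat_lit 4) [nat_lit 2, nat_lit 14, nat_lit 12, nat_lit 14, nat_lit 5, nat_lit 2, nat_lit 14, nat_lit 12, nat_lit 14, nat_lit 5, nat_lit 2, nat_lit 14, nat_lit 12, nat_lit 14], .rel (nat_lit 79) (nat_lit 3) [nat_lit 3, nat_lit 3, nat_lit 1, nat_lit 1, nat_lit 7, nat_lit 4, nat_lit 7], .rel (nat_lit 83) (nat_lit 4) [nat_lit 3, nat_lit 1, nat_lit 1, nat_lit 7, nat_lit 5, nat_lit 6, nat_lit 2], .rel (nat_lit 88) (nat_lit 6) [nat_lit 7, nat_lit 0, nat_lit 0, nat_lit 2, nat_lit 5, nat_lit 3, nat_lit 6], .rel (nat_lit 108) (nat_lit 5) [nat_lit 2, nat_lit 7, nat_lit 0, nat_lit 0, nat_lit 3, nat_lit 4, nat_lit 6], .rel (nat_lit 110) (nat_lit 3) [nat_lit 0, nat_lit 0, nat_lit 4, nat_lit 2, nat_lit 0, nat_lit 0, nat_lit 3], .rel (nat_lit 111) (nat_lit 1) [nat_lit 1, nat_lit 1, nat_lit 4, nat_lit 2, nat_lit 1, nat_lit 1, nat_lit 3],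 .rel (nat_lit 119) (nat_lit 0) [nat_lit 6, nat_lit 2, nat_lit 5, nat_lit 6, nat_lit 2, nat_lit 1, nat_lit 1], .rel (nat_lit 122) (nat_lit 7) [nat_lit 0, nat_lit 0, nat_lit 4, nat_lit 1, nat_lit 7, nat_lit 0, nat_lit 7], .rel (nat_lit 140) (nat_lit 5) [nat_lit 6, nat_lit 2, nat_lit 0, nat_lit 0, nat_lit 5, nat_lit 3, nat_lit 7], .rel (nat_lit 142) (nat_lit 2) [nat_lit 6, nat_lit 0, nat_lit 6, nat_lit 1, nat_lit 4, nat_lit 0, nat_lit 0], .rel (nat_lit 147) (nat_lit 0) [nat_lit 6, nat_lit 3, nat_lit 5, nat_lit 2, nat_lit 7, nat_lit 1, nat_lit 1], .rel (nat_lit 147) (nat_lit 3) [nat_lit 2, nat_lit 7, nat_lit 1, nat_lit 1, nat_lit 5, nat_lit 6, nat_lit 3], .rel (nat_lit 148) (nat_lit 4) [nat_lit 7, nat_lit 4, nat_lit 2, nat_lit 0, nat_lit 0, nat_lit 6, nat_lit 3], .rel (nat_lit 180) (nat_lit 6) [nat_lit 7, nat_lit 0, nat_lit 2, nat_lit 2, nat_lit 1, nat_lit 4, nat_lit 6], .rel (nat_lit 182) (nat_lit 3) [nat_lit 7, nat_lit 4, nat_lit 1, nat_lit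 6, nat_lit 0, nat_lit 2, nat_lit 2], .rel (nat_lit 200) (nat_lit 2) [nat_lit 6, nat_lit 0, nat_lit 6, nat_lit 4, nat_lit 3, nat_lit 0, nat_lit 2], .rel (nat_lit 202) (nat_lit 2) [nat_lit 6, nat_lit 1, nat_lit 4, nat_lit 7, nat_lit 2, nat_lit 0, nat_lit 2], .rel (nat_lit 203) (nat_lit 2) [nat_lit 0, nat_lit 7, nat_lit 4, nat_lit 3, nat_lit 1, nat_lit 3, nat_lit 6], .rel (nat_lit 207) (nat_lit 2) [nat_lit 1, nat_lit 2, nat_lit 7, nat_lit 3, nat_lit 1, nat_lit 4, nat_lit 6], .rel (nat_lit 211) (nat_lit 4) [nat_lit 7, nat_lit 3, nat_lit 1, nat_lit 6, nat_lit 3, nat_lit 4, nat_lit 0], .rel (nat_lit 213) (nat_lit 1) [nat_lit 7, nat_lit 1, nat_lit 4, nat_lit 7, nat_lit 3, nat_lit 1, nat_lit 3], .rel (nat_lit 227) (nat_lit 2) [nat_lit 2, nat_lit 1, nat_lit 5, nat_lit 2, nat_lit 1, nat_lit 7, nat_lit 7], .rel (nat_lit 233) (nat_lit 5) [nat_lit 2, nat_lit 1, nat_lit 7, nat_lit 3, nat_lit 4, nat_lit 1, nat_lit 7], .rel (nat_lit 235) (nat_lit 2)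 [nat_lit 2, nat_lit 7, nat_lit 5, nat_lit 2, nat_lit 1, nat_lit 6, nat_lit 0], .rel (nat_lit 248) (nat_lit 3) [nat_lit 1, nat_lit 3, nat_lit 7, nat_lit 5, nat_lit 0, nat_lit 3, nat_lit 6], .rel (nat_lit 251) (nat_lit 4) [nat_lit 6, nat_lit 2, nat_lit 1, nat_lit 3, nat_lit 7, nat_lit 4, nat_lit 1], .rel (nat_lit 253) (nat_lit 2) [nat_lit 1, nat_lit 6, nat_lit 3, nat_lit 5, nat_lit 1, nat_lit 6, nat_lit 3], .rel (nat_lit 259) (nat_lit 0) [nat_lit 2, nat_lit 4, nat_lit 2, nat_lit 0, nat_lit 5, nat_lit 5, nat_lit 1], .rel (nat_lit 267) (nat_lit 6) [nat_lit 1, nat_lit 6, nat_lit 1, nat_lit 7, nat_lit 4, nat_lit 7, nat_lit 7], .rel (nat_lit 271) (nat_lit 0) [nat_lit 7, nat_lit 7, nat_lit 4, nat_lit 6, nat_lit 1, nat_lit 7, nat_lit 1], .rel (nat_lit 292) (nat_lit 8) [nat_lit 1, nat_lit 8, nat_lit 2, nat_lit 8, nat_lit 4, nat_lit 9, nat_lit 3, nat_lit 9, nat_lit 1], .rel (nat_lit 304) (nat_lit 7) [nat_lit 1, nat_lit 10, nat_lit 5, nat_lit 3,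 nat_lit 10, nat_lit 6, nat_lit 5, nat_lit 1], .rel (nat_lit 317) (nat_lit 3) [nat_lit 10, nat_lit 3, nat_lit 3, nat_lit 10, nat_lit 2, nat_lit 4, nat_lit 3], .rel (nat_lit 454) (nat_lit 3) [nat_lit 14, nat_lit 2, nat_lit 12, nat_lit 14, nat_lit 5, nat_lit 14, nat_lit 2, nat_lit 12, nat_lit 14, nat_lit 5, nat_lit 14, nat_lit 2, nat_lit 12, nat_lit 14], .rel (nat_lit 463) (nat_lit 2) [nat_lit 14, nat_lit 12, nat_lit 5, nat_lit 14, nat_lit 12, nat_lit 5, nat_lit 14, nat_lit 12, nat_lit 5, nat_lit 14, nat_lit 12, nat_lit 5, nat_lit 14, nat_lit 12, nat_lit 5, nat_lit 14, nat_lit 12, nat_lit 5, nat_lit 14, nat_lit 12], .sub (nat_lit 10) [] [], .rel (nat_lit 69) (nat_lit 2) [nat_lit 2, nat_lit 0, nat_lit 3, nat_lit 1, nat_lit 1, nat_lit 4, nat_lit 1], .rel (nat_lit 85) (nat_lit 1) [nat_lit 3, nat_lit 6, nat_lit 5, nat_lit 3, nat_lit 1, nat_lit 1, nat_lit 6], .rel (nat_lit 85) (nat_lit 4) [nat_lit 3, nat_lit 1, nat_lit 1, nat_lit 6, nat_lit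 5, nat_lit 3, nat_lit 6], .rel (nat_lit 88) (nat_lit 3) [nat_lit 3, nat_lit 6, nat_lit 5, nat_lit 7, nat_lit 0, nat_lit 0, nat_lit 2], .rel (nat_lit 91) (nat_lit 2) [nat_lit 6, nat_lit 4, nat_lit 3, nat_lit 1, nat_lit 1, nat_lit 3, nat_lit 6], .rel (nat_lit 94) (nat_lit 7) [nat_lit 0, nat_lit 0, nat_lit 2, nat_lit 6, nat_lit 5, nat_lit 2, nat_lit 6], .rel (nat_lit 114) (nat_lit 6) [nat_lit 7, nat_lit 0, nat_lit 0, nat_lit 3, nat_lit 5, nat_lit 7, nat_lit 3], .rel (nat_lit 116) (nat_lit 4) [nat_lit 7, nat_lit 2, nat_lit 5, nat_lit 0, nat_lit 0, nat_lit 3, nat_lit 6], .rel (nat_lit 129) (nat_lit 2) [nat_lit 2, nat_lit 7, nat_lit 5, nat_lit 1, nat_lit 1, nat_lit 2, nat_lit 7], .rel (nat_lit 129) (nat_lit 5) [nat_lit 1, nat_lit 1, nat_lit 2, nat_lit 7, nat_lit 5, nat_lit 2, nat_lit 7], .rel (nat_lit 131) (nat_lit 5) [nat_lit 1, nat_lit 1, nat_lit 4, nat_lit 1, nat_lit 6, nat_lit 0, nat_lit 6], .rel (nat_lit 132) (nat_lit 6) [nat_lit 7,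 nat_lit 0, nat_lit 0, nat_lit 4, nat_lit 7, nat_lit 2, nat_lit 2], .rel (nat_lit 133) (nat_lit 5) [nat_lit 1, nat_lit 1, nat_lit 6, nat_lit 4, nat_lit 3, nat_lit 3, nat_lit 6], .rel (nat_lit 138) (nat_lit 2) [nat_lit 2, nat_lit 6, nat_lit 3, nat_lit 4, nat_lit 7, nat_lit 0, nat_lit 0], .rel (nat_lit 139) (nat_lit 1) [nat_lit 2, nat_lit 7, nat_lit 3, nat_lit 4, nat_lit 1, nat_lit 1, nat_lit 6], .rel (nat_lit 149) (nat_lit 1) [nat_lit 6, nat_lit 4, nat_lit 2, nat_lit 7, nat_lit 1, nat_lit 1, nat_lit 3], .rel (nat_lit 154) (nat_lit 6) [nat_lit 3, nat_lit 0, nat_lit 0, nat_lit 7, nat_lit 5, nat_lit 3, nat_lit 7], .rel (nat_lit 174) (nat_lit 5) [nat_lit 2, nat_lit 5, nat_lit 0, nat_lit 2, nat_lit 2, nat_lit 0, nat_lit 3], .rel (nat_lit 174) (nat_lit 7) [nat_lit 0, nat_lit 2, nat_lit 2, nat_lit 0, nat_lit 3, nat_lit 5, nat_lit 2], .rel (nat_lit 183) (nat_lit 2) [nat_lit 6, nat_lit 4, nat_lit 3, nat_lit 3, nat_lit 1, nat_lit 7, nat_lit 0],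 .rel (nat_lit 187) (nat_lit 5) [nat_lit 3, nat_lit 1, nat_lit 3, nat_lit 6, nat_lit 4, nat_lit 0, nat_lit 6], .rel (nat_lit 192) (nat_lit 7) [nat_lit 0, nat_lit 2, nat_lit 5, nat_lit 1, nat_lit 2, nat_lit 6, nat_lit 6], .rel (nat_lit 196) (nat_lit 2) [nat_lit 2, nat_lit 4, nat_lit 1, nat_lit 5, nat_lit 5, nat_lit 0, nat_lit 2], .rel (nat_lit 198) (nat_lit 5) [nat_lit 1, nat_lit 7, nat_lit 0, nat_lit 2, nat_lit 5, nat_lit 3, nat_lit 7], .rel (nat_lit 201) (nat_lit 1) [nat_lit 7, nat_lit 1, nat_lit 7, nat_lit 4, nat_lit 3, nat_lit 1, nat_lit 2], .rel (nat_lit 204) (nat_lit 2) [nat_lit 7, nat_lit 0, nat_lit 3, nat_lit 7, nat_lit 5, nat_lit 0, nat_lit 2], .rel (nat_lit 217) (nat_lit 2) [nat_lit 0, nat_lit 4, nat_lit 6, nat_lit 3, nat_lit 1, nat_lit 2, nat_lit 7], .rel (nat_lit 218) (nat_lit 3) [nat_lit 3, nat_lit 5, nat_lit 0, nat_lit 7, nat_lit 0, nat_lit 2, nat_lit 7], .rel (nat_lit 229) (nat_lit 3) [nat_lit 1, nat_lit 5, nat_lit 2, nat_lit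 1, nat_lit 5, nat_lit 5, nat_lit 3], .rel (nat_lit 232) (nat_lit 5) [nat_lit 2, nat_lit 6, nat_lit 0, nat_lit 3, nat_lit 4, nat_lit 6, nat_lit 0], .rel (nat_lit 235) (nat_lit 5) [nat_lit 2, nat_lit 1, nat_lit 6, nat_lit 0, nat_lit 5, nat_lit 2, nat_lit 7], .rel (nat_lit 237) (nat_lit 2) [nat_lit 2, nat_lit 6, nat_lit 5, nat_lit 2, nat_lit 1, nat_lit 7, nat_lit 0], .rel (nat_lit 242) (nat_lit 6) [nat_lit 7, nat_lit 0, nat_lit 3, nat_lit 5, nat_lit 1, nat_lit 2, nat_lit 7], .rel (nat_lit 244) (nat_lit 2) [nat_lit 6, nat_lit 1, nat_lit 7, nat_lit 4, nat_lit 2, nat_lit 0, nat_lit 3], .rel (nat_lit 247) (nat_lit 2) [nat_lit 1, nat_lit 6, nat_lit 4, nat_lit 2, nat_lit 1, nat_lit 7, nat_lit 3], .rel (nat_lit 250) (nat_lit 5) [nat_lit 6, nat_lit 2, nat_lit 0, nat_lit 3, nat_lit 7, nat_lit 4, nat_lit 0], .rel (nat_lit 259) (nat_lit 6) [nat_lit 1, nat_lit 5, nat_lit 2, nat_lit 4, nat_lit 2, nat_lit 0, nat_lit 5], .rel (nat_lit 261) (nat_lit 2)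 [nat_lit 5, nat_lit 0, nat_lit 5, nat_lit 5, nat_lit 1, nat_lit 6, nat_lit 6], .rel (nat_lit 262) (nat_lit 4) [nat_lit 3, nat_lit 4, nat_lit 3, nat_lit 0, nat_lit 4, nat_lit 4, nat_lit 1], .rel (nat_lit 263) (nat_lit 5) [nat_lit 5, nat_lit 1, nat_lit 2, nat_lit 5, nat_lit 2, nat_lit 4, nat_lit 0], .rel (nat_lit 266) (nat_lit 4) [nat_lit 6, nat_lit 0, nat_lit 7, nat_lit 0, nat_lit 4, nat_lit 6, nat_lit 6], .rel (nat_lit 270) (nat_lit 4) [nat_lit 6, nat_lit 6, nat_lit 4, nat_lit 0, nat_lit 6, nat_lit 0, nat_lit 7], .rel (nat_lit 273) (nat_lit 5) [nat_lit 5, nat_lit 3, nat_lit 4, nat_lit 4, nat_lit 6, nat_lit 3, nat_lit 6], .rel (nat_lit 294) (nat_lit 8) [nat_lit 3, nat_lit 1, nat_lit 8, nat_lit 2, nat_lit 8, nat_lit 0, nat_lit 9, nat_lit 3, nat_lit 9, nat_lit 6], .rel (nat_lit 300) (nat_lit 6) [nat_lit 3, nat_lit 10, nat_lit 3, nat_lit 3, nat_lit 10, nat_lit 4, nat_lit 2], .rel (nat_lit 304) (nat_lit 5) [nat_lit 1, nat_lit 5, nat_lit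 1, nat_lit 10, nat_lit 5, nat_lit 3, nat_lit 10, nat_lit 6], .rel (nat_lit 306) (nat_lit 7) [nat_lit 1, nat_lit 1, nat_lit 10, nat_lit 2, nat_lit 6, nat_lit 3, nat_lit 10, nat_lit 5, nat_lit 6], .rel (nat_lit 308) (nat_lit 9) [nat_lit 10, nat_lit 2, nat_lit 10, nat_lit 2, nat_lit 10, nat_lit 3, nat_lit 10, nat_lit 4, nat_lit 2], .rel (nat_lit 319) (nat_lit 2) [nat_lit 0, nat_lit 5, nat_lit 10, nat_lit 2, nat_lit 1, nat_lit 3, nat_lit 10, nat_lit 0, nat_lit 0], .rel (nat_lit 433) (nat_lit 4) [nat_lit 14, nat_lit 0, nat_lit 14, nat_lit 1, nat_lit 14, nat_lit 0, nat_lit 2, nat_lit 4, nat_lit 3], .rel (nat_lit 436) (nat_lit 4) [nat_lit 2, nat_lit 4, nat_lit 3, nat_lit 1, nat_lit 12, nat_lit 3, nat_lit 3, nat_lit 12], .rel (nat_lit 445) (nat_lit 0) [nat_lit 14, nat_lit 12, nat_lit 14, nat_lit 3, nat_lit 5, nat_lit 14, nat_lit 12, nat_lit 14, nat_lit 3, nat_lit 5, nat_lit 14, nat_lit 12, nat_lit 14, nat_lit 3], .rel (nat_lit 453) (nat_lit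 1) [nat_lit 14, nat_lit 12, nat_lit 3, nat_lit 14, nat_lit 5, nat_lit 14, nat_lit 12, nat_lit 3, nat_lit 14, nat_lit 5, nat_lit 14, nat_lit 12, nat_lit 3, nat_lit 14], .rel (nat_lit 493) (nat_lit 3) [nat_lit 14, nat_lit 12, nat_lit 10, nat_lit 5, nat_lit 14, nat_lit 12, nat_lit 10, nat_lit 5, nat_lit 14, nat_lit 12, nat_lit 10, nat_lit 5, nat_lit 14, nat_lit 12, nat_lit 10, nat_lit 5, nat_lit 14, nat_lit 12, nat_lit 10, nat_lit 5, nat_lit 14, nat_lit 12, nat_lit 10, nat_lit 5, nat_lit 14, nat_lit 12, nat_lit 10]],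
  [.rel (nat_lit 12) (nat_lit 0) [nat_lit 7], .defn, .rel (nat_lit 369) (nat_lit 3) [nat_lit 12, nat_lit 1, nat_lit 3, nat_lit 5, nat_lit 12], .rel (nat_lit 345) (nat_lit 1) [nat_lit 5, nat_lit 11, nat_lit 6, nat_lit 5, nat_lit 11], .rel (nat_lit 38) (nat_lit 0) [nat_lit 6, nat_lit 6, nat_lit 6], .rel (nat_lit 34) (nat_lit 1) [nat_lit 2, nat_lit 6, nat_lit 2], .rel (nat_lit 296) (nat_lit 4) [nat_lit 10, nat_lit 0, nat_lit 6, nat_lit 0, nat_lit 10], .rel (nat_lit 41) (nat_lit 0) [nat_lit 1, nat_lit 1, nat_lit 7, nat_lit 1, nat_lit 1], .rel (nat_lit 280) (nat_lit 5) [nat_lit 0, nat_lit 8, nat_lit 1, nat_lit 6, nat_lit 9], .rel (nat_lit 342) (nat_lit 4) [nat_lit 8, nat_lit 4, nat_lit 4, nat_lit 6, nat_lit 9], .rel (nat_lit 45) (nat_lit 3) [nat_lit 3, nat_lit 1, nat_lit 7, nat_lit 1, nat_lit 3], .rel (nat_lit 44) (nat_lit 5) [nat_lit 0, nat_lit 2, nat_lit 7, nat_lit 2, nat_lit 0], .rel (nat_lit 424) (nat_lit 1) [nat_lit 14, nat_lit 7, nat_lit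 10, nat_lit 2, nat_lit 10, nat_lit 3, nat_lit 14], .rel (nat_lit 52) (nat_lit 4) [nat_lit 4, nat_lit 2, nat_lit 4, nat_lit 2, nat_lit 6], .rel (nat_lit 54) (nat_lit 4) [nat_lit 6, nat_lit 2, nat_lit 5, nat_lit 2, nat_lit 5], .rel (nat_lit 57) (nat_lit 0) [nat_lit 5, nat_lit 5, nat_lit 7, nat_lit 5, nat_lit 5], .rel (nat_lit 48) (nat_lit 2) [nat_lit 1, nat_lit 6, nat_lit 6, nat_lit 0, nat_lit 6], .rel (nat_lit 56) (nat_lit 2) [nat_lit 4, nat_lit 4, nat_lit 7, nat_lit 4, nat_lit 4], .rel (nat_lit 347) (nat_lit 4) [nat_lit 13, nat_lit 1, nat_lit 9, nat_lit 2, nat_lit 9, nat_lit 13], .rel (nat_lit 340) (nat_lit 2) [nat_lit 13, nat_lit 4, nat_lit 13, nat_lit 2, nat_lit 4], .rel (nat_lit 48) (nat_lit 1) [nat_lit 6, nat_lit 1, nat_lit 6, nat_lit 6, nat_lit 0], .rel (nat_lit 330) (nat_lit 1) [nat_lit 11, nat_lit 10, nat_lit 2, nat_lit 8, nat_lit 10, nat_lit 3, nat_lit 9, nat_lit 1, nat_lit 11], .rel (nat_lit 280) (nat_lit 3) [nat_lit 9, nat_lit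 6, nat_lit 0, nat_lit 8, nat_lit 1], .rel (nat_lit 47) (nat_lit 0) [nat_lit 1, nat_lit 2, nat_lit 7, nat_lit 2, nat_lit 1], .rel (nat_lit 40) (nat_lit 2) [nat_lit 0, nat_lit 0, nat_lit 7, nat_lit 0, nat_lit 0], .rel (nat_lit 338) (nat_lit 1) [nat_lit 8, nat_lit 7, nat_lit 1, nat_lit 9, nat_lit 0], .rel (nat_lit 54) (nat_lit 5) [nat_lit 2, nat_lit 5, nat_lit 2, nat_lit 5, nat_lit 6], .rel (nat_lit 402) (nat_lit 2) [nat_lit 11, nat_lit 12, nat_lit 9, nat_lit 2, nat_lit 7, nat_lit 10, nat_lit 3, nat_lit 12, nat_lit 11], .rel (nat_lit 276) (nat_lit 5) [nat_lit 0, nat_lit 3, nat_lit 8, nat_lit 8, nat_lit 5], .rel (nat_lit 52) (nat_lit 3) [nat_lit 6, nat_lit 4, nat_lit 2, nat_lit 4, nat_lit 2], .rel (nat_lit 342) (nat_lit 2) [nat_lit 9, nat_lit 6, nat_lit 8, nat_lit 4, nat_lit 4], .rel (nat_lit 339) (nat_lit 2) [nat_lit 9, nat_lit 7, nat_lit 1, nat_lit 8, nat_lit 0], .rel (nat_lit 48) (nat_lit 4) [nat_lit 6, nat_lit 0, nat_lit 6, nat_lit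 6, nat_lit 1], .rel (nat_lit 48) (nat_lit 5) [nat_lit 0, nat_lit 6, nat_lit 6, nat_lit 1, nat_lit 6], .rel (nat_lit 296) (nat_lit 1) [nat_lit 0, nat_lit 10, nat_lit 6, nat_lit 10, nat_lit 0], .rel (nat_lit 46) (nat_lit 2) [nat_lit 3, nat_lit 0, nat_lit 7, nat_lit 0, nat_lit 3], .rel (nat_lit 390) (nat_lit 4) [nat_lit 10, nat_lit 6, nat_lit 12, nat_lit 10, nat_lit 12], .rel (nat_lit 353) (nat_lit 5) [nat_lit 13, nat_lit 10, nat_lit 13, nat_lit 0, nat_lit 11, nat_lit 9, nat_lit 6, nat_lit 11], .rel (nat_lit 364) (nat_lit 6) [nat_lit 2, nat_lit 8, nat_lit 1, nat_lit 13, nat_lit 9, nat_lit 4, nat_lit 8, nat_lit 13, nat_lit 8], .rel (nat_lit 390) (nat_lit 0) [nat_lit 12, nat_lit 10, nat_lit 12, nat_lit 6, nat_lit 10], .rel (nat_lit 353) (nat_lit 3) [nat_lit 11, nat_lit 6, nat_lit 13, nat_lit 10, nat_lit 13, nat_lit 0, nat_lit 11, nat_lit 9], .rel (nat_lit 375) (nat_lit 2) [nat_lit 5, nat_lit 12, nat_lit 5, nat_lit 3, nat_lit 12, nat_lit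 4], .rel (nat_lit 414) (nat_lit 3) [nat_lit 9, nat_lit 11, nat_lit 12, nat_lit 4, nat_lit 10, nat_lit 6, nat_lit 5, nat_lit 9, nat_lit 12, nat_lit 11, nat_lit 8], .rel (nat_lit 288) (nat_lit 2) [nat_lit 3, nat_lit 9, nat_lit 4, nat_lit 7, nat_lit 5, nat_lit 8, nat_lit 2], .rel (nat_lit 425) (nat_lit 4) [nat_lit 14, nat_lit 7, nat_lit 14, nat_lit 2, nat_lit 10, nat_lit 3, nat_lit 10], .rel (nat_lit 144) (nat_lit 3) [nat_lit 4, nat_lit 6, nat_lit 3, nat_lit 3, nat_lit 0, nat_lit 0, nat_lit 5], .rel (nat_lit 94) (nat_lit 3) [nat_lit 5, nat_lit 2, nat_lit 6, nat_lit 5, nat_lit 0, nat_lit 0, nat_lit 2], .rel (nat_lit 448) (nat_lit 4) [nat_lit 2, nat_lit 14, nat_lit 12, nat_lit 14, nat_lit 6, nat_lit 2, nat_lit 14, nat_lit 12, nat_lit 14, nat_lit 6, nat_lit 2, nat_lit 14, nat_lit 12, nat_lit 14], .rel (nat_lit 382) (nat_lit 2) [nat_lit 3, nat_lit 12, nat_lit 5, nat_lit 1, nat_lit 1, nat_lit 3, nat_lit 12, nat_lit 2], .rel (nat_lit 136) (nat_lit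 5) [nat_lit 4, nat_lit 6, nat_lit 0, nat_lit 0, nat_lit 5, nat_lit 2, nat_lit 2], .rel (nat_lit 429) (nat_lit 1) [nat_lit 3, nat_lit 5, nat_lit 10, nat_lit 14, nat_lit 0, nat_lit 3, nat_lit 1, nat_lit 14, nat_lit 10], .rel (nat_lit 117) (nat_lit 2) [nat_lit 4, nat_lit 7, nat_lit 2, nat_lit 1, nat_lit 1, nat_lit 4, nat_lit 3], .rel (nat_lit 456) (nat_lit 3) [nat_lit 14, nat_lit 2, nat_lit 12, nat_lit 14, nat_lit 6, nat_lit 14, nat_lit 2, nat_lit 12, nat_lit 14, nat_lit 6, nat_lit 14, nat_lit 2, nat_lit 12, nat_lit 14], .rel (nat_lit 459) (nat_lit 1) [nat_lit 14, nat_lit 12, nat_lit 3, nat_lit 14, nat_lit 6, nat_lit 14, nat_lit 12, nat_lit 3, nat_lit 14, nat_lit 6, nat_lit 14, nat_lit 12, nat_lit 3, nat_lit 14], .rel (nat_lit 273) (nat_lit 4) [nat_lit 5, nat_lit 5, nat_lit 3, nat_lit 4, nat_lit 4, nat_lit 6, nat_lit 3], .rel (nat_lit 362) (nat_lit 9) [nat_lit 13, nat_lit 0, nat_lit 11, nat_lit 1, nat_lit 13, nat_lit 11, nat_lit 10, nat_lit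 2, nat_lit 8], .rel (nat_lit 451) (nat_lit 0) [nat_lit 14, nat_lit 12, nat_lit 14, nat_lit 3, nat_lit 6, nat_lit 14, nat_lit 12, nat_lit 14, nat_lit 3, nat_lit 6, nat_lit 14, nat_lit 12, nat_lit 14, nat_lit 3], .rel (nat_lit 108) (nat_lit 4) [nat_lit 5, nat_lit 2, nat_lit 7, nat_lit 0, nat_lit 0, nat_lit 3, nat_lit 4], .rel (nat_lit 73) (nat_lit 1) [nat_lit 1, nat_lit 6, nat_lit 0, nat_lit 3, nat_lit 1, nat_lit 1, nat_lit 2], .rel (nat_lit 78) (nat_lit 5) [nat_lit 5, nat_lit 6, nat_lit 0, nat_lit 0, nat_lit 2, nat_lit 2, nat_lit 4], .rel (nat_lit 81) (nat_lit 1) [nat_lit 5, nat_lit 6, nat_lit 3, nat_lit 3, nat_lit 1, nat_lit 1, nat_lit 4], .rel (nat_lit 81) (nat_lit 3) [nat_lit 3, nat_lit 3, nat_lit 1, nat_lit 1, nat_lit 4, nat_lit 6, nat_lit 5], .rel (nat_lit 91) (nat_lit 3) [nat_lit 4, nat_lit 3, nat_lit 1, nat_lit 1, nat_lit 3, nat_lit 6, nat_lit 5], .rel (nat_lit 151) (nat_lit 2) [nat_lit 3, nat_lit 5, nat_lit 7, nat_lit 1, nat_lit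 1, nat_lit 4, nat_lit 2], .rel (nat_lit 299) (nat_lit 0) [nat_lit 4, nat_lit 10, nat_lit 1, nat_lit 10, nat_lit 3, nat_lit 1], .rel (nat_lit 306) (nat_lit 2) [nat_lit 3, nat_lit 10, nat_lit 5, nat_lit 6, nat_lit 5, nat_lit 1, nat_lit 1, nat_lit 10, nat_lit 2], .rel (nat_lit 66) (nat_lit 7) [nat_lit 0, nat_lit 0, nat_lit 2, nat_lit 0, nat_lit 7, nat_lit 1, nat_lit 2], .rel (nat_lit 147) (nat_lit 1) [nat_lit 3, nat_lit 5, nat_lit 2, nat_lit 7, nat_lit 1, nat_lit 1, nat_lit 5], .rel (nat_lit 270) (nat_lit 6) [nat_lit 4, nat_lit 0, nat_lit 6, nat_lit 0, nat_lit 7, nat_lit 5, nat_lit 6], .rel (nat_lit 289) (nat_lit 1) [nat_lit 5, nat_lit 8, nat_lit 2, nat_lit 7, nat_lit 3, nat_lit 9, nat_lit 4], .rel (nat_lit 64) (nat_lit 6) [nat_lit 3, nat_lit 0, nat_lit 0, nat_lit 2, nat_lit 0, nat_lit 6, nat_lit 1], .rel (nat_lit 88) (nat_lit 5) [nat_lit 5, nat_lit 7, nat_lit 0, nat_lit 0, nat_lit 2, nat_lit 5, nat_lit 3], .rel (nat_lit 112) (nat_lit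 4) [nat_lit 3, nat_lit 5, nat_lit 6, nat_lit 0, nat_lit 0, nat_lit 3, nat_lit 5], .rel (nat_lit 115) (nat_lit 3) [nat_lit 4, nat_lit 2, nat_lit 1, nat_lit 1, nat_lit 6, nat_lit 4, nat_lit 2], .rel (nat_lit 246) (nat_lit 7) [nat_lit 0, nat_lit 3, nat_lit 5, nat_lit 7, nat_lit 0, nat_lit 4, nat_lit 2], .rel (nat_lit 290) (nat_lit 4) [nat_lit 2, nat_lit 0, nat_lit 3, nat_lit 1, nat_lit 8, nat_lit 4, nat_lit 3, nat_lit 9], .rel (nat_lit 356) (nat_lit 7) [nat_lit 5, nat_lit 13, nat_lit 0, nat_lit 13, nat_lit 8, nat_lit 13, nat_lit 3, nat_lit 9], .rel (nat_lit 381) (nat_lit 0) [nat_lit 4, nat_lit 3, nat_lit 12, nat_lit 2, nat_lit 1, nat_lit 3, nat_lit 12], .rel (nat_lit 405) (nat_lit 2) [nat_lit 10, nat_lit 6, nat_lit 12, nat_lit 11, nat_lit 12, nat_lit 10, nat_lit 11, nat_lit 12, nat_lit 10, nat_lit 11], .rel (nat_lit 408) (nat_lit 7) [nat_lit 11, nat_lit 1, nat_lit 4, nat_lit 12, nat_lit 11, nat_lit 12, nat_lit 2, nat_lit 12, nat_lit 11,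 nat_lit 12], .rel (nat_lit 413) (nat_lit 1) [nat_lit 10, nat_lit 5, nat_lit 7, nat_lit 12, nat_lit 11, nat_lit 12, nat_lit 8, nat_lit 11, nat_lit 3, nat_lit 12, nat_lit 11], .rel (nat_lit 67) (nat_lit 3) [nat_lit 1, nat_lit 3, nat_lit 1, nat_lit 1, nat_lit 7, nat_lit 3, nat_lit 0], .rel (nat_lit 73) (nat_lit 3) [nat_lit 0, nat_lit 3, nat_lit 1, nat_lit 1, nat_lit 2, nat_lit 6, nat_lit 1], .rel (nat_lit 89) (nat_lit 0) [nat_lit 4, nat_lit 7, nat_lit 2, nat_lit 4, nat_lit 3, nat_lit 1, nat_lit 1], .rel (nat_lit 116) (nat_lit 3) [nat_lit 5, nat_lit 7, nat_lit 2, nat_lit 5, nat_lit 0, nat_lit 0, nat_lit 3], .rel (nat_lit 119) (nat_lit 4) [nat_lit 2, nat_lit 1, nat_lit 1, nat_lit 5, nat_lit 6, nat_lit 2, nat_lit 5], .rel (nat_lit 126) (nat_lit 5) [nat_lit 1, nat_lit 5, nat_lit 0, nat_lit 0, nat_lit 4, nat_lit 6, nat_lit 0], .rel (nat_lit 128) (nat_lit 3) [nat_lit 3, nat_lit 4, nat_lit 6, nat_lit 3, nat_lit 0, nat_lit 0, nat_lit 4], .rel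 (nat_lit 128) (nat_lit 6) [nat_lit 3, nat_lit 0, nat_lit 0, nat_lit 4, nat_lit 6, nat_lit 3, nat_lit 4], .rel (nat_lit 141) (nat_lit 3) [nat_lit 2, nat_lit 4, nat_lit 1, nat_lit 1, nat_lit 3, nat_lit 7, nat_lit 4], .rel (nat_lit 153) (nat_lit 3) [nat_lit 5, nat_lit 6, nat_lit 1, nat_lit 1, nat_lit 4, nat_lit 2, nat_lit 2], .rel (nat_lit 155) (nat_lit 2) [nat_lit 2, nat_lit 4, nat_lit 6, nat_lit 1, nat_lit 1, nat_lit 2, nat_lit 4], .rel (nat_lit 179) (nat_lit 1) [nat_lit 2, nat_lit 7, nat_lit 1, nat_lit 3, nat_lit 3, nat_lit 1, nat_lit 3], .rel (nat_lit 210) (nat_lit 2) [nat_lit 4, nat_lit 1, nat_lit 5, nat_lit 2, nat_lit 7, nat_lit 0, nat_lit 2], .rel (nat_lit 237) (nat_lit 4) [nat_lit 5, nat_lit 2, nat_lit 1, nat_lit 7, nat_lit 0, nat_lit 5, nat_lit 2], .rel (nat_lit 302) (nat_lit 4) [nat_lit 2, nat_lit 0, nat_lit 3, nat_lit 1, nat_lit 10, nat_lit 4, nat_lit 3, nat_lit 10], .rel (nat_lit 434) (nat_lit 2) [nat_lit 1, nat_lit 14, nat_lit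 3, nat_lit 10, nat_lit 1, nat_lit 5, nat_lit 10, nat_lit 1, nat_lit 14, nat_lit 0], .rel (nat_lit 59) (nat_lit 2) [nat_lit 1, nat_lit 1, nat_lit 3, nat_lit 1, nat_lit 1, nat_lit 6, nat_lit 3], .rel (nat_lit 92) (nat_lit 3) [nat_lit 0, nat_lit 6, nat_lit 1, nat_lit 3, nat_lit 0, nat_lit 0, nat_lit 2], .rel (nat_lit 94) (nat_lit 6) [nat_lit 5, nat_lit 0, nat_lit 0, nat_lit 2, nat_lit 6, nat_lit 5, nat_lit 2], .rel (nat_lit 100) (nat_lit 6) [nat_lit 2, nat_lit 0, nat_lit 0, nat_lit 3, nat_lit 0, nat_lit 6, nat_lit 1], .rel (nat_lit 105) (nat_lit 0) [nat_lit 2, nat_lit 1, nat_lit 7, nat_lit 0, nat_lit 2, nat_lit 1, nat_lit 1], .rel (nat_lit 119) (nat_lit 1) [nat_lit 2, nat_lit 5, nat_lit 6, nat_lit 2, nat_lit 1, nat_lit 1, nat_lit 5], .rel (nat_lit 135) (nat_lit 1) [nat_lit 1, nat_lit 6, nat_lit 0, nat_lit 4, nat_lit 1, nat_lit 1, nat_lit 5], .rel (nat_lit 139) (nat_lit 0) [nat_lit 5, nat_lit 2, nat_lit 7, nat_lit 3, nat_lit 4, nat_lit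 1, nat_lit 1], .rel (nat_lit 144) (nat_lit 5) [nat_lit 3, nat_lit 3, nat_lit 0, nat_lit 0, nat_lit 5, nat_lit 6, nat_lit 4], .rel (nat_lit 150) (nat_lit 2) [nat_lit 4, nat_lit 2, nat_lit 7, nat_lit 3, nat_lit 5, nat_lit 0, nat_lit 0], .rel (nat_lit 172) (nat_lit 6) [nat_lit 6, nat_lit 0, nat_lit 2, nat_lit 2, nat_lit 0, nat_lit 2, nat_lit 2], .rel (nat_lit 181) (nat_lit 0) [nat_lit 4, nat_lit 7, nat_lit 5, nat_lit 0, nat_lit 3, nat_lit 3, nat_lit 1], .rel (nat_lit 190) (nat_lit 4) [nat_lit 4, nat_lit 3, nat_lit 7, nat_lit 0, nat_lit 2, nat_lit 5, nat_lit 0], .rel (nat_lit 199) (nat_lit 3) [nat_lit 2, nat_lit 4, nat_lit 3, nat_lit 1, nat_lit 6, nat_lit 0, nat_lit 4], .rel (nat_lit 200) (nat_lit 3) [nat_lit 0, nat_lit 6, nat_lit 4, nat_lit 3, nat_lit 0, nat_lit 2, nat_lit 5], .rel (nat_lit 205) (nat_lit 4) [nat_lit 4, nat_lit 3, nat_lit 1, nat_lit 4, nat_lit 6, nat_lit 2, nat_lit 1], .rel (nat_lit 208) (nat_lit 2) [nat_lit 3, nat_lit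 1, nat_lit 6, nat_lit 2, nat_lit 2, nat_lit 0, nat_lit 2], .rel (nat_lit 212) (nat_lit 2) [nat_lit 5, nat_lit 0, nat_lit 6, nat_lit 4, nat_lit 2, nat_lit 0, nat_lit 2], .rel (nat_lit 241) (nat_lit 1) [nat_lit 3, nat_lit 6, nat_lit 1, nat_lit 4, nat_lit 2, nat_lit 1, nat_lit 4], .rel (nat_lit 266) (nat_lit 2) [nat_lit 6, nat_lit 5, nat_lit 6, nat_lit 0, nat_lit 7, nat_lit 0, nat_lit 4], .rel (nat_lit 267) (nat_lit 0) [nat_lit 1, nat_lit 7, nat_lit 4, nat_lit 7, nat_lit 7, nat_lit 5, nat_lit 1], .rel (nat_lit 273) (nat_lit 2) [nat_lit 3, nat_lit 6, nat_lit 5, nat_lit 5, nat_lit 3, nat_lit 4, nat_lit 4], .rel (nat_lit 367) (nat_lit 1) [nat_lit 5, nat_lit 8, nat_lit 1, nat_lit 11, nat_lit 13, nat_lit 14, nat_lit 0], .rel (nat_lit 412) (nat_lit 7) [nat_lit 4, nat_lit 10, nat_lit 7, nat_lit 11, nat_lit 12, nat_lit 2, nat_lit 11, nat_lit 9, nat_lit 12, nat_lit 11, nat_lit 12], .rel (nat_lit 466) (nat_lit 0) [nat_lit 12, nat_lit 14, nat_lit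 6, nat_lit 12, nat_lit 14, nat_lit 6, nat_lit 12, nat_lit 14, nat_lit 6, nat_lit 12, nat_lit 14, nat_lit 6, nat_lit 12, nat_lit 14, nat_lit 6, nat_lit 12, nat_lit 14, nat_lit 6, nat_lit 12, nat_lit 14], .sub (nat_lit 12) [] [], .rel (nat_lit 59) (nat_lit 0) [nat_lit 3, nat_lit 6, nat_lit 1, nat_lit 1, nat_lit 3, nat_lit 1, nat_lit 1], .rel (nat_lit 64) (nat_lit 4) [nat_lit 1, nat_lit 6, nat_lit 3, nat_lit 0, nat_lit 0, nat_lit 2, nat_lit 0], .rel (nat_lit 78) (nat_lit 7) [nat_lit 0, nat_lit 0, nat_lit 2, nat_lit 2, nat_lit 4, nat_lit 6, nat_lit 5], .rel (nat_lit 82) (nat_lit 7) [nat_lit 0, nat_lit 0, nat_lit 2, nat_lit 4, nat_lit 3, nat_lit 7, nat_lit 4], .rel (nat_lit 83) (nat_lit 2) [nat_lit 2, nat_lit 5, nat_lit 3, nat_lit 1, nat_lit 1, nat_lit 7, nat_lit 5], .rel (nat_lit 85) (nat_lit 3) [nat_lit 5, nat_lit 3, nat_lit 1, nat_lit 1, nat_lit 6, nat_lit 5, nat_lit 3], .rel (nat_lit 91) (nat_lit 1) [nat_lit 5, nat_lit 6, nat_lit 4,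 nat_lit 3, nat_lit 1, nat_lit 1, nat_lit 3], .rel (nat_lit 109) (nat_lit 0) [nat_lit 3, nat_lit 4, nat_lit 7, nat_lit 5, nat_lit 2, nat_lit 1, nat_lit 1], .rel (nat_lit 112) (nat_lit 7) [nat_lit 0, nat_lit 0, nat_lit 3, nat_lit 5, nat_lit 6, nat_lit 3, nat_lit 5], .rel (nat_lit 120) (nat_lit 6) [nat_lit 5, nat_lit 0, nat_lit 0, nat_lit 4, nat_lit 0, nat_lit 6, nat_lit 1], .rel (nat_lit 123) (nat_lit 3) [nat_lit 0, nat_lit 5, nat_lit 1, nat_lit 1, nat_lit 4, nat_lit 6, nat_lit 1], .rel (nat_lit 131) (nat_lit 2) [nat_lit 0, nat_lit 6, nat_lit 5, nat_lit 1, nat_lit 1, nat_lit 4, nat_lit 1], .rel (nat_lit 133) (nat_lit 0) [nat_lit 4, nat_lit 3, nat_lit 3, nat_lit 6, nat_lit 5, nat_lit 1, nat_lit 1], .rel (nat_lit 153) (nat_lit 5) [nat_lit 1, nat_lit 1, nat_lit 4, nat_lit 2, nat_lit 2, nat_lit 6, nat_lit 5], .rel (nat_lit 155) (nat_lit 5) [nat_lit 1, nat_lit 1, nat_lit 2, nat_lit 4, nat_lit 6, nat_lit 2, nat_lit 4], .rel (nat_lit 180) (nat_lit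 5) [nat_lit 5, nat_lit 7, nat_lit 0, nat_lit 2, nat_lit 2, nat_lit 1, nat_lit 4], .rel (nat_lit 182) (nat_lit 7) [nat_lit 0, nat_lit 2, nat_lit 2, nat_lit 5, nat_lit 7, nat_lit 4, nat_lit 1], .rel (nat_lit 183) (nat_lit 3) [nat_lit 4, nat_lit 3, nat_lit 3, nat_lit 1, nat_lit 7, nat_lit 0, nat_lit 5], .rel (nat_lit 185) (nat_lit 3) [nat_lit 6, nat_lit 3, nat_lit 3, nat_lit 1, nat_lit 2, nat_lit 2, nat_lit 1], .rel (nat_lit 185) (nat_lit 4) [nat_lit 3, nat_lit 3, nat_lit 1, nat_lit 2, nat_lit 2, nat_lit 1, nat_lit 6], .rel (nat_lit 187) (nat_lit 1) [nat_lit 4, nat_lit 0, nat_lit 6, nat_lit 5, nat_lit 3, nat_lit 1, nat_lit 3], .rel (nat_lit 188) (nat_lit 7) [nat_lit 0, nat_lit 2, nat_lit 5, nat_lit 0, nat_lit 3, nat_lit 7, nat_lit 5], .rel (nat_lit 191) (nat_lit 0) [nat_lit 2, nat_lit 5, nat_lit 7, nat_lit 1, nat_lit 4, nat_lit 3, nat_lit 1], .rel (nat_lit 199) (nat_lit 0) [nat_lit 0, nat_lit 4, nat_lit 6, nat_lit 2, nat_lit 4, nat_lit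 3, nat_lit 1], .rel (nat_lit 200) (nat_lit 5) [nat_lit 4, nat_lit 3, nat_lit 0, nat_lit 2, nat_lit 5, nat_lit 6, nat_lit 0], .rel (nat_lit 203) (nat_lit 1) [nat_lit 5, nat_lit 0, nat_lit 7, nat_lit 4, nat_lit 3, nat_lit 1, nat_lit 3], .rel (nat_lit 206) (nat_lit 2) [nat_lit 3, nat_lit 0, nat_lit 4, nat_lit 7, nat_lit 5, nat_lit 0, nat_lit 2], .rel (nat_lit 212) (nat_lit 5) [nat_lit 4, nat_lit 2, nat_lit 0, nat_lit 2, nat_lit 6, nat_lit 5, nat_lit 0], .rel (nat_lit 215) (nat_lit 1) [nat_lit 3, nat_lit 1, nat_lit 4, nat_lit 6, nat_lit 3, nat_lit 1, nat_lit 4], .rel (nat_lit 219) (nat_lit 0) [nat_lit 1, nat_lit 4, nat_lit 2, nat_lit 4, nat_lit 6, nat_lit 3, nat_lit 1], .rel (nat_lit 219) (nat_lit 5) [nat_lit 3, nat_lit 1, nat_lit 6, nat_lit 1, nat_lit 4, nat_lit 2, nat_lit 4], .rel (nat_lit 224) (nat_lit 6) [nat_lit 3, nat_lit 0, nat_lit 3, nat_lit 3, nat_lit 0, nat_lit 7, nat_lit 2], .rel (nat_lit 226) (nat_lit 6) [nat_lit 6, nat_lit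 0, nat_lit 3, nat_lit 4, nat_lit 0, nat_lit 3, nat_lit 4], .rel (nat_lit 230) (nat_lit 7) [nat_lit 0, nat_lit 3, nat_lit 4, nat_lit 3, nat_lit 4, nat_lit 7, nat_lit 0], .rel (nat_lit 232) (nat_lit 7) [nat_lit 0, nat_lit 3, nat_lit 4, nat_lit 6, nat_lit 0, nat_lit 5, nat_lit 2], .rel (nat_lit 245) (nat_lit 2) [nat_lit 0, nat_lit 7, nat_lit 4, nat_lit 2, nat_lit 1, nat_lit 3, nat_lit 5], .rel (nat_lit 248) (nat_lit 2) [nat_lit 5, nat_lit 1, nat_lit 3, nat_lit 7, nat_lit 5, nat_lit 0, nat_lit 3], .rel (nat_lit 253) (nat_lit 0) [nat_lit 3, nat_lit 5, nat_lit 1, nat_lit 6, nat_lit 3, nat_lit 5, nat_lit 1], .rel (nat_lit 254) (nat_lit 4) [nat_lit 4, nat_lit 3, nat_lit 6, nat_lit 0, nat_lit 4, nat_lit 3, nat_lit 0], .rel (nat_lit 261) (nat_lit 0) [nat_lit 6, nat_lit 5, nat_lit 5, nat_lit 0, nat_lit 5, nat_lit 5, nat_lit 1], .rel (nat_lit 269) (nat_lit 5) [nat_lit 4, nat_lit 1, nat_lit 3, nat_lit 3, nat_lit 6, nat_lit 1, nat_lit 5], .rel (nat_lit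 270) (nat_lit 5) [nat_lit 6, nat_lit 4, nat_lit 0, nat_lit 6, nat_lit 0, nat_lit 7, nat_lit 5], .rel (nat_lit 271) (nat_lit 4) [nat_lit 1, nat_lit 7, nat_lit 1, nat_lit 5, nat_lit 7, nat_lit 7, nat_lit 4], .rel (nat_lit 274) (nat_lit 4) [nat_lit 4, nat_lit 3, nat_lit 5, nat_lit 5, nat_lit 3, nat_lit 0, nat_lit 0, nat_lit 6, nat_lit 4], .rel (nat_lit 294) (nat_lit 7) [nat_lit 5, nat_lit 3, nat_lit 1, nat_lit 8, nat_lit 2, nat_lit 8, nat_lit 0, nat_lit 9, nat_lit 3, nat_lit 9], .rel (nat_lit 304) (nat_lit 4) [nat_lit 5, nat_lit 1, nat_lit 5, nat_lit 1, nat_lit 10, nat_lit 5, nat_lit 3, nat_lit 10], .rel (nat_lit 306) (nat_lit 6) [nat_lit 5, nat_lit 1, nat_lit 1, nat_lit 10, nat_lit 2, nat_lit 6, nat_lit 3, nat_lit 10, nat_lit 5], .rel (nat_lit 370) (nat_lit 6) [nat_lit 0, nat_lit 2, nat_lit 12, nat_lit 1, nat_lit 12, nat_lit 5], .rel (nat_lit 403) (nat_lit 2) [nat_lit 3, nat_lit 8, nat_lit 12, nat_lit 11, nat_lit 7, nat_lit 11, nat_lit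 12, nat_lit 2, nat_lit 10], .rel (nat_lit 405) (nat_lit 4) [nat_lit 12, nat_lit 11, nat_lit 12, nat_lit 10, nat_lit 11, nat_lit 12, nat_lit 10, nat_lit 11, nat_lit 6, nat_lit 10], .rel (nat_lit 410) (nat_lit 7) [nat_lit 3, nat_lit 4, nat_lit 9, nat_lit 12, nat_lit 11, nat_lit 8, nat_lit 4, nat_lit 9, nat_lit 11, nat_lit 12], .rel (nat_lit 414) (nat_lit 9) [nat_lit 5, nat_lit 9, nat_lit 12, nat_lit 11, nat_lit 8, nat_lit 6, nat_lit 9, nat_lit 11, nat_lit 12, nat_lit 4, nat_lit 10], .rel (nat_lit 440) (nat_lit 3) [nat_lit 14, nat_lit 2, nat_lit 14, nat_lit 12, nat_lit 6, nat_lit 14, nat_lit 2, nat_lit 14, nat_lit 12, nat_lit 6, nat_lit 14, nat_lit 2, nat_lit 14, nat_lit 12], .rel (nat_lit 443) (nat_lit 1) [nat_lit 12, nat_lit 14, nat_lit 3, nat_lit 14, nat_lit 6, nat_lit 12, nat_lit 14, nat_lit 3, nat_lit 14, nat_lit 6, nat_lit 12, nat_lit 14, nat_lit 3, nat_lit 14]],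
  [.rel (nat_lit 12) (nat_lit 1) [nat_lit 6], .rel (nat_lit 39) (nat_lit 0) [nat_lit 7, nat_lit 7, nat_lit 7], .rel (nat_lit 368) (nat_lit 2) [nat_lit 12, nat_lit 4, nat_lit 2, nat_lit 0, nat_lit 12], .defn, .rel (nat_lit 35) (nat_lit 0) [nat_lit 3, nat_lit 7, nat_lit 3], .rel (nat_lit 341) (nat_lit 3) [nat_lit 5, nat_lit 3, nat_lit 13, nat_lit 5, nat_lit 13], .rel (nat_lit 297) (nat_lit 1) [nat_lit 10, nat_lit 1, nat_lit 7, nat_lit 1, nat_lit 10], .rel (nat_lit 343) (nat_lit 1) [nat_lit 8, nat_lit 7, nat_lit 5, nat_lit 5, nat_lit 9], .rel (nat_lit 41) (nat_lit 3) [nat_lit 1, nat_lit 1, nat_lit 6, nat_lit 1, nat_lit 1], .rel (nat_lit 46) (nat_lit 5) [nat_lit 0, nat_lit 3, nat_lit 6, nat_lit 3, nat_lit 0], .rel (nat_lit 339) (nat_lit 4) [nat_lit 1, nat_lit 8, nat_lit 0, nat_lit 6, nat_lit 9], .rel (nat_lit 281) (nat_lit 2) [nat_lit 0, nat_lit 9, nat_lit 1, nat_lit 7, nat_lit 8], .rel (nat_lit 53) (nat_lit 1) [nat_lit 7, nat_lit 3, nat_lit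 5, nat_lit 3, nat_lit 5], .rel (nat_lit 425) (nat_lit 6) [nat_lit 14, nat_lit 2, nat_lit 10, nat_lit 3, nat_lit 10, nat_lit 6, nat_lit 14], .rel (nat_lit 44) (nat_lit 2) [nat_lit 2, nat_lit 0, nat_lit 6, nat_lit 0, nat_lit 2], .rel (nat_lit 56) (nat_lit 5) [nat_lit 4, nat_lit 4, nat_lit 6, nat_lit 4, nat_lit 4], .rel (nat_lit 344) (nat_lit 1) [nat_lit 11, nat_lit 4, nat_lit 7, nat_lit 11, nat_lit 4], .rel (nat_lit 57) (nat_lit 3) [nat_lit 5, nat_lit 5, nat_lit 6, nat_lit 5, nat_lit 5], .rel (nat_lit 346) (nat_lit 2) [nat_lit 13, nat_lit 8, nat_lit 3, nat_lit 8, nat_lit 0, nat_lit 13], .rel (nat_lit 55) (nat_lit 1) [nat_lit 4, nat_lit 3, nat_lit 4, nat_lit 3, nat_lit 7], .rel (nat_lit 331) (nat_lit 8) [nat_lit 11, nat_lit 0, nat_lit 8, nat_lit 2, nat_lit 10, nat_lit 9, nat_lit 3, nat_lit 10, nat_lit 11], .rel (nat_lit 338) (nat_lit 3) [nat_lit 1, nat_lit 9, nat_lit 0, nat_lit 6, nat_lit 8], .rel (nat_lit 40) (nat_lit 5) [nat_lit 0, nat_lit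 0, nat_lit 6, nat_lit 0, nat_lit 0], .rel (nat_lit 343) (nat_lit 3) [nat_lit 5, nat_lit 5, nat_lit 9, nat_lit 7, nat_lit 8], .rel (nat_lit 403) (nat_lit 7) [nat_lit 11, nat_lit 12, nat_lit 2, nat_lit 10, nat_lit 6, nat_lit 3, nat_lit 8, nat_lit 12, nat_lit 11], .rel (nat_lit 53) (nat_lit 2) [nat_lit 3, nat_lit 5, nat_lit 3, nat_lit 5, nat_lit 7], .rel (nat_lit 55) (nat_lit 0) [nat_lit 7, nat_lit 4, nat_lit 3, nat_lit 4, nat_lit 3], .rel (nat_lit 45) (nat_lit 0) [nat_lit 1, nat_lit 3, nat_lit 6, nat_lit 3, nat_lit 1], .rel (nat_lit 277) (nat_lit 0) [nat_lit 4, nat_lit 9, nat_lit 9, nat_lit 2, nat_lit 1], .rel (nat_lit 49) (nat_lit 0) [nat_lit 7, nat_lit 0, nat_lit 7, nat_lit 7, nat_lit 1], .rel (nat_lit 281) (nat_lit 0) [nat_lit 8, nat_lit 7, nat_lit 0, nat_lit 9, nat_lit 1], .rel (nat_lit 49) (nat_lit 3) [nat_lit 7, nat_lit 1, nat_lit 7, nat_lit 7, nat_lit 0], .rel (nat_lit 391) (nat_lit 5) [nat_lit 10, nat_lit 7, nat_lit 12, nat_lit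 10, nat_lit 12], .rel (nat_lit 424) (nat_lit 3) [nat_lit 10, nat_lit 2, nat_lit 10, nat_lit 3, nat_lit 14, nat_lit 6, nat_lit 14], .rel (nat_lit 391) (nat_lit 1) [nat_lit 12, nat_lit 10, nat_lit 12, nat_lit 7, nat_lit 10], .rel (nat_lit 352) (nat_lit 5) [nat_lit 8, nat_lit 11, nat_lit 1, nat_lit 13, nat_lit 10, nat_lit 13, nat_lit 7, nat_lit 11], .rel (nat_lit 49) (nat_lit 1) [nat_lit 0, nat_lit 7, nat_lit 7, nat_lit 1, nat_lit 7], .rel (nat_lit 297) (nat_lit 4) [nat_lit 1, nat_lit 10, nat_lit 7, nat_lit 10, nat_lit 1], .rel (nat_lit 47) (nat_lit 3) [nat_lit 2, nat_lit 1, nat_lit 6, nat_lit 1, nat_lit 2], .rel (nat_lit 49) (nat_lit 4) [nat_lit 1, nat_lit 7, nat_lit 7, nat_lit 0, nat_lit 7], .rel (nat_lit 352) (nat_lit 3) [nat_lit 11, nat_lit 7, nat_lit 8, nat_lit 11, nat_lit 1, nat_lit 13, nat_lit 10, nat_lit 13], .rel (nat_lit 289) (nat_lit 5) [nat_lit 3, nat_lit 9, nat_lit 4, nat_lit 6, nat_lit 5, nat_lit 8, nat_lit 2], .rel (nat_lit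 365) (nat_lit 3) [nat_lit 9, nat_lit 13, nat_lit 9, nat_lit 5, nat_lit 8, nat_lit 13, nat_lit 0, nat_lit 9, nat_lit 3], .rel (nat_lit 415) (nat_lit 8) [nat_lit 9, nat_lit 11, nat_lit 12, nat_lit 8, nat_lit 4, nat_lit 7, nat_lit 10, nat_lit 5, nat_lit 12, nat_lit 11, nat_lit 8], .rel (nat_lit 428) (nat_lit 8) [nat_lit 10, nat_lit 14, nat_lit 0, nat_lit 2, nat_lit 1, nat_lit 14, nat_lit 10, nat_lit 4, nat_lit 2], .rel (nat_lit 374) (nat_lit 4) [nat_lit 5, nat_lit 12, nat_lit 2, nat_lit 4, nat_lit 12, nat_lit 4], .rel (nat_lit 409) (nat_lit 3) [nat_lit 12, nat_lit 11, nat_lit 12, nat_lit 3, nat_lit 12, nat_lit 11, nat_lit 12, nat_lit 5, nat_lit 0, nat_lit 11], .rel (nat_lit 129) (nat_lit 1) [nat_lit 5, nat_lit 2, nat_lit 7, nat_lit 5, nat_lit 1, nat_lit 1, nat_lit 2], .rel (nat_lit 383) (nat_lit 6) [nat_lit 3, nat_lit 12, nat_lit 2, nat_lit 0, nat_lit 0, nat_lit 4, nat_lit 12, nat_lit 2], .rel (nat_lit 457) (nat_lit 1) [nat_lit 14, nat_lit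 12, nat_lit 3, nat_lit 14, nat_lit 7, nat_lit 14, nat_lit 12, nat_lit 3, nat_lit 14, nat_lit 7, nat_lit 14, nat_lit 12, nat_lit 3, nat_lit 14], .rel (nat_lit 145) (nat_lit 4) [nat_lit 4, nat_lit 1, nat_lit 1, nat_lit 2, nat_lit 2, nat_lit 7, nat_lit 5], .rel (nat_lit 458) (nat_lit 3) [nat_lit 14, nat_lit 2, nat_lit 12, nat_lit 14, nat_lit 7, nat_lit 14, nat_lit 2, nat_lit 12, nat_lit 14, nat_lit 7, nat_lit 14, nat_lit 2, nat_lit 12, nat_lit 14], .rel (nat_lit 90) (nat_lit 4) [nat_lit 4, nat_lit 7, nat_lit 2, nat_lit 0, nat_lit 0, nat_lit 2, nat_lit 5], .rel (nat_lit 307) (nat_lit 7) [nat_lit 3, nat_lit 10, nat_lit 0, nat_lit 0, nat_lit 4, nat_lit 7, nat_lit 4, nat_lit 10, nat_lit 2], .rel (nat_lit 79) (nat_lit 2) [nat_lit 5, nat_lit 3, nat_lit 3, nat_lit 1, nat_lit 1, nat_lit 7, nat_lit 4], .rel (nat_lit 363) (nat_lit 0) [nat_lit 9, nat_lit 3, nat_lit 10, nat_lit 11, nat_lit 13, nat_lit 0, nat_lit 11, nat_lit 1, nat_lit 13], .rel (nat_lit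 449) (nat_lit 0) [nat_lit 14, nat_lit 12, nat_lit 14, nat_lit 3, nat_lit 7, nat_lit 14, nat_lit 12, nat_lit 14, nat_lit 3, nat_lit 7, nat_lit 14, nat_lit 12, nat_lit 14, nat_lit 3], .rel (nat_lit 288) (nat_lit 6) [nat_lit 5, nat_lit 8, nat_lit 2, nat_lit 6, nat_lit 3, nat_lit 9, nat_lit 4], .rel (nat_lit 435) (nat_lit 8) [nat_lit 1, nat_lit 14, nat_lit 0, nat_lit 10, nat_lit 4, nat_lit 0, nat_lit 10, nat_lit 2, nat_lit 14, nat_lit 0], .rel (nat_lit 450) (nat_lit 4) [nat_lit 2, nat_lit 14, nat_lit 12, nat_lit 14, nat_lit 7, nat_lit 2, nat_lit 14, nat_lit 12, nat_lit 14, nat_lit 7, nat_lit 2, nat_lit 14, nat_lit 12, nat_lit 14], .rel (nat_lit 65) (nat_lit 1) [nat_lit 0, nat_lit 7, nat_lit 1, nat_lit 3, nat_lit 1, nat_lit 1, nat_lit 2], .rel (nat_lit 113) (nat_lit 3) [nat_lit 4, nat_lit 2, nat_lit 1, nat_lit 1, nat_lit 7, nat_lit 4, nat_lit 2], .rel (nat_lit 152) (nat_lit 2) [nat_lit 4, nat_lit 7, nat_lit 3, nat_lit 3, nat_lit 5, nat_lit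 0, nat_lit 0], .rel (nat_lit 272) (nat_lit 3) [nat_lit 2, nat_lit 7, nat_lit 5, nat_lit 5, nat_lit 2, nat_lit 4, nat_lit 4], .rel (nat_lit 80) (nat_lit 4) [nat_lit 4, nat_lit 7, nat_lit 5, nat_lit 0, nat_lit 0, nat_lit 2, nat_lit 2], .rel (nat_lit 82) (nat_lit 5) [nat_lit 4, nat_lit 6, nat_lit 0, nat_lit 0, nat_lit 2, nat_lit 4, nat_lit 3], .rel (nat_lit 137) (nat_lit 2) [nat_lit 3, nat_lit 3, nat_lit 4, nat_lit 1, nat_lit 1, nat_lit 7, nat_lit 5], .rel (nat_lit 146) (nat_lit 6) [nat_lit 4, nat_lit 0, nat_lit 0, nat_lit 6, nat_lit 3, nat_lit 4, nat_lit 2], .rel (nat_lit 186) (nat_lit 6) [nat_lit 2, nat_lit 0, nat_lit 2, nat_lit 4, nat_lit 7, nat_lit 1, nat_lit 5], .rel (nat_lit 198) (nat_lit 4) [nat_lit 5, nat_lit 1, nat_lit 7, nat_lit 0, nat_lit 2, nat_lit 5, nat_lit 3], .rel (nat_lit 267) (nat_lit 5) [nat_lit 5, nat_lit 1, nat_lit 6, nat_lit 1, nat_lit 7, nat_lit 4, nat_lit 7], .rel (nat_lit 291) (nat_lit 4) [nat_lit 8, nat_lit 2,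 nat_lit 5, nat_lit 9, nat_lit 0, nat_lit 2, nat_lit 1, nat_lit 3], .rel (nat_lit 72) (nat_lit 6) [nat_lit 3, nat_lit 0, nat_lit 0, nat_lit 2, nat_lit 1, nat_lit 7, nat_lit 0], .rel (nat_lit 97) (nat_lit 2) [nat_lit 1, nat_lit 1, nat_lit 2, nat_lit 1, nat_lit 1, nat_lit 7, nat_lit 2], .rel (nat_lit 114) (nat_lit 4) [nat_lit 3, nat_lit 5, nat_lit 7, nat_lit 0, nat_lit 0, nat_lit 3, nat_lit 5], .rel (nat_lit 118) (nat_lit 6) [nat_lit 4, nat_lit 0, nat_lit 0, nat_lit 3, nat_lit 7, nat_lit 4, nat_lit 3], .rel (nat_lit 145) (nat_lit 2) [nat_lit 5, nat_lit 7, nat_lit 4, nat_lit 1, nat_lit 1, nat_lit 2, nat_lit 2], .rel (nat_lit 154) (nat_lit 2) [nat_lit 5, nat_lit 3, nat_lit 7, nat_lit 5, nat_lit 3, nat_lit 0, nat_lit 0], .rel (nat_lit 194) (nat_lit 7) [nat_lit 0, nat_lit 2, nat_lit 5, nat_lit 1, nat_lit 4, nat_lit 7, nat_lit 2], .rel (nat_lit 207) (nat_lit 5) [nat_lit 3, nat_lit 1, nat_lit 4, nat_lit 6, nat_lit 5, nat_lit 1, nat_lit 2], .rel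 (nat_lit 223) (nat_lit 1) [nat_lit 2, nat_lit 2, nat_lit 1, nat_lit 2, nat_lit 2, nat_lit 1, nat_lit 7], .rel (nat_lit 240) (nat_lit 4) [nat_lit 2, nat_lit 7, nat_lit 5, nat_lit 0, nat_lit 3, nat_lit 5, nat_lit 0], .rel (nat_lit 242) (nat_lit 5) [nat_lit 5, nat_lit 7, nat_lit 0, nat_lit 3, nat_lit 5, nat_lit 1, nat_lit 2], .rel (nat_lit 268) (nat_lit 5) [nat_lit 2, nat_lit 2, nat_lit 0, nat_lit 5, nat_lit 7, nat_lit 4, nat_lit 0], .rel (nat_lit 271) (nat_lit 2) [nat_lit 4, nat_lit 6, nat_lit 1, nat_lit 7, nat_lit 1, nat_lit 5, nat_lit 7], .rel (nat_lit 271) (nat_lit 6) [nat_lit 1, nat_lit 5, nat_lit 7, nat_lit 7, nat_lit 4, nat_lit 6, nat_lit 1], .rel (nat_lit 272) (nat_lit 5) [nat_lit 5, nat_lit 5, nat_lit 2, nat_lit 4, nat_lit 4, nat_lit 7, nat_lit 2], .rel (nat_lit 298) (nat_lit 6) [nat_lit 0, nat_lit 2, nat_lit 10, nat_lit 0, nat_lit 10, nat_lit 5], .rel (nat_lit 79) (nat_lit 0) [nat_lit 4, nat_lit 7, nat_lit 5, nat_lit 3, nat_lit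 3, nat_lit 1, nat_lit 1], .rel (nat_lit 80) (nat_lit 6) [nat_lit 5, nat_lit 0, nat_lit 0, nat_lit 2, nat_lit 2, nat_lit 7, nat_lit 4], .rel (nat_lit 84) (nat_lit 4) [nat_lit 2, nat_lit 4, nat_lit 7, nat_lit 0, nat_lit 0, nat_lit 2, nat_lit 4], .rel (nat_lit 89) (nat_lit 2) [nat_lit 2, nat_lit 4, nat_lit 3, nat_lit 1, nat_lit 1, nat_lit 6, nat_lit 4], .rel (nat_lit 95) (nat_lit 4) [nat_lit 3, nat_lit 1, nat_lit 1, nat_lit 4, nat_lit 7, nat_lit 3, nat_lit 4], .rel (nat_lit 109) (nat_lit 3) [nat_lit 5, nat_lit 2, nat_lit 1, nat_lit 1, nat_lit 6, nat_lit 3, nat_lit 4], .rel (nat_lit 118) (nat_lit 3) [nat_lit 4, nat_lit 3, nat_lit 7, nat_lit 4, nat_lit 0, nat_lit 0, nat_lit 3], .rel (nat_lit 129) (nat_lit 4) [nat_lit 5, nat_lit 1, nat_lit 1, nat_lit 2, nat_lit 7, nat_lit 5, nat_lit 2], .rel (nat_lit 134) (nat_lit 6) [nat_lit 4, nat_lit 0, nat_lit 0, nat_lit 5, nat_lit 1, nat_lit 7, nat_lit 0], .rel (nat_lit 140) (nat_lit 4) [nat_lit 5, nat_lit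 6, nat_lit 2, nat_lit 0, nat_lit 0, nat_lit 5, nat_lit 3], .rel (nat_lit 141) (nat_lit 1) [nat_lit 4, nat_lit 6, nat_lit 2, nat_lit 4, nat_lit 1, nat_lit 1, nat_lit 3], .rel (nat_lit 148) (nat_lit 5) [nat_lit 4, nat_lit 2, nat_lit 0, nat_lit 0, nat_lit 6, nat_lit 3, nat_lit 5], .rel (nat_lit 152) (nat_lit 4) [nat_lit 3, nat_lit 3, nat_lit 5, nat_lit 0, nat_lit 0, nat_lit 7, nat_lit 4], .rel (nat_lit 154) (nat_lit 5) [nat_lit 5, nat_lit 3, nat_lit 0, nat_lit 0, nat_lit 7, nat_lit 5, nat_lit 3], .rel (nat_lit 180) (nat_lit 7) [nat_lit 0, nat_lit 2, nat_lit 2, nat_lit 1, nat_lit 4, nat_lit 6, nat_lit 5], .rel (nat_lit 191) (nat_lit 3) [nat_lit 1, nat_lit 4, nat_lit 3, nat_lit 1, nat_lit 6, nat_lit 2, nat_lit 5], .rel (nat_lit 203) (nat_lit 4) [nat_lit 4, nat_lit 3, nat_lit 1, nat_lit 3, nat_lit 6, nat_lit 5, nat_lit 0], .rel (nat_lit 204) (nat_lit 3) [nat_lit 0, nat_lit 3, nat_lit 7, nat_lit 5, nat_lit 0, nat_lit 2, nat_lit 5], .rel (nat_lit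 209) (nat_lit 5) [nat_lit 3, nat_lit 1, nat_lit 3, nat_lit 3, nat_lit 7, nat_lit 0, nat_lit 2], .rel (nat_lit 211) (nat_lit 5) [nat_lit 3, nat_lit 1, nat_lit 6, nat_lit 3, nat_lit 4, nat_lit 0, nat_lit 5], .rel (nat_lit 213) (nat_lit 2) [nat_lit 1, nat_lit 4, nat_lit 7, nat_lit 3, nat_lit 1, nat_lit 3, nat_lit 5], .rel (nat_lit 213) (nat_lit 5) [nat_lit 3, nat_lit 1, nat_lit 3, nat_lit 5, nat_lit 7, nat_lit 1, nat_lit 4], .rel (nat_lit 218) (nat_lit 2) [nat_lit 5, nat_lit 3, nat_lit 5, nat_lit 0, nat_lit 7, nat_lit 0, nat_lit 2], .rel (nat_lit 225) (nat_lit 1) [nat_lit 3, nat_lit 6, nat_lit 1, nat_lit 2, nat_lit 2, nat_lit 1, nat_lit 2], .rel (nat_lit 227) (nat_lit 1) [nat_lit 5, nat_lit 2, nat_lit 1, nat_lit 5, nat_lit 2, nat_lit 1, nat_lit 7], .rel (nat_lit 236) (nat_lit 3) [nat_lit 3, nat_lit 4, nat_lit 1, nat_lit 6, nat_lit 0, nat_lit 3, nat_lit 4], .rel (nat_lit 246) (nat_lit 3) [nat_lit 0, nat_lit 4, nat_lit 2, nat_lit 6, nat_lit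 0, nat_lit 3, nat_lit 5], .rel (nat_lit 267) (nat_lit 4) [nat_lit 7, nat_lit 5, nat_lit 1, nat_lit 6, nat_lit 1, nat_lit 7, nat_lit 4], .rel (nat_lit 275) (nat_lit 5) [nat_lit 5, nat_lit 7, nat_lit 1, nat_lit 1, nat_lit 2, nat_lit 4, nat_lit 4, nat_lit 2, nat_lit 5], .rel (nat_lit 307) (nat_lit 3) [nat_lit 4, nat_lit 10, nat_lit 2, nat_lit 7, nat_lit 3, nat_lit 10, nat_lit 0, nat_lit 0, nat_lit 4], .rel (nat_lit 357) (nat_lit 1) [nat_lit 8, nat_lit 2, nat_lit 13, nat_lit 9, nat_lit 13, nat_lit 1, nat_lit 13, nat_lit 4], .rel (nat_lit 404) (nat_lit 8) [nat_lit 11, nat_lit 10, nat_lit 12, nat_lit 11, nat_lit 10, nat_lit 12, nat_lit 11, nat_lit 12, nat_lit 7, nat_lit 10], .rel (nat_lit 415) (nat_lit 2) [nat_lit 10, nat_lit 5, nat_lit 12, nat_lit 11, nat_lit 8, nat_lit 7, nat_lit 9, nat_lit 11, nat_lit 12, nat_lit 8, nat_lit 4], .sub (nat_lit 14) [] [], .rel (nat_lit 58) (nat_lit 5) [nat_lit 2, nat_lit 7, nat_lit 0, nat_lit 0, nat_lit 2,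 nat_lit 0, nat_lit 0], .rel (nat_lit 58) (nat_lit 7) [nat_lit 0, nat_lit 0, nat_lit 2, nat_lit 0, nat_lit 0, nat_lit 7, nat_lit 2], .rel (nat_lit 66) (nat_lit 4) [nat_lit 1, nat_lit 2, nat_lit 6, nat_lit 0, nat_lit 0, nat_lit 2, nat_lit 0], .rel (nat_lit 72) (nat_lit 4) [nat_lit 0, nat_lit 7, nat_lit 3, nat_lit 0, nat_lit 0, nat_lit 2, nat_lit 1], .rel (nat_lit 83) (nat_lit 0) [nat_lit 5, nat_lit 6, nat_lit 2, nat_lit 5, nat_lit 3, nat_lit 1, nat_lit 1], .rel (nat_lit 88) (nat_lit 7) [nat_lit 0, nat_lit 0, nat_lit 2, nat_lit 5, nat_lit 3, nat_lit 6, nat_lit 5], .rel (nat_lit 90) (nat_lit 6) [nat_lit 2, nat_lit 0, nat_lit 0, nat_lit 2, nat_lit 5, nat_lit 7, nat_lit 4], .rel (nat_lit 93) (nat_lit 2) [nat_lit 1, nat_lit 7, nat_lit 3, nat_lit 1, nat_lit 1, nat_lit 2, nat_lit 0], .rel (nat_lit 93) (nat_lit 4) [nat_lit 3, nat_lit 1, nat_lit 1, nat_lit 2, nat_lit 0, nat_lit 7, nat_lit 1], .rel (nat_lit 101) (nat_lit 1) [nat_lit 0, nat_lit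 7, nat_lit 1, nat_lit 2, nat_lit 1, nat_lit 1, nat_lit 3], .rel (nat_lit 108) (nat_lit 7) [nat_lit 0, nat_lit 0, nat_lit 3, nat_lit 4, nat_lit 6, nat_lit 5, nat_lit 2], .rel (nat_lit 113) (nat_lit 0) [nat_lit 4, nat_lit 2, nat_lit 7, nat_lit 4, nat_lit 2, nat_lit 1, nat_lit 1], .rel (nat_lit 114) (nat_lit 7) [nat_lit 0, nat_lit 0, nat_lit 3, nat_lit 5, nat_lit 7, nat_lit 3, nat_lit 5], .rel (nat_lit 116) (nat_lit 5) [nat_lit 2, nat_lit 5, nat_lit 0, nat_lit 0, nat_lit 3, nat_lit 6, nat_lit 5], .rel (nat_lit 132) (nat_lit 3) [nat_lit 2, nat_lit 2, nat_lit 5, nat_lit 7, nat_lit 0, nat_lit 0, nat_lit 4], .rel (nat_lit 132) (nat_lit 7) [nat_lit 0, nat_lit 0, nat_lit 4, nat_lit 7, nat_lit 2, nat_lit 2, nat_lit 5], .rel (nat_lit 134) (nat_lit 4) [nat_lit 0, nat_lit 7, nat_lit 4, nat_lit 0, nat_lit 0, nat_lit 5, nat_lit 1], .rel (nat_lit 139) (nat_lit 3) [nat_lit 3, nat_lit 4, nat_lit 1, nat_lit 1, nat_lit 6, nat_lit 5, nat_lit 2], .rel (nat_lit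 143) (nat_lit 2) [nat_lit 1, nat_lit 7, nat_lit 4, nat_lit 1, nat_lit 1, nat_lit 5, nat_lit 0], .rel (nat_lit 150) (nat_lit 5) [nat_lit 3, nat_lit 5, nat_lit 0, nat_lit 0, nat_lit 6, nat_lit 4, nat_lit 2], .rel (nat_lit 164) (nat_lit 3) [nat_lit 0, nat_lit 2, nat_lit 0, nat_lit 7, nat_lit 0, nat_lit 2, nat_lit 0], .rel (nat_lit 178) (nat_lit 6) [nat_lit 2, nat_lit 0, nat_lit 2, nat_lit 2, nat_lit 0, nat_lit 6, nat_lit 3], .rel (nat_lit 181) (nat_lit 2) [nat_lit 5, nat_lit 0, nat_lit 3, nat_lit 3, nat_lit 1, nat_lit 6, nat_lit 4], .rel (nat_lit 193) (nat_lit 2) [nat_lit 3, nat_lit 0, nat_lit 4, nat_lit 3, nat_lit 1, nat_lit 4, nat_lit 7], .rel (nat_lit 194) (nat_lit 5) [nat_lit 2, nat_lit 7, nat_lit 0, nat_lit 2, nat_lit 5, nat_lit 1, nat_lit 4], .rel (nat_lit 198) (nat_lit 7) [nat_lit 0, nat_lit 2, nat_lit 5, nat_lit 3, nat_lit 7, nat_lit 5, nat_lit 1], .rel (nat_lit 201) (nat_lit 2) [nat_lit 1, nat_lit 7, nat_lit 4, nat_lit 3, nat_lit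 1, nat_lit 2, nat_lit 5], .rel (nat_lit 204) (nat_lit 6) [nat_lit 5, nat_lit 0, nat_lit 2, nat_lit 5, nat_lit 7, nat_lit 0, nat_lit 3], .rel (nat_lit 210) (nat_lit 7) [nat_lit 0, nat_lit 2, nat_lit 6, nat_lit 4, nat_lit 1, nat_lit 5, nat_lit 2], .rel (nat_lit 233) (nat_lit 0) [nat_lit 3, nat_lit 4, nat_lit 1, nat_lit 7, nat_lit 5, nat_lit 2, nat_lit 1], .rel (nat_lit 234) (nat_lit 7) [nat_lit 0, nat_lit 3, nat_lit 4, nat_lit 6, nat_lit 3, nat_lit 4, nat_lit 1], .rel (nat_lit 235) (nat_lit 4) [nat_lit 5, nat_lit 2, nat_lit 1, nat_lit 6, nat_lit 0, nat_lit 5, nat_lit 2], .rel (nat_lit 245) (nat_lit 4) [nat_lit 4, nat_lit 2, nat_lit 1, nat_lit 3, nat_lit 5, nat_lit 6, nat_lit 0], .rel (nat_lit 255) (nat_lit 0) [nat_lit 2, nat_lit 5, nat_lit 7, nat_lit 1, nat_lit 2, nat_lit 5, nat_lit 1], .rel (nat_lit 260) (nat_lit 6) [nat_lit 7, nat_lit 0, nat_lit 4, nat_lit 4, nat_lit 1, nat_lit 4, nat_lit 4], .rel (nat_lit 266) (nat_lit 7) [nat_lit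 0, nat_lit 4, nat_lit 6, nat_lit 6, nat_lit 5, nat_lit 6, nat_lit 0], .rel (nat_lit 267) (nat_lit 2) [nat_lit 4, nat_lit 7, nat_lit 7, nat_lit 5, nat_lit 1, nat_lit 6, nat_lit 1], .rel (nat_lit 268) (nat_lit 2) [nat_lit 4, nat_lit 0, nat_lit 7, nat_lit 2, nat_lit 2, nat_lit 0, nat_lit 5], .rel (nat_lit 270) (nat_lit 3) [nat_lit 5, nat_lit 6, nat_lit 6, nat_lit 4, nat_lit 0, nat_lit 6, nat_lit 0], .rel (nat_lit 275) (nat_lit 7) [nat_lit 1, nat_lit 1, nat_lit 2, nat_lit 4, nat_lit 4, nat_lit 2, nat_lit 5, nat_lit 7, nat_lit 5], .rel (nat_lit 295) (nat_lit 3) [nat_lit 8, nat_lit 2, nat_lit 8, nat_lit 1, nat_lit 9, nat_lit 3, nat_lit 9, nat_lit 0, nat_lit 2, nat_lit 4], .rel (nat_lit 371) (nat_lit 0) [nat_lit 4, nat_lit 12, nat_lit 0, nat_lit 12, nat_lit 3, nat_lit 1], .rel (nat_lit 402) (nat_lit 7) [nat_lit 10, nat_lit 3, nat_lit 12, nat_lit 11, nat_lit 6, nat_lit 11, nat_lit 12, nat_lit 9, nat_lit 2], .rel (nat_lit 412) (nat_lit 10) [nat_lit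 11, nat_lit 12, nat_lit 2, nat_lit 11, nat_lit 9, nat_lit 12, nat_lit 11, nat_lit 12, nat_lit 6, nat_lit 4, nat_lit 10], .rel (nat_lit 442) (nat_lit 3) [nat_lit 14, nat_lit 2, nat_lit 14, nat_lit 12, nat_lit 7, nat_lit 14, nat_lit 2, nat_lit 14, nat_lit 12, nat_lit 7, nat_lit 14, nat_lit 2, nat_lit 14, nat_lit 12]],
  [.rel (nat_lit 16) (nat_lit 0) [nat_lit 9], .defn, .rel (nat_lit 334) (nat_lit 0) [nat_lit 8, nat_lit 8, nat_lit 8], .rel (nat_lit 276) (nat_lit 3) [nat_lit 5, nat_lit 6, nat_lit 0, nat_lit 3, nat_lit 8], .rel (nat_lit 278) (nat_lit 1) [nat_lit 1, nat_lit 4, nat_lit 4, nat_lit 9, nat_lit 0], .rel (nat_lit 378) (nat_lit 1) [nat_lit 12, nat_lit 5, nat_lit 9, nat_lit 4, nat_lit 9, nat_lit 1, nat_lit 12], .rel (nat_lit 276) (nat_lit 2) [nat_lit 8, nat_lit 5, nat_lit 6, nat_lit 0, nat_lit 3], .rel (nat_lit 281) (nat_lit 1) [nat_lit 7, nat_lit 0, nat_lit 9, nat_lit 1, nat_lit 7], .rel (nat_lit 279) (nat_lit 0) [nat_lit 5, nat_lit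 5, nat_lit 0, nat_lit 9, nat_lit 1], .rel (nat_lit 339) (nat_lit 0) [nat_lit 0, nat_lit 6, nat_lit 9, nat_lit 7, nat_lit 1], .rel (nat_lit 338) (nat_lit 2) [nat_lit 7, nat_lit 1, nat_lit 9, nat_lit 0, nat_lit 6], .rel (nat_lit 280) (nat_lit 1) [nat_lit 1, nat_lit 6, nat_lit 9, nat_lit 6, nat_lit 0], .rel (nat_lit 342) (nat_lit 5) [nat_lit 4, nat_lit 4, nat_lit 6, nat_lit 9, nat_lit 6], .rel (nat_lit 343) (nat_lit 2) [nat_lit 7, nat_lit 5, nat_lit 5, nat_lit 9, nat_lit 7], .rel (nat_lit 361) (nat_lit 1) [nat_lit 11, nat_lit 3, nat_lit 10, nat_lit 13, nat_lit 0, nat_lit 10, nat_lit 1, nat_lit 13, nat_lit 3], .rel (nat_lit 349) (nat_lit 2) [nat_lit 5, nat_lit 10, nat_lit 11, nat_lit 1, nat_lit 2, nat_lit 11], .rel (nat_lit 356) (nat_lit 3) [nat_lit 13, nat_lit 3, nat_lit 9, nat_lit 6, nat_lit 5, nat_lit 13, nat_lit 0, nat_lit 13], .rel (nat_lit 393) (nat_lit 0) [nat_lit 12, nat_lit 11, nat_lit 8, nat_lit 3, nat_lit 9, nat_lit 11, nat_lit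 12], .rel (nat_lit 329) (nat_lit 6) [nat_lit 10, nat_lit 11, nat_lit 3, nat_lit 5, nat_lit 9, nat_lit 5, nat_lit 9, nat_lit 11], .rel (nat_lit 314) (nat_lit 4) [nat_lit 2, nat_lit 5, nat_lit 9, nat_lit 10, nat_lit 4, nat_lit 3, nat_lit 10], .rel (nat_lit 312) (nat_lit 1) [nat_lit 10, nat_lit 9, nat_lit 4, nat_lit 2, nat_lit 10, nat_lit 0], .rel (nat_lit 313) (nat_lit 3) [nat_lit 10, nat_lit 9, nat_lit 1, nat_lit 10, nat_lit 3, nat_lit 5], .rel (nat_lit 346) (nat_lit 4) [nat_lit 3, nat_lit 8, nat_lit 0, nat_lit 13, nat_lit 7, nat_lit 13], .rel (nat_lit 354) (nat_lit 5) [nat_lit 5, nat_lit 2, nat_lit 9, nat_lit 13, nat_lit 0, nat_lit 2, nat_lit 1, nat_lit 13], .rel (nat_lit 346) (nat_lit 6) [nat_lit 0, nat_lit 13, nat_lit 7, nat_lit 13, nat_lit 8, nat_lit 3], .rel (nat_lit 315) (nat_lit 0) [nat_lit 4, nat_lit 3, nat_lit 9, nat_lit 10, nat_lit 2, nat_lit 5, nat_lit 10], .rel (nat_lit 287) (nat_lit 4) [nat_lit 2, nat_lit 2, nat_lit 9, nat_lit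 2, nat_lit 2, nat_lit 4, nat_lit 4], .rel (nat_lit 372) (nat_lit 5) [nat_lit 12, nat_lit 0, nat_lit 12, nat_lit 2, nat_lit 2, nat_lit 8], .rel (nat_lit 392) (nat_lit 2) [nat_lit 2, nat_lit 9, nat_lit 11, nat_lit 12, nat_lit 9, nat_lit 12, nat_lit 11], .rel (nat_lit 282) (nat_lit 6) [nat_lit 0, nat_lit 2, nat_lit 4, nat_lit 8, nat_lit 5, nat_lit 2], .rel (nat_lit 406) (nat_lit 9) [nat_lit 1, nat_lit 12, nat_lit 2, nat_lit 11, nat_lit 10, nat_lit 9, nat_lit 11, nat_lit 12, nat_lit 1, nat_lit 1], .rel (nat_lit 325) (nat_lit 3) [nat_lit 3, nat_lit 11, nat_lit 1, nat_lit 11, nat_lit 1, nat_lit 10, nat_lit 3], .rel (nat_lit 282) (nat_lit 3) [nat_lit 5, nat_lit 2, nat_lit 8, nat_lit 0, nat_lit 2, nat_lit 4], .rel (nat_lit 413) (nat_lit 8) [nat_lit 11, nat_lit 3, nat_lit 12, nat_lit 11, nat_lit 6, nat_lit 10, nat_lit 5, nat_lit 7, nat_lit 12, nat_lit 11, nat_lit 12], .rel (nat_lit 285) (nat_lit 3) [nat_lit 4, nat_lit 3, nat_lit 1, nat_lit 8,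 nat_lit 4, nat_lit 2], .rel (nat_lit 355) (nat_lit 0) [nat_lit 3, nat_lit 4, nat_lit 9, nat_lit 13, nat_lit 0, nat_lit 3, nat_lit 1, nat_lit 13], .rel (nat_lit 364) (nat_lit 3) [nat_lit 13, nat_lit 8, nat_lit 6, nat_lit 2, nat_lit 8, nat_lit 1, nat_lit 13, nat_lit 9, nat_lit 4], .rel (nat_lit 379) (nat_lit 3) [nat_lit 4, nat_lit 12, nat_lit 9, nat_lit 12, nat_lit 0, nat_lit 8, nat_lit 5], .rel (nat_lit 364) (nat_lit 8) [nat_lit 1, nat_lit 13, nat_lit 9, nat_lit 4, nat_lit 8, nat_lit 13, nat_lit 8, nat_lit 6, nat_lit 2], .rel (nat_lit 286) (nat_lit 0) [nat_lit 3, nat_lit 3, nat_lit 9, nat_lit 5, nat_lit 5, nat_lit 3, nat_lit 3], .rel (nat_lit 332) (nat_lit 1) [nat_lit 11, nat_lit 9, nat_lit 11, nat_lit 5, nat_lit 3, nat_lit 4, nat_lit 10, nat_lit 3, nat_lit 11], .rel (nat_lit 285) (nat_lit 0) [nat_lit 4, nat_lit 2, nat_lit 8, nat_lit 4, nat_lit 3, nat_lit 1], .rel (nat_lit 394) (nat_lit 6) [nat_lit 3, nat_lit 10, nat_lit 12, nat_lit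 11, nat_lit 0, nat_lit 11, nat_lit 12, nat_lit 3], .rel (nat_lit 350) (nat_lit 3) [nat_lit 4, nat_lit 8, nat_lit 2, nat_lit 1, nat_lit 13, nat_lit 2, nat_lit 13], .rel (nat_lit 350) (nat_lit 5) [nat_lit 2, nat_lit 1, nat_lit 13, nat_lit 2, nat_lit 13, nat_lit 8, nat_lit 4], .rel (nat_lit 393) (nat_lit 3) [nat_lit 3, nat_lit 9, nat_lit 11, nat_lit 12, nat_lit 8, nat_lit 12, nat_lit 11], .rel (nat_lit 384) (nat_lit 2) [nat_lit 3, nat_lit 12, nat_lit 1, nat_lit 5, nat_lit 8, nat_lit 5, nat_lit 1, nat_lit 12, nat_lit 2], .rel (nat_lit 328) (nat_lit 6) [nat_lit 4, nat_lit 2, nat_lit 11, nat_lit 10, nat_lit 9, nat_lit 11, nat_lit 8, nat_lit 4], .rel (nat_lit 359) (nat_lit 4) [nat_lit 13, nat_lit 0, nat_lit 5, nat_lit 1, nat_lit 13, nat_lit 0, nat_lit 2, nat_lit 8, nat_lit 2], .rel (nat_lit 384) (nat_lit 7) [nat_lit 5, nat_lit 1, nat_lit 12, nat_lit 2, nat_lit 8, nat_lit 3, nat_lit 12, nat_lit 1, nat_lit 5], .rel (nat_lit 416) (nat_lit 2)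 [nat_lit 12, nat_lit 9, nat_lit 11, nat_lit 12, nat_lit 2, nat_lit 8, nat_lit 11, nat_lit 9, nat_lit 3, nat_lit 12, nat_lit 11], .rel (nat_lit 365) (nat_lit 8) [nat_lit 13, nat_lit 0, nat_lit 9, nat_lit 3, nat_lit 7, nat_lit 9, nat_lit 13, nat_lit 9, nat_lit 5], .rel (nat_lit 364) (nat_lit 5) [nat_lit 6, nat_lit 2, nat_lit 8, nat_lit 1, nat_lit 13, nat_lit 9, nat_lit 4, nat_lit 8, nat_lit 13], .rel (nat_lit 328) (nat_lit 4) [nat_lit 4, nat_lit 8, nat_lit 4, nat_lit 2, nat_lit 11, nat_lit 10, nat_lit 9, nat_lit 11], .rel (nat_lit 330) (nat_lit 5) [nat_lit 10, nat_lit 3, nat_lit 9, nat_lit 1, nat_lit 11, nat_lit 6, nat_lit 11, nat_lit 10, nat_lit 2], .rel (nat_lit 372) (nat_lit 4) [nat_lit 8, nat_lit 12, nat_lit 0, nat_lit 12, nat_lit 2, nat_lit 2], .rel (nat_lit 322) (nat_lit 3) [nat_lit 10, nat_lit 3, nat_lit 10, nat_lit 4, nat_lit 9, nat_lit 2, nat_lit 10, nat_lit 2, nat_lit 10], .rel (nat_lit 289) (nat_lit 3) [nat_lit 2, nat_lit 7,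 nat_lit 3, nat_lit 9, nat_lit 4, nat_lit 6, nat_lit 5], .rel (nat_lit 407) (nat_lit 6) [nat_lit 10, nat_lit 11, nat_lit 3, nat_lit 12, nat_lit 0, nat_lit 9, nat_lit 0, nat_lit 0, nat_lit 12, nat_lit 11], .rel (nat_lit 352) (nat_lit 6) [nat_lit 11, nat_lit 1, nat_lit 13, nat_lit 10, nat_lit 13, nat_lit 7, nat_lit 11, nat_lit 7], .rel (nat_lit 416) (nat_lit 8) [nat_lit 11, nat_lit 9, nat_lit 3, nat_lit 12, nat_lit 11, nat_lit 8, nat_lit 12, nat_lit 9, nat_lit 11, nat_lit 12, nat_lit 2], .rel (nat_lit 357) (nat_lit 2) [nat_lit 2, nat_lit 13, nat_lit 9, nat_lit 13, nat_lit 1, nat_lit 13, nat_lit 4, nat_lit 7], .rel (nat_lit 414) (nat_lit 2) [nat_lit 6, nat_lit 9, nat_lit 11, nat_lit 12, nat_lit 4, nat_lit 10, nat_lit 6, nat_lit 5, nat_lit 9, nat_lit 12, nat_lit 11], .rel (nat_lit 415) (nat_lit 7) [nat_lit 7, nat_lit 9, nat_lit 11, nat_lit 12, nat_lit 8, nat_lit 4, nat_lit 7, nat_lit 10, nat_lit 5, nat_lit 12, nat_lit 11], .rel (nat_lit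 400) (nat_lit 9) [nat_lit 12, nat_lit 11, nat_lit 5, nat_lit 11, nat_lit 3, nat_lit 12, nat_lit 2, nat_lit 10, nat_lit 4], .rel (nat_lit 288) (nat_lit 0) [nat_lit 2, nat_lit 6, nat_lit 3, nat_lit 9, nat_lit 4, nat_lit 7, nat_lit 5], .rel (nat_lit 320) (nat_lit 2) [nat_lit 3, nat_lit 10, nat_lit 1, nat_lit 4, nat_lit 8, nat_lit 4, nat_lit 1, nat_lit 10, nat_lit 2], .rel (nat_lit 331) (nat_lit 1) [nat_lit 2, nat_lit 10, nat_lit 9, nat_lit 3, nat_lit 10, nat_lit 11, nat_lit 7, nat_lit 11, nat_lit 0], .rel (nat_lit 362) (nat_lit 8) [nat_lit 6, nat_lit 13, nat_lit 0, nat_lit 11, nat_lit 1, nat_lit 13, nat_lit 11, nat_lit 10, nat_lit 2], .rel (nat_lit 410) (nat_lit 2) [nat_lit 4, nat_lit 9, nat_lit 11, nat_lit 12, nat_lit 6, nat_lit 3, nat_lit 4, nat_lit 9, nat_lit 12, nat_lit 11], .rel (nat_lit 333) (nat_lit 6) [nat_lit 11, nat_lit 9, nat_lit 11, nat_lit 2, nat_lit 10, nat_lit 5, nat_lit 2, nat_lit 4, nat_lit 11], .rel (nat_lit 411) (nat_lit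 0) [nat_lit 5, nat_lit 2, nat_lit 7, nat_lit 12, nat_lit 11, nat_lit 8, nat_lit 5, nat_lit 9, nat_lit 11, nat_lit 12], .rel (nat_lit 323) (nat_lit 1) [nat_lit 5, nat_lit 10, nat_lit 2, nat_lit 10, nat_lit 9, nat_lit 10, nat_lit 3, nat_lit 10, nat_lit 3], .rel (nat_lit 367) (nat_lit 3) [nat_lit 1, nat_lit 11, nat_lit 13, nat_lit 14, nat_lit 0, nat_lit 6, nat_lit 5], .rel (nat_lit 411) (nat_lit 6) [nat_lit 5, nat_lit 9, nat_lit 11, nat_lit 12, nat_lit 8, nat_lit 5, nat_lit 2, nat_lit 7, nat_lit 12, nat_lit 11], .rel (nat_lit 359) (nat_lit 2) [nat_lit 2, nat_lit 8, nat_lit 13, nat_lit 0, nat_lit 5, nat_lit 1, nat_lit 13, nat_lit 0, nat_lit 2], .rel (nat_lit 292) (nat_lit 0) [nat_lit 2, nat_lit 8, nat_lit 4, nat_lit 9, nat_lit 3, nat_lit 9, nat_lit 1, nat_lit 5, nat_lit 1], .rel (nat_lit 293) (nat_lit 3) [nat_lit 2, nat_lit 8, nat_lit 5, nat_lit 9, nat_lit 3, nat_lit 9, nat_lit 0, nat_lit 4, nat_lit 0], .rel (nat_lit 293) (nat_lit 5) [nat_lit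 5, nat_lit 9, nat_lit 3, nat_lit 9, nat_lit 0, nat_lit 4, nat_lit 0, nat_lit 8, nat_lit 2], .rel (nat_lit 379) (nat_lit 1) [nat_lit 5, nat_lit 8, nat_lit 4, nat_lit 12, nat_lit 9, nat_lit 12, nat_lit 0], .rel (nat_lit 320) (nat_lit 7) [nat_lit 4, nat_lit 1, nat_lit 10, nat_lit 2, nat_lit 8, nat_lit 3, nat_lit 10, nat_lit 1, nat_lit 4], .rel (nat_lit 403) (nat_lit 4) [nat_lit 12, nat_lit 11, nat_lit 7, nat_lit 11, nat_lit 12, nat_lit 2, nat_lit 10, nat_lit 6, nat_lit 3], .rel (nat_lit 291) (nat_lit 5) [nat_lit 2, nat_lit 5, nat_lit 9, nat_lit 0, nat_lit 2, nat_lit 1, nat_lit 3, nat_lit 7], .rel (nat_lit 295) (nat_lit 6) [nat_lit 1, nat_lit 9, nat_lit 3, nat_lit 9, nat_lit 0, nat_lit 2, nat_lit 4, nat_lit 7, nat_lit 8, nat_lit 2], .rel (nat_lit 387) (nat_lit 3) [nat_lit 0, nat_lit 8, nat_lit 12, nat_lit 2, nat_lit 12, nat_lit 3, nat_lit 12, nat_lit 0, nat_lit 0, nat_lit 4], .rel (nat_lit 415) (nat_lit 0) [nat_lit 4, nat_lit 7, nat_lit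 10, nat_lit 5, nat_lit 12, nat_lit 11, nat_lit 8, nat_lit 7, nat_lit 9, nat_lit 11, nat_lit 12], .rel (nat_lit 290) (nat_lit 0) [nat_lit 4, nat_lit 3, nat_lit 9, nat_lit 6, nat_lit 2, nat_lit 0, nat_lit 3, nat_lit 1], .rel (nat_lit 292) (nat_lit 2) [nat_lit 4, nat_lit 9, nat_lit 3, nat_lit 9, nat_lit 1, nat_lit 5, nat_lit 1, nat_lit 8, nat_lit 2], .rel (nat_lit 294) (nat_lit 0) [nat_lit 2, nat_lit 8, nat_lit 0, nat_lit 9, nat_lit 3, nat_lit 9, nat_lit 6, nat_lit 5, nat_lit 3, nat_lit 1], .rel (nat_lit 295) (nat_lit 4) [nat_lit 2, nat_lit 8, nat_lit 1, nat_lit 9, nat_lit 3, nat_lit 9, nat_lit 0, nat_lit 2, nat_lit 4, nat_lit 7], .sub (nat_lit 16) [] []],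
  [.rel (nat_lit 16) (nat_lit 1) [nat_lit 8], .defn, .rel (nat_lit 335) (nat_lit 0) [nat_lit 9, nat_lit 9, nat_lit 9], .rel (nat_lit 279) (nat_lit 4) [nat_lit 1, nat_lit 8, nat_lit 5, nat_lit 5, nat_lit 0], .rel (nat_lit 379) (nat_lit 6) [nat_lit 12, nat_lit 0, nat_lit 8, nat_lit 5, nat_lit 8, nat_lit 4, nat_lit 12], .rel (nat_lit 280) (nat_lit 4) [nat_lit 6, nat_lit 0, nat_lit 8, nat_lit 1, nat_lit 6], .rel (nat_lit 277) (nat_lit 3) [nat_lit 2, nat_lit 1, nat_lit 7, nat_lit 4, nat_lit 9], .rel (nat_lit 343) (nat_lit 0) [nat_lit 7, nat_lit 8, nat_lit 7, nat_lit 5, nat_lit 5], .rel (nat_lit 277) (nat_lit 2) [nat_lit 9, nat_lit 2, nat_lit 1, nat_lit 7, nat_lit 4], .rel (nat_lit 338) (nat_lit 5) [nat_lit 0, nat_lit 6, nat_lit 8, nat_lit 7, nat_lit 1], .rel (nat_lit 360) (nat_lit 8) [nat_lit 2, nat_lit 13, nat_lit 0, nat_lit 10, nat_lit 1, nat_lit 13, nat_lit 10, nat_lit 2, nat_lit 11], .rel (nat_lit 339) (nat_lit 3) [nat_lit 7, nat_lit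 1, nat_lit 8, nat_lit 0, nat_lit 6], .rel (nat_lit 342) (nat_lit 3) [nat_lit 6, nat_lit 8, nat_lit 4, nat_lit 4, nat_lit 6], .rel (nat_lit 278) (nat_lit 5) [nat_lit 0, nat_lit 8, nat_lit 1, nat_lit 4, nat_lit 4], .rel (nat_lit 281) (nat_lit 4) [nat_lit 1, nat_lit 7, nat_lit 8, nat_lit 7, nat_lit 0], .rel (nat_lit 328) (nat_lit 2) [nat_lit 11, nat_lit 8, nat_lit 4, nat_lit 8, nat_lit 4, nat_lit 2, nat_lit 11, nat_lit 10], .rel (nat_lit 392) (nat_lit 7) [nat_lit 12, nat_lit 11, nat_lit 8, nat_lit 2, nat_lit 9, nat_lit 11, nat_lit 12], .rel (nat_lit 357) (nat_lit 5) [nat_lit 13, nat_lit 1, nat_lit 13, nat_lit 4, nat_lit 7, nat_lit 8, nat_lit 2, nat_lit 13], .rel (nat_lit 312) (nat_lit 3) [nat_lit 4, nat_lit 2, nat_lit 10, nat_lit 0, nat_lit 8, nat_lit 10], .rel (nat_lit 347) (nat_lit 2) [nat_lit 13, nat_lit 6, nat_lit 13, nat_lit 1, nat_lit 9, nat_lit 2], .rel (nat_lit 313) (nat_lit 5) [nat_lit 1, nat_lit 10, nat_lit 3, nat_lit 5, nat_lit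 8, nat_lit 10], .rel (nat_lit 347) (nat_lit 0) [nat_lit 2, nat_lit 9, nat_lit 13, nat_lit 6, nat_lit 13, nat_lit 1], .rel (nat_lit 286) (nat_lit 3) [nat_lit 5, nat_lit 5, nat_lit 3, nat_lit 3, nat_lit 8, nat_lit 3, nat_lit 3], .rel (nat_lit 314) (nat_lit 7) [nat_lit 10, nat_lit 4, nat_lit 3, nat_lit 10, nat_lit 8, nat_lit 2, nat_lit 5], .rel (nat_lit 348) (nat_lit 4) [nat_lit 11, nat_lit 3, nat_lit 0, nat_lit 11, nat_lit 10, nat_lit 4], .rel (nat_lit 324) (nat_lit 4) [nat_lit 2, nat_lit 10, nat_lit 0, nat_lit 11, nat_lit 0, nat_lit 11, nat_lit 2], .rel (nat_lit 315) (nat_lit 3) [nat_lit 10, nat_lit 2, nat_lit 5, nat_lit 10, nat_lit 8, nat_lit 4, nat_lit 3], .rel (nat_lit 283) (nat_lit 0) [nat_lit 3, nat_lit 4, nat_lit 9, nat_lit 5, nat_lit 3, nat_lit 1], .rel (nat_lit 378) (nat_lit 4) [nat_lit 4, nat_lit 9, nat_lit 1, nat_lit 12, nat_lit 8, nat_lit 12, nat_lit 5], .rel (nat_lit 353) (nat_lit 2) [nat_lit 6, nat_lit 11, nat_lit 6, nat_lit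 13, nat_lit 10, nat_lit 13, nat_lit 0, nat_lit 11], .rel (nat_lit 412) (nat_lit 3) [nat_lit 12, nat_lit 11, nat_lit 12, nat_lit 6, nat_lit 4, nat_lit 10, nat_lit 7, nat_lit 11, nat_lit 12, nat_lit 2, nat_lit 11], .rel (nat_lit 332) (nat_lit 3) [nat_lit 11, nat_lit 5, nat_lit 3, nat_lit 4, nat_lit 10, nat_lit 3, nat_lit 11, nat_lit 8, nat_lit 11], .rel (nat_lit 284) (nat_lit 3) [nat_lit 3, nat_lit 5, nat_lit 9, nat_lit 0, nat_lit 2, nat_lit 5], .rel (nat_lit 364) (nat_lit 1) [nat_lit 4, nat_lit 8, nat_lit 13, nat_lit 8, nat_lit 6, nat_lit 2, nat_lit 8, nat_lit 1, nat_lit 13], .rel (nat_lit 355) (nat_lit 3) [nat_lit 13, nat_lit 0, nat_lit 3, nat_lit 1, nat_lit 13, nat_lit 8, nat_lit 3, nat_lit 4], .rel (nat_lit 354) (nat_lit 8) [nat_lit 13, nat_lit 0, nat_lit 2, nat_lit 1, nat_lit 13, nat_lit 8, nat_lit 5, nat_lit 2], .rel (nat_lit 392) (nat_lit 4) [nat_lit 11, nat_lit 12, nat_lit 9, nat_lit 12, nat_lit 11, nat_lit 8, nat_lit 2], .rel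 (nat_lit 365) (nat_lit 6) [nat_lit 5, nat_lit 8, nat_lit 13, nat_lit 0, nat_lit 9, nat_lit 3, nat_lit 7, nat_lit 9, nat_lit 13], .rel (nat_lit 283) (nat_lit 3) [nat_lit 5, nat_lit 3, nat_lit 1, nat_lit 9, nat_lit 3, nat_lit 4], .rel (nat_lit 351) (nat_lit 4) [nat_lit 13, nat_lit 3, nat_lit 13, nat_lit 0, nat_lit 3, nat_lit 9, nat_lit 5], .rel (nat_lit 393) (nat_lit 5) [nat_lit 11, nat_lit 12, nat_lit 8, nat_lit 12, nat_lit 11, nat_lit 8, nat_lit 3], .rel (nat_lit 287) (nat_lit 7) [nat_lit 2, nat_lit 2, nat_lit 4, nat_lit 4, nat_lit 8, nat_lit 2, nat_lit 2], .rel (nat_lit 365) (nat_lit 4) [nat_lit 13, nat_lit 9, nat_lit 5, nat_lit 8, nat_lit 13, nat_lit 0, nat_lit 9, nat_lit 3, nat_lit 7], .rel (nat_lit 385) (nat_lit 7) [nat_lit 3, nat_lit 12, nat_lit 0, nat_lit 4, nat_lit 9, nat_lit 4, nat_lit 0, nat_lit 12, nat_lit 2], .rel (nat_lit 284) (nat_lit 6) [nat_lit 0, nat_lit 2, nat_lit 5, nat_lit 9, nat_lit 3, nat_lit 5], .rel (nat_lit 351)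 (nat_lit 2) [nat_lit 5, nat_lit 9, nat_lit 13, nat_lit 3, nat_lit 13, nat_lit 0, nat_lit 3], .rel (nat_lit 288) (nat_lit 4) [nat_lit 4, nat_lit 7, nat_lit 5, nat_lit 8, nat_lit 2, nat_lit 6, nat_lit 3], .rel (nat_lit 395) (nat_lit 2) [nat_lit 2, nat_lit 12, nat_lit 11, nat_lit 1, nat_lit 11, nat_lit 12, nat_lit 10, nat_lit 2], .rel (nat_lit 331) (nat_lit 4) [nat_lit 3, nat_lit 10, nat_lit 11, nat_lit 7, nat_lit 11, nat_lit 0, nat_lit 8, nat_lit 2, nat_lit 10], .rel (nat_lit 333) (nat_lit 8) [nat_lit 11, nat_lit 2, nat_lit 10, nat_lit 5, nat_lit 2, nat_lit 4, nat_lit 11, nat_lit 8, nat_lit 11], .rel (nat_lit 329) (nat_lit 2) [nat_lit 5, nat_lit 9, nat_lit 11, nat_lit 8, nat_lit 10, nat_lit 11, nat_lit 3, nat_lit 5], .rel (nat_lit 407) (nat_lit 1) [nat_lit 0, nat_lit 0, nat_lit 12, nat_lit 11, nat_lit 8, nat_lit 10, nat_lit 11, nat_lit 3, nat_lit 12, nat_lit 0], .rel (nat_lit 410) (nat_lit 10) [nat_lit 12, nat_lit 11, nat_lit 8, nat_lit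 4, nat_lit 9, nat_lit 11, nat_lit 12, nat_lit 6, nat_lit 3, nat_lit 4], .rel (nat_lit 330) (nat_lit 8) [nat_lit 1, nat_lit 11, nat_lit 6, nat_lit 11, nat_lit 10, nat_lit 2, nat_lit 8, nat_lit 10, nat_lit 3], .rel (nat_lit 358) (nat_lit 5) [nat_lit 3, nat_lit 9, nat_lit 3, nat_lit 1, nat_lit 13, nat_lit 0, nat_lit 4, nat_lit 1, nat_lit 13], .rel (nat_lit 373) (nat_lit 2) [nat_lit 3, nat_lit 3, nat_lit 12, nat_lit 1, nat_lit 12, nat_lit 9], .rel (nat_lit 323) (nat_lit 6) [nat_lit 10, nat_lit 3, nat_lit 10, nat_lit 3, nat_lit 8, nat_lit 5, nat_lit 10, nat_lit 2, nat_lit 10], .rel (nat_lit 365) (nat_lit 1) [nat_lit 3, nat_lit 7, nat_lit 9, nat_lit 13, nat_lit 9, nat_lit 5, nat_lit 8, nat_lit 13, nat_lit 0], .rel (nat_lit 373) (nat_lit 1) [nat_lit 9, nat_lit 3, nat_lit 3, nat_lit 12, nat_lit 1, nat_lit 12], .rel (nat_lit 289) (nat_lit 7) [nat_lit 4, nat_lit 6, nat_lit 5, nat_lit 8, nat_lit 2, nat_lit 7, nat_lit 3], .rel (nat_lit 321) (nat_lit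 7) [nat_lit 3, nat_lit 10, nat_lit 0, nat_lit 5, nat_lit 9, nat_lit 5, nat_lit 0, nat_lit 10, nat_lit 2], .rel (nat_lit 385) (nat_lit 2) [nat_lit 4, nat_lit 0, nat_lit 12, nat_lit 2, nat_lit 9, nat_lit 3, nat_lit 12, nat_lit 0, nat_lit 4], .rel (nat_lit 366) (nat_lit 4) [nat_lit 4, nat_lit 7, nat_lit 1, nat_lit 14, nat_lit 13, nat_lit 11, nat_lit 0], .rel (nat_lit 416) (nat_lit 10) [nat_lit 3, nat_lit 12, nat_lit 11, nat_lit 8, nat_lit 12, nat_lit 9, nat_lit 11, nat_lit 12, nat_lit 2, nat_lit 8, nat_lit 11], .rel (nat_lit 329) (nat_lit 4) [nat_lit 11, nat_lit 8, nat_lit 10, nat_lit 11, nat_lit 3, nat_lit 5, nat_lit 9, nat_lit 5], .rel (nat_lit 363) (nat_lit 1) [nat_lit 3, nat_lit 10, nat_lit 11, nat_lit 13, nat_lit 0, nat_lit 11, nat_lit 1, nat_lit 13, nat_lit 7], .rel (nat_lit 414) (nat_lit 4) [nat_lit 11, nat_lit 12, nat_lit 4, nat_lit 10, nat_lit 6, nat_lit 5, nat_lit 9, nat_lit 12, nat_lit 11, nat_lit 8, nat_lit 6], .rel (nat_lit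 401) (nat_lit 0) [nat_lit 5, nat_lit 10, nat_lit 3, nat_lit 12, nat_lit 2, nat_lit 11, nat_lit 4, nat_lit 11, nat_lit 12], .rel (nat_lit 416) (nat_lit 4) [nat_lit 11, nat_lit 12, nat_lit 2, nat_lit 8, nat_lit 11, nat_lit 9, nat_lit 3, nat_lit 12, nat_lit 11, nat_lit 8, nat_lit 12], .rel (nat_lit 356) (nat_lit 6) [nat_lit 6, nat_lit 5, nat_lit 13, nat_lit 0, nat_lit 13, nat_lit 8, nat_lit 13, nat_lit 3], .rel (nat_lit 411) (nat_lit 8) [nat_lit 11, nat_lit 12, nat_lit 8, nat_lit 5, nat_lit 2, nat_lit 7, nat_lit 12, nat_lit 11, nat_lit 8, nat_lit 5], .rel (nat_lit 406) (nat_lit 4) [nat_lit 11, nat_lit 12, nat_lit 1, nat_lit 1, nat_lit 8, nat_lit 1, nat_lit 12, nat_lit 2, nat_lit 11, nat_lit 10], .rel (nat_lit 415) (nat_lit 9) [nat_lit 11, nat_lit 12, nat_lit 8, nat_lit 4, nat_lit 7, nat_lit 10, nat_lit 5, nat_lit 12, nat_lit 11, nat_lit 8, nat_lit 7], .rel (nat_lit 322) (nat_lit 8) [nat_lit 2, nat_lit 10, nat_lit 2, nat_lit 10, nat_lit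 8, nat_lit 10, nat_lit 3, nat_lit 10, nat_lit 4], .rel (nat_lit 410) (nat_lit 4) [nat_lit 11, nat_lit 12, nat_lit 6, nat_lit 3, nat_lit 4, nat_lit 9, nat_lit 12, nat_lit 11, nat_lit 8, nat_lit 4], .rel (nat_lit 290) (nat_lit 3) [nat_lit 6, nat_lit 2, nat_lit 0, nat_lit 3, nat_lit 1, nat_lit 8, nat_lit 4, nat_lit 3], .rel (nat_lit 292) (nat_lit 4) [nat_lit 3, nat_lit 9, nat_lit 1, nat_lit 5, nat_lit 1, nat_lit 8, nat_lit 2, nat_lit 8, nat_lit 4], .rel (nat_lit 321) (nat_lit 2) [nat_lit 5, nat_lit 0, nat_lit 10, nat_lit 2, nat_lit 9, nat_lit 3, nat_lit 10, nat_lit 0, nat_lit 5], .rel (nat_lit 358) (nat_lit 7) [nat_lit 3, nat_lit 1, nat_lit 13, nat_lit 0, nat_lit 4, nat_lit 1, nat_lit 13, nat_lit 9, nat_lit 3], .rel (nat_lit 293) (nat_lit 7) [nat_lit 3, nat_lit 9, nat_lit 0, nat_lit 4, nat_lit 0, nat_lit 8, nat_lit 2, nat_lit 8, nat_lit 5], .rel (nat_lit 295) (nat_lit 10) [nat_lit 0, nat_lit 2, nat_lit 4, nat_lit 7, nat_lit 8, nat_lit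 2, nat_lit 8, nat_lit 1, nat_lit 9, nat_lit 3], .rel (nat_lit 402) (nat_lit 5) [nat_lit 2, nat_lit 7, nat_lit 10, nat_lit 3, nat_lit 12, nat_lit 11, nat_lit 6, nat_lit 11, nat_lit 12], .rel (nat_lit 292) (nat_lit 6) [nat_lit 1, nat_lit 5, nat_lit 1, nat_lit 8, nat_lit 2, nat_lit 8, nat_lit 4, nat_lit 9, nat_lit 3], .rel (nat_lit 293) (nat_lit 9) [nat_lit 0, nat_lit 4, nat_lit 0, nat_lit 8, nat_lit 2, nat_lit 8, nat_lit 5, nat_lit 9, nat_lit 3], .rel (nat_lit 294) (nat_lit 4) [nat_lit 3, nat_lit 9, nat_lit 6, nat_lit 5, nat_lit 3, nat_lit 1, nat_lit 8, nat_lit 2, nat_lit 8, nat_lit 0], .rel (nat_lit 378) (nat_lit 6) [nat_lit 1, nat_lit 12, nat_lit 8, nat_lit 12, nat_lit 5, nat_lit 9, nat_lit 4], .rel (nat_lit 386) (nat_lit 5) [nat_lit 1, nat_lit 9, nat_lit 5, nat_lit 1, nat_lit 1, nat_lit 12, nat_lit 2, nat_lit 12, nat_lit 3, nat_lit 12], .sub (nat_lit 18) [] [], .rel (nat_lit 291) (nat_lit 8) [nat_lit 0, nat_lit 2, nat_lit 1, nat_lit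 3, nat_lit 7, nat_lit 8, nat_lit 2, nat_lit 5], .rel (nat_lit 294) (nat_lit 6) [nat_lit 6, nat_lit 5, nat_lit 3, nat_lit 1, nat_lit 8, nat_lit 2, nat_lit 8, nat_lit 0, nat_lit 9, nat_lit 3], .rel (nat_lit 295) (nat_lit 8) [nat_lit 3, nat_lit 9, nat_lit 0, nat_lit 2, nat_lit 4, nat_lit 7, nat_lit 8, nat_lit 2, nat_lit 8, nat_lit 1], .rel (nat_lit 386) (nat_lit 7) [nat_lit 5, nat_lit 1, nat_lit 1, nat_lit 12, nat_lit 2, nat_lit 12, nat_lit 3, nat_lit 12, nat_lit 9, nat_lit 1]],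
  [.rel (nat_lit 20) (nat_lit 0) [nat_lit 10], .defn, .rel (nat_lit 420) (nat_lit 3) [nat_lit 3, nat_lit 14, nat_lit 2, nat_lit 10, nat_lit 14], .rel (nat_lit 388) (nat_lit 2) [nat_lit 0, nat_lit 12, nat_lit 10, nat_lit 0, nat_lit 12], .rel (nat_lit 390) (nat_lit 2) [nat_lit 12, nat_lit 6, nat_lit 10, nat_lit 6, nat_lit 12], .rel (nat_lit 297) (nat_lit 0) [nat_lit 7, nat_lit 10, nat_lit 1, nat_lit 7, nat_lit 1], .rel (nat_lit 296) (nat_lit 3) [nat_lit 6, nat_lit 10, nat_lit 0, nat_lit 6, nat_lit 0], .rel (nat_lit 420) (nat_lit 1) [nat_lit 14, nat_lit 10, nat_lit 3, nat_lit 14, nat_lit 2], .rel (nat_lit 297) (nat_lit 2) [nat_lit 1, nat_lit 7, nat_lit 1, nat_lit 10, nat_lit 7], .rel (nat_lit 296) (nat_lit 5) [nat_lit 0, nat_lit 6, nat_lit 0, nat_lit 10, nat_lit 6], .rel (nat_lit 389) (nat_lit 0) [nat_lit 12, nat_lit 1, nat_lit 10, nat_lit 12, nat_lit 1], .rel (nat_lit 312) (nat_lit 2) [nat_lit 9, nat_lit 4, nat_lit 2, nat_lit 10, nat_lit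 0, nat_lit 8], .rel (nat_lit 352) (nat_lit 1) [nat_lit 13, nat_lit 7, nat_lit 11, nat_lit 7, nat_lit 8, nat_lit 11, nat_lit 1, nat_lit 13], .rel (nat_lit 348) (nat_lit 2) [nat_lit 4, nat_lit 9, nat_lit 11, nat_lit 3, nat_lit 0, nat_lit 11], .rel (nat_lit 328) (nat_lit 1) [nat_lit 9, nat_lit 11, nat_lit 8, nat_lit 4, nat_lit 8, nat_lit 4, nat_lit 2, nat_lit 11], .rel (nat_lit 313) (nat_lit 4) [nat_lit 9, nat_lit 1, nat_lit 10, nat_lit 3, nat_lit 5, nat_lit 8], .rel (nat_lit 329) (nat_lit 7) [nat_lit 11, nat_lit 3, nat_lit 5, nat_lit 9, nat_lit 5, nat_lit 9, nat_lit 11, nat_lit 8], .rel (nat_lit 362) (nat_lit 6) [nat_lit 2, nat_lit 8, nat_lit 6, nat_lit 13, nat_lit 0, nat_lit 11, nat_lit 1, nat_lit 13, nat_lit 11], .rel (nat_lit 390) (nat_lit 5) [nat_lit 6, nat_lit 12, nat_lit 10, nat_lit 12, nat_lit 6], .rel (nat_lit 391) (nat_lit 0) [nat_lit 7, nat_lit 12, nat_lit 10, nat_lit 12, nat_lit 7], .rel (nat_lit 349) (nat_lit 4) [nat_lit 11,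 nat_lit 1, nat_lit 2, nat_lit 11, nat_lit 8, nat_lit 5], .rel (nat_lit 298) (nat_lit 2) [nat_lit 0, nat_lit 10, nat_lit 5, nat_lit 7, nat_lit 0, nat_lit 2], .rel (nat_lit 353) (nat_lit 7) [nat_lit 13, nat_lit 0, nat_lit 11, nat_lit 9, nat_lit 6, nat_lit 11, nat_lit 6, nat_lit 13], .rel (nat_lit 363) (nat_lit 3) [nat_lit 11, nat_lit 13, nat_lit 0, nat_lit 11, nat_lit 1, nat_lit 13, nat_lit 7, nat_lit 9, nat_lit 3], .rel (nat_lit 429) (nat_lit 0) [nat_lit 6, nat_lit 3, nat_lit 5, nat_lit 10, nat_lit 14, nat_lit 0, nat_lit 3, nat_lit 1, nat_lit 14], .rel (nat_lit 428) (nat_lit 5) [nat_lit 4, nat_lit 2, nat_lit 7, nat_lit 10, nat_lit 14, nat_lit 0, nat_lit 2, nat_lit 1, nat_lit 14], .rel (nat_lit 299) (nat_lit 2) [nat_lit 1, nat_lit 10, nat_lit 3, nat_lit 1, nat_lit 6, nat_lit 4], .rel (nat_lit 405) (nat_lit 8) [nat_lit 11, nat_lit 12, nat_lit 10, nat_lit 11, nat_lit 6, nat_lit 10, nat_lit 6, nat_lit 12, nat_lit 11, nat_lit 12], .rel (nat_lit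 299) (nat_lit 4) [nat_lit 3, nat_lit 1, nat_lit 6, nat_lit 4, nat_lit 10, nat_lit 1], .rel (nat_lit 430) (nat_lit 2) [nat_lit 1, nat_lit 14, nat_lit 2, nat_lit 1, nat_lit 10, nat_lit 0, nat_lit 3, nat_lit 14, nat_lit 0], .rel (nat_lit 438) (nat_lit 2) [nat_lit 3, nat_lit 12, nat_lit 1, nat_lit 10, nat_lit 3, nat_lit 10, nat_lit 2, nat_lit 0, nat_lit 12, nat_lit 2], .rel (nat_lit 400) (nat_lit 7) [nat_lit 4, nat_lit 8, nat_lit 12, nat_lit 11, nat_lit 5, nat_lit 11, nat_lit 3, nat_lit 12, nat_lit 2], .rel (nat_lit 314) (nat_lit 3) [nat_lit 8, nat_lit 2, nat_lit 5, nat_lit 9, nat_lit 10, nat_lit 4, nat_lit 3], .rel (nat_lit 428) (nat_lit 9) [nat_lit 14, nat_lit 0, nat_lit 2, nat_lit 1, nat_lit 14, nat_lit 10, nat_lit 4, nat_lit 2, nat_lit 7], .rel (nat_lit 401) (nat_lit 2) [nat_lit 3, nat_lit 12, nat_lit 2, nat_lit 11, nat_lit 4, nat_lit 11, nat_lit 12, nat_lit 9, nat_lit 5], .rel (nat_lit 314) (nat_lit 0) [nat_lit 4, nat_lit 3, nat_lit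 10, nat_lit 8, nat_lit 2, nat_lit 5, nat_lit 9], .rel (nat_lit 424) (nat_lit 4) [nat_lit 2, nat_lit 10, nat_lit 3, nat_lit 14, nat_lit 6, nat_lit 14, nat_lit 7], .rel (nat_lit 298) (nat_lit 4) [nat_lit 5, nat_lit 7, nat_lit 0, nat_lit 2, nat_lit 10, nat_lit 0], .rel (nat_lit 360) (nat_lit 2) [nat_lit 1, nat_lit 13, nat_lit 10, nat_lit 2, nat_lit 11, nat_lit 9, nat_lit 2, nat_lit 13, nat_lit 0], .rel (nat_lit 315) (nat_lit 7) [nat_lit 8, nat_lit 4, nat_lit 3, nat_lit 9, nat_lit 10, nat_lit 2, nat_lit 5], .rel (nat_lit 430) (nat_lit 7) [nat_lit 0, nat_lit 3, nat_lit 14, nat_lit 0, nat_lit 10, nat_lit 1, nat_lit 14, nat_lit 2, nat_lit 1], .rel (nat_lit 315) (nat_lit 4) [nat_lit 2, nat_lit 5, nat_lit 10, nat_lit 8, nat_lit 4, nat_lit 3, nat_lit 9], .rel (nat_lit 404) (nat_lit 2) [nat_lit 12, nat_lit 11, nat_lit 12, nat_lit 7, nat_lit 10, nat_lit 7, nat_lit 11, nat_lit 10, nat_lit 12, nat_lit 11], .rel (nat_lit 391) (nat_lit 3) [nat_lit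 12, nat_lit 7, nat_lit 10, nat_lit 7, nat_lit 12], .rel (nat_lit 300) (nat_lit 3) [nat_lit 4, nat_lit 2, nat_lit 5, nat_lit 3, nat_lit 10, nat_lit 3, nat_lit 3], .rel (nat_lit 429) (nat_lit 4) [nat_lit 14, nat_lit 0, nat_lit 3, nat_lit 1, nat_lit 14, nat_lit 10, nat_lit 6, nat_lit 3, nat_lit 5], .rel (nat_lit 312) (nat_lit 6) [nat_lit 0, nat_lit 8, nat_lit 10, nat_lit 9, nat_lit 4, nat_lit 2], .rel (nat_lit 425) (nat_lit 3) [nat_lit 6, nat_lit 14, nat_lit 7, nat_lit 14, nat_lit 2, nat_lit 10, nat_lit 3], .rel (nat_lit 301) (nat_lit 7) [nat_lit 2, nat_lit 4, nat_lit 3, nat_lit 5, nat_lit 10, nat_lit 2, nat_lit 2], .rel (nat_lit 322) (nat_lit 6) [nat_lit 4, nat_lit 9, nat_lit 2, nat_lit 10, nat_lit 2, nat_lit 10, nat_lit 8, nat_lit 10, nat_lit 3], .rel (nat_lit 301) (nat_lit 4) [nat_lit 2, nat_lit 2, nat_lit 10, nat_lit 2, nat_lit 4, nat_lit 3, nat_lit 5], .rel (nat_lit 308) (nat_lit 6) [nat_lit 4, nat_lit 2, nat_lit 5, nat_lit 10, nat_lit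 2, nat_lit 10, nat_lit 2, nat_lit 10, nat_lit 3], .rel (nat_lit 308) (nat_lit 2) [nat_lit 2, nat_lit 10, nat_lit 3, nat_lit 10, nat_lit 4, nat_lit 2, nat_lit 5, nat_lit 10, nat_lit 2], .rel (nat_lit 322) (nat_lit 0) [nat_lit 2, nat_lit 10, nat_lit 8, nat_lit 10, nat_lit 3, nat_lit 10, nat_lit 4, nat_lit 9, nat_lit 2], .rel (nat_lit 300) (nat_lit 0) [nat_lit 3, nat_lit 3, nat_lit 10, nat_lit 4, nat_lit 2, nat_lit 5, nat_lit 3], .rel (nat_lit 305) (nat_lit 8) [nat_lit 0, nat_lit 4, nat_lit 0, nat_lit 4, nat_lit 7, nat_lit 10, nat_lit 2, nat_lit 4], .rel (nat_lit 398) (nat_lit 5) [nat_lit 5, nat_lit 3, nat_lit 10, nat_lit 3, nat_lit 12, nat_lit 2, nat_lit 12, nat_lit 3, nat_lit 12], .rel (nat_lit 322) (nat_lit 2) [nat_lit 8, nat_lit 10, nat_lit 3, nat_lit 10, nat_lit 4, nat_lit 9, nat_lit 2, nat_lit 10, nat_lit 2], .rel (nat_lit 325) (nat_lit 1) [nat_lit 3, nat_lit 8, nat_lit 3, nat_lit 11, nat_lit 1, nat_lit 11, nat_lit 1], .rel (nat_lit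 404) (nat_lit 10) [nat_lit 12, nat_lit 11, nat_lit 10, nat_lit 12, nat_lit 11, nat_lit 12, nat_lit 7, nat_lit 10, nat_lit 7, nat_lit 11], .rel (nat_lit 302) (nat_lit 0) [nat_lit 4, nat_lit 3, nat_lit 10, nat_lit 6, nat_lit 2, nat_lit 0, nat_lit 3, nat_lit 1], .rel (nat_lit 309) (nat_lit 9) [nat_lit 4, nat_lit 3, nat_lit 5, nat_lit 10, nat_lit 2, nat_lit 10, nat_lit 3, nat_lit 10, nat_lit 3], .rel (nat_lit 324) (nat_lit 6) [nat_lit 0, nat_lit 11, nat_lit 0, nat_lit 11, nat_lit 2, nat_lit 9, nat_lit 2], .rel (nat_lit 330) (nat_lit 3) [nat_lit 2, nat_lit 8, nat_lit 10, nat_lit 3, nat_lit 9, nat_lit 1, nat_lit 11, nat_lit 6, nat_lit 11], .rel (nat_lit 323) (nat_lit 3) [nat_lit 2, nat_lit 10, nat_lit 9, nat_lit 10, nat_lit 3, nat_lit 10, nat_lit 3, nat_lit 8, nat_lit 5], .rel (nat_lit 323) (nat_lit 7) [nat_lit 3, nat_lit 10, nat_lit 3, nat_lit 8, nat_lit 5, nat_lit 10, nat_lit 2, nat_lit 10, nat_lit 9], .rel (nat_lit 438) (nat_lit 8) [nat_lit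 2, nat_lit 0, nat_lit 12, nat_lit 2, nat_lit 10, nat_lit 3, nat_lit 12, nat_lit 1, nat_lit 10, nat_lit 3], .rel (nat_lit 303) (nat_lit 8) [nat_lit 0, nat_lit 2, nat_lit 1, nat_lit 3, nat_lit 7, nat_lit 10, nat_lit 2, nat_lit 5], .rel (nat_lit 317) (nat_lit 7) [nat_lit 2, nat_lit 4, nat_lit 3, nat_lit 5, nat_lit 10, nat_lit 3, nat_lit 3], .rel (nat_lit 304) (nat_lit 0) [nat_lit 5, nat_lit 3, nat_lit 10, nat_lit 6, nat_lit 5, nat_lit 1, nat_lit 5, nat_lit 1], .rel (nat_lit 320) (nat_lit 4) [nat_lit 1, nat_lit 4, nat_lit 8, nat_lit 4, nat_lit 1, nat_lit 10, nat_lit 2, nat_lit 8, nat_lit 3], .rel (nat_lit 321) (nat_lit 5) [nat_lit 2, nat_lit 9, nat_lit 3, nat_lit 10, nat_lit 0, nat_lit 5, nat_lit 9, nat_lit 5, nat_lit 0], .rel (nat_lit 513) (nat_lit 2) [nat_lit 14, nat_lit 5, nat_lit 12, nat_lit 14, nat_lit 10, nat_lit 14, nat_lit 5, nat_lit 12, nat_lit 14, nat_lit 10, nat_lit 14, nat_lit 5, nat_lit 12, nat_lit 14, nat_lit 10, nat_lit 14,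 nat_lit 5, nat_lit 12, nat_lit 14, nat_lit 10, nat_lit 14, nat_lit 5, nat_lit 12, nat_lit 14, nat_lit 10, nat_lit 14, nat_lit 5, nat_lit 12, nat_lit 14], .rel (nat_lit 322) (nat_lit 4) [nat_lit 3, nat_lit 10, nat_lit 4, nat_lit 9, nat_lit 2, nat_lit 10, nat_lit 2, nat_lit 10, nat_lit 8], .rel (nat_lit 394) (nat_lit 8) [nat_lit 12, nat_lit 11, nat_lit 0, nat_lit 11, nat_lit 12, nat_lit 3, nat_lit 8, nat_lit 3], .rel (nat_lit 308) (nat_lit 4) [nat_lit 3, nat_lit 10, nat_lit 4, nat_lit 2, nat_lit 5, nat_lit 10, nat_lit 2, nat_lit 10, nat_lit 2], .rel (nat_lit 313) (nat_lit 0) [nat_lit 3, nat_lit 5, nat_lit 8, nat_lit 10, nat_lit 9, nat_lit 1], .rel (nat_lit 331) (nat_lit 3) [nat_lit 9, nat_lit 3, nat_lit 10, nat_lit 11, nat_lit 7, nat_lit 11, nat_lit 0, nat_lit 8, nat_lit 2], .rel (nat_lit 360) (nat_lit 5) [nat_lit 2, nat_lit 11, nat_lit 9, nat_lit 2, nat_lit 13, nat_lit 0, nat_lit 10, nat_lit 1, nat_lit 13], .rel (nat_lit 323) (nat_lit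 9) [nat_lit 3, nat_lit 8, nat_lit 5, nat_lit 10, nat_lit 2, nat_lit 10, nat_lit 9, nat_lit 10, nat_lit 3], .rel (nat_lit 331) (nat_lit 6) [nat_lit 11, nat_lit 7, nat_lit 11, nat_lit 0, nat_lit 8, nat_lit 2, nat_lit 10, nat_lit 9, nat_lit 3], .rel (nat_lit 333) (nat_lit 1) [nat_lit 5, nat_lit 2, nat_lit 4, nat_lit 11, nat_lit 8, nat_lit 11, nat_lit 9, nat_lit 11, nat_lit 2], .rel (nat_lit 395) (nat_lit 0) [nat_lit 2, nat_lit 9, nat_lit 2, nat_lit 12, nat_lit 11, nat_lit 1, nat_lit 11, nat_lit 12], .rel (nat_lit 512) (nat_lit 2) [nat_lit 14, nat_lit 12, nat_lit 4, nat_lit 14, nat_lit 10, nat_lit 14, nat_lit 12, nat_lit 4, nat_lit 14, nat_lit 10, nat_lit 14, nat_lit 12, nat_lit 4, nat_lit 14, nat_lit 10, nat_lit 14, nat_lit 12, nat_lit 4, nat_lit 14, nat_lit 10, nat_lit 14, nat_lit 12, nat_lit 4, nat_lit 14, nat_lit 10, nat_lit 14, nat_lit 12, nat_lit 4, nat_lit 14], .rel (nat_lit 415) (nat_lit 3) [nat_lit 5, nat_lit 12, nat_lit 11, nat_lit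 8, nat_lit 7, nat_lit 9, nat_lit 11, nat_lit 12, nat_lit 8, nat_lit 4, nat_lit 7], .rel (nat_lit 434) (nat_lit 9) [nat_lit 1, nat_lit 14, nat_lit 0, nat_lit 6, nat_lit 1, nat_lit 14, nat_lit 3, nat_lit 10, nat_lit 1, nat_lit 5], .rel (nat_lit 306) (nat_lit 4) [nat_lit 5, nat_lit 6, nat_lit 5, nat_lit 1, nat_lit 1, nat_lit 10, nat_lit 2, nat_lit 6, nat_lit 3], .rel (nat_lit 361) (nat_lit 7) [nat_lit 1, nat_lit 13, nat_lit 3, nat_lit 8, nat_lit 11, nat_lit 3, nat_lit 10, nat_lit 13, nat_lit 0], .rel (nat_lit 414) (nat_lit 8) [nat_lit 6, nat_lit 5, nat_lit 9, nat_lit 12, nat_lit 11, nat_lit 8, nat_lit 6, nat_lit 9, nat_lit 11, nat_lit 12, nat_lit 4], .rel (nat_lit 316) (nat_lit 0) [nat_lit 2, nat_lit 2, nat_lit 10, nat_lit 4, nat_lit 2, nat_lit 5, nat_lit 3], .rel (nat_lit 323) (nat_lit 5) [nat_lit 9, nat_lit 10, nat_lit 3, nat_lit 10, nat_lit 3, nat_lit 8, nat_lit 5, nat_lit 10, nat_lit 2], .rel (nat_lit 330) (nat_lit 6) [nat_lit 3, nat_lit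 9, nat_lit 1, nat_lit 11, nat_lit 6, nat_lit 11, nat_lit 10, nat_lit 2, nat_lit 8], .rel (nat_lit 406) (nat_lit 3) [nat_lit 9, nat_lit 11, nat_lit 12, nat_lit 1, nat_lit 1, nat_lit 8, nat_lit 1, nat_lit 12, nat_lit 2, nat_lit 11], .rel (nat_lit 307) (nat_lit 5) [nat_lit 2, nat_lit 7, nat_lit 3, nat_lit 10, nat_lit 0, nat_lit 0, nat_lit 4, nat_lit 7, nat_lit 4], .rel (nat_lit 309) (nat_lit 3) [nat_lit 2, nat_lit 10, nat_lit 3, nat_lit 10, nat_lit 3, nat_lit 10, nat_lit 4, nat_lit 3, nat_lit 5], .rel (nat_lit 317) (nat_lit 4) [nat_lit 3, nat_lit 3, nat_lit 10, nat_lit 2, nat_lit 4, nat_lit 3, nat_lit 5], .rel (nat_lit 399) (nat_lit 4) [nat_lit 12, nat_lit 2, nat_lit 12, nat_lit 3, nat_lit 12, nat_lit 2, nat_lit 10, nat_lit 2, nat_lit 4], .rel (nat_lit 403) (nat_lit 1) [nat_lit 6, nat_lit 3, nat_lit 8, nat_lit 12, nat_lit 11, nat_lit 7, nat_lit 11, nat_lit 12, nat_lit 2], .rel (nat_lit 439) (nat_lit 8) [nat_lit 3, nat_lit 12, nat_lit 1,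 nat_lit 3, nat_lit 10, nat_lit 2, nat_lit 10, nat_lit 0, nat_lit 12, nat_lit 2], .rel (nat_lit 318) (nat_lit 4) [nat_lit 4, nat_lit 1, nat_lit 4, nat_lit 1, nat_lit 1, nat_lit 10, nat_lit 2, nat_lit 0, nat_lit 3], .rel (nat_lit 405) (nat_lit 0) [nat_lit 11, nat_lit 6, nat_lit 10, nat_lit 6, nat_lit 12, nat_lit 11, nat_lit 12, nat_lit 10, nat_lit 11, nat_lit 12], .rel (nat_lit 439) (nat_lit 2) [nat_lit 2, nat_lit 10, nat_lit 0, nat_lit 12, nat_lit 2, nat_lit 10, nat_lit 3, nat_lit 12, nat_lit 1, nat_lit 3], .rel (nat_lit 309) (nat_lit 7) [nat_lit 3, nat_lit 10, nat_lit 4, nat_lit 3, nat_lit 5, nat_lit 10, nat_lit 2, nat_lit 10, nat_lit 3], .rel (nat_lit 332) (nat_lit 8) [nat_lit 3, nat_lit 11, nat_lit 8, nat_lit 11, nat_lit 9, nat_lit 11, nat_lit 5, nat_lit 3, nat_lit 4], .rel (nat_lit 424) (nat_lit 6) [nat_lit 3, nat_lit 14, nat_lit 6, nat_lit 14, nat_lit 7, nat_lit 10, nat_lit 2], .rel (nat_lit 303) (nat_lit 5) [nat_lit 2, nat_lit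 5, nat_lit 10, nat_lit 0, nat_lit 2, nat_lit 1, nat_lit 3, nat_lit 7], .rel (nat_lit 304) (nat_lit 3) [nat_lit 6, nat_lit 5, nat_lit 1, nat_lit 5, nat_lit 1, nat_lit 10, nat_lit 5, nat_lit 3], .rel (nat_lit 319) (nat_lit 5) [nat_lit 2, nat_lit 1, nat_lit 3, nat_lit 10, nat_lit 0, nat_lit 0, nat_lit 5, nat_lit 0, nat_lit 5], .rel (nat_lit 320) (nat_lit 0) [nat_lit 2, nat_lit 8, nat_lit 3, nat_lit 10, nat_lit 1, nat_lit 4, nat_lit 8, nat_lit 4, nat_lit 1], .rel (nat_lit 402) (nat_lit 8) [nat_lit 3, nat_lit 12, nat_lit 11, nat_lit 6, nat_lit 11, nat_lit 12, nat_lit 9, nat_lit 2, nat_lit 7], .rel (nat_lit 514) (nat_lit 3) [nat_lit 14, nat_lit 4, nat_lit 12, nat_lit 14, nat_lit 10, nat_lit 14, nat_lit 4, nat_lit 12, nat_lit 14, nat_lit 10, nat_lit 14, nat_lit 4, nat_lit 12, nat_lit 14, nat_lit 10, nat_lit 14, nat_lit 4, nat_lit 12, nat_lit 14, nat_lit 10, nat_lit 14, nat_lit 4, nat_lit 12, nat_lit 14, nat_lit 10, nat_lit 14, nat_lit 4, nat_lit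 12, nat_lit 14], .rel (nat_lit 306) (nat_lit 0) [nat_lit 2, nat_lit 6, nat_lit 3, nat_lit 10, nat_lit 5, nat_lit 6, nat_lit 5, nat_lit 1, nat_lit 1], .rel (nat_lit 307) (nat_lit 9) [nat_lit 0, nat_lit 0, nat_lit 4, nat_lit 7, nat_lit 4, nat_lit 10, nat_lit 2, nat_lit 7, nat_lit 3], .rel (nat_lit 310) (nat_lit 6) [nat_lit 7, nat_lit 5, nat_lit 3, nat_lit 1, nat_lit 10, nat_lit 2, nat_lit 10, nat_lit 0, nat_lit 10, nat_lit 3], .rel (nat_lit 316) (nat_lit 3) [nat_lit 4, nat_lit 2, nat_lit 5, nat_lit 3, nat_lit 10, nat_lit 2, nat_lit 2], .rel (nat_lit 318) (nat_lit 0) [nat_lit 2, nat_lit 0, nat_lit 3, nat_lit 10, nat_lit 4, nat_lit 1, nat_lit 4, nat_lit 1, nat_lit 1], .rel (nat_lit 321) (nat_lit 9) [nat_lit 0, nat_lit 5, nat_lit 9, nat_lit 5, nat_lit 0, nat_lit 10, nat_lit 2, nat_lit 9, nat_lit 3], .rel (nat_lit 413) (nat_lit 2) [nat_lit 5, nat_lit 7, nat_lit 12, nat_lit 11, nat_lit 12, nat_lit 8, nat_lit 11, nat_lit 3, nat_lit 12, nat_lit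 11, nat_lit 6], .rel (nat_lit 435) (nat_lit 1) [nat_lit 4, nat_lit 0, nat_lit 10, nat_lit 2, nat_lit 14, nat_lit 0, nat_lit 7, nat_lit 1, nat_lit 14, nat_lit 0], .rel (nat_lit 305) (nat_lit 5) [nat_lit 2, nat_lit 4, nat_lit 10, nat_lit 0, nat_lit 4, nat_lit 0, nat_lit 4, nat_lit 7], .rel (nat_lit 319) (nat_lit 9) [nat_lit 0, nat_lit 0, nat_lit 5, nat_lit 0, nat_lit 5, nat_lit 10, nat_lit 2, nat_lit 1, nat_lit 3], .rel (nat_lit 361) (nat_lit 4) [nat_lit 13, nat_lit 0, nat_lit 10, nat_lit 1, nat_lit 13, nat_lit 3, nat_lit 8, nat_lit 11, nat_lit 3], .rel (nat_lit 407) (nat_lit 7) [nat_lit 11, nat_lit 3, nat_lit 12, nat_lit 0, nat_lit 9, nat_lit 0, nat_lit 0, nat_lit 12, nat_lit 11, nat_lit 8], .rel (nat_lit 515) (nat_lit 1) [nat_lit 14, nat_lit 12, nat_lit 5, nat_lit 14, nat_lit 10, nat_lit 14, nat_lit 12, nat_lit 5, nat_lit 14, nat_lit 10, nat_lit 14, nat_lit 12, nat_lit 5, nat_lit 14, nat_lit 10, nat_lit 14, nat_lit 12, nat_lit 5, nat_lit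 14, nat_lit 10, nat_lit 14, nat_lit 12, nat_lit 5, nat_lit 14, nat_lit 10, nat_lit 14, nat_lit 12, nat_lit 5, nat_lit 14], .rel (nat_lit 309) (nat_lit 5) [nat_lit 3, nat_lit 10, nat_lit 3, nat_lit 10, nat_lit 4, nat_lit 3, nat_lit 5, nat_lit 10, nat_lit 2], .rel (nat_lit 310) (nat_lit 0) [nat_lit 2, nat_lit 10, nat_lit 0, nat_lit 10, nat_lit 3, nat_lit 10, nat_lit 7, nat_lit 5, nat_lit 3, nat_lit 1], .rel (nat_lit 398) (nat_lit 8) [nat_lit 3, nat_lit 12, nat_lit 2, nat_lit 12, nat_lit 3, nat_lit 12, nat_lit 10, nat_lit 5, nat_lit 3], .rel (nat_lit 412) (nat_lit 9) [nat_lit 7, nat_lit 11, nat_lit 12, nat_lit 2, nat_lit 11, nat_lit 9, nat_lit 12, nat_lit 11, nat_lit 12, nat_lit 6, nat_lit 4], .rel (nat_lit 425) (nat_lit 1) [nat_lit 3, nat_lit 10, nat_lit 6, nat_lit 14, nat_lit 7, nat_lit 14, nat_lit 2], .rel (nat_lit 435) (nat_lit 4) [nat_lit 2, nat_lit 14, nat_lit 0, nat_lit 7, nat_lit 1, nat_lit 14, nat_lit 0, nat_lit 10, nat_lit 4,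 nat_lit 0], .rel (nat_lit 302) (nat_lit 3) [nat_lit 6, nat_lit 2, nat_lit 0, nat_lit 3, nat_lit 1, nat_lit 10, nat_lit 4, nat_lit 3], .rel (nat_lit 308) (nat_lit 0) [nat_lit 2, nat_lit 10, nat_lit 2, nat_lit 10, nat_lit 3, nat_lit 10, nat_lit 4, nat_lit 2, nat_lit 5], .rel (nat_lit 404) (nat_lit 7) [nat_lit 7, nat_lit 11, nat_lit 10, nat_lit 12, nat_lit 11, nat_lit 10, nat_lit 12, nat_lit 11, nat_lit 12, nat_lit 7], .sub (nat_lit 20) [] [], .rel (nat_lit 310) (nat_lit 2) [nat_lit 0, nat_lit 10, nat_lit 3, nat_lit 10, nat_lit 7, nat_lit 5, nat_lit 3, nat_lit 1, nat_lit 10, nat_lit 2], .rel (nat_lit 310) (nat_lit 4) [nat_lit 3, nat_lit 10, nat_lit 7, nat_lit 5, nat_lit 3, nat_lit 1, nat_lit 10, nat_lit 2, nat_lit 10, nat_lit 0], .rel (nat_lit 311) (nat_lit 4) [nat_lit 2, nat_lit 10, nat_lit 1, nat_lit 10, nat_lit 3, nat_lit 10, nat_lit 0, nat_lit 2, nat_lit 4, nat_lit 6], .rel (nat_lit 311) (nat_lit 10) [nat_lit 0, nat_lit 2, nat_lit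 4, nat_lit 6, nat_lit 10, nat_lit 2, nat_lit 10, nat_lit 1, nat_lit 10, nat_lit 3], .rel (nat_lit 399) (nat_lit 1) [nat_lit 2, nat_lit 4, nat_lit 10, nat_lit 12, nat_lit 2, nat_lit 12, nat_lit 3, nat_lit 12, nat_lit 2], .rel (nat_lit 405) (nat_lit 3) [nat_lit 6, nat_lit 12, nat_lit 11, nat_lit 12, nat_lit 10, nat_lit 11, nat_lit 12, nat_lit 10, nat_lit 11, nat_lit 6], .rel (nat_lit 434) (nat_lit 6) [nat_lit 1, nat_lit 5, nat_lit 10, nat_lit 1, nat_lit 14, nat_lit 0, nat_lit 6, nat_lit 1, nat_lit 14, nat_lit 3], .rel (nat_lit 499) (nat_lit 0) [nat_lit 14, nat_lit 12, nat_lit 5, nat_lit 10, nat_lit 14, nat_lit 12, nat_lit 5, nat_lit 10, nat_lit 14, nat_lit 12, nat_lit 5, nat_lit 10, nat_lit 14, nat_lit 12, nat_lit 5, nat_lit 10, nat_lit 14, nat_lit 12, nat_lit 5, nat_lit 10, nat_lit 14, nat_lit 12, nat_lit 5, nat_lit 10, nat_lit 14, nat_lit 12, nat_lit 5], .rel (nat_lit 510) (nat_lit 3) [nat_lit 6, nat_lit 12, nat_lit 14, nat_lit 10,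 nat_lit 6, nat_lit 12, nat_lit 14, nat_lit 10, nat_lit 6, nat_lit 12, nat_lit 14, nat_lit 10, nat_lit 6, nat_lit 12, nat_lit 14, nat_lit 10, nat_lit 6, nat_lit 12, nat_lit 14, nat_lit 10, nat_lit 6, nat_lit 12, nat_lit 14, nat_lit 10, nat_lit 6, nat_lit 12, nat_lit 14]],
  [.rel (nat_lit 22) (nat_lit 0) [nat_lit 11], .defn, .rel (nat_lit 344) (nat_lit 2) [nat_lit 4, nat_lit 7, nat_lit 11, nat_lit 4, nat_lit 7], .rel (nat_lit 345) (nat_lit 0) [nat_lit 6, nat_lit 5, nat_lit 11, nat_lit 6, nat_lit 5], .rel (nat_lit 361) (nat_lit 2) [nat_lit 3, nat_lit 10, nat_lit 13, nat_lit 0, nat_lit 10, nat_lit 1, nat_lit 13, nat_lit 3, nat_lit 8], .rel (nat_lit 332) (nat_lit 2) [nat_lit 9, nat_lit 11, nat_lit 5, nat_lit 3, nat_lit 4, nat_lit 10, nat_lit 3, nat_lit 11, nat_lit 8], .rel (nat_lit 366) (nat_lit 2) [nat_lit 0, nat_lit 9, nat_lit 4, nat_lit 7, nat_lit 1, nat_lit 14, nat_lit 13], .rel (nat_lit 362) (nat_lit 2) [nat_lit 1, nat_lit 13, nat_lit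 11, nat_lit 10, nat_lit 2, nat_lit 8, nat_lit 6, nat_lit 13, nat_lit 0], .rel (nat_lit 360) (nat_lit 7) [nat_lit 9, nat_lit 2, nat_lit 13, nat_lit 0, nat_lit 10, nat_lit 1, nat_lit 13, nat_lit 10, nat_lit 2], .rel (nat_lit 367) (nat_lit 5) [nat_lit 13, nat_lit 14, nat_lit 0, nat_lit 6, nat_lit 5, nat_lit 8, nat_lit 1], .rel (nat_lit 349) (nat_lit 5) [nat_lit 1, nat_lit 2, nat_lit 11, nat_lit 8, nat_lit 5, nat_lit 10], .rel (nat_lit 348) (nat_lit 5) [nat_lit 3, nat_lit 0, nat_lit 11, nat_lit 10, nat_lit 4, nat_lit 9], .rel (nat_lit 327) (nat_lit 5) [nat_lit 3, nat_lit 11, nat_lit 0, nat_lit 2, nat_lit 1, nat_lit 3, nat_lit 5], .rel (nat_lit 349) (nat_lit 1) [nat_lit 8, nat_lit 5, nat_lit 10, nat_lit 11, nat_lit 1, nat_lit 2], .rel (nat_lit 326) (nat_lit 2) [nat_lit 4, nat_lit 2, nat_lit 0, nat_lit 3, nat_lit 1, nat_lit 11, nat_lit 2], .rel (nat_lit 348) (nat_lit 1) [nat_lit 10, nat_lit 4, nat_lit 9, nat_lit 11, nat_lit 3, nat_lit 0],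 .rel (nat_lit 404) (nat_lit 1) [nat_lit 10, nat_lit 12, nat_lit 11, nat_lit 12, nat_lit 7, nat_lit 10, nat_lit 7, nat_lit 11, nat_lit 10, nat_lit 12], .rel (nat_lit 327) (nat_lit 7) [nat_lit 0, nat_lit 2, nat_lit 1, nat_lit 3, nat_lit 5, nat_lit 11, nat_lit 3], .rel (nat_lit 363) (nat_lit 7) [nat_lit 1, nat_lit 13, nat_lit 7, nat_lit 9, nat_lit 3, nat_lit 10, nat_lit 11, nat_lit 13, nat_lit 0], .rel (nat_lit 352) (nat_lit 4) [nat_lit 7, nat_lit 8, nat_lit 11, nat_lit 1, nat_lit 13, nat_lit 10, nat_lit 13, nat_lit 7], .rel (nat_lit 328) (nat_lit 3) [nat_lit 8, nat_lit 4, nat_lit 8, nat_lit 4, nat_lit 2, nat_lit 11, nat_lit 10, nat_lit 9], .rel (nat_lit 363) (nat_lit 4) [nat_lit 13, nat_lit 0, nat_lit 11, nat_lit 1, nat_lit 13, nat_lit 7, nat_lit 9, nat_lit 3, nat_lit 10], .rel (nat_lit 326) (nat_lit 0) [nat_lit 2, nat_lit 11, nat_lit 4, nat_lit 2, nat_lit 0, nat_lit 3, nat_lit 1], .rel (nat_lit 325) (nat_lit 7) [nat_lit 1, nat_lit 10,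 nat_lit 3, nat_lit 8, nat_lit 3, nat_lit 11, nat_lit 1], .rel (nat_lit 353) (nat_lit 4) [nat_lit 6, nat_lit 13, nat_lit 10, nat_lit 13, nat_lit 0, nat_lit 11, nat_lit 9, nat_lit 6], .rel (nat_lit 352) (nat_lit 7) [nat_lit 1, nat_lit 13, nat_lit 10, nat_lit 13, nat_lit 7, nat_lit 11, nat_lit 7, nat_lit 8], .rel (nat_lit 400) (nat_lit 1) [nat_lit 5, nat_lit 11, nat_lit 3, nat_lit 12, nat_lit 2, nat_lit 10, nat_lit 4, nat_lit 8, nat_lit 12], .rel (nat_lit 394) (nat_lit 1) [nat_lit 0, nat_lit 11, nat_lit 12, nat_lit 3, nat_lit 8, nat_lit 3, nat_lit 10, nat_lit 12], .rel (nat_lit 362) (nat_lit 5) [nat_lit 10, nat_lit 2, nat_lit 8, nat_lit 6, nat_lit 13, nat_lit 0, nat_lit 11, nat_lit 1, nat_lit 13], .rel (nat_lit 324) (nat_lit 0) [nat_lit 0, nat_lit 11, nat_lit 2, nat_lit 9, nat_lit 2, nat_lit 10, nat_lit 0], .rel (nat_lit 353) (nat_lit 1) [nat_lit 9, nat_lit 6, nat_lit 11, nat_lit 6, nat_lit 13, nat_lit 10, nat_lit 13, nat_lit 0], .rel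 (nat_lit 324) (nat_lit 2) [nat_lit 2, nat_lit 9, nat_lit 2, nat_lit 10, nat_lit 0, nat_lit 11, nat_lit 0], .rel (nat_lit 325) (nat_lit 5) [nat_lit 1, nat_lit 11, nat_lit 1, nat_lit 10, nat_lit 3, nat_lit 8, nat_lit 3], .rel (nat_lit 329) (nat_lit 5) [nat_lit 8, nat_lit 10, nat_lit 11, nat_lit 3, nat_lit 5, nat_lit 9, nat_lit 5, nat_lit 9], .rel (nat_lit 408) (nat_lit 5) [nat_lit 12, nat_lit 6, nat_lit 11, nat_lit 1, nat_lit 4, nat_lit 12, nat_lit 11, nat_lit 12, nat_lit 2, nat_lit 12], .rel (nat_lit 329) (nat_lit 8) [nat_lit 3, nat_lit 5, nat_lit 9, nat_lit 5, nat_lit 9, nat_lit 11, nat_lit 8, nat_lit 10], .rel (nat_lit 400) (nat_lit 3) [nat_lit 3, nat_lit 12, nat_lit 2, nat_lit 10, nat_lit 4, nat_lit 8, nat_lit 12, nat_lit 11, nat_lit 5], .rel (nat_lit 328) (nat_lit 0) [nat_lit 10, nat_lit 9, nat_lit 11, nat_lit 8, nat_lit 4, nat_lit 8, nat_lit 4, nat_lit 2], .rel (nat_lit 401) (nat_lit 8) [nat_lit 12, nat_lit 9, nat_lit 5, nat_lit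 10, nat_lit 3, nat_lit 12, nat_lit 2, nat_lit 11, nat_lit 4], .rel (nat_lit 413) (nat_lit 9) [nat_lit 3, nat_lit 12, nat_lit 11, nat_lit 6, nat_lit 10, nat_lit 5, nat_lit 7, nat_lit 12, nat_lit 11, nat_lit 12, nat_lit 8], .rel (nat_lit 404) (nat_lit 4) [nat_lit 12, nat_lit 7, nat_lit 10, nat_lit 7, nat_lit 11, nat_lit 10, nat_lit 12, nat_lit 11, nat_lit 10, nat_lit 12], .rel (nat_lit 392) (nat_lit 5) [nat_lit 12, nat_lit 9, nat_lit 12, nat_lit 11, nat_lit 8, nat_lit 2, nat_lit 9], .rel (nat_lit 408) (nat_lit 1) [nat_lit 12, nat_lit 2, nat_lit 12, nat_lit 11, nat_lit 12, nat_lit 6, nat_lit 11, nat_lit 1, nat_lit 4, nat_lit 12], .rel (nat_lit 402) (nat_lit 1) [nat_lit 6, nat_lit 11, nat_lit 12, nat_lit 9, nat_lit 2, nat_lit 7, nat_lit 10, nat_lit 3, nat_lit 12], .rel (nat_lit 331) (nat_lit 7) [nat_lit 7, nat_lit 11, nat_lit 0, nat_lit 8, nat_lit 2, nat_lit 10, nat_lit 9, nat_lit 3, nat_lit 10], .rel (nat_lit 392) (nat_lit 1) [nat_lit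 8, nat_lit 2, nat_lit 9, nat_lit 11, nat_lit 12, nat_lit 9, nat_lit 12], .rel (nat_lit 395) (nat_lit 7) [nat_lit 12, nat_lit 10, nat_lit 2, nat_lit 9, nat_lit 2, nat_lit 12, nat_lit 11, nat_lit 1], .rel (nat_lit 394) (nat_lit 3) [nat_lit 12, nat_lit 3, nat_lit 8, nat_lit 3, nat_lit 10, nat_lit 12, nat_lit 11, nat_lit 0], .rel (nat_lit 332) (nat_lit 0) [nat_lit 8, nat_lit 11, nat_lit 9, nat_lit 11, nat_lit 5, nat_lit 3, nat_lit 4, nat_lit 10, nat_lit 3], .rel (nat_lit 333) (nat_lit 5) [nat_lit 8, nat_lit 11, nat_lit 9, nat_lit 11, nat_lit 2, nat_lit 10, nat_lit 5, nat_lit 2, nat_lit 4], .rel (nat_lit 330) (nat_lit 2) [nat_lit 10, nat_lit 2, nat_lit 8, nat_lit 10, nat_lit 3, nat_lit 9, nat_lit 1, nat_lit 11, nat_lit 6], .rel (nat_lit 403) (nat_lit 6) [nat_lit 7, nat_lit 11, nat_lit 12, nat_lit 2, nat_lit 10, nat_lit 6, nat_lit 3, nat_lit 8, nat_lit 12], .rel (nat_lit 395) (nat_lit 5) [nat_lit 1, nat_lit 11, nat_lit 12, nat_lit 10, nat_lit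 2, nat_lit 9, nat_lit 2, nat_lit 12], .rel (nat_lit 401) (nat_lit 6) [nat_lit 4, nat_lit 11, nat_lit 12, nat_lit 9, nat_lit 5, nat_lit 10, nat_lit 3, nat_lit 12, nat_lit 2], .rel (nat_lit 402) (nat_lit 3) [nat_lit 12, nat_lit 9, nat_lit 2, nat_lit 7, nat_lit 10, nat_lit 3, nat_lit 12, nat_lit 11, nat_lit 6], .rel (nat_lit 412) (nat_lit 2) [nat_lit 9, nat_lit 12, nat_lit 11, nat_lit 12, nat_lit 6, nat_lit 4, nat_lit 10, nat_lit 7, nat_lit 11, nat_lit 12, nat_lit 2], .rel (nat_lit 405) (nat_lit 9) [nat_lit 12, nat_lit 10, nat_lit 11, nat_lit 6, nat_lit 10, nat_lit 6, nat_lit 12, nat_lit 11, nat_lit 12, nat_lit 10], .rel (nat_lit 333) (nat_lit 9) [nat_lit 2, nat_lit 10, nat_lit 5, nat_lit 2, nat_lit 4, nat_lit 11, nat_lit 8, nat_lit 11, nat_lit 9], .rel (nat_lit 396) (nat_lit 1) [nat_lit 3, nat_lit 11, nat_lit 3, nat_lit 12, nat_lit 5, nat_lit 2, nat_lit 1, nat_lit 12], .rel (nat_lit 397) (nat_lit 5) [nat_lit 2, nat_lit 11, nat_lit 12,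 nat_lit 0, nat_lit 3, nat_lit 4, nat_lit 12, nat_lit 2], .rel (nat_lit 332) (nat_lit 4) [nat_lit 5, nat_lit 3, nat_lit 4, nat_lit 10, nat_lit 3, nat_lit 11, nat_lit 8, nat_lit 11, nat_lit 9], .rel (nat_lit 396) (nat_lit 3) [nat_lit 3, nat_lit 12, nat_lit 5, nat_lit 2, nat_lit 1, nat_lit 12, nat_lit 11, nat_lit 3], .rel (nat_lit 393) (nat_lit 6) [nat_lit 12, nat_lit 8, nat_lit 12, nat_lit 11, nat_lit 8, nat_lit 3, nat_lit 9], .rel (nat_lit 330) (nat_lit 0) [nat_lit 6, nat_lit 11, nat_lit 10, nat_lit 2, nat_lit 8, nat_lit 10, nat_lit 3, nat_lit 9, nat_lit 1], .rel (nat_lit 393) (nat_lit 2) [nat_lit 8, nat_lit 3, nat_lit 9, nat_lit 11, nat_lit 12, nat_lit 8, nat_lit 12], .rel (nat_lit 331) (nat_lit 9) [nat_lit 0, nat_lit 8, nat_lit 2, nat_lit 10, nat_lit 9, nat_lit 3, nat_lit 10, nat_lit 11, nat_lit 7], .rel (nat_lit 397) (nat_lit 7) [nat_lit 12, nat_lit 0, nat_lit 3, nat_lit 4, nat_lit 12, nat_lit 2, nat_lit 11, nat_lit 2], .rel (nat_lit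 409) (nat_lit 5) [nat_lit 12, nat_lit 3, nat_lit 12, nat_lit 11, nat_lit 12, nat_lit 5, nat_lit 0, nat_lit 11, nat_lit 7, nat_lit 12], .rel (nat_lit 409) (nat_lit 2) [nat_lit 7, nat_lit 12, nat_lit 11, nat_lit 12, nat_lit 3, nat_lit 12, nat_lit 11, nat_lit 12, nat_lit 5, nat_lit 0], .rel (nat_lit 403) (nat_lit 8) [nat_lit 12, nat_lit 2, nat_lit 10, nat_lit 6, nat_lit 3, nat_lit 8, nat_lit 12, nat_lit 11, nat_lit 7], .rel (nat_lit 413) (nat_lit 0) [nat_lit 6, nat_lit 10, nat_lit 5, nat_lit 7, nat_lit 12, nat_lit 11, nat_lit 12, nat_lit 8, nat_lit 11, nat_lit 3, nat_lit 12], .rel (nat_lit 333) (nat_lit 7) [nat_lit 9, nat_lit 11, nat_lit 2, nat_lit 10, nat_lit 5, nat_lit 2, nat_lit 4, nat_lit 11, nat_lit 8], .rel (nat_lit 405) (nat_lit 1) [nat_lit 6, nat_lit 10, nat_lit 6, nat_lit 12, nat_lit 11, nat_lit 12, nat_lit 10, nat_lit 11, nat_lit 12, nat_lit 10], .rel (nat_lit 408) (nat_lit 8) [nat_lit 1, nat_lit 4, nat_lit 12, nat_lit 11, nat_lit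 12, nat_lit 2, nat_lit 12, nat_lit 11, nat_lit 12, nat_lit 6], .rel (nat_lit 407) (nat_lit 8) [nat_lit 3, nat_lit 12, nat_lit 0, nat_lit 9, nat_lit 0, nat_lit 0, nat_lit 12, nat_lit 11, nat_lit 8, nat_lit 10], .rel (nat_lit 406) (nat_lit 5) [nat_lit 12, nat_lit 1, nat_lit 1, nat_lit 8, nat_lit 1, nat_lit 12, nat_lit 2, nat_lit 11, nat_lit 10, nat_lit 9], .rel (nat_lit 414) (nat_lit 5) [nat_lit 12, nat_lit 4, nat_lit 10, nat_lit 6, nat_lit 5, nat_lit 9, nat_lit 12, nat_lit 11, nat_lit 8, nat_lit 6, nat_lit 9], .rel (nat_lit 416) (nat_lit 5) [nat_lit 12, nat_lit 2, nat_lit 8, nat_lit 11, nat_lit 9, nat_lit 3, nat_lit 12, nat_lit 11, nat_lit 8, nat_lit 12, nat_lit 9], .rel (nat_lit 416) (nat_lit 9) [nat_lit 9, nat_lit 3, nat_lit 12, nat_lit 11, nat_lit 8, nat_lit 12, nat_lit 9, nat_lit 11, nat_lit 12, nat_lit 2, nat_lit 8], .rel (nat_lit 409) (nat_lit 9) [nat_lit 12, nat_lit 5, nat_lit 0, nat_lit 11, nat_lit 7, nat_lit 12, nat_lit 11,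 nat_lit 12, nat_lit 3, nat_lit 12], .rel (nat_lit 412) (nat_lit 11) [nat_lit 12, nat_lit 2, nat_lit 11, nat_lit 9, nat_lit 12, nat_lit 11, nat_lit 12, nat_lit 6, nat_lit 4, nat_lit 10, nat_lit 7], .rel (nat_lit 416) (nat_lit 1) [nat_lit 8, nat_lit 12, nat_lit 9, nat_lit 11, nat_lit 12, nat_lit 2, nat_lit 8, nat_lit 11, nat_lit 9, nat_lit 3, nat_lit 12], .rel (nat_lit 405) (nat_lit 6) [nat_lit 12, nat_lit 10, nat_lit 11, nat_lit 12, nat_lit 10, nat_lit 11, nat_lit 6, nat_lit 10, nat_lit 6, nat_lit 12], .rel (nat_lit 407) (nat_lit 5) [nat_lit 8, nat_lit 10, nat_lit 11, nat_lit 3, nat_lit 12, nat_lit 0, nat_lit 9, nat_lit 0, nat_lit 0, nat_lit 12], .rel (nat_lit 404) (nat_lit 9) [nat_lit 10, nat_lit 12, nat_lit 11, nat_lit 10, nat_lit 12, nat_lit 11, nat_lit 12, nat_lit 7, nat_lit 10, nat_lit 7], .rel (nat_lit 406) (nat_lit 2) [nat_lit 10, nat_lit 9, nat_lit 11, nat_lit 12, nat_lit 1, nat_lit 1, nat_lit 8, nat_lit 1, nat_lit 12, nat_lit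 2], .rel (nat_lit 411) (nat_lit 5) [nat_lit 8, nat_lit 5, nat_lit 9, nat_lit 11, nat_lit 12, nat_lit 8, nat_lit 5, nat_lit 2, nat_lit 7, nat_lit 12], .rel (nat_lit 410) (nat_lit 5) [nat_lit 12, nat_lit 6, nat_lit 3, nat_lit 4, nat_lit 9, nat_lit 12, nat_lit 11, nat_lit 8, nat_lit 4, nat_lit 9], .rel (nat_lit 411) (nat_lit 9) [nat_lit 12, nat_lit 8, nat_lit 5, nat_lit 2, nat_lit 7, nat_lit 12, nat_lit 11, nat_lit 8, nat_lit 5, nat_lit 9], .rel (nat_lit 414) (nat_lit 1) [nat_lit 8, nat_lit 6, nat_lit 9, nat_lit 11, nat_lit 12, nat_lit 4, nat_lit 10, nat_lit 6, nat_lit 5, nat_lit 9, nat_lit 12], .rel (nat_lit 410) (nat_lit 1) [nat_lit 8, nat_lit 4, nat_lit 9, nat_lit 11, nat_lit 12, nat_lit 6, nat_lit 3, nat_lit 4, nat_lit 9, nat_lit 12], .sub (nat_lit 22) [] [], .rel (nat_lit 415) (nat_lit 6) [nat_lit 8, nat_lit 7, nat_lit 9, nat_lit 11, nat_lit 12, nat_lit 8, nat_lit 4, nat_lit 7, nat_lit 10, nat_lit 5, nat_lit 12], .rel (nat_lit 415)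 (nat_lit 10) [nat_lit 12, nat_lit 8, nat_lit 4, nat_lit 7, nat_lit 10, nat_lit 5, nat_lit 12, nat_lit 11, nat_lit 8, nat_lit 7, nat_lit 9]],
  [.rel (nat_lit 24) (nat_lit 0) [nat_lit 12], .defn, .rel (nat_lit 369) (nat_lit 2) [nat_lit 6, nat_lit 12, nat_lit 1, nat_lit 3, nat_lit 5], .rel (nat_lit 389) (nat_lit 1) [nat_lit 1, nat_lit 10, nat_lit 12, nat_lit 1, nat_lit 10], .rel (nat_lit 368) (nat_lit 3) [nat_lit 4, nat_lit 2, nat_lit 0, nat_lit 12, nat_lit 7], .rel (nat_lit 368) (nat_lit 1) [nat_lit 7, nat_lit 12, nat_lit 4, nat_lit 2, nat_lit 0], .rel (nat_lit 369) (nat_lit 4) [nat_lit 1, nat_lit 3, nat_lit 5, nat_lit 12, nat_lit 6], .rel (nat_lit 388) (nat_lit 1) [nat_lit 10, nat_lit 0, nat_lit 12, nat_lit 10, nat_lit 0], .rel (nat_lit 398) (nat_lit 2) [nat_lit 3, nat_lit 12, nat_lit 10, nat_lit 5, nat_lit 3, nat_lit 10, nat_lit 3, nat_lit 12, nat_lit 2], .rel (nat_lit 390) (nat_lit 3) [nat_lit 6, nat_lit 10, nat_lit 6, nat_lit 12,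 nat_lit 10], .rel (nat_lit 391) (nat_lit 4) [nat_lit 7, nat_lit 10, nat_lit 7, nat_lit 12, nat_lit 10], .rel (nat_lit 390) (nat_lit 1) [nat_lit 10, nat_lit 12, nat_lit 6, nat_lit 10, nat_lit 6], .rel (nat_lit 404) (nat_lit 3) [nat_lit 11, nat_lit 12, nat_lit 7, nat_lit 10, nat_lit 7, nat_lit 11, nat_lit 10, nat_lit 12, nat_lit 11, nat_lit 10], .rel (nat_lit 416) (nat_lit 3) [nat_lit 9, nat_lit 11, nat_lit 12, nat_lit 2, nat_lit 8, nat_lit 11, nat_lit 9, nat_lit 3, nat_lit 12, nat_lit 11, nat_lit 8], .rel (nat_lit 378) (nat_lit 2) [nat_lit 5, nat_lit 9, nat_lit 4, nat_lit 9, nat_lit 1, nat_lit 12, nat_lit 8], .rel (nat_lit 392) (nat_lit 6) [nat_lit 9, nat_lit 12, nat_lit 11, nat_lit 8, nat_lit 2, nat_lit 9, nat_lit 11], .rel (nat_lit 391) (nat_lit 2) [nat_lit 10, nat_lit 12, nat_lit 7, nat_lit 10, nat_lit 7], .rel (nat_lit 371) (nat_lit 4) [nat_lit 3, nat_lit 1, nat_lit 7, nat_lit 4, nat_lit 12, nat_lit 0], .rel (nat_lit 374) (nat_lit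 2) [nat_lit 4, nat_lit 7, nat_lit 5, nat_lit 12, nat_lit 2, nat_lit 4], .rel (nat_lit 379) (nat_lit 7) [nat_lit 0, nat_lit 8, nat_lit 5, nat_lit 8, nat_lit 4, nat_lit 12, nat_lit 9], .rel (nat_lit 379) (nat_lit 5) [nat_lit 9, nat_lit 12, nat_lit 0, nat_lit 8, nat_lit 5, nat_lit 8, nat_lit 4], .rel (nat_lit 393) (nat_lit 7) [nat_lit 8, nat_lit 12, nat_lit 11, nat_lit 8, nat_lit 3, nat_lit 9, nat_lit 11], .rel (nat_lit 393) (nat_lit 1) [nat_lit 11, nat_lit 8, nat_lit 3, nat_lit 9, nat_lit 11, nat_lit 12, nat_lit 8], .rel (nat_lit 370) (nat_lit 2) [nat_lit 1, nat_lit 12, nat_lit 5, nat_lit 6, nat_lit 0, nat_lit 2], .rel (nat_lit 370) (nat_lit 4) [nat_lit 5, nat_lit 6, nat_lit 0, nat_lit 2, nat_lit 12, nat_lit 1], .rel (nat_lit 412) (nat_lit 0) [nat_lit 2, nat_lit 11, nat_lit 9, nat_lit 12, nat_lit 11, nat_lit 12, nat_lit 6, nat_lit 4, nat_lit 10, nat_lit 7, nat_lit 11], .rel (nat_lit 373) (nat_lit 0) [nat_lit 9, nat_lit 9, nat_lit 3, nat_lit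 3, nat_lit 12, nat_lit 1], .rel (nat_lit 394) (nat_lit 4) [nat_lit 3, nat_lit 8, nat_lit 3, nat_lit 10, nat_lit 12, nat_lit 11, nat_lit 0, nat_lit 11], .rel (nat_lit 409) (nat_lit 10) [nat_lit 5, nat_lit 0, nat_lit 11, nat_lit 7, nat_lit 12, nat_lit 11, nat_lit 12, nat_lit 3, nat_lit 12, nat_lit 11], .rel (nat_lit 378) (nat_lit 0) [nat_lit 8, nat_lit 12, nat_lit 5, nat_lit 9, nat_lit 4, nat_lit 9, nat_lit 1], .rel (nat_lit 408) (nat_lit 6) [nat_lit 6, nat_lit 11, nat_lit 1, nat_lit 4, nat_lit 12, nat_lit 11, nat_lit 12, nat_lit 2, nat_lit 12, nat_lit 11], .rel (nat_lit 371) (nat_lit 2) [nat_lit 0, nat_lit 12, nat_lit 3, nat_lit 1, nat_lit 7, nat_lit 4], .rel (nat_lit 408) (nat_lit 0) [nat_lit 11, nat_lit 12, nat_lit 2, nat_lit 12, nat_lit 11, nat_lit 12, nat_lit 6, nat_lit 11, nat_lit 1, nat_lit 4], .rel (nat_lit 374) (nat_lit 6) [nat_lit 2, nat_lit 4, nat_lit 12, nat_lit 4, nat_lit 7, nat_lit 5], .rel (nat_lit 405) (nat_lit 7) [nat_lit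 10, nat_lit 11, nat_lit 12, nat_lit 10, nat_lit 11, nat_lit 6, nat_lit 10, nat_lit 6, nat_lit 12, nat_lit 11], .rel (nat_lit 392) (nat_lit 0) [nat_lit 11, nat_lit 8, nat_lit 2, nat_lit 9, nat_lit 11, nat_lit 12, nat_lit 9], .rel (nat_lit 413) (nat_lit 11) [nat_lit 11, nat_lit 6, nat_lit 10, nat_lit 5, nat_lit 7, nat_lit 12, nat_lit 11, nat_lit 12, nat_lit 8, nat_lit 11, nat_lit 3], .rel (nat_lit 372) (nat_lit 6) [nat_lit 0, nat_lit 12, nat_lit 2, nat_lit 2, nat_lit 8, nat_lit 8], .rel (nat_lit 375) (nat_lit 4) [nat_lit 5, nat_lit 3, nat_lit 12, nat_lit 4, nat_lit 6, nat_lit 5], .rel (nat_lit 408) (nat_lit 2) [nat_lit 2, nat_lit 12, nat_lit 11, nat_lit 12, nat_lit 6, nat_lit 11, nat_lit 1, nat_lit 4, nat_lit 12, nat_lit 11], .rel (nat_lit 375) (nat_lit 0) [nat_lit 4, nat_lit 6, nat_lit 5, nat_lit 12, nat_lit 5, nat_lit 3], .rel (nat_lit 373) (nat_lit 5) [nat_lit 1, nat_lit 12, nat_lit 9, nat_lit 9, nat_lit 3, nat_lit 3], .rel (nat_lit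 405) (nat_lit 10) [nat_lit 10, nat_lit 11, nat_lit 6, nat_lit 10, nat_lit 6, nat_lit 12, nat_lit 11, nat_lit 12, nat_lit 10, nat_lit 11], .rel (nat_lit 408) (nat_lit 4) [nat_lit 11, nat_lit 12, nat_lit 6, nat_lit 11, nat_lit 1, nat_lit 4, nat_lit 12, nat_lit 11, nat_lit 12, nat_lit 2], .rel (nat_lit 409) (nat_lit 6) [nat_lit 3, nat_lit 12, nat_lit 11, nat_lit 12, nat_lit 5, nat_lit 0, nat_lit 11, nat_lit 7, nat_lit 12, nat_lit 11], .rel (nat_lit 376) (nat_lit 0) [nat_lit 4, nat_lit 3, nat_lit 12, nat_lit 4, nat_lit 1, nat_lit 2, nat_lit 1], .rel (nat_lit 398) (nat_lit 4) [nat_lit 10, nat_lit 5, nat_lit 3, nat_lit 10, nat_lit 3, nat_lit 12, nat_lit 2, nat_lit 12, nat_lit 3], .rel (nat_lit 398) (nat_lit 0) [nat_lit 2, nat_lit 12, nat_lit 3, nat_lit 12, nat_lit 10, nat_lit 5, nat_lit 3, nat_lit 10, nat_lit 3], .rel (nat_lit 399) (nat_lit 5) [nat_lit 2, nat_lit 12, nat_lit 3, nat_lit 12, nat_lit 2, nat_lit 10, nat_lit 2, nat_lit 4, nat_lit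 10], .rel (nat_lit 404) (nat_lit 5) [nat_lit 7, nat_lit 10, nat_lit 7, nat_lit 11, nat_lit 10, nat_lit 12, nat_lit 11, nat_lit 10, nat_lit 12, nat_lit 11], .rel (nat_lit 377) (nat_lit 7) [nat_lit 0, nat_lit 3, nat_lit 0, nat_lit 5, nat_lit 12, nat_lit 2, nat_lit 5], .rel (nat_lit 387) (nat_lit 6) [nat_lit 2, nat_lit 12, nat_lit 3, nat_lit 12, nat_lit 0, nat_lit 0, nat_lit 4, nat_lit 8, nat_lit 0, nat_lit 8], .rel (nat_lit 382) (nat_lit 4) [nat_lit 5, nat_lit 1, nat_lit 1, nat_lit 3, nat_lit 12, nat_lit 2, nat_lit 6, nat_lit 3], .rel (nat_lit 409) (nat_lit 4) [nat_lit 11, nat_lit 12, nat_lit 3, nat_lit 12, nat_lit 11, nat_lit 12, nat_lit 5, nat_lit 0, nat_lit 11, nat_lit 7], .rel (nat_lit 383) (nat_lit 8) [nat_lit 2, nat_lit 0, nat_lit 0, nat_lit 4, nat_lit 12, nat_lit 2, nat_lit 7, nat_lit 3], .rel (nat_lit 386) (nat_lit 2) [nat_lit 3, nat_lit 12, nat_lit 9, nat_lit 1, nat_lit 9, nat_lit 5, nat_lit 1, nat_lit 1, nat_lit 12, nat_lit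 2], .rel (nat_lit 397) (nat_lit 8) [nat_lit 0, nat_lit 3, nat_lit 4, nat_lit 12, nat_lit 2, nat_lit 11, nat_lit 2, nat_lit 11], .rel (nat_lit 404) (nat_lit 0) [nat_lit 11, nat_lit 10, nat_lit 12, nat_lit 11, nat_lit 12, nat_lit 7, nat_lit 10, nat_lit 7, nat_lit 11, nat_lit 10], .rel (nat_lit 376) (nat_lit 3) [nat_lit 4, nat_lit 1, nat_lit 2, nat_lit 1, nat_lit 12, nat_lit 4, nat_lit 3], .rel (nat_lit 395) (nat_lit 8) [nat_lit 10, nat_lit 2, nat_lit 9, nat_lit 2, nat_lit 12, nat_lit 11, nat_lit 1, nat_lit 11], .rel (nat_lit 412) (nat_lit 4) [nat_lit 11, nat_lit 12, nat_lit 6, nat_lit 4, nat_lit 10, nat_lit 7, nat_lit 11, nat_lit 12, nat_lit 2, nat_lit 11, nat_lit 9], .rel (nat_lit 436) (nat_lit 0) [nat_lit 3, nat_lit 3, nat_lit 12, nat_lit 5, nat_lit 2, nat_lit 4, nat_lit 3, nat_lit 1], .rel (nat_lit 377) (nat_lit 4) [nat_lit 2, nat_lit 5, nat_lit 12, nat_lit 0, nat_lit 3, nat_lit 0, nat_lit 5], .rel (nat_lit 381) (nat_lit 3) [nat_lit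 2, nat_lit 1, nat_lit 3, nat_lit 12, nat_lit 6, nat_lit 4, nat_lit 3], .rel (nat_lit 396) (nat_lit 0) [nat_lit 11, nat_lit 3, nat_lit 11, nat_lit 3, nat_lit 12, nat_lit 5, nat_lit 2, nat_lit 1], .rel (nat_lit 409) (nat_lit 8) [nat_lit 11, nat_lit 12, nat_lit 5, nat_lit 0, nat_lit 11, nat_lit 7, nat_lit 12, nat_lit 11, nat_lit 12, nat_lit 3], .rel (nat_lit 399) (nat_lit 9) [nat_lit 2, nat_lit 10, nat_lit 2, nat_lit 4, nat_lit 10, nat_lit 12, nat_lit 2, nat_lit 12, nat_lit 3], .rel (nat_lit 438) (nat_lit 0) [nat_lit 2, nat_lit 10, nat_lit 3, nat_lit 12, nat_lit 1, nat_lit 10, nat_lit 3, nat_lit 10, nat_lit 2, nat_lit 0], .rel (nat_lit 380) (nat_lit 0) [nat_lit 2, nat_lit 0, nat_lit 3, nat_lit 12, nat_lit 2, nat_lit 5, nat_lit 7], .rel (nat_lit 381) (nat_lit 7) [nat_lit 6, nat_lit 4, nat_lit 3, nat_lit 12, nat_lit 2, nat_lit 1, nat_lit 3], .rel (nat_lit 382) (nat_lit 0) [nat_lit 2, nat_lit 6, nat_lit 3, nat_lit 12, nat_lit 5, nat_lit 1,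 nat_lit 1, nat_lit 3], .rel (nat_lit 385) (nat_lit 5) [nat_lit 2, nat_lit 9, nat_lit 3, nat_lit 12, nat_lit 0, nat_lit 4, nat_lit 9, nat_lit 4, nat_lit 0], .rel (nat_lit 385) (nat_lit 9) [nat_lit 0, nat_lit 4, nat_lit 9, nat_lit 4, nat_lit 0, nat_lit 12, nat_lit 2, nat_lit 9, nat_lit 3], .rel (nat_lit 386) (nat_lit 0) [nat_lit 2, nat_lit 12, nat_lit 3, nat_lit 12, nat_lit 9, nat_lit 1, nat_lit 9, nat_lit 5, nat_lit 1, nat_lit 1], .rel (nat_lit 386) (nat_lit 4) [nat_lit 9, nat_lit 1, nat_lit 9, nat_lit 5, nat_lit 1, nat_lit 1, nat_lit 12, nat_lit 2, nat_lit 12, nat_lit 3], .rel (nat_lit 394) (nat_lit 0) [nat_lit 11, nat_lit 0, nat_lit 11, nat_lit 12, nat_lit 3, nat_lit 8, nat_lit 3, nat_lit 10], .rel (nat_lit 396) (nat_lit 5) [nat_lit 5, nat_lit 2, nat_lit 1, nat_lit 12, nat_lit 11, nat_lit 3, nat_lit 11, nat_lit 3], .rel (nat_lit 383) (nat_lit 4) [nat_lit 2, nat_lit 7, nat_lit 3, nat_lit 12, nat_lit 2, nat_lit 0, nat_lit 0, nat_lit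 4], .rel (nat_lit 400) (nat_lit 0) [nat_lit 11, nat_lit 5, nat_lit 11, nat_lit 3, nat_lit 12, nat_lit 2, nat_lit 10, nat_lit 4, nat_lit 8], .rel (nat_lit 401) (nat_lit 9) [nat_lit 9, nat_lit 5, nat_lit 10, nat_lit 3, nat_lit 12, nat_lit 2, nat_lit 11, nat_lit 4, nat_lit 11], .rel (nat_lit 402) (nat_lit 4) [nat_lit 9, nat_lit 2, nat_lit 7, nat_lit 10, nat_lit 3, nat_lit 12, nat_lit 11, nat_lit 6, nat_lit 11], .rel (nat_lit 403) (nat_lit 9) [nat_lit 2, nat_lit 10, nat_lit 6, nat_lit 3, nat_lit 8, nat_lit 12, nat_lit 11, nat_lit 7, nat_lit 11], .rel (nat_lit 437) (nat_lit 8) [nat_lit 0, nat_lit 2, nat_lit 5, nat_lit 3, nat_lit 4, nat_lit 12, nat_lit 2, nat_lit 2], .rel (nat_lit 380) (nat_lit 4) [nat_lit 2, nat_lit 5, nat_lit 7, nat_lit 12, nat_lit 2, nat_lit 0, nat_lit 3], .rel (nat_lit 397) (nat_lit 3) [nat_lit 2, nat_lit 11, nat_lit 2, nat_lit 11, nat_lit 12, nat_lit 0, nat_lit 3, nat_lit 4], .rel (nat_lit 399) (nat_lit 7) [nat_lit 3,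 nat_lit 12, nat_lit 2, nat_lit 10, nat_lit 2, nat_lit 4, nat_lit 10, nat_lit 12, nat_lit 2], .rel (nat_lit 411) (nat_lit 10) [nat_lit 8, nat_lit 5, nat_lit 2, nat_lit 7, nat_lit 12, nat_lit 11, nat_lit 8, nat_lit 5, nat_lit 9, nat_lit 11], .rel (nat_lit 415) (nat_lit 5) [nat_lit 11, nat_lit 8, nat_lit 7, nat_lit 9, nat_lit 11, nat_lit 12, nat_lit 8, nat_lit 4, nat_lit 7, nat_lit 10, nat_lit 5], .rel (nat_lit 446) (nat_lit 2) [nat_lit 14, nat_lit 5, nat_lit 2, nat_lit 14, nat_lit 12, nat_lit 14, nat_lit 5, nat_lit 2, nat_lit 14, nat_lit 12, nat_lit 14, nat_lit 5, nat_lit 2, nat_lit 14], .rel (nat_lit 372) (nat_lit 1) [nat_lit 2, nat_lit 2, nat_lit 8, nat_lit 8, nat_lit 12, nat_lit 0], .rel (nat_lit 414) (nat_lit 6) [nat_lit 4, nat_lit 10, nat_lit 6, nat_lit 5, nat_lit 9, nat_lit 12, nat_lit 11, nat_lit 8, nat_lit 6, nat_lit 9, nat_lit 11], .rel (nat_lit 436) (nat_lit 3) [nat_lit 5, nat_lit 2, nat_lit 4, nat_lit 3, nat_lit 1, nat_lit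 12, nat_lit 3, nat_lit 3], .rel (nat_lit 402) (nat_lit 0) [nat_lit 11, nat_lit 6, nat_lit 11, nat_lit 12, nat_lit 9, nat_lit 2, nat_lit 7, nat_lit 10, nat_lit 3], .rel (nat_lit 437) (nat_lit 5) [nat_lit 2, nat_lit 2, nat_lit 12, nat_lit 0, nat_lit 2, nat_lit 5, nat_lit 3, nat_lit 4], .rel (nat_lit 384) (nat_lit 0) [nat_lit 2, nat_lit 8, nat_lit 3, nat_lit 12, nat_lit 1, nat_lit 5, nat_lit 8, nat_lit 5, nat_lit 1], .rel (nat_lit 387) (nat_lit 10) [nat_lit 0, nat_lit 0, nat_lit 4, nat_lit 8, nat_lit 0, nat_lit 8, nat_lit 12, nat_lit 2, nat_lit 12, nat_lit 3], .rel (nat_lit 395) (nat_lit 4) [nat_lit 11, nat_lit 1, nat_lit 11, nat_lit 12, nat_lit 10, nat_lit 2, nat_lit 9, nat_lit 2], .rel (nat_lit 405) (nat_lit 5) [nat_lit 11, nat_lit 12, nat_lit 10, nat_lit 11, nat_lit 12, nat_lit 10, nat_lit 11, nat_lit 6, nat_lit 10, nat_lit 6], .rel (nat_lit 407) (nat_lit 10) [nat_lit 0, nat_lit 9, nat_lit 0, nat_lit 0, nat_lit 12, nat_lit 11, nat_lit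 8, nat_lit 10, nat_lit 11, nat_lit 3], .rel (nat_lit 410) (nat_lit 0) [nat_lit 11, nat_lit 8, nat_lit 4, nat_lit 9, nat_lit 11, nat_lit 12, nat_lit 6, nat_lit 3, nat_lit 4, nat_lit 9], .rel (nat_lit 410) (nat_lit 6) [nat_lit 6, nat_lit 3, nat_lit 4, nat_lit 9, nat_lit 12, nat_lit 11, nat_lit 8, nat_lit 4, nat_lit 9, nat_lit 11], .rel (nat_lit 413) (nat_lit 7) [nat_lit 8, nat_lit 11, nat_lit 3, nat_lit 12, nat_lit 11, nat_lit 6, nat_lit 10, nat_lit 5, nat_lit 7, nat_lit 12, nat_lit 11], .rel (nat_lit 416) (nat_lit 0) [nat_lit 11, nat_lit 8, nat_lit 12, nat_lit 9, nat_lit 11, nat_lit 12, nat_lit 2, nat_lit 8, nat_lit 11, nat_lit 9, nat_lit 3], .rel (nat_lit 455) (nat_lit 3) [nat_lit 3, nat_lit 14, nat_lit 4, nat_lit 14, nat_lit 12, nat_lit 3, nat_lit 14, nat_lit 4, nat_lit 14, nat_lit 12, nat_lit 3, nat_lit 14, nat_lit 4, nat_lit 14], .sub (nat_lit 24) [] [], .rel (nat_lit 384) (nat_lit 4) [nat_lit 1, nat_lit 5, nat_lit 8, nat_lit 5,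 nat_lit 1, nat_lit 12, nat_lit 2, nat_lit 8, nat_lit 3], .rel (nat_lit 387) (nat_lit 8) [nat_lit 3, nat_lit 12, nat_lit 0, nat_lit 0, nat_lit 4, nat_lit 8, nat_lit 0, nat_lit 8, nat_lit 12, nat_lit 2], .rel (nat_lit 400) (nat_lit 5) [nat_lit 2, nat_lit 10, nat_lit 4, nat_lit 8, nat_lit 12, nat_lit 11, nat_lit 5, nat_lit 11, nat_lit 3], .rel (nat_lit 403) (nat_lit 5) [nat_lit 11, nat_lit 7, nat_lit 11, nat_lit 12, nat_lit 2, nat_lit 10, nat_lit 6, nat_lit 3, nat_lit 8], .rel (nat_lit 406) (nat_lit 6) [nat_lit 1, nat_lit 1, nat_lit 8, nat_lit 1, nat_lit 12, nat_lit 2, nat_lit 11, nat_lit 10, nat_lit 9, nat_lit 11], .rel (nat_lit 438) (nat_lit 4) [nat_lit 1, nat_lit 10, nat_lit 3, nat_lit 10, nat_lit 2, nat_lit 0, nat_lit 12, nat_lit 2, nat_lit 10, nat_lit 3], .rel (nat_lit 439) (nat_lit 6) [nat_lit 2, nat_lit 10, nat_lit 3, nat_lit 12, nat_lit 1, nat_lit 3, nat_lit 10, nat_lit 2, nat_lit 10, nat_lit 0], .rel (nat_lit 441) (nat_lit 2)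 [nat_lit 14, nat_lit 3, nat_lit 14, nat_lit 7, nat_lit 12, nat_lit 14, nat_lit 3, nat_lit 14, nat_lit 7, nat_lit 12, nat_lit 14, nat_lit 3, nat_lit 14, nat_lit 7], .rel (nat_lit 442) (nat_lit 2) [nat_lit 7, nat_lit 14, nat_lit 2, nat_lit 14, nat_lit 12, nat_lit 7, nat_lit 14, nat_lit 2, nat_lit 14, nat_lit 12, nat_lit 7, nat_lit 14, nat_lit 2, nat_lit 14], .rel (nat_lit 444) (nat_lit 2) [nat_lit 14, nat_lit 4, nat_lit 2, nat_lit 14, nat_lit 12, nat_lit 14, nat_lit 4, nat_lit 2, nat_lit 14, nat_lit 12, nat_lit 14, nat_lit 4, nat_lit 2, nat_lit 14], .rel (nat_lit 445) (nat_lit 2) [nat_lit 14, nat_lit 3, nat_lit 5, nat_lit 14, nat_lit 12, nat_lit 14, nat_lit 3, nat_lit 5, nat_lit 14, nat_lit 12, nat_lit 14, nat_lit 3, nat_lit 5, nat_lit 14], .rel (nat_lit 453) (nat_lit 3) [nat_lit 3, nat_lit 14, nat_lit 5, nat_lit 14, nat_lit 12, nat_lit 3, nat_lit 14, nat_lit 5, nat_lit 14, nat_lit 12, nat_lit 3, nat_lit 14, nat_lit 5, nat_lit 14], .rel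 (nat_lit 460) (nat_lit 2) [nat_lit 4, nat_lit 14, nat_lit 12, nat_lit 4, nat_lit 14, nat_lit 12, nat_lit 4, nat_lit 14, nat_lit 12, nat_lit 4, nat_lit 14, nat_lit 12, nat_lit 4, nat_lit 14, nat_lit 12, nat_lit 4, nat_lit 14, nat_lit 12, nat_lit 4, nat_lit 14], .rel (nat_lit 461) (nat_lit 0) [nat_lit 14, nat_lit 5, nat_lit 12, nat_lit 14, nat_lit 5, nat_lit 12, nat_lit 14, nat_lit 5, nat_lit 12, nat_lit 14, nat_lit 5, nat_lit 12, nat_lit 14, nat_lit 5, nat_lit 12, nat_lit 14, nat_lit 5, nat_lit 12, nat_lit 14, nat_lit 5], .rel (nat_lit 464) (nat_lit 2) [nat_lit 6, nat_lit 14, nat_lit 12, nat_lit 6, nat_lit 14, nat_lit 12, nat_lit 6, nat_lit 14, nat_lit 12, nat_lit 6, nat_lit 14, nat_lit 12, nat_lit 6, nat_lit 14, nat_lit 12, nat_lit 6, nat_lit 14, nat_lit 12, nat_lit 6, nat_lit 14], .rel (nat_lit 465) (nat_lit 0) [nat_lit 14, nat_lit 7, nat_lit 12, nat_lit 14, nat_lit 7, nat_lit 12, nat_lit 14, nat_lit 7, nat_lit 12, nat_lit 14, nat_lit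 7, nat_lit 12, nat_lit 14, nat_lit 7, nat_lit 12, nat_lit 14, nat_lit 7, nat_lit 12, nat_lit 14, nat_lit 7], .rel (nat_lit 494) (nat_lit 3) [nat_lit 4, nat_lit 14, nat_lit 10, nat_lit 12, nat_lit 4, nat_lit 14, nat_lit 10, nat_lit 12, nat_lit 4, nat_lit 14, nat_lit 10, nat_lit 12, nat_lit 4, nat_lit 14, nat_lit 10, nat_lit 12, nat_lit 4, nat_lit 14, nat_lit 10, nat_lit 12, nat_lit 4, nat_lit 14, nat_lit 10, nat_lit 12, nat_lit 4, nat_lit 14, nat_lit 10], .rel (nat_lit 501) (nat_lit 0) [nat_lit 14, nat_lit 10, nat_lit 7, nat_lit 12, nat_lit 14, nat_lit 10, nat_lit 7, nat_lit 12, nat_lit 14, nat_lit 10, nat_lit 7, nat_lit 12, nat_lit 14, nat_lit 10, nat_lit 7, nat_lit 12, nat_lit 14, nat_lit 10, nat_lit 7, nat_lit 12, nat_lit 14, nat_lit 10, nat_lit 7, nat_lit 12, nat_lit 14, nat_lit 10, nat_lit 7], .rel (nat_lit 502) (nat_lit 2) [nat_lit 14, nat_lit 6, nat_lit 10, nat_lit 12, nat_lit 14, nat_lit 6, nat_lit 10, nat_lit 12, nat_lit 14,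 nat_lit 6, nat_lit 10, nat_lit 12, nat_lit 14, nat_lit 6, nat_lit 10, nat_lit 12, nat_lit 14, nat_lit 6, nat_lit 10, nat_lit 12, nat_lit 14, nat_lit 6, nat_lit 10, nat_lit 12, nat_lit 14, nat_lit 6, nat_lit 10]],
  [.rel (nat_lit 26) (nat_lit 0) [nat_lit 13], .defn, .rel (nat_lit 366) (nat_lit 1) [nat_lit 11, nat_lit 0, nat_lit 9, nat_lit 4, nat_lit 7, nat_lit 1, nat_lit 14], .rel (nat_lit 340) (nat_lit 3) [nat_lit 4, nat_lit 13, nat_lit 2, nat_lit 4, nat_lit 6], .rel (nat_lit 340) (nat_lit 5) [nat_lit 2, nat_lit 4, nat_lit 6, nat_lit 13, nat_lit 4], .rel (nat_lit 341) (nat_lit 2) [nat_lit 7, nat_lit 5, nat_lit 3, nat_lit 13, nat_lit 5], .rel (nat_lit 367) (nat_lit 6) [nat_lit 14, nat_lit 0, nat_lit 6, nat_lit 5, nat_lit 8, nat_lit 1, nat_lit 11], .rel (nat_lit 337) (nat_lit 3) [nat_lit 1, nat_lit 1, nat_lit 13, nat_lit 5, nat_lit 5], .rel (nat_lit 337) (nat_lit 0) [nat_lit 5, nat_lit 5, nat_lit 13, nat_lit 1, nat_lit 1], .rel (nat_lit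 341) (nat_lit 0) [nat_lit 5, nat_lit 13, nat_lit 7, nat_lit 5, nat_lit 3], .rel (nat_lit 336) (nat_lit 5) [nat_lit 0, nat_lit 0, nat_lit 13, nat_lit 4, nat_lit 4], .rel (nat_lit 336) (nat_lit 2) [nat_lit 4, nat_lit 4, nat_lit 13, nat_lit 0, nat_lit 0], .rel (nat_lit 357) (nat_lit 6) [nat_lit 1, nat_lit 13, nat_lit 4, nat_lit 7, nat_lit 8, nat_lit 2, nat_lit 13, nat_lit 9], .rel (nat_lit 357) (nat_lit 4) [nat_lit 9, nat_lit 13, nat_lit 1, nat_lit 13, nat_lit 4, nat_lit 7, nat_lit 8, nat_lit 2], .rel (nat_lit 356) (nat_lit 4) [nat_lit 3, nat_lit 9, nat_lit 6, nat_lit 5, nat_lit 13, nat_lit 0, nat_lit 13, nat_lit 8], .rel (nat_lit 352) (nat_lit 0) [nat_lit 10, nat_lit 13, nat_lit 7, nat_lit 11, nat_lit 7, nat_lit 8, nat_lit 11, nat_lit 1], .rel (nat_lit 353) (nat_lit 8) [nat_lit 0, nat_lit 11, nat_lit 9, nat_lit 6, nat_lit 11, nat_lit 6, nat_lit 13, nat_lit 10], .rel (nat_lit 352) (nat_lit 2) [nat_lit 7, nat_lit 11, nat_lit 7, nat_lit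 8, nat_lit 11, nat_lit 1, nat_lit 13, nat_lit 10], .rel (nat_lit 353) (nat_lit 6) [nat_lit 10, nat_lit 13, nat_lit 0, nat_lit 11, nat_lit 9, nat_lit 6, nat_lit 11, nat_lit 6], .rel (nat_lit 356) (nat_lit 2) [nat_lit 8, nat_lit 13, nat_lit 3, nat_lit 9, nat_lit 6, nat_lit 5, nat_lit 13, nat_lit 0], .rel (nat_lit 346) (nat_lit 3) [nat_lit 8, nat_lit 3, nat_lit 8, nat_lit 0, nat_lit 13, nat_lit 7], .rel (nat_lit 346) (nat_lit 1) [nat_lit 7, nat_lit 13, nat_lit 8, nat_lit 3, nat_lit 8, nat_lit 0], .rel (nat_lit 351) (nat_lit 5) [nat_lit 3, nat_lit 13, nat_lit 0, nat_lit 3, nat_lit 9, nat_lit 5, nat_lit 9], .rel (nat_lit 347) (nat_lit 3) [nat_lit 6, nat_lit 13, nat_lit 1, nat_lit 9, nat_lit 2, nat_lit 9], .rel (nat_lit 347) (nat_lit 5) [nat_lit 1, nat_lit 9, nat_lit 2, nat_lit 9, nat_lit 13, nat_lit 6], .rel (nat_lit 351) (nat_lit 7) [nat_lit 0, nat_lit 3, nat_lit 9, nat_lit 5, nat_lit 9, nat_lit 13, nat_lit 3], .rel (nat_lit 354) (nat_lit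 0) [nat_lit 0, nat_lit 2, nat_lit 1, nat_lit 13, nat_lit 8, nat_lit 5, nat_lit 2, nat_lit 9], .rel (nat_lit 350) (nat_lit 0) [nat_lit 2, nat_lit 13, nat_lit 8, nat_lit 4, nat_lit 8, nat_lit 2, nat_lit 1], .rel (nat_lit 350) (nat_lit 2) [nat_lit 8, nat_lit 4, nat_lit 8, nat_lit 2, nat_lit 1, nat_lit 13, nat_lit 2], .rel (nat_lit 355) (nat_lit 4) [nat_lit 0, nat_lit 3, nat_lit 1, nat_lit 13, nat_lit 8, nat_lit 3, nat_lit 4, nat_lit 9], .rel (nat_lit 363) (nat_lit 5) [nat_lit 0, nat_lit 11, nat_lit 1, nat_lit 13, nat_lit 7, nat_lit 9, nat_lit 3, nat_lit 10, nat_lit 11], .rel (nat_lit 356) (nat_lit 0) [nat_lit 0, nat_lit 13, nat_lit 8, nat_lit 13, nat_lit 3, nat_lit 9, nat_lit 6, nat_lit 5], .rel (nat_lit 354) (nat_lit 4) [nat_lit 8, nat_lit 5, nat_lit 2, nat_lit 9, nat_lit 13, nat_lit 0, nat_lit 2, nat_lit 1], .rel (nat_lit 362) (nat_lit 4) [nat_lit 11, nat_lit 10, nat_lit 2, nat_lit 8, nat_lit 6, nat_lit 13, nat_lit 0, nat_lit 11, nat_lit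 1], .rel (nat_lit 361) (nat_lit 5) [nat_lit 0, nat_lit 10, nat_lit 1, nat_lit 13, nat_lit 3, nat_lit 8, nat_lit 11, nat_lit 3, nat_lit 10], .rel (nat_lit 365) (nat_lit 5) [nat_lit 9, nat_lit 5, nat_lit 8, nat_lit 13, nat_lit 0, nat_lit 9, nat_lit 3, nat_lit 7, nat_lit 9], .rel (nat_lit 364) (nat_lit 4) [nat_lit 8, nat_lit 6, nat_lit 2, nat_lit 8, nat_lit 1, nat_lit 13, nat_lit 9, nat_lit 4, nat_lit 8], .rel (nat_lit 359) (nat_lit 5) [nat_lit 0, nat_lit 5, nat_lit 1, nat_lit 13, nat_lit 0, nat_lit 2, nat_lit 8, nat_lit 2, nat_lit 8], .rel (nat_lit 355) (nat_lit 8) [nat_lit 8, nat_lit 3, nat_lit 4, nat_lit 9, nat_lit 13, nat_lit 0, nat_lit 3, nat_lit 1], .rel (nat_lit 357) (nat_lit 8) [nat_lit 4, nat_lit 7, nat_lit 8, nat_lit 2, nat_lit 13, nat_lit 9, nat_lit 13, nat_lit 1], .rel (nat_lit 360) (nat_lit 4) [nat_lit 10, nat_lit 2, nat_lit 11, nat_lit 9, nat_lit 2, nat_lit 13, nat_lit 0, nat_lit 10, nat_lit 1], .rel (nat_lit 365) (nat_lit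 9) [nat_lit 0, nat_lit 9, nat_lit 3, nat_lit 7, nat_lit 9, nat_lit 13, nat_lit 9, nat_lit 5, nat_lit 8], .rel (nat_lit 364) (nat_lit 0) [nat_lit 9, nat_lit 4, nat_lit 8, nat_lit 13, nat_lit 8, nat_lit 6, nat_lit 2, nat_lit 8, nat_lit 1], .rel (nat_lit 358) (nat_lit 4) [nat_lit 9, nat_lit 3, nat_lit 9, nat_lit 3, nat_lit 1, nat_lit 13, nat_lit 0, nat_lit 4, nat_lit 1], .rel (nat_lit 360) (nat_lit 0) [nat_lit 0, nat_lit 10, nat_lit 1, nat_lit 13, nat_lit 10, nat_lit 2, nat_lit 11, nat_lit 9, nat_lit 2], .rel (nat_lit 361) (nat_lit 9) [nat_lit 3, nat_lit 8, nat_lit 11, nat_lit 3, nat_lit 10, nat_lit 13, nat_lit 0, nat_lit 10, nat_lit 1], .rel (nat_lit 362) (nat_lit 0) [nat_lit 0, nat_lit 11, nat_lit 1, nat_lit 13, nat_lit 11, nat_lit 10, nat_lit 2, nat_lit 8, nat_lit 6], .rel (nat_lit 359) (nat_lit 9) [nat_lit 0, nat_lit 2, nat_lit 8, nat_lit 2, nat_lit 8, nat_lit 13, nat_lit 0, nat_lit 5, nat_lit 1]],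
  [.rel (nat_lit 28) (nat_lit 0) [nat_lit 14], .defn, .rel (nat_lit 420) (nat_lit 2) [nat_lit 10, nat_lit 3, nat_lit 14, nat_lit 2, nat_lit 10], .rel (nat_lit 418) (nat_lit 4) [nat_lit 4, nat_lit 2, nat_lit 5, nat_lit 14, nat_lit 2], .rel (nat_lit 418) (nat_lit 2) [nat_lit 2, nat_lit 14, nat_lit 4, nat_lit 2, nat_lit 5], .rel (nat_lit 419) (nat_lit 3) [nat_lit 4, nat_lit 3, nat_lit 5, nat_lit 14, nat_lit 3], .rel (nat_lit 419) (nat_lit 1) [nat_lit 3, nat_lit 14, nat_lit 4, nat_lit 3, nat_lit 5], .rel (nat_lit 367) (nat_lit 7) [nat_lit 0, nat_lit 6, nat_lit 5, nat_lit 8, nat_lit 1, nat_lit 11, nat_lit 13], .rel (nat_lit 366) (nat_lit 0) [nat_lit 13, nat_lit 11, nat_lit 0, nat_lit 9, nat_lit 4, nat_lit 7, nat_lit 1], .rel (nat_lit 423) (nat_lit 1) [nat_lit 5, nat_lit 14, nat_lit 2, nat_lit 1, nat_lit 1, nat_lit 4], .rel (nat_lit 420) (nat_lit 5) [nat_lit 2, nat_lit 10, nat_lit 14, nat_lit 10, nat_lit 3], .rel (nat_lit 422) (nat_lit 5)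 [nat_lit 5, nat_lit 0, nat_lit 0, nat_lit 3, nat_lit 14, nat_lit 4], .rel (nat_lit 432) (nat_lit 2) [nat_lit 1, nat_lit 14, nat_lit 4, nat_lit 2, nat_lit 5, nat_lit 3, nat_lit 1, nat_lit 14, nat_lit 0], .rel (nat_lit 423) (nat_lit 3) [nat_lit 2, nat_lit 1, nat_lit 1, nat_lit 4, nat_lit 14, nat_lit 5], .rel (nat_lit 424) (nat_lit 2) [nat_lit 7, nat_lit 10, nat_lit 2, nat_lit 10, nat_lit 3, nat_lit 14, nat_lit 6], .rel (nat_lit 422) (nat_lit 3) [nat_lit 4, nat_lit 14, nat_lit 5, nat_lit 0, nat_lit 0, nat_lit 3], .rel (nat_lit 425) (nat_lit 5) [nat_lit 7, nat_lit 14, nat_lit 2, nat_lit 10, nat_lit 3, nat_lit 10, nat_lit 6], .rel (nat_lit 424) (nat_lit 0) [nat_lit 6, nat_lit 14, nat_lit 7, nat_lit 10, nat_lit 2, nat_lit 10, nat_lit 3], .rel (nat_lit 432) (nat_lit 0) [nat_lit 0, nat_lit 14, nat_lit 1, nat_lit 14, nat_lit 4, nat_lit 2, nat_lit 5, nat_lit 3, nat_lit 1], .rel (nat_lit 428) (nat_lit 0) [nat_lit 0, nat_lit 2, nat_lit 1, nat_lit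 14, nat_lit 10, nat_lit 4, nat_lit 2, nat_lit 7, nat_lit 10], .rel (nat_lit 425) (nat_lit 7) [nat_lit 2, nat_lit 10, nat_lit 3, nat_lit 10, nat_lit 6, nat_lit 14, nat_lit 7], .rel (nat_lit 426) (nat_lit 4) [nat_lit 1, nat_lit 4, nat_lit 0, nat_lit 14, nat_lit 0, nat_lit 4, nat_lit 1], .rel (nat_lit 426) (nat_lit 0) [nat_lit 0, nat_lit 4, nat_lit 1, nat_lit 14, nat_lit 1, nat_lit 4, nat_lit 0], .rel (nat_lit 429) (nat_lit 5) [nat_lit 0, nat_lit 3, nat_lit 1, nat_lit 14, nat_lit 10, nat_lit 6, nat_lit 3, nat_lit 5, nat_lit 10], .rel (nat_lit 433) (nat_lit 9) [nat_lit 0, nat_lit 2, nat_lit 4, nat_lit 3, nat_lit 5, nat_lit 14, nat_lit 0, nat_lit 14, nat_lit 1], .rel (nat_lit 427) (nat_lit 7) [nat_lit 1, nat_lit 5, nat_lit 0, nat_lit 14, nat_lit 0, nat_lit 5, nat_lit 1], .rel (nat_lit 428) (nat_lit 4) [nat_lit 10, nat_lit 4, nat_lit 2, nat_lit 7, nat_lit 10, nat_lit 14, nat_lit 0, nat_lit 2, nat_lit 1], .rel (nat_lit 433) (nat_lit 7) [nat_lit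 1, nat_lit 14, nat_lit 0, nat_lit 2, nat_lit 4, nat_lit 3, nat_lit 5, nat_lit 14, nat_lit 0], .rel (nat_lit 427) (nat_lit 3) [nat_lit 0, nat_lit 5, nat_lit 1, nat_lit 14, nat_lit 1, nat_lit 5, nat_lit 0], .rel (nat_lit 429) (nat_lit 9) [nat_lit 10, nat_lit 6, nat_lit 3, nat_lit 5, nat_lit 10, nat_lit 14, nat_lit 0, nat_lit 3, nat_lit 1], .rel (nat_lit 433) (nat_lit 5) [nat_lit 0, nat_lit 14, nat_lit 1, nat_lit 14, nat_lit 0, nat_lit 2, nat_lit 4, nat_lit 3, nat_lit 5], .rel (nat_lit 432) (nat_lit 4) [nat_lit 4, nat_lit 2, nat_lit 5, nat_lit 3, nat_lit 1, nat_lit 14, nat_lit 0, nat_lit 14, nat_lit 1], .rel (nat_lit 430) (nat_lit 4) [nat_lit 2, nat_lit 1, nat_lit 10, nat_lit 0, nat_lit 3, nat_lit 14, nat_lit 0, nat_lit 10, nat_lit 1], .rel (nat_lit 435) (nat_lit 6) [nat_lit 0, nat_lit 7, nat_lit 1, nat_lit 14, nat_lit 0, nat_lit 10, nat_lit 4, nat_lit 0, nat_lit 10, nat_lit 2], .rel (nat_lit 430) (nat_lit 0) [nat_lit 0, nat_lit 10, nat_lit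 1, nat_lit 14, nat_lit 2, nat_lit 1, nat_lit 10, nat_lit 0, nat_lit 3], .rel (nat_lit 434) (nat_lit 4) [nat_lit 3, nat_lit 10, nat_lit 1, nat_lit 5, nat_lit 10, nat_lit 1, nat_lit 14, nat_lit 0, nat_lit 6, nat_lit 1], .rel (nat_lit 443) (nat_lit 0) [nat_lit 6, nat_lit 12, nat_lit 14, nat_lit 3, nat_lit 14, nat_lit 6, nat_lit 12, nat_lit 14, nat_lit 3, nat_lit 14, nat_lit 6, nat_lit 12, nat_lit 14, nat_lit 3], .rel (nat_lit 450) (nat_lit 3) [nat_lit 7, nat_lit 2, nat_lit 14, nat_lit 12, nat_lit 14, nat_lit 7, nat_lit 2, nat_lit 14, nat_lit 12, nat_lit 14, nat_lit 7, nat_lit 2, nat_lit 14, nat_lit 12], .rel (nat_lit 455) (nat_lit 2) [nat_lit 12, nat_lit 3, nat_lit 14, nat_lit 4, nat_lit 14, nat_lit 12, nat_lit 3, nat_lit 14, nat_lit 4, nat_lit 14, nat_lit 12, nat_lit 3, nat_lit 14, nat_lit 4], .rel (nat_lit 434) (nat_lit 0) [nat_lit 0, nat_lit 6, nat_lit 1, nat_lit 14, nat_lit 3, nat_lit 10, nat_lit 1, nat_lit 5, nat_lit 10, nat_lit 1],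 .rel (nat_lit 435) (nat_lit 10) [nat_lit 0, nat_lit 10, nat_lit 4, nat_lit 0, nat_lit 10, nat_lit 2, nat_lit 14, nat_lit 0, nat_lit 7, nat_lit 1], .rel (nat_lit 440) (nat_lit 4) [nat_lit 2, nat_lit 14, nat_lit 12, nat_lit 6, nat_lit 14, nat_lit 2, nat_lit 14, nat_lit 12, nat_lit 6, nat_lit 14, nat_lit 2, nat_lit 14, nat_lit 12, nat_lit 6], .rel (nat_lit 451) (nat_lit 3) [nat_lit 3, nat_lit 6, nat_lit 14, nat_lit 12, nat_lit 14, nat_lit 3, nat_lit 6, nat_lit 14, nat_lit 12, nat_lit 14, nat_lit 3, nat_lit 6, nat_lit 14, nat_lit 12], .rel (nat_lit 457) (nat_lit 0) [nat_lit 7, nat_lit 14, nat_lit 12, nat_lit 3, nat_lit 14, nat_lit 7, nat_lit 14, nat_lit 12, nat_lit 3, nat_lit 14, nat_lit 7, nat_lit 14, nat_lit 12, nat_lit 3], .rel (nat_lit 458) (nat_lit 4) [nat_lit 2, nat_lit 12, nat_lit 14, nat_lit 7, nat_lit 14, nat_lit 2, nat_lit 12, nat_lit 14, nat_lit 7, nat_lit 14, nat_lit 2, nat_lit 12, nat_lit 14, nat_lit 7], .rel (nat_lit 444)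 (nat_lit 3) [nat_lit 4, nat_lit 2, nat_lit 14, nat_lit 12, nat_lit 14, nat_lit 4, nat_lit 2, nat_lit 14, nat_lit 12, nat_lit 14, nat_lit 4, nat_lit 2, nat_lit 14, nat_lit 12], .rel (nat_lit 447) (nat_lit 1) [nat_lit 12, nat_lit 14, nat_lit 3, nat_lit 4, nat_lit 14, nat_lit 12, nat_lit 14, nat_lit 3, nat_lit 4, nat_lit 14, nat_lit 12, nat_lit 14, nat_lit 3, nat_lit 4], .rel (nat_lit 449) (nat_lit 1) [nat_lit 12, nat_lit 14, nat_lit 3, nat_lit 7, nat_lit 14, nat_lit 12, nat_lit 14, nat_lit 3, nat_lit 7, nat_lit 14, nat_lit 12, nat_lit 14, nat_lit 3, nat_lit 7], .rel (nat_lit 459) (nat_lit 0) [nat_lit 6, nat_lit 14, nat_lit 12, nat_lit 3, nat_lit 14, nat_lit 6, nat_lit 14, nat_lit 12, nat_lit 3, nat_lit 14, nat_lit 6, nat_lit 14, nat_lit 12, nat_lit 3], .rel (nat_lit 461) (nat_lit 1) [nat_lit 5, nat_lit 12, nat_lit 14, nat_lit 5, nat_lit 12, nat_lit 14, nat_lit 5, nat_lit 12, nat_lit 14, nat_lit 5, nat_lit 12, nat_lit 14, nat_lit 5, nat_lit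 12, nat_lit 14, nat_lit 5, nat_lit 12, nat_lit 14, nat_lit 5, nat_lit 12], .rel (nat_lit 442) (nat_lit 4) [nat_lit 2, nat_lit 14, nat_lit 12, nat_lit 7, nat_lit 14, nat_lit 2, nat_lit 14, nat_lit 12, nat_lit 7, nat_lit 14, nat_lit 2, nat_lit 14, nat_lit 12, nat_lit 7], .rel (nat_lit 446) (nat_lit 1) [nat_lit 12, nat_lit 14, nat_lit 5, nat_lit 2, nat_lit 14, nat_lit 12, nat_lit 14, nat_lit 5, nat_lit 2, nat_lit 14, nat_lit 12, nat_lit 14, nat_lit 5, nat_lit 2], .rel (nat_lit 449) (nat_lit 3) [nat_lit 3, nat_lit 7, nat_lit 14, nat_lit 12, nat_lit 14, nat_lit 3, nat_lit 7, nat_lit 14, nat_lit 12, nat_lit 14, nat_lit 3, nat_lit 7, nat_lit 14, nat_lit 12], .rel (nat_lit 454) (nat_lit 2) [nat_lit 5, nat_lit 14, nat_lit 2, nat_lit 12, nat_lit 14, nat_lit 5, nat_lit 14, nat_lit 2, nat_lit 12, nat_lit 14, nat_lit 5, nat_lit 14, nat_lit 2, nat_lit 12], .rel (nat_lit 457) (nat_lit 2) [nat_lit 12, nat_lit 3, nat_lit 14, nat_lit 7, nat_lit 14, nat_lit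 12, nat_lit 3, nat_lit 14, nat_lit 7, nat_lit 14, nat_lit 12, nat_lit 3, nat_lit 14, nat_lit 7], .rel (nat_lit 440) (nat_lit 1) [nat_lit 12, nat_lit 6, nat_lit 14, nat_lit 2, nat_lit 14, nat_lit 12, nat_lit 6, nat_lit 14, nat_lit 2, nat_lit 14, nat_lit 12, nat_lit 6, nat_lit 14, nat_lit 2], .rel (nat_lit 445) (nat_lit 3) [nat_lit 3, nat_lit 5, nat_lit 14, nat_lit 12, nat_lit 14, nat_lit 3, nat_lit 5, nat_lit 14, nat_lit 12, nat_lit 14, nat_lit 3, nat_lit 5, nat_lit 14, nat_lit 12], .rel (nat_lit 446) (nat_lit 3) [nat_lit 5, nat_lit 2, nat_lit 14, nat_lit 12, nat_lit 14, nat_lit 5, nat_lit 2, nat_lit 14, nat_lit 12, nat_lit 14, nat_lit 5, nat_lit 2, nat_lit 14, nat_lit 12], .rel (nat_lit 448) (nat_lit 1) [nat_lit 12, nat_lit 14, nat_lit 6, nat_lit 2, nat_lit 14, nat_lit 12, nat_lit 14, nat_lit 6, nat_lit 2, nat_lit 14, nat_lit 12, nat_lit 14, nat_lit 6, nat_lit 2], .rel (nat_lit 452) (nat_lit 4) [nat_lit 2, nat_lit 12, nat_lit 14, nat_lit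 4, nat_lit 14, nat_lit 2, nat_lit 12, nat_lit 14, nat_lit 4, nat_lit 14, nat_lit 2, nat_lit 12, nat_lit 14, nat_lit 4], .rel (nat_lit 454) (nat_lit 4) [nat_lit 2, nat_lit 12, nat_lit 14, nat_lit 5, nat_lit 14, nat_lit 2, nat_lit 12, nat_lit 14, nat_lit 5, nat_lit 14, nat_lit 2, nat_lit 12, nat_lit 14, nat_lit 5], .rel (nat_lit 455) (nat_lit 0) [nat_lit 4, nat_lit 14, nat_lit 12, nat_lit 3, nat_lit 14, nat_lit 4, nat_lit 14, nat_lit 12, nat_lit 3, nat_lit 14, nat_lit 4, nat_lit 14, nat_lit 12, nat_lit 3], .rel (nat_lit 456) (nat_lit 4) [nat_lit 2, nat_lit 12, nat_lit 14, nat_lit 6, nat_lit 14, nat_lit 2, nat_lit 12, nat_lit 14, nat_lit 6, nat_lit 14, nat_lit 2, nat_lit 12, nat_lit 14, nat_lit 6], .rel (nat_lit 441) (nat_lit 3) [nat_lit 3, nat_lit 14, nat_lit 7, nat_lit 12, nat_lit 14, nat_lit 3, nat_lit 14, nat_lit 7, nat_lit 12, nat_lit 14, nat_lit 3, nat_lit 14, nat_lit 7, nat_lit 12], .rel (nat_lit 445) (nat_lit 1) [nat_lit 12, nat_lit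 14, nat_lit 3, nat_lit 5, nat_lit 14, nat_lit 12, nat_lit 14, nat_lit 3, nat_lit 5, nat_lit 14, nat_lit 12, nat_lit 14, nat_lit 3, nat_lit 5], .rel (nat_lit 447) (nat_lit 3) [nat_lit 3, nat_lit 4, nat_lit 14, nat_lit 12, nat_lit 14, nat_lit 3, nat_lit 4, nat_lit 14, nat_lit 12, nat_lit 14, nat_lit 3, nat_lit 4, nat_lit 14, nat_lit 12], .rel (nat_lit 450) (nat_lit 1) [nat_lit 12, nat_lit 14, nat_lit 7, nat_lit 2, nat_lit 14, nat_lit 12, nat_lit 14, nat_lit 7, nat_lit 2, nat_lit 14, nat_lit 12, nat_lit 14, nat_lit 7, nat_lit 2], .rel (nat_lit 452) (nat_lit 2) [nat_lit 4, nat_lit 14, nat_lit 2, nat_lit 12, nat_lit 14, nat_lit 4, nat_lit 14, nat_lit 2, nat_lit 12, nat_lit 14, nat_lit 4, nat_lit 14, nat_lit 2, nat_lit 12], .rel (nat_lit 453) (nat_lit 0) [nat_lit 5, nat_lit 14, nat_lit 12, nat_lit 3, nat_lit 14, nat_lit 5, nat_lit 14, nat_lit 12, nat_lit 3, nat_lit 14, nat_lit 5, nat_lit 14, nat_lit 12, nat_lit 3], .rel (nat_lit 453) (nat_lit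 2) [nat_lit 12, nat_lit 3, nat_lit 14, nat_lit 5, nat_lit 14, nat_lit 12, nat_lit 3, nat_lit 14, nat_lit 5, nat_lit 14, nat_lit 12, nat_lit 3, nat_lit 14, nat_lit 5], .rel (nat_lit 456) (nat_lit 2) [nat_lit 6, nat_lit 14, nat_lit 2, nat_lit 12, nat_lit 14, nat_lit 6, nat_lit 14, nat_lit 2, nat_lit 12, nat_lit 14, nat_lit 6, nat_lit 14, nat_lit 2, nat_lit 12], .rel (nat_lit 466) (nat_lit 2) [nat_lit 6, nat_lit 12, nat_lit 14, nat_lit 6, nat_lit 12, nat_lit 14, nat_lit 6, nat_lit 12, nat_lit 14, nat_lit 6, nat_lit 12, nat_lit 14, nat_lit 6, nat_lit 12, nat_lit 14, nat_lit 6, nat_lit 12, nat_lit 14, nat_lit 6, nat_lit 12], .rel (nat_lit 441) (nat_lit 0) [nat_lit 7, nat_lit 12, nat_lit 14, nat_lit 3, nat_lit 14, nat_lit 7, nat_lit 12, nat_lit 14, nat_lit 3, nat_lit 14, nat_lit 7, nat_lit 12, nat_lit 14, nat_lit 3], .rel (nat_lit 443) (nat_lit 3) [nat_lit 3, nat_lit 14, nat_lit 6, nat_lit 12, nat_lit 14, nat_lit 3, nat_lit 14, nat_lit 6,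 nat_lit 12, nat_lit 14, nat_lit 3, nat_lit 14, nat_lit 6, nat_lit 12], .rel (nat_lit 444) (nat_lit 1) [nat_lit 12, nat_lit 14, nat_lit 4, nat_lit 2, nat_lit 14, nat_lit 12, nat_lit 14, nat_lit 4, nat_lit 2, nat_lit 14, nat_lit 12, nat_lit 14, nat_lit 4, nat_lit 2], .rel (nat_lit 451) (nat_lit 1) [nat_lit 12, nat_lit 14, nat_lit 3, nat_lit 6, nat_lit 14, nat_lit 12, nat_lit 14, nat_lit 3, nat_lit 6, nat_lit 14, nat_lit 12, nat_lit 14, nat_lit 3, nat_lit 6], .rel (nat_lit 459) (nat_lit 2) [nat_lit 12, nat_lit 3, nat_lit 14, nat_lit 6, nat_lit 14, nat_lit 12, nat_lit 3, nat_lit 14, nat_lit 6, nat_lit 14, nat_lit 12, nat_lit 3, nat_lit 14, nat_lit 6], .rel (nat_lit 460) (nat_lit 1) [nat_lit 12, nat_lit 4, nat_lit 14, nat_lit 12, nat_lit 4, nat_lit 14, nat_lit 12, nat_lit 4, nat_lit 14, nat_lit 12, nat_lit 4, nat_lit 14, nat_lit 12, nat_lit 4, nat_lit 14, nat_lit 12, nat_lit 4, nat_lit 14, nat_lit 12, nat_lit 4], .rel (nat_lit 462) (nat_lit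 2) [nat_lit 4, nat_lit 12, nat_lit 14, nat_lit 4, nat_lit 12, nat_lit 14, nat_lit 4, nat_lit 12, nat_lit 14, nat_lit 4, nat_lit 12, nat_lit 14, nat_lit 4, nat_lit 12, nat_lit 14, nat_lit 4, nat_lit 12, nat_lit 14, nat_lit 4, nat_lit 12], .rel (nat_lit 464) (nat_lit 1) [nat_lit 12, nat_lit 6, nat_lit 14, nat_lit 12, nat_lit 6, nat_lit 14, nat_lit 12, nat_lit 6, nat_lit 14, nat_lit 12, nat_lit 6, nat_lit 14, nat_lit 12, nat_lit 6, nat_lit 14, nat_lit 12, nat_lit 6, nat_lit 14, nat_lit 12, nat_lit 6], .rel (nat_lit 465) (nat_lit 1) [nat_lit 7, nat_lit 12, nat_lit 14, nat_lit 7, nat_lit 12, nat_lit 14, nat_lit 7, nat_lit 12, nat_lit 14, nat_lit 7, nat_lit 12, nat_lit 14, nat_lit 7, nat_lit 12, nat_lit 14, nat_lit 7, nat_lit 12, nat_lit 14, nat_lit 7, nat_lit 12], .rel (nat_lit 487) (nat_lit 2) [nat_lit 1, nat_lit 12, nat_lit 7, nat_lit 14, nat_lit 1, nat_lit 12, nat_lit 7, nat_lit 14, nat_lit 1, nat_lit 12, nat_lit 7, nat_lit 14, nat_lit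 1, nat_lit 12, nat_lit 7, nat_lit 14, nat_lit 1, nat_lit 12, nat_lit 7, nat_lit 14, nat_lit 1, nat_lit 12, nat_lit 7, nat_lit 14, nat_lit 1, nat_lit 12, nat_lit 7], .rel (nat_lit 513) (nat_lit 3) [nat_lit 5, nat_lit 12, nat_lit 14, nat_lit 10, nat_lit 14, nat_lit 5, nat_lit 12, nat_lit 14, nat_lit 10, nat_lit 14, nat_lit 5, nat_lit 12, nat_lit 14, nat_lit 10, nat_lit 14, nat_lit 5, nat_lit 12, nat_lit 14, nat_lit 10, nat_lit 14, nat_lit 5, nat_lit 12, nat_lit 14, nat_lit 10, nat_lit 14, nat_lit 5, nat_lit 12, nat_lit 14, nat_lit 10], .rel (nat_lit 514) (nat_lit 4) [nat_lit 4, nat_lit 12, nat_lit 14, nat_lit 10, nat_lit 14, nat_lit 4, nat_lit 12, nat_lit 14, nat_lit 10, nat_lit 14, nat_lit 4, nat_lit 12, nat_lit 14, nat_lit 10, nat_lit 14, nat_lit 4, nat_lit 12, nat_lit 14, nat_lit 10, nat_lit 14, nat_lit 4, nat_lit 12, nat_lit 14, nat_lit 10, nat_lit 14, nat_lit 4, nat_lit 12, nat_lit 14, nat_lit 10], .rel (nat_lit 515) (nat_lit 0)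 [nat_lit 10, nat_lit 14, nat_lit 12, nat_lit 5, nat_lit 14, nat_lit 10, nat_lit 14, nat_lit 12, nat_lit 5, nat_lit 14, nat_lit 10, nat_lit 14, nat_lit 12, nat_lit 5, nat_lit 14, nat_lit 10, nat_lit 14, nat_lit 12, nat_lit 5, nat_lit 14, nat_lit 10, nat_lit 14, nat_lit 12, nat_lit 5, nat_lit 14, nat_lit 10, nat_lit 14, nat_lit 12, nat_lit 5]]]
noncomputable def c9 : TCert2 := ⟨56230, 0, 57417, 15, 65535, 1048575, 2, T9, I9, D9, E9, J9, W9, [[nat_lit 0],
  [nat_lit 1],
  [nat_lit 2],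
  [nat_lit 3],
  [nat_lit 4],
  [nat_lit 5],
  [nat_lit 6],
  [nat_lit 7],
  [nat_lit 8],
  [nat_lit 9],
  [nat_lit 10],
  [nat_lit 11],
  [nat_lit 12]], RL9⟩
noncomputable def Ws : List (List ℕ) := [[nat_lit 4, nat_lit 4, nat_lit 1, nat_lit 2, nat_lit 5, nat_lit 1, nat_lit 1, nat_lit 5, nat_lit 1, nat_lit 3, nat_lit 1, nat_lit 2, nat_lit 3, nat_lit 6, nat_lit 5, nat_lit 1, nat_lit 2, nat_lit 5, nat_lit 6, nat_lit 4],
  [nat_lit 3, nat_lit 6, nat_lit 5, nat_lit 2, nat_lit 0, nat_lit 5, nat_lit 6, nat_lit 4, nat_lit 2, nat_lit 0, nat_lit 4, nat_lit 0, nat_lit 5, nat_lit 0, nat_lit 0, nat_lit 5, nat_lit 2, nat_lit 0, nat_lit 3, nat_lit 3],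
  [nat_lit 2, nat_lit 6, nat_lit 0, nat_lit 4, nat_lit 0, nat_lit 4, nat_lit 4, nat_lit 0, nat_lit 0, nat_lit 5, nat_lit 6, nat_lit 5, nat_lit 1, nat_lit 2, nat_lit 4, nat_lit 5, nat_lit 6, nat_lit 5, nat_lit 0, nat_lit 5, nat_lit 0, nat_lit 0, nat_lit 2],
  [nat_lit 2, nat_lit 1, nat_lit 1, nat_lit 5, nat_lit 1, nat_lit 5, nat_lit 6, nat_lit 5, nat_lit 3, nat_lit 2, nat_lit 0, nat_lit 5, nat_lit 6, nat_lit 5, nat_lit 1, nat_lit 1, nat_lit 3, nat_lit 3, nat_lit 1, nat_lit 3, nat_lit 1, nat_lit 6, nat_lit 2],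
  [nat_lit 6, nat_lit 3, nat_lit 0, nat_lit 4, nat_lit 1, nat_lit 1, nat_lit 3, nat_lit 5, nat_lit 0, nat_lit 5, nat_lit 0, nat_lit 2, nat_lit 3, nat_lit 0, nat_lit 0, nat_lit 6, nat_lit 5, nat_lit 0, nat_lit 3, nat_lit 5, nat_lit 0, nat_lit 5, nat_lit 6],
  [nat_lit 6, nat_lit 5, nat_lit 1, nat_lit 5, nat_lit 4, nat_lit 1, nat_lit 5, nat_lit 6, nat_lit 1, nat_lit 1, nat_lit 4, nat_lit 2, nat_lit 1, nat_lit 5, nat_lit 1, nat_lit 5, nat_lit 4, nat_lit 0, nat_lit 0, nat_lit 3, nat_lit 1, nat_lit 4, nat_lit 6],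
  [nat_lit 2, nat_lit 6, nat_lit 5, nat_lit 4, nat_lit 1, nat_lit 4, nat_lit 5, nat_lit 1, nat_lit 5, nat_lit 1, nat_lit 5, nat_lit 6, nat_lit 5, nat_lit 1, nat_lit 1, nat_lit 5, nat_lit 6, nat_lit 1, nat_lit 3, nat_lit 6, nat_lit 3, nat_lit 6],
  [nat_lit 6, nat_lit 4, nat_lit 6, nat_lit 4, nat_lit 0, nat_lit 6, nat_lit 5, nat_lit 0, nat_lit 0, nat_lit 5, nat_lit 6, nat_lit 5, nat_lit 0, nat_lit 5, nat_lit 0, nat_lit 5, nat_lit 3, nat_lit 0, nat_lit 3, nat_lit 5, nat_lit 6, nat_lit 2],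
  [nat_lit 0, nat_lit 5, nat_lit 0, nat_lit 4, nat_lit 0, nat_lit 0, nat_lit 5, nat_lit 1, nat_lit 2, nat_lit 5, nat_lit 1, nat_lit 2, nat_lit 4, nat_lit 5, nat_lit 0, nat_lit 6, nat_lit 5, nat_lit 0, nat_lit 5, nat_lit 0, nat_lit 3, nat_lit 1],
  [nat_lit 0, nat_lit 4, nat_lit 1, nat_lit 5, nat_lit 1, nat_lit 5, nat_lit 6, nat_lit 1, nat_lit 5, nat_lit 3, nat_lit 2, nat_lit 0, nat_lit 5, nat_lit 2, nat_lit 0, nat_lit 5, nat_lit 1, nat_lit 1, nat_lit 3, nat_lit 1, nat_lit 5, nat_lit 1],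
  [nat_lit 4, nat_lit 0, nat_lit 0, nat_lit 0, nat_lit 0, nat_lit 4, nat_lit 5, nat_lit 0, nat_lit 5, nat_lit 0, nat_lit 3, nat_lit 5, nat_lit 1],
  [nat_lit 1, nat_lit 2, nat_lit 4, nat_lit 1, nat_lit 2, nat_lit 1, nat_lit 3, nat_lit 5, nat_lit 1, nat_lit 5, nat_lit 1, nat_lit 4, nat_lit 4, nat_lit 1, nat_lit 6, nat_lit 5, nat_lit 1, nat_lit 5, nat_lit 6, nat_lit 5, nat_lit 1, nat_lit 2, nat_lit 3],
  [nat_lit 6, nat_lit 2, nat_lit 5, nat_lit 1, nat_lit 5, nat_lit 0, nat_lit 5, nat_lit 6, nat_lit 5, nat_lit 1, nat_lit 5, nat_lit 0, nat_lit 2, nat_lit 5, nat_lit 6],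
  [nat_lit 0, nat_lit 5, nat_lit 1, nat_lit 2, nat_lit 4, nat_lit 4, nat_lit 1, nat_lit 2, nat_lit 1, nat_lit 5, nat_lit 1, nat_lit 1, nat_lit 5, nat_lit 6, nat_lit 5, nat_lit 1, nat_lit 3, nat_lit 5, nat_lit 1, nat_lit 4, nat_lit 5, nat_lit 6],
  [nat_lit 1, nat_lit 4, nat_lit 0, nat_lit 4, nat_lit 4, nat_lit 5, nat_lit 1, nat_lit 4, nat_lit 6, nat_lit 5, nat_lit 0, nat_lit 6, nat_lit 3, nat_lit 5, nat_lit 0, nat_lit 6, nat_lit 5, nat_lit 1, nat_lit 1, nat_lit 5, nat_lit 3]]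
noncomputable def Us : List (List ℕ) := [[nat_lit 5, nat_lit 13, nat_lit 12, nat_lit 8, nat_lit 8, nat_lit 13, nat_lit 12, nat_lit 13, nat_lit 0, nat_lit 12, nat_lit 2, nat_lit 10, nat_lit 14, nat_lit 12, nat_lit 13, nat_lit 12, nat_lit 13, nat_lit 8, nat_lit 10, nat_lit 12],
  [nat_lit 0, nat_lit 3, nat_lit 13, nat_lit 3, nat_lit 12, nat_lit 13, nat_lit 12, nat_lit 13, nat_lit 3, nat_lit 8, nat_lit 12, nat_lit 2, nat_lit 11, nat_lit 9, nat_lit 12, nat_lit 13, nat_lit 12, nat_lit 11, nat_lit 14, nat_lit 12, nat_lit 5],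
  [nat_lit 0, nat_lit 13, nat_lit 12, nat_lit 8, nat_lit 13, nat_lit 12, nat_lit 13, nat_lit 3, nat_lit 12, nat_lit 13, nat_lit 8, nat_lit 12, nat_lit 4, nat_lit 0, nat_lit 14, nat_lit 12, nat_lit 13, nat_lit 12, nat_lit 13, nat_lit 10, nat_lit 12, nat_lit 14],
  [nat_lit 8, nat_lit 13, nat_lit 4, nat_lit 12, nat_lit 0, nat_lit 13, nat_lit 12, nat_lit 13, nat_lit 12, nat_lit 7, nat_lit 13, nat_lit 3, nat_lit 10, nat_lit 11, nat_lit 12, nat_lit 14, nat_lit 12, nat_lit 13, nat_lit 10, nat_lit 7],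
  [nat_lit 6, nat_lit 4, nat_lit 13, nat_lit 12, nat_lit 13, nat_lit 12, nat_lit 13, nat_lit 3, nat_lit 12, nat_lit 13, nat_lit 7, nat_lit 12, nat_lit 13, nat_lit 11, nat_lit 12, nat_lit 13, nat_lit 9, nat_lit 12, nat_lit 13, nat_lit 12, nat_lit 11],
  [nat_lit 9, nat_lit 13, nat_lit 12, nat_lit 13, nat_lit 12, nat_lit 9, nat_lit 13, nat_lit 2, nat_lit 1, nat_lit 12, nat_lit 13, nat_lit 12, nat_lit 13, nat_lit 14, nat_lit 12, nat_lit 14, nat_lit 12, nat_lit 13, nat_lit 10, nat_lit 9],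
  [nat_lit 8, nat_lit 2, nat_lit 12, nat_lit 13, nat_lit 12, nat_lit 13, nat_lit 12, nat_lit 8, nat_lit 13, nat_lit 5, nat_lit 6, nat_lit 0, nat_lit 10, nat_lit 14, nat_lit 12, nat_lit 14, nat_lit 12, nat_lit 13, nat_lit 12, nat_lit 11, nat_lit 9]]
noncomputable def TW : List (List ℕ) := [[nat_lit 1, nat_lit 1, nat_lit 4, nat_lit 0, nat_lit 4, nat_lit 1, nat_lit 5, nat_lit 0, nat_lit 2, nat_lit 5, nat_lit 1, nat_lit 6, nat_lit 5, nat_lit 1, nat_lit 6, nat_lit 5, nat_lit 1, nat_lit 3, nat_lit 3, nat_lit 0, nat_lit 5],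
  [nat_lit 4, nat_lit 2, nat_lit 0, nat_lit 4, nat_lit 1, nat_lit 1, nat_lit 3, nat_lit 6, nat_lit 5, nat_lit 0, nat_lit 0, nat_lit 3, nat_lit 5, nat_lit 1, nat_lit 3, nat_lit 6],
  [nat_lit 3, nat_lit 1, nat_lit 4, nat_lit 1, nat_lit 5, nat_lit 1, nat_lit 2, nat_lit 4, nat_lit 5, nat_lit 1, nat_lit 4, nat_lit 0, nat_lit 6, nat_lit 5, nat_lit 1, nat_lit 1, nat_lit 3, nat_lit 5, nat_lit 1, nat_lit 6, nat_lit 3, nat_lit 0, nat_lit 5],
  [nat_lit 2, nat_lit 4, nat_lit 0, nat_lit 0, nat_lit 3],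
  [nat_lit 2, nat_lit 1, nat_lit 4, nat_lit 1, nat_lit 3, nat_lit 0, nat_lit 4, nat_lit 6, nat_lit 4],
  [nat_lit 0, nat_lit 0, nat_lit 3, nat_lit 0, nat_lit 3, nat_lit 1],
  [nat_lit 4, nat_lit 6, nat_lit 0, nat_lit 4, nat_lit 0, nat_lit 4, nat_lit 1, nat_lit 5, nat_lit 0, nat_lit 2, nat_lit 5, nat_lit 0, nat_lit 3, nat_lit 0, nat_lit 6, nat_lit 5, nat_lit 0, nat_lit 3, nat_lit 5, nat_lit 6, nat_lit 0, nat_lit 4],
  [nat_lit 3, nat_lit 5, nat_lit 1, nat_lit 2, nat_lit 1, nat_lit 3, nat_lit 0, nat_lit 5, nat_lit 0, nat_lit 0, nat_lit 6, nat_lit 5, nat_lit 0, nat_lit 3, nat_lit 0, nat_lit 4, nat_lit 0, nat_lit 5],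
  [nat_lit 1, nat_lit 5, nat_lit 6, nat_lit 0, nat_lit 3, nat_lit 1, nat_lit 2, nat_lit 3, nat_lit 1, nat_lit 4, nat_lit 4, nat_lit 5, nat_lit 1, nat_lit 5, nat_lit 1, nat_lit 2, nat_lit 3, nat_lit 6, nat_lit 5, nat_lit 0],
  [nat_lit 1, nat_lit 1, nat_lit 4, nat_lit 0, nat_lit 4, nat_lit 1, nat_lit 3, nat_lit 5, nat_lit 1, nat_lit 5, nat_lit 0, nat_lit 3, nat_lit 1, nat_lit 2, nat_lit 6, nat_lit 5, nat_lit 0, nat_lit 3, nat_lit 5, nat_lit 1, nat_lit 5, nat_lit 1, nat_lit 4],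
  [nat_lit 3, nat_lit 1, nat_lit 5, nat_lit 1, nat_lit 5, nat_lit 0, nat_lit 2, nat_lit 5, nat_lit 0, nat_lit 2, nat_lit 5, nat_lit 6, nat_lit 5, nat_lit 1, nat_lit 2, nat_lit 4, nat_lit 5, nat_lit 1, nat_lit 1],
  [nat_lit 0, nat_lit 3, nat_lit 1, nat_lit 2, nat_lit 4, nat_lit 1, nat_lit 2, nat_lit 5, nat_lit 6, nat_lit 5, nat_lit 1, nat_lit 5, nat_lit 6, nat_lit 1, nat_lit 5, nat_lit 0, nat_lit 4, nat_lit 4, nat_lit 1, nat_lit 2],
  [nat_lit 5, nat_lit 1, nat_lit 3, nat_lit 0, nat_lit 4, nat_lit 5, nat_lit 1, nat_lit 1, nat_lit 5, nat_lit 1, nat_lit 2, nat_lit 6, nat_lit 5, nat_lit 1, nat_lit 2, nat_lit 5, nat_lit 0, nat_lit 3, nat_lit 1],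
  [nat_lit 5, nat_lit 0, nat_lit 0, nat_lit 4, nat_lit 1, nat_lit 3, nat_lit 5, nat_lit 1, nat_lit 1, nat_lit 3, nat_lit 5, nat_lit 1, nat_lit 2, nat_lit 6, nat_lit 5, nat_lit 1, nat_lit 5, nat_lit 1, nat_lit 6, nat_lit 4, nat_lit 5, nat_lit 6]]
noncomputable def WsM : List (List ℕ) := [[nat_lit 0, nat_lit 9, nat_lit 10, nat_lit 1],
  [nat_lit 9, nat_lit 12, nat_lit 11, nat_lit 9, nat_lit 6, nat_lit 12],
  [nat_lit 2]]
noncomputable def LDM_1d : ℕ := nat_lit 0xbf97eafc5f6be97caf8405bd97aaf45e6bc978af0401bb976aec5d6ba974ae8367b9972ae45c6b8970ae0365b796eadc5b6b696cad8361b596aad45a6b4968ad0357b3966acc596b2964ac8355b1962ac4586b0960ac0351af95eabc576ae95cab8347ad95aab4566ac958ab0343ab956aac556aa954aa8337a9952aa4546a8950aa0333a794ea9c536a694ca98327a594aa94526a4948a90323a3946a8c516a2944a88317a1942a84506a0940a803139f93ea7c4f69e93ca782a59d93aa744e69c938a702a19b936a6c4d69a934a6828599932a644c698930a602819792ea5c4b69692ca582679592aa544a694928a5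026393926a4c49692924a4825791922a4448690920a402538f91ea3c4768e91ca381c78d91aa344668c918a301c58b916a2c4568a914a281c189912a2444688910a201b78790ea1c4368690ca181b38590aa1442684908a101a783906a0c41682904a081a581902a0440680900a001a37f8fe9fc3f67e8fc9f81a17d8fa9f43e67c8f89f01977b8f69ec3d67a8f49e8193798f29e43c6788f09e0187778ee9dc3b6768ec9d8183758ea9d43a6748e89d0177738e69cc396728e49c8175718e29c4386708e09c01736f8de9bc3766e8dc9b81716d8da9b43666c8d89b01676b8d69ac3566a8d49a8163698d29a4346688d09a0157678ce99c336668cc998155658ca994326648c8990153638c698c316628c4988151618c2984306608c09800c75f8be97c2f65e8bc9780c55d8ba9742e65c8b89700c35b8b696c2d65a8b49680c1598b29642c6588b09600b7578ae95c2b6568ac9580b3558aa9542a6548a89500a7538a694c296528a49480a5518a2944286508a09400a34f89e93c2764e89c9380a14d89a9342664c8989300974b89692c2564a89492809349892924246488909200874788e91c2364688c9180854588a914226448889100834388690c2164288490808141882904206408809000773f87e8fc1f63e87c8f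80753d87a8f41e63c8788f00733b8768ec1d63a8748e8071398728e41c6388708e00673786e8dc1b63686c8d80653586a8d41a6348688d0063338668cc196328648c8061318628c4186308608c00572f85e8bc1762e85c8b80552d85a8b41662c8588b00532b8568ac1562a8548a8051298528a4146288508a00472784e89c1362684c8980452584a894126248488900432384688c1162284488804121842884106208408800371f83e87c0f61e83c8780351d83a8740e61c8388700331b83686c0d61a834868031198328640c6188308600271782e85c0b61682c8580251582a8540a6148288500231382684c0961282484802111822844086108208400170f81e83c0760e81c8380150d81a8340660c8188300130b81682c0560a81482801109812824046088108200070780e81c0360680c8180050580a814026048088100030380680c016028048080010180280400600800800000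
noncomputable def LDM_1 (u : ℕ) : ℕ := Nat.land (Nat.shiftRight LDM_1d (Nat.mul u (nat_lit 11))) (nat_lit 2047)
noncomputable def PtM_1d : ℕ := nat_lit 0xbd87878422314b9b35997f049ccdde710995893ea128fe6ccd0747ad3e1ffba78343c030e6b925c1248e52ccb6a3b8809eff1bc6aa4027db36f7d5652dbe381459760e17238b2a0cefb9a296afb256cc095612ed90e39fd32c15c7af82bb77d2fbc74c991e5743f2f680cde0c878af87dcb17a41c7fc624fcbf8b09ee3bb2e09726daa3da7fe199a4f5beaf51b116a88979e5a42932b90b4bf2f3226dddfbecfce69b8e511e11a3a15e256c7880ec84527fced35235f333a867f786a5484ca0bf83e68aa34a2e1ef55a22fcafb3731807a4de5046504aa0f42b2ab1c2ab427f6cc8012883ec0ad04e692e1a21024051eeb0c4cd4d06ab93564c24b0182f8cbfb4a7e724ac62146ec898644ccaa3e3cf46248cca748397a8e05251c17fb04dc213757387f6148e34287e8228c44fe4b74b5c4016c1a8462f142c0a127e23d8d21a01c3f3cfb8289298e06015cfed376bb7a129d0e3f37e033ea748ad22383a333942a7feb95ea6ac8299ddc475e87b8a2309f144d46152b2394496cf2ad02dcb5652da0b05d9e01efc2e35bc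4100c0f19d3a9f7c436497d41b2a435c29b33bdb1c66dec800188ac26a8006762f0d31017f99f547c90fe48ac581864332d962b28df39b925184506e9ca04c082b2acc83c716481c523fea3de539b21624c6ae5236742557854bdc050c9566efac7cb38f8080ff3f8d46426518cc293909e62746be06aa149c1970d61d2dc5c204fe4e45d45a70cbda80447c6980ffaa547442efcd275113a79473e1521d251b4f726495803a87004c14c69a518a4bd7489aa6dfa3a2f8801afdbe6f14c218e5601bad0c1bc0cbb40e701cf7b2730561b4f00779806cee21a437e0e01dacf0aa457fb99a715d2f765ec73179b3022c0ee29087f26dfc767e06922dc82562fb714ae53e719286bdc08b96e0de85a4e27029bf1d182f1fa7bee570f61e679725bb533042fcc91178abf0546657f7d6ea74afe0ba4c87a3cb20e5207229277a532cbb39c28d80a48d0215cb9488ea4e0c4930499d5bc627accf052f1a9235706c06b017cf3a9fa4864a9781159fd3992a0e8ca1b26dbac26c9fb6745e368db65be66e6e8d39fc64111b2e9cbe39ef5828e2aa11c6c89c32e4257e81c4bc7d67cbd43e959e808c1097eaa8b4abd5112c13de674dfc3bdefaed4a7a3e52c76c1e8da0cfc67c2f9f5c2ed42e011475c6053c8acf9b80ad72e3fab460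455bd6b49454d9d49882df3d9106bcaf296c0e822f02a82c9f851c8843bfb2ffd83af6206c40a3232eaea28f199c90a58a7ca3c8ce592e2399cbda82c2ab79ad514de70e08cfa6978b16913eddffb8d9d84764aa810f20c49d9ccea5c3b4e144630f5c45fbc7fd165de778090ef77ccb7c5648511d6dd57984dc26528d4405711902e8cf26e7f2fbda3f29eaf6a4f9d104cc07a94b2e80d52ae4c4a38b7c061872257ccf5722456865752ec9b283c6cfc015b32e8b6c25b8cc4dbd12ee33dc6118165f7283a68ce28552637474ffc82336789d478847e3714ab222a86e64452d4567565859af40c1d732ab79c7ac7efd8de97cbc53772e6eaac6202061cf85c6b0fdee77339f3c63c20f9f8826d09c82369a1a936a9ea85217fd002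
noncomputable def PtM_1 (u : ℕ) : ℕ := Nat.land (Nat.shiftRight PtM_1d (Nat.mul u (nat_lit 12))) (nat_lit 4095)
noncomputable def QM_1d : BT := (.node (.node (.node (.node (.leaf (nat_lit 0x665dc044000000000000000000000000000000001d1580000000000000b05c8000000087400b4c0000000000000000000000000000000000000000003340000000000006e80000000000000000000000000000000000000000000000000000000000000000000998000016300000000002751f28c008b80000000000000000000000000000000000000000000000000000000000000000000000000000000000000000000000000000000000000000000000000000000000000025c5480000000000000000000000000000000000000000001a16e00000311120000068a659045c0027145c000000000000000000000000000000000000000000000000000000000002e80006680400000ae0000000000000000000000015001fb595715dd7d001e77823388c0000000000000000000000000000000000000001880000000000)) (.leaf (nat_lit 0x2450001c000003e8ce0012000000001b23da2b0011e19438001af959020000000000000000000000000000000000000000000001504400000002d1232aead800001e64cc0000000270000018400000000000000000000000000024f0000000000bcc00000000000000000000000000000000000aa0000a002e055800ad4000012a000000000000000000000000000000000000000000000000000000000000000000000000000000000000000000000000000000000000001b28100000000000023100000002fd00000000000000000000000000000000000000000000095c002d8ad73400000000000000000000000000000000000000000000000000000000000000000846d28c162b9000001d4e09d56a0019c628009a5e4)))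 (.node (.leaf (nat_lit 0x1cea68006f00000000bec00000000000000000000004b400000000b0854200000000000001567c00000000000000000000000b77c40062c004600000000002e400249001db6091b001091c00091c00000000002e0019b00000000000008683597644000000000000000000000000000001319c8000024a81cbd1e800680000019f00000588002f0b900028001d18dc0082000000008100000000000000000000000aec00002e9000000000059df27b80076000000004d9960022f9be14a74000000000000000000000000000000000000000000000000000000000000000000000000000000000000000000000000000000)) (.leaf (nat_lit 0x222002950008e3080000000000000000000000001690000000080000000000000000000000000000000000000000000000000000000000000002ef44c00000000024d4d40000000000000000000000abcf12580000000470001cae28000000000ad00000000000000000000000920000000026c00001cf0000000000128000000000000000000000000000000000009a000c300000adc000028b72d50001e800000395b7002c30028d000d0000005700072800000000004804add618003300000000034160f400000000000000000001da00071000000000000000000001065e398002080000000000000000000000000000000000000000000000000000000000000032cc900000000947b4000006b10e59000009000c000cf088005d63269c0000000b1187366e5000df7d8000017400000b294816c536ec000000000000))))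 (.node (.node (.leaf (nat_lit 0x57aba00000a64008c1e20003fb2000000003c80000018000e92fc98002ab00000001a4b5c0075c00000000000000000000000000000000000000000000000000000000000000000000000000000000000000000000000000000000000809cc9b8ed000000000000000000000000000060878005080083e2500000000006b80000157bc4ee756380000089a688e8000dc0012400000009ae2db6c00001140000000000650005bc00001430006455400001e50000000000000000000000000000000000000000000003a28e6f8000000063800ac000001c200000000000000000000000000026171c008b000000008161700007a1c000c8a2bf20a2bc00545590000000000002981444e0002b000000000063c000016800179001c34765100000002620012800000000000000000000000000000000000)) (.leaf (nat_lit 0x5f00000000b2000000000000000000000000000000000000000000000000000000000000000003000024800bb618001765900000000000000021007a5200000000ff0000000000000000000000000080000026c0000000000000000000000000000dd00181660009f4000000000000000000000000000000000005a0140000000000000000000000002a06242a000000009500000a9e54000004f800648000000000000000000000000000000000000000000000000000000000000000000000000000000000000000002820000061400179449d12b0000000000000000000000000002dc1864caa000b86900000000000000000000000000000000000000000000a00000000000002790000000000000000000000000000000000000000000009c103002d0a00000000000000000000000000000)))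 (.node (.leaf (nat_lit 0x250000007400000000000000000000000001e91b800402a9000000000000000000000000980c000026a000003f8eb00000000a4000000010e00000524b388000000000000000000000000010d001c100000001a901000000000000000000000000000000000000000019a23400000000026422c000000000000000000000000000000000000000000a1153000e4000004e831001e3099bf000000000000000000000000000000000000000000000000000ed5d1dc003e400000251300000000001ff6c000000000000000000001c9000000024e001b13d000000000000000000000000000000000000000007c00000000007580000000000000000000000000a50013b694140000000000000000000000000000000000000000000000000000000000000000000000)) (.leaf (nat_lit 0x7400b3db8000000000000000000000000000000000000000000000040004f400000000000000000000000000000000000000000000000000000000000000000000000000000000000000000000000000000000000000000000000000000000025fa8ca10000000017000034ba110011a71800bc80000000000000000000000000000000000000000000000000000000000000083000514000023939c00000000000000000000001d800000000000052c905ecf7002f0b9c00a527e000f800029001ac0000000000000000029e26400af17800000530d100273001a1000568d8000000000000000000000000000000000000000000002d6000fb7e63b00000000000000000000000000000000000000000000000000bb27b0000000263a9800000006400000000a440000166519194b0000008f002240000086c0031c00)))))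 (.node (.node (.node (.leaf (nat_lit 0xac9ea720008a66d90c0000000000000000000000000000016d0010100000000000000000000000000000000000000000022a000007d40000000000000000000000000000000000000000000000000000149d900000001400f000000000010c0000056c000000000000000000000000000000000000000000000000000000000000000028f57c00118004180000000000000000000000000002457a0014d6a23c31800b547d000000000000000000000000000000000000000000000000000000000000000000000000000000000000000000000001bcec3cc0019c004d2a10000064cda0000000000000000000000000000000000000000001f7)) (.leaf (nat_lit 0xf50010a000ac00000328000380082400b7ead00000000000000000000000000000000000000000000000000000870000045830000001740000000002f7000002780807c00000003a9210000000000000000000000000000000000000000000000000000000000000000058000002a5002ce0180000000000000000000000be400bd00000104af4000000000000000000000000000000000000000000000de0001b00246a7c00002d400000002aa0000000000000b1002cd00000000000000000000000000000000000000000000000000000000000000000000000000000000000000000000000000000000000000000000000000000000000000000000000000000000000000000014a49400b9800440000000000000000000000000000000000000000000000b4002c700000a6c006b40000000000000000000000)))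 (.node (.leaf (nat_lit 0xc5002341fda30000000000000000000000000000000000000000000000000000000000000000000000000000000000000000e10000000024000000000000000000000000000000000000000000000000000000000000000004c00000000000001b4000000000000000000010f00000002cb000000004d001b9b625a0014fb24000000000000000000000000000000000000000000000000000000000000000000000000000000000000000000000000000000000000000000000000000004b002e3818570006aa283691000700000092700260000aba8800001d2000000000000000a48000000000000000000000000000000000000000000)) (.leaf (nat_lit 0x224000000000180000000000000000000000000000000000000000000000000d87140000000002b8002f6a5e0e0000000000000000000000000000000000000000000000000000000000000000000000000000000000000000000000000000000000000000000000000000000000000000000000000001fe001fc2e08100000000000000000000000000000000000000000000000000000000000000000000000000000000000000000000000000000000000000000000000000000000000000000000000000000000000000000000000000000000000000000000000000097400000d3000000000009c69000c87c0000000000000000000000088400a2000002c578400000000000000000000000000000000000000000000000000000000000000000000000000000000000000000000000000000000000000000000000000))))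 (.node (.node (.leaf (nat_lit 0x22a670021a3880000000000000000000000000000000000000000000000000000000000000092c00000004a40000000000000000000000000002a40000000ab00000000000000000000000000002980000000000007d28500039000008597f00000b18f0000007100025c0000000000000000000000000000000000000000000000000000000000000000000000000000000000064008fc35000000b400000000000000000000000000000000000000000000000000000000000000000000000000000000000000000000000000000000000000000000000000000000f8000000085400000000000000000001370004500123a7000000000000000000000000000000000000000000000000000000000000000000000000000000000000000000000000000000000000)) (.leaf (nat_lit 0x1aa000d5000007ad9d002ff60cbb36ce30000010000000000000000000000001e515069f8000000000000000000000000000000b04004e1734880000000000000000000000000000000000000000000000000000000000000000000001478480096dd30000000293220420020b00000000000000000000000c100000000000000024c0000000000000000000000000000000000000000000000000000000000000000000000000000000000000000000000000000006347e00000000dc2e80000000000000000000000000000000000000001b6002dabe8007b0000015a2a05900000001ef0000000000000000000000000000000000000000000000000000000000000000000000000000000000000000007f4000000096000)))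 (.node (.leaf (nat_lit 0x2130040090800000000023d0000000063000000000000000000000000000000000000000000000000000000000000000000012f00000002c000000000000005000000774000000000000000000000000000000000000000000000000000000000000000000000000000000000000000492b33480087c0000000000000000000000000000000000000000000000000000000000002fbfa836f400ba80041c000000000073000005ac0000000000000000000000000000000000000000000000000000000000000000000000000000000000000000000000000000000d00035ebe8d40000219bb9ab3f00000000000000000000000000000023e000000000003c219d8000000000000000000003a0018c4e653b49260000000000000000000000000000000000000000002f54f0006999e000000000000000000000000000000)) (.leaf (nat_lit 0x5f000000a70000000000414001e00000289654000027800033552b100000359fa000470029618abf002eb58627538fd002559decc00000000d4000002f800000000000000000000000000002c00000000000077c00000000000000000000000000000000000000017e0000004c009fec2001b500000b65f35c00000000000000000000000000000000000000000000000000000000000000000000000000007ba9000000ef13c009e9de000000000000000000000000000000000000000000000000236cc002d6280010b750008700000000a18000000000000000000000000000000000000000000000834fc0050400b791127c000000000000000000000000000000000000000000000004caf8000000016c))))))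
noncomputable def QM_1 (u : ℕ) : ℕ := force (Nat.shiftRight u (nat_lit 8)) fun j => Nat.land (Nat.shiftRight (QM_1d.get j) (Nat.mul (Nat.land u (nat_lit 255)) (nat_lit 10))) (nat_lit 1023)
noncomputable def lM_1 : Lev := ⟨768, 2, LDM_1, PtM_1, QM_1⟩
noncomputable def LDM_0d : ℕ := nat_lit 0xa634ae9b528a614b695513a1b41e8f5049fd4567dcf8a19426834efa013f67d4ec9cd3c671ce09d1396710dc9b93666b4959a1336654929893065f48c9712d6594899592a6534869412764d48392924647480911216410c48f91e63b40b8e11b6354058c91862f4028b1156293fc899126233f98810f61d3b18690c6173ab851096113a28390660b39c82103605399809005ff3937f0fd5f93907d8fa5f33577c0f75ed34b7a8f45e7345790f15e1342778ee5db33c760eb5d5339748e85cf333730e55c9330718e25c332d700df5bd3276e8dc5b731e6d0d95b13186b8d65ab3156a0d35a5312688d059f30f670cd59930c658ca593309640c758d303628c4587300610c15810c15f8be57b2af5e0bb5752a95c8b856f29a5b0b5569294598b2563282580af55d267568ac55725e550a955125b538a654b258520a3545255508a053f24f4f09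d53924c4d89a5332494c09752d2434a894527240490915210284788e51b1a74608b51519b4488850f19543085509189418825031474007f4fd1413e87c4f71353d0794f11233b8764eb11d3a0734e5117388704df1113706d4d910b3586a4d3105340674cd102328644c70ff310614c10fc2f85e4bb0f92e05b4b50f32c8584af0ed2b0554a90e7298524a30e12804f49d0de2684c4970db250494910d82384648b0d5220434850d22084047f0cc1f03d4790c91d83a4730c61c03746d0c31a8344670c0190314610041782e45b0541602b4550481482844f03f13025449039118224430331001f43d0300e81c43702a0d0194310270b81642b0240a01342501b0881041f0120700d41900f0580a41300c0400740d0090280440700301001401000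
noncomputable def LDM_0 (u : ℕ) : ℕ := Nat.land (Nat.shiftRight LDM_0d (Nat.mul u (nat_lit 11))) (nat_lit 2047)
noncomputable def PtM_0d : ℕ := nat_lit 0x2fdd0b3fb05e8fccc7ba0d30b831e1c8dc4a8ada6a71d27ba6496b63dd9916a84b072d349edf1ced0843ece1b564323e34fc2c9ce1f1ae80e2ab3076c036d3dc18c95ddf97a537f3fc4f4b15103a6c6c6687364b178935ca5cbb48d4097eae13956b4df5a6b22fc8e2c0bc74e058398f92826f06c353db749eb0e4e75ad4c0a01456d11a4ee8442078b874a4becdfed32f2eeeafbc6fc54e254ff7f9e86b0436a50817bebde6ab0feec4fa68fb89c9c853a528d9a1da849b2eba2b490c411f31b6a2199967cec86217b2bcf836018be8adfe4b0f0f5edc33d36696d68434660050d135145f75e4677f22f70a59c6edc8d080557d087c405c9728b3c80b6a276ad4a75da540512718e652a265c2cb7398f43644482f48766bac5f757d8fdcf0c40eaa25551b0d2f50095bf22153cf8183b877dc4a17588de32b022a607e80f66d7be6d5f461f481c5c867c1ce98b10bae0dc7c7c0d848ed57d13257a0f75f912ccdfbe129e3b20a7ddd72e19abd105072b376da0a53a3c3ac5a56ba63fd1b89d247ab8bd5545cf157cff4dfd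ac55096eda10c386e8e84f0f7f027622c187166290a3ba70a3b9bdcda370e855f0d9f92089e1297c4fce1e8f55924a8d1534ce25d679451a93e647595bfaec93f04a5e4db596cafacf8bb7f3e2aa1715513e30320c511270a21d07147e3eb350ddc64ae02c1621ccbea00329475b458be757e6193a7b94b52e330edcce51dd26a62d8e02bb25847491e395b3ec40db7cd142f36a57241adfeff125315a9a4f2b0841333e6f3f533401afca4f4ca743f306f9216b80cdb63ae3a3500176084abe2e72895ccb390bb2efe5873ce2d427c23b6c2439db36eb634fa54e616e71fa0d86328aa438592631215ffd49a77830952184aa9350123c790b82f83d11db0d6a105ae868d5d5a23dd1a75b404872b85fd1d558000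
noncomputable def PtM_0 (u : ℕ) : ℕ := Nat.land (Nat.shiftRight PtM_0d (Nat.mul u (nat_lit 12))) (nat_lit 4095)
noncomputable def QM_0d : BT := (.node (.node (.node (.node (.leaf (nat_lit 0x58000000000000000000000cc00003fc000000000016e0066800000000000df2c8000000000380000000000000000007e000000000000000001000000000000000000000000000120045c0000000000000000000000000000000000000000001f40000000000000000000000002d80000000000000000000000000000000000000000000000000000000000000000000006600000006a40000210000000000000000000000000000000000006f00000000000000000023c0000000012a00000000000000000500000000000000000000000000000630000000000000000000000000000007530000000000000000000000000000000000000000000000000016a00000000000000000000001f400000000000388007600)) (.leaf (nat_lit 0x1bb00002ea0000000010a000000000000000000000000000000000000005e80000000000000000029000000000000000013000000000000000032800000000000000000000000000000000000164000000000000000000000036600000000000000000000000000000000000000000000000000006c0000000000000000000000000000000000000000000000000000011c0000000007a4180000c4801580000000000000000000b720000000110000000018000000000003e00000014600a50000000588000000d50e400dc2f0000166d200000000000000007a802ec00000000000000000019000000000000000000000000000000000000000000000000000000000000000000000000000000000000000000000000000000000000)))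 (.node (.leaf (nat_lit 0xac80000000053800000000000000013800000059c0000000000000000980000000000000000000000000000000000000000000000000000000000000000000000000000000000000005880000000000000000000000000000133001d800000000000008a001180000000000000000000000000000000000000000000ba0000003060000000000000000000000001cc00000000000002fc00000000000000000000000000000000000000000000000000000000000000000bc00000006e00000000000000000000000000000000010800000000000000000000000000000000560000000012c000000000000000000000000000000000000000000000000000000000000000000000000260028200000000000000030400000023600000000000)) (.leaf (nat_lit 0x138000000000000000000000000000000000000000000000002593800b080000000000000000000000000000000000019400001a8000000dd0000000000000000000000000c20000000000000000000000000000000000000000000000030a4600000000000000014b0000000008d0000000000000000000036a00000000000004ec0000000000000000000000000002600000000178000000000ae48400000000000000062800000000000008200000e5000000000000016f5b00000fe004e8000000006d0000000000000000000000000000000000000000000000000098000000000000019e0000000000000000000000000000000000e300000000000000000000000000000001ba00bcdac0000000000000cb8000000))))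 (.node (.node (.leaf (nat_lit 0x37f7b00000001100001f7070057c0000000000000000000000000000000000019c0000000000000000000000000002f0000000000000000d5860000000000000000000015a000000000000000000000000001436500000ef0000000000000000000000000000043800000000000000000000004f00000700000000000000000008c8840000000000000005d0000000000002ed800000000000000000000000000000000000000000000000000000f000000000000000000000000000000000000000000000000000000264000000000000000000a800006800000168000000000000000000000000000000000003b8000000000000000001f000000000000000027c009d00000000000000000000000000000000a0b28000000000000000)) (.leaf (nat_lit 0xae800000000000000000000000000000000000000019b0000000001e800000029800000000000000000000016c000000000000000000000000000000018a00000000000000000000000000000000000000cc8000000000000000000002c000000000000000108000000000000013c000000000000000000000000000000000000000000000014600000000000001a0000000000000d0000044000000000000000000006c800000000001af0018800000000000000000244002ab100000c8d2400000000000000000000000000000001000000000000000000000000000000078000000000000000000000000000008b001fc00000000000000028e0000000000079000000000000000d000004600003200000000000000000000000)))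 (.node (.leaf (nat_lit 0x250000173000000000148000000000000000000000000000000000000000000000000000cb00000000000000000022400000062c0000b90b00000000000000004140040000000000005f00000000022a00000000000000000000000000000000000000000000000004b80000000000000a68000000000000000000000000000000000000000000000000000928000000000000000000000000000000000000000000002ac012b00000010d000000000000000000000000000000000000c40000000488000000d08000000000035a0000000000000000002800000000000000000000000000000000000000000000073800000000000d600000000000000000000000000000000000000768000000000000000)) (.leaf (nat_lit 0x290c8000000000000000000000000000000000578014f000000000000000000000000000000000000002d4000000001b600b000001a50068c0000000011c0000000005a00000000000002a4000051000000000000003c80000000000000000000000000000000000000000000000000000000000e20000000000000000004dac80000004d400000055c00000000000ec00000000000000000000002da00000dc000000001d200005440000000021e0000000000000000000000000000000000000000000000000001160000000000000000000000000000000000000000000b80000000000033800008100000000000000000000002b400000000000000000000000000000000000000c034c000000000000000000000000002ee00000000000)))))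 (.node (.node (.node (.leaf (nat_lit 0x33800000000000000000000000000000000036c0000000000007800000000000000000000007c0000000730000000000000000000000000000000000000000000c10000344000000000002380000000000000000380000000000000000000000000000000000000000000000000000000000009b0000000000000017000000000000000000a98000187000000000000000000000940000006ac0000000000000001d00000000000000000000000000000000000031a000000000000000000000000000000015c00000000000000000000000000000000000000000000000000000000003f000a2000a0003a00000000000005a000000000000000000000000000000b4000000000000000000000000000)) (.leaf (nat_lit 0x14200000000000000000000000034e00b78000000000000000690013e00000000000000000000000000000003000000006740000000000000000000000000000000000000000000000000000000000005140000000000000668000000000000000000000000000000000000000000004f40000000000000000000000000000000000000000000000000000000000000000000000000000000000000000000000d70000000000000000000000000000000000000000000005fc0000000600000000000000000000000000000000000000000002480000000000000000030c00000000000000000000000000000000000000000008200000000000000000000000000000000000000000000142002a80000000000000000000000)))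 (.node (.leaf (nat_lit 0xe00000000000000009380000e80000000000000262000000000000000001260000000000000326000044c00000025400000000000000000000000000000000000000000000000007c80000000000000000000000062d80000000003000000000000000000000000002400000000000000000000000000120000000000000000000000000000f1188000000000000000001b0000000000000000000000000000000000002d20000000000000000000000000000000000000000001340100000000000001fa0000000000000000000000000000000000011200002e2f70031c000000000009700000000000000000000000000000000000000000000000000c8000024c000000000012841444000000000f000000000154658000000000000000)) (.leaf (nat_lit 0x4d000006a0000000000000000000000000000000000000000000000000000780000000000000000000000000678000000000000000808000000000000120001dc00f3000032a0000000000000000000000000000015000000000000000000000000000000000052800000000000000000003580000000000000000000081184000000000000000000000000000000000000000075000000000000000000000000000000000000000012d000000000000000000000001400000000000000017a00000000000000000000000003600000000000000000000000000000000000000004bc01a80000001b80000000000000000000018c00000000000000000004000000000000000000009480000cc000000000df000011f000000000000000000))))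 (.node (.node (.leaf (nat_lit 0x18400de800000000000000021800008d000000000000000000000000000002140000000001000000000000000000000000002000000c00000000000118000000000630000000000000000002a54e00000000000000000000000000000000000000350000000000000000000000000000000000000000000000000034000000000000000000002cc0000000000000000000000000000000000000000000000000000000000005540000000000109000000137000000000000000000000000000000000015cf80000000000000000000000000000000480012c000000000000000000000000000000000000000000000000000001b20000000008000000000000000000000000a000000000000000000000000000000000000000000000000)) (.leaf (nat_lit 0x23c0000000000000000000000000000000001c80000368000000000e000000000000a6000000000000000000000000000000000000000000000000000000000000000000000000000000000000000000000cc00000038000000000000000030c00000000001b90000000000000000000000000690000000000000000005f0029800000000000db8000000430000000000000000000000170000000000000000000004fc00000000000001f0000000000000000000011400000000000001a0000000002fc000000000000000000000000000000000000000000000000000000000000000000000000009c800000000000be000000000d10000000000000000000000000000000000e1a8001f80000000004d000000156000000000)))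 (.node (.leaf (nat_lit 0x2b000000000000c800000000000000000060400000000000003d000000000000000000000000000000000000001b51d5d4f0b0000000000006f00000000000000000000000000000000000000000000000000000000000000000000000000000000000000d8000000000000000000000000094000000000000000000000000000000000000000000000000000000000000000000000000000000000000019200000000000000000000002b8003a0000000003780000008180000000000000000000000000058c000000000000000000000000000000000002160000000000000000000000000000002000000000000000000000000012003620000000011000001067b000000000002900000002a00000000000000000000000)) (.leaf (nat_lit 0x2e0000000000000000000000000000000000000000000000018f000000000000000000000000000000000000000000000000000088000000000000004e00000000000000000000000000000c9000000000001ac0000000000043800000000000000000001ec0000000000000000000000001ae00000000123000000000000000000003ac0000000000000000000000005f40000000000000248000000000017245c700000000000000000000000000000000000000000000015800000000280000000000000000000000000000000049000000000001a6000000000000017600000000000990014400000000000000000000002bc0000))))))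
noncomputable def QM_0 (u : ℕ) : ℕ := force (Nat.shiftRight u (nat_lit 8)) fun j => Nat.land (Nat.shiftRight (QM_0d.get j) (Nat.mul (Nat.land u (nat_lit 255)) (nat_lit 9))) (nat_lit 511)
noncomputable def lM_0 : Lev := ⟨448, 3, LDM_0, PtM_0, QM_0⟩
noncomputable def LM : List Lev := [lM_0, lM_1]
noncomputable def BM : List ℕ := [nat_lit 0, nat_lit 2]

end H8.ZM
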